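import Mathlib

set_option autoImplicit false
set_option linter.unusedSectionVars false
set_option linter.unusedSimpArgs false
set_option backward.isDefEq.respectTransparency false

open Matrix
open scoped MatrixGroups commutatorElement

namespace CfsgLib.Classical

theorem sl_ext {ι : Type*} [Fintype ι] [DecidableEq ι] {R : Type*} [CommRing R]
    {A B : SpecialLinearGroup ι R} (h : (A : Matrix ι ι R) = B) : A = B := Subtype.ext h

section Embed

variable {m n : Type*} [Fintype m] [DecidableEq m] [Fintype n] [DecidableEq n]
  {R : Type*} [CommRing R]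

variable (R) in
def incMat (f : m → n) : Matrix n m R := (1 : Matrix n n R).submatrix id f

theorem incMat_transpose_mul (f : m → n) (hf : Function.Injective f) :
    (incMat R f)ᵀ * incMat R f = 1 := by
  ext a b
  simp [incMat, Matrix.mul_apply, Matrix.submatrix_apply, Matrix.one_apply, hf.eq_iff]

theorem incMat_mul_single_mul (f : m → n) (a b : m) (c : R) :
    incMat R f * Matrix.single a b c * (incMat R f)ᵀ = Matrix.single (f a) (f b) c := by
  ext i j
  simp only [incMat, Matrix.mul_apply, Matrix.transpose_apply, Matrix.submatrix_apply, id,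
    Matrix.single_apply, Matrix.one_apply]
  rw [Finset.sum_eq_single b]
  · rw [Finset.sum_eq_single a]
    · by_cases hi : i = f a <;> by_cases hj : j = f b <;> simp [hi, hj, eq_comm]
    · intro x _ hx; simp [Ne.symm hx]
    · simp
  · intro x _ hx; simp [Ne.symm hx]
  · simp

/-- The block embedding `SL(m) → SL(n)` along an injection of index types. -/
def slEmbed (f : m → n) (hf : Function.Injective f) :
    SpecialLinearGroup m R →* SpecialLinearGroup n R where
  toFun A := ⟨1 + incMat R f * (((A : Matrix m m R)) - 1) * (incMat R f)ᵀ, by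
    rw [Matrix.mul_assoc, Matrix.det_one_add_mul_comm, Matrix.mul_assoc,
      incMat_transpose_mul f hf, Matrix.mul_one, add_sub_cancel, A.2]⟩
  map_one' := by apply sl_ext; simp
  map_mul' A B := by
    apply sl_ext
    change 1 + incMat R f * ((A : Matrix m m R) * (B : Matrix m m R) - 1) * (incMat R f)ᵀ =
      (1 + incMat R f * ((A : Matrix m m R) - 1) * (incMat R f)ᵀ) *
        (1 + incMat R f * ((B : Matrix m m R) - 1) * (incMat R f)ᵀ)
    have h : ∀ X Y : Matrix m m R,
        incMat R f * X * (incMat R f)ᵀ * (incMat R f * Y * (incMat R f)ᵀ) =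
          incMat R f * (X * Y) * (incMat R f)ᵀ := by
      intro X Y
      simp only [Matrix.mul_assoc]
      rw [← Matrix.mul_assoc (incMat R f)ᵀ (incMat R f), incMat_transpose_mul f hf, Matrix.one_mul]
    rw [Matrix.mul_add, Matrix.add_mul, Matrix.one_mul, Matrix.add_mul, h]
    simp only [Matrix.sub_mul, Matrix.mul_sub, Matrix.one_mul, Matrix.mul_one]
    abel

theorem slEmbed_coe (f : m → n) (hf : Function.Injective f) (A : SpecialLinearGroup m R) :
    (slEmbed f hf A : Matrix n n R) = 1 + incMat R f * (((A : Matrix m m R)) - 1) * (incMat R f)ᵀ :=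
  rfl

end Embed

variable {F : Type*} [Field F] {n : Type*} [Fintype n] [DecidableEq n]

/-- The injection `Fin 2 → n` with image `{i, j}`. -/
def pairFun (i j : n) : Fin 2 → n := ![i, j]

omit [Fintype n] [DecidableEq n] in
theorem pairFun_injective {i j : n} (h : i ≠ j) : Function.Injective (pairFun i j) := by
  intro a b hab
  fin_cases a <;> fin_cases b <;> simp_all [pairFun, eq_comm]

theorem slEmbed_transvection {i j : n} (h : i ≠ j) {a b : Fin 2} (hab : a ≠ b) (c : F) :
    slEmbed (pairFun i j) (pairFun_injective h) (SpecialLinearGroup.transvection hab c) =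
      SpecialLinearGroup.transvection ((pairFun_injective h).ne hab) c := by
  apply sl_ext
  rw [slEmbed_coe, SpecialLinearGroup.transvection_coe, SpecialLinearGroup.transvection_coe,
    add_sub_cancel_left, incMat_mul_single_mul]

theorem slEmbed_diag2 {i j : n} (h : i ≠ j) {c : F} (hc : c ≠ 0) :
    slEmbed (pairFun i j) (pairFun_injective h) (SpecialLinearGroup.diag2 c hc) =
      SpecialLinearGroup.diag2n h c hc := by
  apply sl_ext
  rw [slEmbed_coe]
  have : ((SpecialLinearGroup.diag2 c hc : SL(2, F)) : Matrix (Fin 2) (Fin 2) F) - 1 =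
      Matrix.single 0 0 (c - 1) + Matrix.single 1 1 (c⁻¹ - 1) := by
    ext a b; fin_cases a <;> fin_cases b <;> simp [SpecialLinearGroup.diag2_coe']
  rw [this, SpecialLinearGroup.diag2n_coe, Matrix.mul_add, Matrix.add_mul, incMat_mul_single_mul,
    incMat_mul_single_mul]
  simp only [pairFun, Matrix.cons_val_zero, Matrix.cons_val_one]
  ext a b
  by_cases hab : a = b
  · subst hab
    by_cases ha : a = i
    · subst ha; simp [Matrix.single_apply, h.symm]
    · by_cases ha' : a = j
      · subst ha'; simp [Matrix.single_apply, h, ha]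
      · simp [Matrix.single_apply, ha, ha', Ne.symm ha, Ne.symm ha']
  · have hab' : b ≠ a := Ne.symm hab
    simp [Matrix.diagonal_apply_ne _ hab, Matrix.one_apply_ne hab, Matrix.single_apply]
    rw [if_neg (fun h1 => hab (h1.1.symm.trans h1.2)), if_neg (fun h1 => hab (h1.1.symm.trans h1.2)),
      add_zero]

/-- `SL_n(F)` is generated by the elementary transvections. -/
theorem sl_transvection_induction (P : SpecialLinearGroup n F → Prop)
    (h1 : P 1)
    (htransvec : ∀ (i j : n) (h : i ≠ j) (c : F), P (SpecialLinearGroup.transvection h c))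
    (hmul : ∀ A B, P A → P B → P (A * B)) (A : SpecialLinearGroup n F) : P A := by
  rcases subsingleton_or_nontrivial n with hn | hn
  · rw [Subsingleton.elim A 1]; exact h1
  refine SpecialLinearGroup.diagonal_transvection_induction' P A ?_ htransvec hmul
  intro i j hij c hc
  rw [← slEmbed_diag2 hij hc, Matrix.diag2_decompose c hc]
  simp only [map_mul, slEmbed_transvection hij]
  refine hmul _ _ (hmul _ _ (hmul _ _ (hmul _ _ (hmul _ _ ?_ ?_) ?_) ?_) ?_) ?_
  all_goals exact htransvec _ _ _ _

theorem sl_subgroup_eq_top (H : Subgroup (SpecialLinearGroup n F))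
    (h : ∀ (i j : n) (h : i ≠ j) (c : F), SpecialLinearGroup.transvection h c ∈ H) : H = ⊤ :=
  eq_top_iff.2 fun A _ =>
    sl_transvection_induction (· ∈ H) H.one_mem h (fun _ _ => H.mul_mem) A

theorem commutator_transvection {i j k : n} (hik : i ≠ k) (hkj : k ≠ j) (hij : i ≠ j)
    (b c : F) :
    ⁅SpecialLinearGroup.transvection hik b, SpecialLinearGroup.transvection hkj c⁆ =
      SpecialLinearGroup.transvection hij (b * c) := by
  rw [commutatorElement_def, SpecialLinearGroup.transvection_inv,
    SpecialLinearGroup.transvection_inv]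
  apply sl_ext
  change (1 + Matrix.single i k b) * (1 + Matrix.single k j c) * (1 + Matrix.single i k (-b)) *
    (1 + Matrix.single k j (-c)) = 1 + Matrix.single i j (b * c)
  simp only [mul_add, add_mul, mul_one, one_mul, Matrix.single_mul_single_same,
    Matrix.single_mul_single_of_ne _ _ _ _ hik.symm,
    Matrix.single_mul_single_of_ne _ _ _ _ hkj.symm,
    Matrix.single_mul_single_of_ne _ _ _ _ hij.symm, zero_mul, add_zero, mul_zero, zero_add]
  simp only [← Matrix.single_neg, mul_neg, neg_mul, neg_neg, mul_comm c b]
  abel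

theorem transvection_mem_commutatorSet_of_three_le (hn : 3 ≤ Fintype.card n) {i j : n}
    (hij : i ≠ j) (c : F) :
    SpecialLinearGroup.transvection hij c ∈ commutatorSet (SpecialLinearGroup n F) := by
  obtain ⟨k, hk⟩ : ∃ k, k ∉ ({i, j} : Finset n) := by
    by_contra hk
    push Not at hk
    have := Finset.card_le_card (fun k (_ : k ∈ (Finset.univ : Finset n)) => hk k)
    have h2 : ({i, j} : Finset n).card ≤ 2 := Finset.card_le_two
    rw [Finset.card_univ] at this
    omega
  simp only [Finset.mem_insert, Finset.mem_singleton, not_or] at hk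
  exact ⟨_, _, by rw [commutator_transvection (Ne.symm hk.1) hk.2 hij c 1, mul_one]⟩

theorem transvection_mem_commutatorSet_two {a : F} (ha : a ≠ 0) (hasq : a ^ 2 ≠ 1) {i j : n}
    (hij : i ≠ j) (c : F) :
    SpecialLinearGroup.transvection hij c ∈ commutatorSet (SpecialLinearGroup n F) := by
  refine ⟨slEmbed (pairFun i j) (pairFun_injective hij) (SpecialLinearGroup.diag2 a ha),
    slEmbed (pairFun i j) (pairFun_injective hij)
      (SpecialLinearGroup.transvection zero_ne_one (c / (a ^ 2 - 1))), ?_⟩
  rw [← map_commutatorElement, commutator_diag2_transvection a ha _ c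
    (div_mul_cancel₀ c (sub_ne_zero_of_ne hasq)).symm, slEmbed_transvection hij]

/-- `SL_n(F)` is perfect for `n ≥ 3`. -/
theorem sl_perfect (hn : 3 ≤ Fintype.card n) : commutator (SpecialLinearGroup n F) = ⊤ :=
  sl_subgroup_eq_top _ fun i j hij c => by
    rw [commutator_eq_closure]
    exact Subgroup.subset_closure (transvection_mem_commutatorSet_of_three_le hn hij c)

theorem iSup_iwasawaT_eq_top :
    iSup (PSL.iwasawaT (F := F) (ι := n)) = ⊤ := by
  have step1 : iSup (PSL.iwasawaT (F := F) (ι := n)) =
      Subgroup.map (QuotientGroup.mk' (Subgroup.center (SpecialLinearGroup n F)))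
        (⨆ p : Projectivization F (n → F), SpecialLinearGroup.lineStab p.submodule) := by
    rw [Subgroup.map_iSup]
  have step2 : (⨆ p : Projectivization F (n → F), SpecialLinearGroup.lineStab p.submodule) =
      (⊤ : Subgroup (SpecialLinearGroup n F)) := by
    refine sl_subgroup_eq_top _ fun i j hij c => ?_
    have hne : (Pi.single i 1 : n → F) ≠ 0 := Pi.single_ne_zero_iff.2 one_ne_zero
    refine le_iSup (fun p : Projectivization F (n → F) => SpecialLinearGroup.lineStab p.submodule)
      (Projectivization.mk F _ hne) ?_
    simp only [Projectivization.submodule_mk]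
    exact SL2Gen.transvection_mem_lineStab hij c
  rw [step1, step2]
  exact Subgroup.map_top_of_surjective _ (QuotientGroup.mk'_surjective _)

/-- The Iwasawa structure of `PSL_n(F)` on points. -/
noncomputable abbrev pslIwasawa :
    MulAction.IwasawaStructure (ProjectiveSpecialLinearGroup n F) (Projectivization F (n → F)) where
  T := PSL.iwasawaT
  is_comm p := by
    have hSL : IsMulCommutative (SpecialLinearGroup.lineStab (F := F) (ι := n) p.submodule) := by
      rw [← Projectivization.mk_rep p, Projectivization.submodule_mk]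
      exact SpecialLinearGroup.lineStab_isMulCommutative_of_span p.rep p.rep_nonzero
    exact Subgroup.map_isMulCommutative _ _
  is_conj g p := by
    obtain ⟨g_SL, rfl⟩ := QuotientGroup.mk_surjective g
    rw [Matrix.ProjectiveSpecialLinearGroup.smul_proj_mk]
    change Subgroup.map _ _ = _
    rw [PSL.smul_submodule, Matrix.SpecialLinearGroup.lineStab_smul, PSL.iwasawaT_map_conj]
  is_generator := iSup_iwasawaT_eq_top

theorem psl_perfect (hn : 3 ≤ Fintype.card n) :
    commutator (ProjectiveSpecialLinearGroup n F) = ⊤ := by
  have : Group.IsPerfect (SpecialLinearGroup n F) := ⟨sl_perfect hn⟩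
  have : Group.IsPerfect (ProjectiveSpecialLinearGroup n F) := inferInstance
  exact this.commutator_eq_top

theorem psl_isSimpleGroup (hn : 3 ≤ Fintype.card n) :
    IsSimpleGroup (ProjectiveSpecialLinearGroup n F) := by
  have : Nontrivial n := Fintype.one_lt_card_iff_nontrivial.1 (by omega)
  exact (pslIwasawa (n := n) (F := F)).isSimpleGroup (psl_perfect hn) inferInstance

/-- `PSL_n(F)` is simple unless `n = 2` and `|F| ≤ 3`. -/
theorem psl_fin_isSimpleGroup [Fintype F] {k : ℕ} (hk : 2 ≤ k) (h : k = 2 → 4 ≤ Fintype.card F) :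
    IsSimpleGroup (ProjectiveSpecialLinearGroup (Fin k) F) := by
  rcases Nat.lt_or_ge k 3 with hk3 | hk3
  · obtain rfl : k = 2 := by omega
    exact ProjectiveSpecialLinearGroup.rank_two_simple (by simpa [Nat.card_eq_fintype_card] using h rfl)
  · exact psl_isSimpleGroup (by simpa using hk3)

end CfsgLib.Classical
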