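import Cfsg.Agent.Lib.Classical.SLBasic

set_option autoImplicit false
set_option linter.unusedSectionVars false
set_option backward.isDefEq.respectTransparency false

open Matrix
open scoped MatrixGroups commutatorElement

namespace CfsgLib.Classical

variable {F : Type*} [Field F] {n : Type*} [Fintype n] [DecidableEq n]

theorem glDet_surjective [Nonempty n] :
    Function.Surjective (GeneralLinearGroup.det : GL n F →* Fˣ) :=
  fun u => GeneralLinearGroup.det_surjective u

theorem ker_glDet_eq_range_toGL :
    (GeneralLinearGroup.det : GL n F →* Fˣ).ker =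
      (SpecialLinearGroup.toGL : SpecialLinearGroup n F →* GL n F).range := by
  ext g
  constructor
  · intro hg
    refine ⟨⟨(g : Matrix n n F), ?_⟩, Units.ext rfl⟩
    have := congrArg (fun u : Fˣ => (u : F)) (MonoidHom.mem_ker.1 hg)
    simpa using this
  · rintro ⟨s, rfl⟩
    rw [MonoidHom.mem_ker]
    exact Units.ext s.2

theorem toGL_inj : Function.Injective (SpecialLinearGroup.toGL : SpecialLinearGroup n F → GL n F) :=
  fun _ _ h => sl_ext (congrArg (fun g : GL n F => (g : Matrix n n F)) h)

theorem card_sl_eq_card_ker :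
    Nat.card (SpecialLinearGroup n F) =
      Nat.card (GeneralLinearGroup.det : GL n F →* Fˣ).ker := by
  rw [ker_glDet_eq_range_toGL]
  exact Nat.card_congr (MonoidHom.ofInjective toGL_inj).toEquiv

theorem card_units_mul_card_sl [Nonempty n] :
    Nat.card Fˣ * Nat.card (SpecialLinearGroup n F) = Nat.card (GL n F) := by
  rw [card_sl_eq_card_ker, ← Subgroup.card_mul_index (GeneralLinearGroup.det : GL n F →* Fˣ).ker,
    Subgroup.index_ker, MonoidHom.range_eq_top.2 glDet_surjective, Subgroup.card_top, mul_comm]

/-- The centre of `GL_n` is a copy of the units when the index type is non-empty. -/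
theorem card_center_gl [Nonempty n] :
    Nat.card (Subgroup.center (GL n F)) = Nat.card Fˣ := by
  rw [GeneralLinearGroup.center_eq_range_scalar]
  refine Nat.card_congr (MonoidHom.ofInjective ?_).toEquiv.symm
  intro a b h
  obtain ⟨i⟩ := ‹Nonempty n›
  have := congrArg (fun g : GL n F => (g : Matrix n n F) i i) h
  simpa [GeneralLinearGroup.coe_scalar] using Units.ext (by simpa using this)

theorem card_pgl_mul [Nonempty n] :
    Nat.card (ProjGenLinGroup n F) * Nat.card Fˣ = Nat.card (GL n F) := by
  rw [← card_center_gl (n := n)]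
  exact (Subgroup.card_eq_card_quotient_mul_card_subgroup (Subgroup.center (GL n F))).symm

theorem card_center_sl [Fintype F] (k : ℕ) (hk : 1 ≤ k) :
    Nat.card (Subgroup.center (SpecialLinearGroup (Fin k) F)) = Nat.gcd k (Fintype.card F - 1) := by
  have : NeZero k := ⟨by omega⟩
  rw [Nat.card_congr (SpecialLinearGroup.center_equiv_rootsOfUnity' (0 : Fin k)).toEquiv,
    Fintype.card_fin]
  have h : rootsOfUnity k F = (powMonoidHom k : Fˣ →* Fˣ).ker := by
    ext x; simp [MonoidHom.mem_ker, mem_rootsOfUnity]
  rw [h, IsCyclic.card_powMonoidHom_ker, Nat.card_units, Nat.card_eq_fintype_card, Nat.gcd_comm]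

theorem card_sl_mul [Fintype F] {q : ℕ} (hF : Fintype.card F = q) (k : ℕ) (hk : 1 ≤ k) :
    (q - 1) * Nat.card (SpecialLinearGroup (Fin k) F) = ∏ i : Fin k, (q ^ k - q ^ (i : ℕ)) := by
  have : NeZero k := ⟨by omega⟩
  subst hF
  rw [← Matrix.card_GL_field, ← card_units_mul_card_sl, Nat.card_units,
    Nat.card_eq_fintype_card (α := F)]

theorem card_psl_mul [Fintype F] {q : ℕ} (hF : Fintype.card F = q) (k : ℕ) (hk : 1 ≤ k) :
    Nat.gcd k (q - 1) * Nat.card (ProjectiveSpecialLinearGroup (Fin k) F) =
      Nat.card (SpecialLinearGroup (Fin k) F) := by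
  subst hF
  rw [← card_center_sl k hk, mul_comm]
  exact (Subgroup.card_eq_card_quotient_mul_card_subgroup _).symm

theorem transvection_toGL_eq_commutator {a : F} (ha0 : a ≠ 0)
    (ha1 : a ≠ 1) {i j : n} (hij : i ≠ j) (c : F) :
    SpecialLinearGroup.toGL (SpecialLinearGroup.transvection hij c) ∈ commutator (GL n F) := by
  have hdet : (Matrix.diagonal (fun x : n => if x = i then a else 1)).det ≠ 0 := by
    simp [Matrix.det_diagonal, Finset.prod_ite_eq', ha0]
  let d : GL n F := GeneralLinearGroup.mkOfDetNeZero _ hdet
  let t : GL n F := SpecialLinearGroup.toGL (SpecialLinearGroup.transvection hij (c / (a - 1)))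
  have h : d * t = SpecialLinearGroup.toGL (SpecialLinearGroup.transvection hij c) * (t * d) := by
    refine Units.ext ?_
    simp only [Units.val_mul]
    change Matrix.diagonal (fun x : n => if x = i then a else 1) * (1 + Matrix.single i j (c / (a - 1))) =
      (1 + Matrix.single i j c) *
        ((1 + Matrix.single i j (c / (a - 1))) * Matrix.diagonal (fun x : n => if x = i then a else 1))
    ext x y
    simp only [← mul_assoc, add_mul, mul_add, one_mul, mul_one,
      Matrix.single_mul_single_of_ne _ _ _ _ hij.symm, zero_mul, add_zero, Matrix.add_apply,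
      Matrix.diagonal_mul, Matrix.mul_diagonal, Matrix.single_apply]
    by_cases hx : i = x <;> by_cases hy : j = y
    · subst hx hy
      have : a - 1 ≠ 0 := sub_ne_zero.2 ha1
      simp [hij, hij.symm]
      field_simp
      ring
    all_goals (simp [hx, hy, Matrix.one_apply, Matrix.diagonal_apply]; try (split_ifs <;> simp_all))
  have : SpecialLinearGroup.toGL (SpecialLinearGroup.transvection hij c) = ⁅d, t⁆ := by
    rw [commutatorElement_def, h, mul_assoc, mul_assoc, mul_assoc, mul_inv_cancel_left,
      mul_inv_cancel, mul_one]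
  rw [this]
  exact Subgroup.commutator_mem_commutator (Subgroup.mem_top _) (Subgroup.mem_top _)

theorem commutator_gl_eq_ker_det (h : Fintype.card n = 2 → ∃ a : F, a ≠ 0 ∧ a ≠ 1) :
    commutator (GL n F) = (GeneralLinearGroup.det : GL n F →* Fˣ).ker := by
  refine le_antisymm (Abelianization.commutator_subset_ker _) ?_
  rw [ker_glDet_eq_range_toGL, MonoidHom.range_eq_map, Subgroup.map_le_iff_le_comap,
    top_le_iff]
  refine sl_subgroup_eq_top _ fun i j hij c => ?_
  rw [Subgroup.mem_comap]
  rcases Nat.lt_or_ge (Fintype.card n) 3 with hn | hn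
  · have h2 : 2 ≤ Fintype.card n := Fintype.one_lt_card_iff.2 ⟨i, j, hij⟩
    obtain ⟨a, ha0, ha1⟩ := h (by omega)
    exact transvection_toGL_eq_commutator ha0 ha1 hij c
  · obtain ⟨g₁, g₂, hg⟩ := transvection_mem_commutatorSet_of_three_le hn hij c
    rw [← hg, map_commutatorElement]
    exact Subgroup.commutator_mem_commutator (Subgroup.mem_top _) (Subgroup.mem_top _)

end CfsgLib.Classical
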