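import Cfsg.Agent.Lib.Classical.GL2Borel

set_option autoImplicit false
set_option linter.unusedSectionVars false
set_option backward.isDefEq.respectTransparency false

open Matrix
open scoped MatrixGroups Pointwise

namespace CfsgLib.Classical

variable {F : Type*} [Field F]

/-- Upper unitriangular element of `SL₂`. -/
def uSL : Multiplicative F →* SL(2, F) where
  toFun c := SpecialLinearGroup.transvection zero_ne_one c.toAdd
  map_one' := by simp
  map_mul' a b := by rw [toAdd_mul, SpecialLinearGroup.transvection_add]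

theorem uSL_coe (c : F) :
    (uSL (Multiplicative.ofAdd c) : Matrix (Fin 2) (Fin 2) F) = !![1, c; 0, 1] := uGL_coe c

theorem toGL_comp_uSL : (SpecialLinearGroup.toGL).comp (uSL (F := F)) = uGL := rfl

theorem uSL_injective : Function.Injective (uSL (F := F)) := fun a b h =>
  uGL_injective (by rw [← toGL_comp_uSL, MonoidHom.comp_apply, MonoidHom.comp_apply, h])

variable (F) in
/-- The upper unitriangular subgroup of `SL₂`. -/
def unipSL : Subgroup SL(2, F) := (uSL (F := F)).range

theorem card_sl2 [Fintype F] {q : ℕ} (hF : Fintype.card F = q) :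
    Nat.card SL(2, F) = q * (q ^ 2 - 1) := by
  have hq : 2 ≤ q := hF ▸ Fintype.one_lt_card
  refine Nat.eq_of_mul_eq_mul_left (show 0 < q - 1 by omega) ?_
  rw [card_sl_mul hF 2 (by norm_num), prod_pow_sub_pow]
  simp [Finset.prod_range_succ]
  ring

theorem sl2_ordProj [Fintype F] (p : ℕ) [Fact p.Prime] [CharP F p] :
    p ^ (Nat.card SL(2, F)).factorization p = Fintype.card F := by
  have hp : p.Prime := Fact.out
  obtain ⟨f, hf0, hf⟩ := card_eq_char_pow (F := F) p
  rw [card_sl2 rfl, hf]
  have hnd : ¬ p ∣ (p ^ f) ^ 2 - 1 := by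
    have := not_dvd_prod_pow_sub_one hp (dvd_pow_self p (by omega : f ≠ 0))
      (pow_ne_zero f hp.ne_zero) 2
    simp only [Finset.prod_range_succ, Finset.prod_range_zero, one_mul] at this
    exact fun h => this (Dvd.dvd.mul_left h _)
  rw [Nat.factorization_mul (pow_ne_zero _ hp.ne_zero) (fun h => hnd (by simp [h])), Finsupp.add_apply,
    Nat.factorization_eq_zero_of_not_dvd hnd, add_zero, Nat.factorization_pow, Finsupp.smul_apply,
    hp.factorization_self]
  simp

theorem card_unipSL : Nat.card (unipSL F) = Nat.card F :=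
  (Nat.card_congr (MonoidHom.ofInjective uSL_injective).toEquiv).symm.trans
    (Nat.card_congr Multiplicative.toAdd)

/-- The upper unitriangular group as a Sylow `p`-subgroup of `SL₂`. -/
def unipSLSylow [Fintype F] (p : ℕ) [Fact p.Prime] [CharP F p] : Sylow p SL(2, F) :=
  Sylow.ofCard (unipSL F) (by rw [card_unipSL, sl2_ordProj p, Nat.card_eq_fintype_card])

theorem sylowSL2_exists_conj [Fintype F] {p : ℕ} [Fact p.Prime] [CharP F p]
    (P : Sylow p SL(2, F)) :
    ∃ x : SL(2, F), (P : Subgroup SL(2, F)) = MulAut.conj x • unipSL F := by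
  obtain ⟨x, hx⟩ := MulAction.exists_smul_eq SL(2, F) (unipSLSylow (F := F) p) P
  refine ⟨x, ?_⟩
  rw [← hx, Sylow.coe_subgroup_smul]
  simp [unipSLSylow]

theorem card_sylowSL2_subgroup [Fintype F] {p : ℕ} [Fact p.Prime] [CharP F p]
    (P : Sylow p SL(2, F)) : Nat.card P = Fintype.card F := by
  rw [P.card_eq_multiplicity, sl2_ordProj p]

/-- Cayley–Hamilton in dimension two. -/
theorem sl2_sq (g : SL(2, F)) :
    (g : Matrix (Fin 2) (Fin 2) F) * g =
      ((g : Matrix (Fin 2) (Fin 2) F).trace) • (g : Matrix (Fin 2) (Fin 2) F) - 1 := by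
  have h := g.2
  rw [Matrix.det_fin_two] at h
  ext i j
  fin_cases i <;> fin_cases j <;>
    simp [Matrix.mul_apply, Fin.sum_univ_two, Matrix.trace_fin_two] <;> first | linear_combination h | linear_combination -h | ring

theorem sl2_involution (h2 : (2 : F) ≠ 0) (g : SL(2, F)) (h1 : g ≠ 1) (hg : g * g = 1) :
    (g : Matrix (Fin 2) (Fin 2) F) = -1 := by
  have h := sl2_sq g
  rw [show (g : Matrix (Fin 2) (Fin 2) F) * g = 1 from congrArg Subtype.val hg] at h
  set M : Matrix (Fin 2) (Fin 2) F := (g : Matrix (Fin 2) (Fin 2) F)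
  set t := M.trace
  have hdet : M.det = 1 := g.2
  rw [Matrix.det_fin_two] at hdet
  have e00 := congrFun (congrFun h 0) 0
  have e01 := congrFun (congrFun h 0) 1
  have e10 := congrFun (congrFun h 1) 0
  have e11 := congrFun (congrFun h 1) 1
  simp at e00 e01 e10 e11
  have ht : t ≠ 0 := fun ht => h2 (by rw [ht] at e00; linear_combination e00)
  replace e01 := e01.resolve_left ht
  replace e10 := e10.resolve_left ht
  have e : M 0 0 = M 1 1 := mul_left_cancel₀ ht (by linear_combination e11 - e00)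
  rw [← e, e01, zero_mul, sub_zero] at hdet
  rcases mul_self_eq_one_iff.1 hdet with h00 | h00
  · refine absurd ?_ h1
    apply sl_ext
    ext i j
    change M i j = _
    fin_cases i <;> fin_cases j <;> simp [e01, e10, ← e, h00]
  · ext i j
    fin_cases i <;> fin_cases j <;> simp [e01, e10, ← e, h00]

theorem sl2_transvections_generate (H : Subgroup SL(2, F))
    (h0 : ∀ c : F, SpecialLinearGroup.transvection (zero_ne_one : (0 : Fin 2) ≠ 1) c ∈ H)
    (h1 : ∀ c : F, SpecialLinearGroup.transvection (one_ne_zero : (1 : Fin 2) ≠ 0) c ∈ H) :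
    H = ⊤ := by
  refine sl_subgroup_eq_top _ fun i j hij c => ?_
  fin_cases i <;> fin_cases j
  · exact absurd rfl hij
  · exact h0 c
  · exact h1 c
  · exact absurd rfl hij

/-- Two distinct Sylow `p`-subgroups generate `SL₂`. -/
theorem sylowSL2_sup_eq_top [Fintype F] {p : ℕ} [Fact p.Prime] [CharP F p]
    (P Q : Sylow p SL(2, F)) (h : P ≠ Q) :
    (P : Subgroup SL(2, F)) ⊔ (Q : Subgroup SL(2, F)) = ⊤ := by
  obtain ⟨x, hx⟩ := sylowSL2_exists_conj P
  obtain ⟨y, hy⟩ := sylowSL2_exists_conj Q
  set z := x⁻¹ * y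
  have hyz : y = x * z := by simp [z]
  suffices key : unipSL F ⊔ MulAut.conj z • unipSL F = ⊤ by
    have h2 := congrArg (fun H : Subgroup SL(2, F) => MulAut.conj x • H) key
    simp only [Subgroup.smul_sup, ← mul_smul, ← map_mul, ← hyz, ← hx, ← hy] at h2
    rw [h2, eq_top_iff]
    intro g _
    rw [Subgroup.mem_pointwise_smul_iff_inv_smul_mem]
    exact Subgroup.mem_top _
  have hzdet := z.2
  rw [Matrix.det_fin_two] at hzdet
  set Z : Matrix (Fin 2) (Fin 2) F := (z : Matrix (Fin 2) (Fin 2) F) with hZ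
  have h10 : Z 1 0 ≠ 0 := by
    intro h10
    rw [h10, mul_zero, sub_zero] at hzdet
    apply h
    apply Sylow.ext
    rw [hx, hy, hyz, map_mul, mul_smul]
    congr 1
    ext g
    rw [Subgroup.mem_pointwise_smul_iff_inv_smul_mem]
    simp only [MulAut.smul_def, MulAut.inv_apply, MulAut.conj_symm_apply]
    have hZ11 : Z 1 1 ≠ 0 := fun h0 => by simp [h0] at hzdet
    have conj : ∀ c : F, z * uSL (Multiplicative.ofAdd c) =
        uSL (Multiplicative.ofAdd (Z 0 0 * c / Z 1 1)) * z := by
      intro c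
      exact toGL_inj (by
        simpa [map_mul, ← toGL_comp_uSL] using!
          borel_conj_uGL (x := SpecialLinearGroup.toGL z) h10 c)
    constructor
    · rintro ⟨c, rfl⟩
      obtain ⟨c, rfl⟩ := Multiplicative.ofAdd.surjective c
      have hZ00 : Z 0 0 ≠ 0 := fun h0 => by simp [h0] at hzdet
      refine ⟨Multiplicative.ofAdd (c * Z 1 1 / Z 0 0), ?_⟩
      rw [mul_assoc, eq_inv_mul_iff_mul_eq, conj]
      congr 3
      field_simp
    · rintro ⟨c, hc⟩
      obtain ⟨c, rfl⟩ := Multiplicative.ofAdd.surjective c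
      have := conj c
      rw [hc] at this
      refine ⟨_, (eq_mul_inv_iff_mul_eq.2 this.symm).trans ?_⟩
      group
  refine sl2_transvections_generate _ (fun c => Subgroup.mem_sup_left ⟨Multiplicative.ofAdd c, rfl⟩)
    (fun d => ?_)
  set c : F := -d / (Z 1 0 ^ 2)
  set a : F := Z 0 0 / Z 1 0
  have hm : z * uSL (Multiplicative.ofAdd c) * z⁻¹ ∈ unipSL F ⊔ MulAut.conj z • unipSL F := by
    refine Subgroup.mem_sup_right ?_
    rw [Subgroup.mem_pointwise_smul_iff_inv_smul_mem]
    exact ⟨Multiplicative.ofAdd c, by simp [mul_assoc]⟩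
  have hu : ∀ t : F, uSL (Multiplicative.ofAdd t) ∈ unipSL F ⊔ MulAut.conj z • unipSL F := fun t =>
    Subgroup.mem_sup_left ⟨_, rfl⟩
  have e : SpecialLinearGroup.transvection (one_ne_zero : (1 : Fin 2) ≠ 0) d =
      uSL (Multiplicative.ofAdd (-a)) * (z * uSL (Multiplicative.ofAdd c) * z⁻¹) *
        uSL (Multiplicative.ofAdd a) := by
    have e1 : SpecialLinearGroup.transvection (one_ne_zero : (1 : Fin 2) ≠ 0) d *
        (uSL (Multiplicative.ofAdd (-a)) * z) =
          uSL (Multiplicative.ofAdd (-a)) * z * uSL (Multiplicative.ofAdd c) := by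
      apply sl_ext
      change (1 + Matrix.single 1 0 d) *
          ((uSL (Multiplicative.ofAdd (-a)) : Matrix (Fin 2) (Fin 2) F) * Z) =
        (uSL (Multiplicative.ofAdd (-a)) : Matrix (Fin 2) (Fin 2) F) * Z *
          (uSL (Multiplicative.ofAdd c) : Matrix (Fin 2) (Fin 2) F)
      have hT : (1 + Matrix.single 1 0 d : Matrix (Fin 2) (Fin 2) F) = !![1, 0; d, 1] := by
        ext i j; fin_cases i <;> fin_cases j <;> simp
      rw [uSL_coe, uSL_coe, hT, Matrix.eta_fin_two Z]
      simp only [Matrix.mul_fin_two]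
      ext i j
      fin_cases i <;> fin_cases j <;> simp [a, c] <;> field_simp <;>
        first | (simp; done) | linear_combination (d * hzdet) | linear_combination (-d * hzdet) | ring
    have hua : uSL (Multiplicative.ofAdd a) = (uSL (Multiplicative.ofAdd (-a)))⁻¹ := by
      rw [← map_inv]; congr 1; simp
    rw [hua, eq_mul_inv_iff_mul_eq, ← mul_assoc, ← mul_assoc, eq_mul_inv_iff_mul_eq, mul_assoc]
    exact e1
  rw [e]
  exact mul_mem (mul_mem (hu _) hm) (hu _)

end CfsgLib.Classical
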