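import Cfsg.Prelude.Def_ClassicalGeometry
import Mathlib

/-!
# Symmetric groups acting on the sum-zero vectors modulo the constants
-/

set_option autoImplicit false
set_option linter.unusedSectionVars false

open Matrix

namespace CfsgLib.Classical.PermModel

variable {K : Type*} [Field K] {n : ℕ} {ι : Type} [Fintype ι] [DecidableEq ι]

/-- A linear identification of the sum-zero vectors modulo the constants with `K ^ ι`, carrying an invariant
function to a form. -/
structure Model (n : ℕ) (Qf : (ι → K) → K) where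
  π : Matrix ι (Fin n) K
  s : Matrix (Fin n) ι K
  R : (Fin n → K) → K
  ε : Equiv.Perm (Fin n) →* K
  R_perm : ∀ (σ : Equiv.Perm (Fin n)) x, R (x ∘ σ) = R x
  R_ε : ∀ (σ : Equiv.Perm (Fin n)) x, R (ε σ • x) = R x
  sum_s : ∀ v, ∑ i, (s *ᵥ v) i = 0
  π_s : ∀ v, π *ᵥ (s *ᵥ v) = v
  π_one : π *ᵥ 1 = 0
  s_π : ∀ x : Fin n → K, ∑ i, x i = 0 → ∃ c : K, s *ᵥ (π *ᵥ x) = x + c • 1
  form : ∀ x : Fin n → K, ∑ i, x i = 0 → Qf (π *ᵥ x) = R x

variable {Qf : (ι → K) → K} (m : Model n Qf)

/-- The matrix of a permutation in the model. -/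
def mat (σ : Equiv.Perm (Fin n)) : Matrix ι ι K := m.ε σ • (m.π * m.s.submatrix σ.symm id)

theorem mat_mulVec (σ : Equiv.Perm (Fin n)) (v : ι → K) :
    mat m σ *ᵥ v = m.π *ᵥ (m.ε σ • ((m.s *ᵥ v) ∘ σ.symm)) := by
  rw [mat, Matrix.smul_mulVec, ← Matrix.mulVec_mulVec, Matrix.mulVec_smul]
  congr 2

theorem sum_perm (σ : Equiv.Perm (Fin n)) (v : ι → K) :
    ∑ i, (m.ε σ • ((m.s *ᵥ v) ∘ σ.symm)) i = 0 := by
  simp only [Pi.smul_apply, smul_eq_mul, ← Finset.mul_sum, Function.comp_apply]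
  rw [Equiv.sum_comp σ.symm (m.s *ᵥ v), m.sum_s, mul_zero]

theorem mat_mul (σ τ : Equiv.Perm (Fin n)) : mat m (σ * τ) = mat m σ * mat m τ := by
  refine Matrix.ext_of_mulVec_single fun j => ?_
  rw [← Matrix.mulVec_mulVec, mat_mulVec, mat_mulVec m σ, mat_mulVec m τ]
  obtain ⟨c, hc⟩ := m.s_π _ (sum_perm m τ (Pi.single j 1))
  rw [hc, map_mul]
  set w := m.s *ᵥ Pi.single j 1
  rw [show m.ε σ • ((m.ε τ • (w ∘ τ.symm) + c • (1 : Fin n → K)) ∘ σ.symm) =
      (m.ε σ * m.ε τ) • (w ∘ (σ * τ).symm) + (m.ε σ * c) • (1 : Fin n → K) by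
    funext i
    simp [mul_add, mul_assoc, Equiv.Perm.mul_def],
    Matrix.mulVec_add, Matrix.mulVec_smul _ (m.ε σ * c), m.π_one, smul_zero, add_zero]

theorem mat_one : mat m 1 = 1 := by
  refine Matrix.ext_of_mulVec_single fun j => ?_
  rw [mat_mulVec, map_one, one_smul, Matrix.one_mulVec]
  exact m.π_s _

theorem mat_form (σ : Equiv.Perm (Fin n)) (v : ι → K) : Qf (mat m σ *ᵥ v) = Qf v := by
  rw [mat_mulVec, m.form _ (sum_perm m σ v), m.R_ε, m.R_perm, ← m.form _ (m.sum_s v), m.π_s]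

/-- The permutations as isometries. -/
def toIsom : Equiv.Perm (Fin n) →* ↥(Cfsg.isometryGroup K Qf) where
  toFun σ := ⟨⟨mat m σ, mat m σ⁻¹, by rw [← mat_mul, mul_inv_cancel, mat_one],
    by rw [← mat_mul, inv_mul_cancel, mat_one]⟩, fun u _ => mat_form m σ u⟩
  map_one' := Subtype.ext (Units.ext (mat_one m))
  map_mul' σ τ := Subtype.ext (Units.ext (mat_mul m σ τ))

theorem toIsom_coe (σ : Equiv.Perm (Fin n)) :
    (((toIsom m σ : ↥(Cfsg.isometryGroup K Qf)) : GL ι K) : Matrix ι ι K) = mat m σ := rfl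

theorem toIsom_injective (hn : 5 ≤ n ∨ (4 ≤ n ∧ (2 : K) ≠ 0)) : Function.Injective (toIsom m) := by
  classical
  rw [injective_iff_map_eq_one]
  intro σ hσ
  have hmat : ∀ v, mat m σ *ᵥ v = v := fun v => by
    rw [← toIsom_coe, hσ]; exact Matrix.one_mulVec v
  have h1 : m.ε σ * m.ε σ.symm = 1 := by
    rw [← map_mul, show σ * σ.symm = 1 from mul_inv_cancel σ, map_one]
  have hε : m.ε σ ≠ 0 := fun h => by rw [h, zero_mul] at h1; exact zero_ne_one h1
  -- sum-zero vectors are fixed modulo the constants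
  have key : ∀ x : Fin n → K, ∑ i, x i = 0 → ∃ c : K, ∀ k, m.ε σ * x (σ.symm k) = x k + c := by
    intro x hx
    obtain ⟨c₁, hc₁⟩ := m.s_π x hx
    have h := hmat (m.π *ᵥ x)
    rw [mat_mulVec, hc₁] at h
    have h' := congrArg (m.s *ᵥ ·) h
    obtain ⟨c₂, hc₂⟩ := m.s_π (m.ε σ • ((x + c₁ • (1 : Fin n → K)) ∘ σ.symm)) (by
      simp only [Pi.smul_apply, smul_eq_mul, ← Finset.mul_sum, Function.comp_apply]
      rw [Equiv.sum_comp σ.symm (x + c₁ • (1 : Fin n → K))]
      have := m.sum_s (m.π *ᵥ x)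
      rw [hc₁] at this
      rw [this, mul_zero])
    rw [hc₂, hc₁] at h'
    refine ⟨c₁ - m.ε σ * c₁ - c₂, fun k => ?_⟩
    have := congrFun h' k
    simp at this
    linear_combination this
  refine Equiv.Perm.ext fun i => ?_
  show σ i = i
  by_contra hne
  obtain ⟨j, hji, hjs⟩ : ∃ j, j ≠ i ∧ j ≠ σ i := by
    by_contra hall
    push Not at hall
    have hc := Finset.card_le_card (show (Finset.univ : Finset (Fin n)) ⊆ {i, σ i} from fun k _ => by
      rcases eq_or_ne k i with h | h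
      · simp [h]
      · simp [hall k h])
    have := Finset.card_le_two (a := i) (b := σ i)
    simp at hc
    omega
  set x : Fin n → K := Pi.single i 1 - Pi.single j 1 with hx
  obtain ⟨c, hc⟩ := key x (by simp [hx, Finset.sum_sub_distrib])
  have hxi : x i = 1 := by simp [hx, Ne.symm hji]
  have hxs : x (σ i) = 0 := by simp [hx, hne, Ne.symm hjs]
  have hx0 : ∀ k, k ≠ i → k ≠ j → x k = 0 := fun k h h' => by simp [hx, h, h']
  have hc0 : c = 0 := by
    by_contra hc0
    -- too many coordinates would be non-zero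
    have hsub : ∀ k, x k + c ≠ 0 → σ.symm k = i ∨ σ.symm k = j := fun k hk => by
      by_contra hcon
      push Not at hcon
      exact hk (by rw [← hc k, hx0 _ hcon.1 hcon.2, mul_zero])
    set S := Finset.univ.filter fun k => x k + c ≠ 0
    have hS : S.card ≤ 2 := le_trans (Finset.card_le_card_of_injOn σ.symm
      (fun k hk => by
        have := hsub k (Finset.mem_filter.1 hk).2
        simp only [Finset.coe_insert, Finset.coe_singleton, Set.mem_insert_iff, Set.mem_singleton_iff]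
        exact this) σ.symm.injective.injOn) (Finset.card_le_two (a := i) (b := j))
    have hrest : (Finset.univ.erase i).erase j ⊆ S := fun k hk => by
      simp only [Finset.mem_erase] at hk
      exact Finset.mem_filter.2 ⟨Finset.mem_univ _, by rw [hx0 k hk.2.1 hk.1, zero_add]; exact hc0⟩
    have hcard : ((Finset.univ.erase i).erase j).card = n - 2 := by
      rw [Finset.card_erase_of_mem (by simp [hji]), Finset.card_erase_of_mem (Finset.mem_univ _),
        Finset.card_univ, Fintype.card_fin]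
      omega
    rcases hn with hn | ⟨hn, h2⟩
    · have := Finset.card_le_card hrest
      omega
    · have hxj : x j = -1 := by simp [hx, hji]
      obtain ⟨l, hl, hlS⟩ : ∃ l, (l = i ∨ l = j) ∧ l ∈ S := by
        by_contra hall
        push Not at hall
        have a := hall i (Or.inl rfl)
        have b := hall j (Or.inr rfl)
        simp only [S, Finset.mem_filter, Finset.mem_univ, true_and, not_not] at a b
        rw [hxi] at a
        rw [hxj] at b
        exact h2 (by linear_combination a - b)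
      have hlt : ((Finset.univ.erase i).erase j) ⊂ S := Finset.ssubset_iff_subset_ne.2 ⟨hrest, fun e => by
        rw [← e] at hlS
        simp only [Finset.mem_erase] at hlS
        rcases hl with rfl | rfl
        · exact hlS.2.1 rfl
        · exact hlS.1 rfl⟩
      have := Finset.card_lt_card hlt
      omega
  have h := hc (σ i)
  rw [Equiv.symm_apply_apply, hxi, hxs, hc0, zero_add, mul_one] at h
  exact hε h

variable {F : Type*} [Field F]

/-- Transport of isometry groups along an isomorphism of fields. -/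
noncomputable def congrField (φ : K ≃+* F) {Qk : (ι → K) → K} {Qf' : (ι → F) → F} (h : ∀ v, Qf' (φ ∘ v) = φ (Qk v)) :
    ↥(Cfsg.isometryGroup K Qk) ≃* ↥(Cfsg.isometryGroup F Qf') := by
  refine (Units.mapEquiv (φ.mapMatrix (m := ι)).toMulEquiv).subgroupMap (Cfsg.isometryGroup K Qk) |>.trans
    (MulEquiv.subgroupCongr ?_)
  have key : ∀ (g : GL ι K) (v : ι → K), ((Units.mapEquiv (φ.mapMatrix (m := ι)).toMulEquiv g : GL ι F) :
      Matrix ι ι F) *ᵥ (φ ∘ v) = φ ∘ ((g : Matrix ι ι K) *ᵥ v) := fun g v => by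
    funext i
    exact (RingHom.map_mulVec φ.toRingHom (g : Matrix ι ι K) v i).symm
  ext g
  constructor
  · rintro ⟨g, hg, rfl⟩ u u'
    obtain ⟨v, rfl⟩ : ∃ v, φ ∘ v = u := ⟨φ.symm ∘ u, funext fun i => φ.apply_symm_apply _⟩
    show Qf' ((((Units.mapEquiv (φ.mapMatrix (m := ι)).toMulEquiv) g : GL ι F) : Matrix ι ι F) *ᵥ (φ ∘ v)) = Qf' (φ ∘ v)
    rw [key g v, h, h]
    exact congrArg φ (hg v v)
  · intro hg
    refine ⟨(Units.mapEquiv (φ.mapMatrix (m := ι)).toMulEquiv).symm g, fun v v' => ?_, MulEquiv.apply_symm_apply _ g⟩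
    show Qk _ = Qk _
    apply φ.injective
    rw [← h, ← h]
    have h1 := key ((Units.mapEquiv (φ.mapMatrix (m := ι)).toMulEquiv).symm g) v
    rw [MulEquiv.apply_symm_apply] at h1
    show Qf' (φ ∘ ((((Units.mapEquiv (φ.mapMatrix (m := ι)).toMulEquiv).symm g : GL ι K) : Matrix ι ι K) *ᵥ v)) = _
    rw [← h1]
    exact hg (φ ∘ v) (φ ∘ v)

end CfsgLib.Classical.PermModel
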