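import Cfsg.Agent.Lib.Classical.SLOrders
import Cfsg.Prelude.Def_GeometricClasses

/-!
# Transvections and maximal parabolic subgroups of `GL` and `SL`
-/

set_option autoImplicit false
set_option linter.unusedSectionVars false
set_option backward.isDefEq.respectTransparency false

open Matrix

namespace CfsgLib.Classical

variable {ι : Type} [Fintype ι] [DecidableEq ι] {F : Type*} [Field F]

/-- The matrix of `x ↦ x + (f ⬝ᵥ x) • v`. -/
def trMat (v f : ι → F) : Matrix ι ι F := 1 + vecMulVec v f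

theorem trMat_mulVec (v f x : ι → F) : trMat v f *ᵥ x = x + (f ⬝ᵥ x) • v := by
  rw [trMat, add_mulVec, one_mulVec, vecMulVec_mulVec, op_smul_eq_smul]

theorem trMat_mul_neg (v f : ι → F) (h : f ⬝ᵥ v = 0) : trMat v f * trMat v (-f) = 1 := by
  refine Matrix.ext_iff_mulVec.2 fun x => ?_
  rw [← mulVec_mulVec, trMat_mulVec, trMat_mulVec, one_mulVec, dotProduct_add, dotProduct_smul, h,
    neg_dotProduct, smul_zero, add_zero, add_assoc, ← add_smul, neg_add_cancel, zero_smul, add_zero]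

/-- A transvection as an element of `GL`. -/
def trGL (v f : ι → F) (h : f ⬝ᵥ v = 0) : GL ι F :=
  ⟨trMat v f, trMat v (-f), trMat_mul_neg v f h, by
    have := trMat_mul_neg v (-f) (by rw [neg_dotProduct, h, neg_zero])
    rwa [neg_neg] at this⟩

theorem trGL_mulVec (v f : ι → F) (h : f ⬝ᵥ v = 0) (x : ι → F) :
    (trGL v f h : Matrix ι ι F) *ᵥ x = x + (f ⬝ᵥ x) • v := trMat_mulVec v f x

theorem trGL_mem_sl (v f : ι → F) (h : f ⬝ᵥ v = 0) :
    trGL v f h ∈ Cfsg.Geo.specialLinear ι F := by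
  refine MonoidHom.mem_ker.2 (Units.ext ?_)
  change (trMat v f).det = 1
  rw [trMat, Matrix.vecMulVec_eq Unit, det_one_add_replicateCol_mul_replicateRow, h, add_zero]

theorem mem_specialLinear_iff {g : GL ι F} :
    g ∈ Cfsg.Geo.specialLinear ι F ↔ (g : Matrix ι ι F).det = 1 :=
  ⟨fun h => congrArg Units.val (MonoidHom.mem_ker.1 h), fun h => MonoidHom.mem_ker.2 (Units.ext h)⟩

theorem mem_subspaceStabilizer_iff {W : Submodule F (ι → F)} {g : GL ι F} :
    g ∈ Cfsg.Geo.subspaceStabilizer W ↔ ∀ x ∈ W, (g : Matrix ι ι F) *ᵥ x ∈ W := by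
  refine ⟨fun h x hx => (h x).1 hx, fun h x => ⟨h x, fun hx => ?_⟩⟩
  have hinj : Function.Injective (Matrix.toLin' (g : Matrix ι ι F)) := by
    intro a b hab
    have := congrArg (fun y => ((g⁻¹ : GL ι F) : Matrix ι ι F) *ᵥ y) hab
    simpa [mulVec_mulVec, ← Units.val_mul] using this
  have hle : W.map (Matrix.toLin' (g : Matrix ι ι F)) ≤ W := by
    rintro _ ⟨y, hy, rfl⟩
    simpa using h y hy
  have he := Submodule.eq_of_le_of_finrank_eq hle
    (Submodule.equivMapOfInjective _ hinj W).finrank_eq.symm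
  obtain ⟨y, hy, hyx⟩ : (g : Matrix ι ι F) *ᵥ x ∈ W.map (Matrix.toLin' (g : Matrix ι ι F)) := he.symm ▸ hx
  rwa [← hinj (show Matrix.toLin' (g : Matrix ι ι F) y = Matrix.toLin' (g : Matrix ι ι F) x by simpa using hyx)]

theorem trGL_mem_stab {W : Submodule F (ι → F)} (v f : ι → F) (h : f ⬝ᵥ v = 0)
    (hW : v ∈ W ∨ ∀ w ∈ W, f ⬝ᵥ w = 0) : trGL v f h ∈ Cfsg.Geo.subspaceStabilizer W := by
  refine mem_subspaceStabilizer_iff.2 fun x hx => ?_
  rw [trGL_mulVec]
  rcases hW with hv | hf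
  · exact W.add_mem hx (W.smul_mem _ hv)
  · rw [hf x hx, zero_smul, add_zero]; exact hx

theorem conj_trGL (g : GL ι F) (v f : ι → F) (h : f ⬝ᵥ v = 0) :
    g * trGL v f h * g⁻¹ = trGL ((g : Matrix ι ι F) *ᵥ v) (f ᵥ* ((g⁻¹ : GL ι F) : Matrix ι ι F))
      (by rw [← dotProduct_mulVec, mulVec_mulVec, ← Units.val_mul, inv_mul_cancel, Units.val_one,
        one_mulVec, h]) := by
  refine Units.ext (Matrix.ext_iff_mulVec.2 fun x => ?_)
  rw [Units.val_mul, Units.val_mul, ← mulVec_mulVec, ← mulVec_mulVec, trGL_mulVec, trGL_mulVec,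
    mulVec_add, mulVec_smul, mulVec_mulVec, ← Units.val_mul, mul_inv_cancel, Units.val_one,
    one_mulVec, dotProduct_mulVec]

/-- A vector outside a subspace is separated by a dot product. -/
theorem exists_dual_vec {X : Submodule F (ι → F)} {x : ι → F} (hx : x ∉ X) :
    ∃ f : ι → F, f ⬝ᵥ x = 1 ∧ ∀ y ∈ X, f ⬝ᵥ y = 0 := by
  obtain ⟨φ, hφ, hX⟩ := Submodule.exists_dual_map_eq_bot_of_notMem hx inferInstance
  have hdot : ∀ y, (fun i => (φ x)⁻¹ * φ (Pi.single i 1)) ⬝ᵥ y = (φ x)⁻¹ * φ y := by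
    intro y
    conv_rhs => rw [show y = ∑ i, y i • Pi.single i (1 : F) by ext i; simp [Finset.sum_apply, Pi.single_apply],
      map_sum, Finset.mul_sum]
    simp only [dotProduct, map_smul, smul_eq_mul]
    exact Finset.sum_congr rfl fun i _ => by ring
  refine ⟨_, by rw [hdot, inv_mul_cancel₀ hφ], fun y hy => ?_⟩
  rw [hdot, show φ y = 0 from (Submodule.eq_bot_iff _).1 hX _ (Submodule.mem_map_of_mem hy), mul_zero]

theorem exists_sl_not_mem_stab {W : Submodule F (ι → F)} (h0 : W ≠ ⊥) (h1 : W ≠ ⊤) :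
    ∃ g ∈ Cfsg.Geo.specialLinear ι F, g ∉ Cfsg.Geo.subspaceStabilizer W := by
  obtain ⟨w, hw, hw0⟩ := (Submodule.ne_bot_iff W).1 h0
  obtain ⟨u, -, hu⟩ := SetLike.exists_of_lt h1.lt_top
  have hwu : w ∉ Submodule.span F {u} := by
    intro h
    obtain ⟨a, rfl⟩ := Submodule.mem_span_singleton.1 h
    have ha : a ≠ 0 := by rintro rfl; simp at hw0
    exact hu (by simpa [smul_smul, ha] using W.smul_mem a⁻¹ hw)
  obtain ⟨f, hf1, hf0⟩ := exists_dual_vec hwu
  have hfu := hf0 u (Submodule.mem_span_singleton_self u)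
  refine ⟨trGL u f hfu, trGL_mem_sl _ _ _, fun h => hu ?_⟩
  have := mem_subspaceStabilizer_iff.1 h w hw
  rw [trGL_mulVec, hf1, one_smul] at this
  simpa using W.sub_mem this hw

/-- A group containing the special stabiliser of `W` and moving `W` contains `SL`. -/
theorem sl_le_of_stab_le {W : Submodule F (ι → F)} (M : Subgroup (GL ι F))
    (hM : Cfsg.Geo.subspaceStabilizer W ⊓ Cfsg.Geo.specialLinear ι F ≤ M) {g : GL ι F} (hg : g ∈ M)
    (hgW : g ∉ Cfsg.Geo.subspaceStabilizer W) : Cfsg.Geo.specialLinear ι F ≤ M := by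
  let D : (ι → F) → Prop := fun v => ∀ f h, trGL v f h ∈ M
  have hstab : ∀ v f h, (v ∈ W ∨ ∀ w ∈ W, f ⬝ᵥ w = 0) → trGL v f h ∈ M :=
    fun v f h hc => hM ⟨trGL_mem_stab v f h hc, trGL_mem_sl v f h⟩
  have hDW : ∀ v ∈ W, D v := fun v hv f h => hstab v f h (Or.inl hv)
  have hDmove : ∀ t ∈ M, ∀ v, D v → D ((t : Matrix ι ι F) *ᵥ v) := by
    intro t ht v hv f h
    have h' : (f ᵥ* (t : Matrix ι ι F)) ⬝ᵥ v = 0 := by rw [← dotProduct_mulVec, h]
    have := M.mul_mem (M.mul_mem ht (hv _ h')) (M.inv_mem ht)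
    rw [conj_trGL] at this
    convert this using 2
    rw [vecMul_vecMul, ← Units.val_mul, mul_inv_cancel, Units.val_one, vecMul_one]
  have hDsmul : ∀ (a : F) v, a ≠ 0 → D v → D (a • v) := by
    intro a v ha hv f h
    have h' : (a • f) ⬝ᵥ v = 0 := by rwa [smul_dotProduct, ← dotProduct_smul]
    have e : trGL (a • v) f h = trGL v (a • f) h' := Units.ext (Matrix.ext_iff_mulVec.2 fun x => by
      rw [trGL_mulVec, trGL_mulVec, smul_dotProduct, smul_smul, smul_eq_mul, mul_comm a])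
    rw [e]; exact hv _ _
  rw [mem_subspaceStabilizer_iff] at hgW
  push Not at hgW
  obtain ⟨w₀, hw₀, hu⟩ := hgW
  set u := (g : Matrix ι ι F) *ᵥ w₀
  have hDu : D u := hDmove g hg w₀ (hDW w₀ hw₀)
  have hD : ∀ v, D v := by
    intro u'
    by_cases hu' : u' ∈ W
    · exact hDW u' hu'
    by_cases hsp : ∃ (a : F) (w : ι → F), w ∈ W ∧ u' = a • u + w
    · obtain ⟨a, w, hw, rfl⟩ := hsp
      have ha : a ≠ 0 := fun ha => hu' (by simpa [ha] using hw)
      obtain ⟨f, hf1, hf0⟩ := exists_dual_vec hu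
      have hfv : f ⬝ᵥ (a⁻¹ • w) = 0 := hf0 _ (W.smul_mem _ hw)
      have ht := hDsmul a _ ha (hDmove _ (hstab _ f hfv (Or.inl (W.smul_mem _ hw))) u hDu)
      rwa [trGL_mulVec, hf1, one_smul, smul_add, smul_smul, mul_inv_cancel₀ ha, one_smul] at ht
    · push Not at hsp
      have huX : u ∉ W ⊔ Submodule.span F {u' - u} := by
        intro h
        obtain ⟨w, hw, z, hz, hwz⟩ := Submodule.mem_sup.1 h
        obtain ⟨c, rfl⟩ := Submodule.mem_span_singleton.1 hz
        rcases eq_or_ne c 0 with rfl | hc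
        · exact hu (by rw [← hwz]; simpa using hw)
        · refine hsp ((1 + c) / c) (-(c⁻¹ • w)) (W.neg_mem (W.smul_mem _ hw)) ?_
          have hw' : w = u - c • (u' - u) := eq_sub_of_add_eq hwz
          rw [hw']
          match_scalars <;> field_simp <;> ring
      obtain ⟨f, hf1, hf0⟩ := exists_dual_vec huX
      have hfv : f ⬝ᵥ (u' - u) = 0 :=
        hf0 _ (Submodule.mem_sup_right (Submodule.mem_span_singleton_self _))
      have ht := hDmove _ (hstab _ f hfv (Or.inr fun w hw => hf0 w (Submodule.mem_sup_left hw))) u hDu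
      rwa [trGL_mulVec, hf1, one_smul, add_sub_cancel] at ht
  intro s hs
  obtain ⟨S, rfl⟩ : s ∈ (SpecialLinearGroup.toGL : SpecialLinearGroup ι F →* GL ι F).range :=
    ker_glDet_eq_range_toGL (F := F) (n := ι) ▸ hs
  have htop : M.comap (SpecialLinearGroup.toGL : SpecialLinearGroup ι F →* GL ι F) = ⊤ := by
    refine sl_subgroup_eq_top _ fun i j hij c => ?_
    have h := hD (Pi.single i 1) (Pi.single j c) (by simp [hij.symm])
    rw [Subgroup.mem_comap]
    convert h using 1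
    refine Units.ext (Matrix.ext fun a b => ?_)
    change (1 + Matrix.single i j c) a b = trMat (Pi.single i 1) (Pi.single j c) a b
    by_cases ha : a = i <;> by_cases hb : b = j <;>
      simp [trMat, vecMulVec_apply, Matrix.single_apply, ha, hb, Ne.symm]
  exact (htop ▸ Subgroup.mem_top S : S ∈ M.comap _)

theorem stab_sl_isMaximalIn {W : Submodule F (ι → F)} (h0 : W ≠ ⊥) (h1 : W ≠ ⊤) :
    Cfsg.Geo.IsMaximalIn (Cfsg.Geo.specialLinear ι F)
      (Cfsg.Geo.subspaceStabilizer W ⊓ Cfsg.Geo.specialLinear ι F) := by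
  refine ⟨lt_of_le_not_ge inf_le_right fun h => ?_, fun M hM hMS => ?_⟩
  · obtain ⟨g, hg, hgW⟩ := exists_sl_not_mem_stab h0 h1
    exact hgW (h hg).1
  · by_cases hMW : M ≤ Cfsg.Geo.subspaceStabilizer W
    · exact Or.inl (le_antisymm (le_inf hMW hMS) hM)
    · obtain ⟨g, hg, hgW⟩ := SetLike.not_le_iff_exists.1 hMW
      exact Or.inr (le_antisymm hMS (sl_le_of_stab_le M hM hg hgW))

/-- The special stabiliser determines the subspace. -/
theorem stab_sl_le_imp {U W : Submodule F (ι → F)} (hU1 : U ≠ ⊥) (hW0 : W ≠ ⊥) (hW1 : W ≠ ⊤)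
    (h : Cfsg.Geo.subspaceStabilizer U ⊓ Cfsg.Geo.specialLinear ι F ≤ Cfsg.Geo.subspaceStabilizer W) :
    W = U := by
  have hWU : W ≤ U := by
    intro w hw
    by_contra hwU
    -- `W` contains everything outside `U`, hence everything
    obtain ⟨x, -, hx⟩ := SetLike.exists_of_lt hW1.lt_top
    obtain ⟨u, hu, hu0⟩ := (Submodule.ne_bot_iff U).1 hU1
    obtain ⟨f, hf1, hf0⟩ := exists_dual_vec hwU
    have hUW : U ≤ W := fun y hy => by
      have := mem_subspaceStabilizer_iff.1 (h ⟨trGL_mem_stab (W := U) y f (hf0 y hy) (Or.inl hy), trGL_mem_sl _ _ _⟩) w hw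
      rw [trGL_mulVec, hf1, one_smul] at this
      simpa using W.sub_mem this hw
    by_cases hsp : x ∈ U ⊔ Submodule.span F {w}
    · obtain ⟨a, ha, z, hz, rfl⟩ := Submodule.mem_sup.1 hsp
      obtain ⟨c, rfl⟩ := Submodule.mem_span_singleton.1 hz
      exact hx (W.add_mem (hUW ha) (W.smul_mem _ hw))
    · have hwX : w ∉ U ⊔ Submodule.span F {x - w} := by
        intro hc
        obtain ⟨a, ha, z, hz, hwz⟩ := Submodule.mem_sup.1 hc
        obtain ⟨c, rfl⟩ := Submodule.mem_span_singleton.1 hz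
        rcases eq_or_ne c 0 with rfl | hc0
        · exact hwU (by rw [← hwz]; simpa using ha)
        · refine hsp (Submodule.mem_sup.2 ⟨-(c⁻¹ • a), U.neg_mem (U.smul_mem _ ha), ((1 + c) / c) • w,
            Submodule.smul_mem _ _ (Submodule.mem_span_singleton_self w), ?_⟩)
          have ha' : a = w - c • (x - w) := eq_sub_of_add_eq hwz
          rw [ha']
          match_scalars <;> field_simp <;> ring
      obtain ⟨g, hg1, hg0⟩ := exists_dual_vec hwX
      have hgv : g ⬝ᵥ (x - w) = 0 := hg0 _ (Submodule.mem_sup_right (Submodule.mem_span_singleton_self _))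
      have := mem_subspaceStabilizer_iff.1 (h ⟨trGL_mem_stab (W := U) (x - w) g hgv
        (Or.inr fun y hy => hg0 y (Submodule.mem_sup_left hy)), trGL_mem_sl _ _ _⟩) w hw
      rw [trGL_mulVec, hg1, one_smul, add_sub_cancel] at this
      exact hx this
  refine le_antisymm hWU fun u hu => ?_
  by_contra huW
  obtain ⟨w, hw, hw0⟩ := (Submodule.ne_bot_iff W).1 hW0
  have hwu : w ∉ Submodule.span F {u} := by
    intro hc
    obtain ⟨a, rfl⟩ := Submodule.mem_span_singleton.1 hc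
    have ha : a ≠ 0 := by rintro rfl; simp at hw0
    exact huW (by simpa [smul_smul, ha] using W.smul_mem a⁻¹ hw)
  obtain ⟨f, hf1, hf0⟩ := exists_dual_vec hwu
  have := mem_subspaceStabilizer_iff.1 (h ⟨trGL_mem_stab (W := U) u f
    (hf0 u (Submodule.mem_span_singleton_self u)) (Or.inl hu), trGL_mem_sl _ _ _⟩) w hw
  rw [trGL_mulVec, hf1, one_smul] at this
  exact huW (by simpa using W.sub_mem this hw)

end CfsgLib.Classical
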