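import Cfsg.Agent.Lib.Classical.SympSimple
import Cfsg.Agent.Lib.Classical.ParabolicGL

/-!
# The symplectic similarity group is maximal in `SL`
-/

set_option autoImplicit false
set_option linter.unusedSectionVars false
set_option backward.isDefEq.respectTransparency false

open Module Matrix

namespace CfsgLib.Classical

variable {ι : Type} [Fintype ι] [DecidableEq ι] {F : Type*} [Field F]

/-- The coordinate vector of a functional. -/
def funVec (φ : (ι → F) →ₗ[F] F) : ι → F := fun i => φ (Pi.single i 1)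

theorem funVec_dot (φ : (ι → F) →ₗ[F] F) (y : ι → F) : funVec φ ⬝ᵥ y = φ y := by
  conv_rhs => rw [show y = ∑ i, y i • Pi.single i (1 : F) by ext i; simp [Finset.sum_apply, Pi.single_apply],
    map_sum]
  simp only [funVec, dotProduct, map_smul, smul_eq_mul]
  exact Finset.sum_congr rfl fun i _ => mul_comm _ _

theorem dot_ext {f g : ι → F} (h : ∀ x, f ⬝ᵥ x = g ⬝ᵥ x) : f = g := funext fun i => by
  simpa using h (Pi.single i 1)

theorem trGL_congr {v f : ι → F} {h : f ⬝ᵥ v = 0} {v' f' : ι → F} {h' : f' ⬝ᵥ v' = 0}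
    (he : ∀ x, (f ⬝ᵥ x) • v = (f' ⬝ᵥ x) • v') : trGL v f h = trGL v' f' h' :=
  Units.ext (Matrix.ext_iff_mulVec.2 fun x => by rw [trGL_mulVec, trGL_mulVec, he])

theorem trGL_eq_one_of {v f : ι → F} {h : f ⬝ᵥ v = 0} (he : v = 0 ∨ f = 0) : trGL v f h = 1 :=
  Units.ext (Matrix.ext_iff_mulVec.2 fun x => by
    rw [trGL_mulVec, Units.val_one, one_mulVec]
    rcases he with rfl | rfl <;> simp)

/-- A subgroup containing all transvections contains `SL`. -/
theorem sl_le_of_forall_trGL (M : Subgroup (GL ι F)) (hD : ∀ v f h, trGL v f h ∈ M) :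
    Cfsg.Geo.specialLinear ι F ≤ M := by
  intro s hs
  obtain ⟨S, rfl⟩ : s ∈ (SpecialLinearGroup.toGL : SpecialLinearGroup ι F →* GL ι F).range :=
    ker_glDet_eq_range_toGL (F := F) (n := ι) ▸ hs
  have htop : M.comap (SpecialLinearGroup.toGL : SpecialLinearGroup ι F →* GL ι F) = ⊤ := by
    refine sl_subgroup_eq_top _ fun i j hij c => ?_
    have h := hD (Pi.single i 1) (Pi.single j c) (by simp [hij.symm])
    rw [Subgroup.mem_comap]
    convert h using 1
    refine Units.ext (Matrix.ext fun a b => ?_)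
    change (1 + Matrix.single i j c) a b = trMat (Pi.single i 1) (Pi.single j c) a b
    by_cases ha : a = i <;> by_cases hb : b = j <;>
      simp [trMat, vecMulVec_apply, ha, hb, Ne.symm]
  exact (htop ▸ Subgroup.mem_top S : S ∈ M.comap _)

/-- Linear automorphisms of `F^ι` as invertible matrices. -/
def linToGL : ((ι → F) ≃ₗ[F] (ι → F)) →* GL ι F where
  toFun e := ⟨LinearMap.toMatrix' e.toLinearMap, LinearMap.toMatrix' e.symm.toLinearMap,
    by rw [← LinearMap.toMatrix'_comp]; simp, by rw [← LinearMap.toMatrix'_comp]; simp⟩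
  map_one' := Units.ext (by
    change LinearMap.toMatrix' (LinearMap.id : (ι → F) →ₗ[F] (ι → F)) = 1
    simp)
  map_mul' a b := Units.ext (by
    change LinearMap.toMatrix' (a.toLinearMap.comp b.toLinearMap) = _
    rw [LinearMap.toMatrix'_comp]; rfl)

theorem linToGL_mulVec (e : (ι → F) ≃ₗ[F] (ι → F)) (x : ι → F) :
    (linToGL e : Matrix ι ι F) *ᵥ x = e x := LinearMap.toMatrix'_mulVec _ _

variable {B : (ι → F) →ₗ[F] (ι → F) →ₗ[F] F}

/-- The similarities of `B` of determinant one. -/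
theorem tv_eq_trGL (hA : B.IsAlt) (v : ι → F) (c : F) :
    linToGL (tv hA v c).1 = trGL ((-c) • v) (funVec (B v))
      (by rw [funVec_dot, map_smul, hA v, smul_zero]) := by
  refine Units.ext (Matrix.ext_iff_mulVec.2 fun x => ?_)
  rw [linToGL_mulVec, tv_apply, trGL_mulVec, funVec_dot, smul_smul, alt_swap hA x v]
  congr 2
  ring

theorem gsp_maximal (hA : B.IsAlt) (hN : B.Nondegenerate) (M : Subgroup (GL ι F))
    (hM : ∀ (v : ι → F) (c : F), linToGL (tv hA v c).1 ∈ M) {g : GL ι F} (hg : g ∈ M)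
    (hgs : ¬ ∃ c : Fˣ, ∀ u v, B ((g : Matrix ι ι F) *ᵥ u) ((g : Matrix ι ι F) *ᵥ v) = c * B u v) :
    Cfsg.Geo.specialLinear ι F ≤ M := by
  have hN' := hN.2
  -- isometries lie in `M`
  have hiso : ∀ t : isomGroup B, linToGL t.1 ∈ M := by
    intro t
    have ht : t ∈ M.comap ((linToGL (ι := ι) (F := F)).comp (isomGroup B).subtype) := by
      have : tvGroup hA ≤ M.comap ((linToGL (ι := ι) (F := F)).comp (isomGroup B).subtype) :=
        (Subgroup.closure_le _).2 (by rintro _ ⟨v, c, rfl⟩; exact hM v c)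
      exact this (tvGroup_eq_top hA hN ▸ Subgroup.mem_top t)
    exact ht
  have hginj : ∀ x, (g : Matrix ι ι F) *ᵥ x = 0 → x = 0 := fun x hx => by
    have := congrArg (fun y => ((g⁻¹ : GL ι F) : Matrix ι ι F) *ᵥ y) hx
    simpa [mulVec_mulVec, ← Units.val_mul] using this
  obtain ⟨v, w, hvw, hgvw⟩ : ∃ v w, B v w = 0 ∧ B ((g : Matrix ι ι F) *ᵥ v) ((g : Matrix ι ι F) *ᵥ w) ≠ 0 := by
    by_contra hc
    push Not at hc
    set G := fun x => (g : Matrix ι ι F) *ᵥ x with hG
    by_cases hV : ∀ x : ι → F, x = 0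
    · exact hgs ⟨1, fun u v => by rw [hV u]; simp⟩
    push Not at hV
    obtain ⟨u₀, hu₀⟩ := hV
    obtain ⟨y₀, hy₀⟩ := alt_exists_partner hN.1 hu₀
    have hscal : ∀ v y, B v y = 1 → ∀ w, B (G v) (G w) = B (G v) (G y) * B v w := by
      intro v y hy w
      have := hc v (w - B v w • y) (by simp [hy])
      rw [hG] at *
      simp only [mulVec_sub, mulVec_smul, map_sub, map_smul, smul_eq_mul, sub_eq_zero] at this ⊢
      rw [this]; ring
    have hc0 : B (G u₀) (G y₀) ≠ 0 := by
      intro h0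
      refine hu₀ (hginj u₀ (hN.1 _ fun z => ?_))
      have := hscal u₀ y₀ hy₀ (((g⁻¹ : GL ι F) : Matrix ι ι F) *ᵥ z)
      rw [h0, zero_mul] at this
      simpa [hG, mulVec_mulVec, ← Units.val_mul] using this
    refine hgs ⟨Units.mk0 _ hc0, fun u v => ?_⟩
    rw [Units.val_mk0]
    -- the multiplier does not depend on the vector
    have hlink : ∀ a a' b b', B a a' = 1 → B b b' = 1 → B a b ≠ 0 → B (G a) (G a') = B (G b) (G b') := by
      intro a a' b b' h1 h2 hab
      have e1 := hscal a a' h1 b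
      have e2 := hscal b b' h2 a
      rw [alt_swap hA (G b) (G a), e1, alt_swap hA b a] at e2
      refine mul_right_cancel₀ hab ?_
      linear_combination -e2
    by_cases hu : u = 0
    · subst hu; simp
    obtain ⟨u', hu'⟩ := alt_exists_partner hN.1 hu
    suffices B (G u) (G u') = B (G u₀) (G y₀) by rw [← this]; exact hscal u u' hu' v
    obtain ⟨x, hx1, hx2⟩ : ∃ x, B u x ≠ 0 ∧ B u₀ x ≠ 0 := by
      by_cases h₁ : B u₀ u' = 0
      · by_cases h₂ : B u y₀ = 0
        · exact ⟨u' + y₀, by simp [hu', h₂], by simp [h₁, hy₀]⟩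
        · exact ⟨y₀, h₂, by simp [hy₀]⟩
      · exact ⟨u', by simp [hu'], h₁⟩
    have hx0 : x ≠ 0 := by rintro rfl; simp at hx1
    obtain ⟨x', hx'⟩ := alt_exists_partner hN.1 hx0
    rw [hlink u u' x x' hu' hx' hx1, hlink u₀ y₀ x x' hy₀ hx' hx2]
  set a₀ := (g : Matrix ι ι F) *ᵥ v with ha₀
  obtain ⟨z, hz⟩ := exists_form_eq hN' ((B v).comp (Matrix.toLin' ((g⁻¹ : GL ι F) : Matrix ι ι F)))
  set b₀ := -z with hb₀
  have hb : ∀ x, B b₀ x = B v (((g⁻¹ : GL ι F) : Matrix ι ι F) *ᵥ x) := fun x => by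
    rw [hb₀, map_neg, LinearMap.neg_apply, ← alt_swap hA, hz]; rfl
  have hback : ((g⁻¹ : GL ι F) : Matrix ι ι F) *ᵥ a₀ = v := by
    rw [ha₀, mulVec_mulVec, ← Units.val_mul, inv_mul_cancel, Units.val_one, one_mulVec]
  have hba : B b₀ a₀ = 0 := by rw [hb, hback, hA v]
  have hD0 : ∀ (c : F) h, trGL (c • a₀) (funVec (B b₀)) h ∈ M := by
    intro c h
    have := M.mul_mem (M.mul_mem hg (hM v (-c))) (M.inv_mem hg)
    rw [tv_eq_trGL, conj_trGL] at this
    convert this using 1
    refine trGL_congr fun x => ?_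
    rw [mulVec_smul, neg_neg, ← ha₀, funVec_dot, hb, ← dotProduct_mulVec, funVec_dot]
  have hv : v ≠ 0 := by rintro rfl; exact hgvw (by rw [ha₀]; simp)
  have ha0 : a₀ ≠ 0 := fun h => hv (hginj v h)
  have hi0 : LinearIndependent F ![a₀, b₀] := by
    rw [LinearIndependent.pair_iff' ha0]
    intro t ht
    have h1 := hb ((g : Matrix ι ι F) *ᵥ w)
    rw [mulVec_mulVec, ← Units.val_mul, inv_mul_cancel, Units.val_one, one_mulVec, hvw, ← ht, map_smul,
      LinearMap.smul_apply, smul_eq_mul, mul_eq_zero] at h1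
    rcases h1 with h1 | h1
    · subst h1
      rw [zero_smul] at ht
      obtain ⟨y, hy⟩ := alt_exists_partner hN.1 hv
      have h2 := hb ((g : Matrix ι ι F) *ᵥ y)
      rw [mulVec_mulVec, ← Units.val_mul, inv_mul_cancel, Units.val_one, one_mulVec, ← ht, hy] at h2
      simp at h2
    · exact hgvw h1
  have hpairs : ∀ a b, LinearIndependent F ![a, b] → B b a = 0 → ∀ (c : F) h,
      trGL (c • a) (funVec (B b)) h ∈ M := by
    intro a b hi hab c h
    obtain ⟨t, ht⟩ := witt_family hA hN hi0 hi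
      (fun i j => by fin_cases i <;> fin_cases j <;> simp [hba, hA.isRefl _ _ hba, hA a₀, hA b₀])
      (fun i j => by fin_cases i <;> fin_cases j <;> simp [hab, hA.isRefl _ _ hab, hA a, hA b])
    have hta : t.1 a₀ = a := ht 0
    have htb : t.1 b₀ = b := ht 1
    have h0 : funVec (B b₀) ⬝ᵥ (c • a₀) = 0 := by rw [funVec_dot, map_smul, hba, smul_zero]
    have := M.mul_mem (M.mul_mem (hiso t) (hD0 c h0)) (M.inv_mem (hiso t))
    rw [conj_trGL] at this
    convert this using 1
    refine trGL_congr fun x => ?_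
    rw [linToGL_mulVec, map_smul, hta, funVec_dot, ← dotProduct_mulVec, funVec_dot]
    congr 1
    conv_rhs => rw [← t.2 b₀, htb, ← linToGL_mulVec t.1, mulVec_mulVec, ← Units.val_mul, mul_inv_cancel,
      Units.val_one, one_mulVec]
  refine sl_le_of_forall_trGL M fun a f h => ?_
  obtain ⟨z', hz'⟩ := exists_form_eq hN'
    (({ toFun := fun x => f ⬝ᵥ x, map_add' := dotProduct_add f, map_smul' := fun c x => dotProduct_smul c f x } :
      (ι → F) →ₗ[F] F))
  set b := -z' with hb'
  have hbf : ∀ x, B b x = f ⬝ᵥ x := fun x => by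
    rw [hb', map_neg, LinearMap.neg_apply, ← alt_swap hA, hz']; rfl
  by_cases hi : LinearIndependent F ![a, b]
  · have := hpairs a b hi (by rw [hbf, h]) 1 (by rw [funVec_dot, one_smul, hbf, h])
    convert this using 1
    refine trGL_congr fun x => ?_
    rw [funVec_dot, hbf, one_smul]
  · by_cases ha : a = 0
    · rw [trGL_eq_one_of (Or.inl ha)]; exact M.one_mem
    rw [LinearIndependent.pair_iff' ha] at hi
    push Not at hi
    obtain ⟨t, ht⟩ := hi
    have := hM a (-t)
    rw [tv_eq_trGL] at this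
    convert this using 1
    refine trGL_congr fun x => ?_
    rw [funVec_dot, ← hbf, ← ht, map_smul, LinearMap.smul_apply, smul_eq_mul, neg_neg, smul_smul,
      mul_comm]

end CfsgLib.Classical
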