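import Cfsg.Agent.Lib.Classical.HermBasic

/-!
# Counting vectors of given length and the order of the unitary group
-/

set_option autoImplicit false
set_option linter.unusedSectionVars false

open Module

namespace CfsgLib.Classical

variable {F : Type*} [Field F] {σ : F →+* F}

/-- The form `Σ σ(x i) y i`. -/
def stdHerm (σ : F →+* F) (n : ℕ) : (Fin n → F) →ₛₗ[σ] (Fin n → F) →ₗ[F] F :=
  LinearMap.mk₂'ₛₗ σ (RingHom.id F) (fun x y => ∑ i, σ (x i) * y i)
    (fun x x' y => by simp [add_mul, Finset.sum_add_distrib])
    (fun c x y => by simp [Finset.mul_sum, mul_assoc])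
    (fun x y y' => by simp [mul_add, Finset.sum_add_distrib])
    (fun c x y => by simp [Finset.mul_sum, mul_left_comm])

theorem stdHerm_apply (n : ℕ) (x y : Fin n → F) : stdHerm σ n x y = ∑ i, σ (x i) * y i := rfl

theorem stdHerm_single (n : ℕ) (i : Fin n) (y : Fin n → F) : stdHerm σ n (Pi.single i 1) y = y i := by
  rw [stdHerm_apply, Finset.sum_eq_single i (fun j _ hj => by simp [hj]) (by simp)]
  simp

theorem stdHerm_sepLeft (n : ℕ) (hb : Function.Injective σ) : (stdHerm σ n).SeparatingLeft := fun x hx =>
  funext fun i => by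
    have h := hx (Pi.single i 1)
    rw [stdHerm_apply, Finset.sum_eq_single i (fun j _ hj => by simp [hj]) (by simp), Pi.single_eq_same,
      mul_one] at h
    exact hb (h.trans (map_zero σ).symm)

theorem stdHerm_sepRight (n : ℕ) : (stdHerm σ n).SeparatingRight := fun y hy =>
  funext fun i => (stdHerm_single n i y).symm.trans (hy _)

theorem stdHerm_isHermitian (h : IsConjugation σ) (n : ℕ) : IsHermitian (stdHerm σ n) :=
  ⟨h, fun x y => by simp [stdHerm_apply, h.invol, mul_comm]⟩

theorem stdHerm_cons (n : ℕ) (c d : F) (x y : Fin n → F) :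
    stdHerm σ (n + 1) (Fin.cons c x) (Fin.cons d y) = σ c * d + stdHerm σ n x y := by
  simp [stdHerm_apply, Fin.sum_univ_succ]

/-- The number of vectors of length `a`. -/
noncomputable def lengthCount (σ : F →+* F) (n : ℕ) (a : F) : ℕ :=
  Nat.card {v : Fin n → F // stdHerm σ n v v = a}

theorem lengthCount_scale [Finite F] (h : IsConjugation σ) (n : ℕ) {a : F} (ha : σ a = a) (ha0 : a ≠ 0) :
    lengthCount σ n a = lengthCount σ n 1 := by
  obtain ⟨c, hc⟩ := h.exists_norm_eq ha
  have hc0 : c ≠ 0 := fun e => ha0 (by rw [← hc, e, zero_mul])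
  refine (Nat.card_congr ((LinearEquiv.smulOfNeZero F (Fin n → F) c hc0).toEquiv.subtypeEquiv fun v => ?_)).symm
  change stdHerm σ n v v = 1 ↔ stdHerm σ n (c • v) (c • v) = a
  rw [(stdHerm_isHermitian h n).smul_self, hc]
  exact ⟨fun e => by rw [e, mul_one], fun e => mul_left_cancel₀ ha0 (e.trans (mul_one a).symm)⟩

theorem lengthCount_succ [Fintype F] [DecidableEq F] (n : ℕ) (a : F) :
    lengthCount σ (n + 1) a = ∑ c : F, lengthCount σ n (a - σ c * c) := by
  have e : {v : Fin (n + 1) → F // stdHerm σ (n + 1) v v = a} ≃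
      Σ c : F, {w : Fin n → F // stdHerm σ n w w = a - σ c * c} :=
    { toFun := fun v => ⟨v.1 0, Fin.tail v.1, by
        have := v.2
        rw [← Fin.cons_self_tail v.1, stdHerm_cons] at this
        linear_combination this⟩
      invFun := fun s => ⟨Fin.cons s.1 s.2.1, by rw [stdHerm_cons, s.2.2]; ring⟩
      left_inv := fun v => Subtype.ext (Fin.cons_self_tail v.1)
      right_inv := fun s => by
        obtain ⟨c, w, hw⟩ := s
        refine Sigma.subtype_ext ?_ ?_
        · simp
        · simp }
  rw [lengthCount, Nat.card_congr e, Nat.card_sigma]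
  rfl

theorem card_norm_one [Fintype F] [DecidableEq F] (h : IsConjugation σ) :
    (Finset.univ.filter fun c : F => σ c * c = 1).card = Nat.card (normHom σ).ker := by
  rw [← Fintype.card_subtype, ← Nat.card_eq_fintype_card]
  exact (Nat.card_congr
    { toFun := fun u : (normHom σ).ker => (⟨u.1, (mul_comm _ _).trans (congrArg Units.val (MonoidHom.mem_ker.1 u.2))⟩ :
        {c : F // σ c * c = 1})
      invFun := fun c => ⟨Units.mk0 c.1 (fun e => by simpa [e] using c.2), by
        refine MonoidHom.mem_ker.2 (Units.ext ?_)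
        rw [normHom_apply]
        exact (mul_comm _ _).trans c.2⟩
      left_inv := fun u => Subtype.ext (Units.ext rfl)
      right_inv := fun c => Subtype.ext rfl }).symm

/-- The two counts, multiplied by `q`. -/
theorem lengthCount_closed [Fintype F] {q : ℕ} (hF : Fintype.card F = q ^ 2) (hσ : ∀ x, σ x = x ^ q)
    (h : IsConjugation σ) : ∀ n, (q : ℤ) * lengthCount σ n 1 = (q : ℤ) ^ n * ((q : ℤ) ^ n - (-1) ^ n) ∧
      (q : ℤ) * lengthCount σ n 0 = (q : ℤ) ^ (2 * n) + ((q : ℤ) - 1) * (q : ℤ) ^ n * (-1) ^ n := by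
  classical
  have hq := two_le_of_card_sq hF
  have hfix : ∀ c, σ (σ c * c) = σ c * c := fun c => by rw [map_mul, h.invol, mul_comm]
  intro n
  induction n with
  | zero =>
    have h1 : lengthCount σ 0 1 = 0 := Nat.card_eq_zero.2 (Or.inl ⟨fun v => by
      simpa [stdHerm_apply] using v.2⟩)
    have h0 : lengthCount σ 0 0 = 1 := Nat.card_eq_one_iff_unique.2
      ⟨⟨fun a b => Subtype.ext (Subsingleton.elim _ _)⟩, ⟨⟨0, by simp [stdHerm_apply]⟩⟩⟩
    simp [h1, h0]
  | succ n ih =>
    have r1 : lengthCount σ (n + 1) 1 = (q + 1) * lengthCount σ n 0 + (q ^ 2 - (q + 1)) * lengthCount σ n 1 := by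
      rw [lengthCount_succ, ← Finset.sum_filter_add_sum_filter_not Finset.univ (fun c : F => σ c * c = 1)]
      congr 1
      · rw [Finset.sum_congr rfl fun c hc => by rw [(Finset.mem_filter.1 hc).2, sub_self], Finset.sum_const,
          card_norm_one h, (frob_cards hF hσ h).2, smul_eq_mul]
      · rw [Finset.sum_congr rfl fun c hc => lengthCount_scale h n (a := 1 - σ c * c)
          (by rw [map_sub, map_one, hfix]) (sub_ne_zero.2 (Ne.symm (Finset.mem_filter.1 hc).2)),
          Finset.sum_const, smul_eq_mul, Finset.filter_not, Finset.card_sdiff_of_subset (Finset.subset_univ _),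
          card_norm_one h, (frob_cards hF hσ h).2, Finset.card_univ, hF]
    have r0 : lengthCount σ (n + 1) 0 = lengthCount σ n 0 + (q ^ 2 - 1) * lengthCount σ n 1 := by
      rw [lengthCount_succ, ← Finset.add_sum_erase Finset.univ _ (Finset.mem_univ (0 : F))]
      congr 1
      · simp
      · rw [Finset.sum_congr rfl fun c hc => lengthCount_scale h n (a := 0 - σ c * c)
          (by rw [map_sub, map_zero, hfix]) (by
            rw [zero_sub, neg_ne_zero]
            exact mul_ne_zero (fun e => (Finset.mem_erase.1 hc).1 (h.invol c ▸ by rw [e, map_zero]))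
              (Finset.mem_erase.1 hc).1), Finset.sum_const, smul_eq_mul,
          Finset.card_erase_of_mem (Finset.mem_univ _), Finset.card_univ, hF]
    have e1 : ((q ^ 2 - (q + 1) : ℕ) : ℤ) = (q : ℤ) ^ 2 - q - 1 := by
      have hle : q + 1 ≤ q ^ 2 := by nlinarith
      push_cast [Nat.cast_sub hle]
      ring
    have e2 : ((q ^ 2 - 1 : ℕ) : ℤ) = (q : ℤ) ^ 2 - 1 := by
      have hle : 1 ≤ q ^ 2 := Nat.one_le_pow _ _ (by omega)
      push_cast [Nat.cast_sub hle]
      ring
    obtain ⟨i1, i0⟩ := ih
    rw [r1, r0]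
    push_cast [e1, e2]
    constructor
    · linear_combination ((q : ℤ) ^ 2 - q - 1) * i1 + ((q : ℤ) + 1) * i0
    · linear_combination ((q : ℤ) ^ 2 - 1) * i1 + i0

/-- Vectors of length one, in closed form. -/
theorem lengthCount_one [Fintype F] {q : ℕ} (hF : Fintype.card F = q ^ 2) (hσ : ∀ x, σ x = x ^ q)
    (h : IsConjugation σ) (n : ℕ) :
    lengthCount σ (n + 1) 1 = q ^ n * (if Even n then q ^ (n + 1) + 1 else q ^ (n + 1) - 1) := by
  have hq := two_le_of_card_sq hF
  refine Int.natCast_inj.1 (mul_left_cancel₀ (show (q : ℤ) ≠ 0 by exact_mod_cast (by omega : q ≠ 0)) ?_)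
  rw [(lengthCount_closed hF hσ h (n + 1)).1]
  rcases Nat.even_or_odd n with he | ho
  · rw [if_pos he, he.add_one.neg_one_pow]
    push_cast
    ring
  · rw [if_neg (Nat.not_even_iff_odd.2 ho), ho.add_one.neg_one_pow]
    have hle : 1 ≤ q ^ (n + 1) := Nat.one_le_pow _ _ (by omega)
    push_cast [Nat.cast_sub hle]
    ring

/-! ### The order of the isometry group -/

section Order

variable {V : Type*} [AddCommGroup V] [Module F V] [FiniteDimensional F V] {B : V →ₛₗ[σ] V →ₗ[F] F}

theorem card_length_eq [Finite F] (hB : IsHermitian B) (hN : B.SeparatingRight) (a : F) :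
    Nat.card {v : V // B v v = a} = lengthCount σ (finrank F V) a := by
  obtain ⟨e, he⟩ := hB.exists_isometry (stdHerm_isHermitian hB.conj (finrank F V)) hN (stdHerm_sepRight _)
    (Module.finrank_fin_fun F).symm
  exact Nat.card_congr (e.toEquiv.subtypeEquiv fun v => by
    change _ ↔ stdHerm σ _ (e v) (e v) = a
    rw [he])

theorem card_isom_unit_step [Finite F] (hB : IsHermitian B) (hN : B.SeparatingRight) {x : V} (hx : B x x = 1) :
    Nat.card (isomGroup B) = Nat.card {v : V // B v v = 1} *
      Nat.card (isomGroup (restrictForm B (perp B (Submodule.span F {x})))) := by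
  have hnd : NondegOn B (Submodule.span F {x}) :=
    hB.nondegOn_span_singleton (by rw [hx]; exact one_ne_zero)
  have hx0 : x ≠ 0 := fun e => by simp [e] at hx
  have horb : MulAction.orbit (isomGroup B) x = {v | B v v = 1} := by
    ext v
    refine ⟨?_, fun hv => ?_⟩
    · rintro ⟨g, rfl⟩
      exact (g.2 x x).trans hx
    · have hv' : B v v = 1 := hv
      let φ : Submodule.span F {x} →ₗ[F] V :=
        (LinearMap.toSpanSingleton F V v).comp (LinearEquiv.toSpanNonzeroSingleton F V x hx0).symm.toLinearMap
      let e := LinearEquiv.toSpanNonzeroSingleton F V x hx0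
      have he : ∀ a : Submodule.span F {x}, ((a : Submodule.span F {x}) : V) = e.symm a • x := fun a => by
        conv_lhs => rw [← e.apply_symm_apply a]
        rfl
      have hφ : ∀ a : Submodule.span F {x}, φ a = e.symm a • v := fun a => rfl
      obtain ⟨g, hg⟩ := hB.witt hN _ φ (by
          intro a b hab
          rw [hφ, hφ] at hab
          have := congrArg (B v) hab
          simp [hv'] at this
          exact this)
        (by
          intro a b
          rw [hφ, hφ, he a, he b]
          simp [map_smulₛₗ, hx, hv'])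
      refine ⟨g, ?_⟩
      have h1 : e.symm ⟨x, Submodule.mem_span_singleton_self x⟩ = 1 := by
        rw [LinearEquiv.symm_apply_eq]
        exact Subtype.ext (one_smul F x).symm
      have := hg ⟨x, Submodule.mem_span_singleton_self x⟩
      rw [hφ, h1, one_smul] at this
      exact this
  let J : isomGroup (restrictForm B (perp B (Submodule.span F {x}))) →* isomGroup B :=
    (isomSum hnd.isCompl (fun _ hw _ hu => mem_perp.1 hu _ hw) fun _ hw _ hu => orth_symm hB.isRefl hw hu).comp
      (MonoidHom.inr _ _)
  have hJinj : Function.Injective J :=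
    (isomSum_injective hnd.isCompl (fun _ hw _ hu => mem_perp.1 hu _ hw) fun _ hw _ hu =>
      orth_symm hB.isRefl hw hu).comp (Prod.mk_right_injective 1)
  have hJr : J.range = MulAction.stabilizer (isomGroup B) x := by
    ext g
    constructor
    · rintro ⟨b, rfl⟩
      rw [MulAction.mem_stabilizer_iff]
      exact sumEquiv_apply_left hnd.isCompl _ _ ⟨x, Submodule.mem_span_singleton_self x⟩
    · intro hg
      have hgx : g.1 x = x := hg
      have hmap : (Submodule.span F {x}).map (g.1 : V →ₗ[F] V) = Submodule.span F {x} := by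
        rw [Submodule.map_span, Set.image_singleton]
        exact congrArg (fun y => Submodule.span F {y}) hgx
      obtain ⟨⟨a, b⟩, hab⟩ := (mem_range_isomSum hnd.isCompl (fun _ hw _ hu => mem_perp.1 hu _ hw)
        (fun _ hw _ hu => orth_symm hB.isRefl hw hu) g).2 ⟨hmap, by rw [map_perp g.2, hmap]⟩
      refine ⟨b, ?_⟩
      suffices a = 1 by rw [← hab, this]; rfl
      refine Subtype.ext (LinearEquiv.ext fun y => Subtype.ext ?_)
      obtain ⟨t, ht⟩ := Submodule.mem_span_singleton.1 y.2
      have h1 := congrArg (fun k : isomGroup B => k.1 (y : V)) hab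
      simp only [isomSum, MonoidHom.coe_mk, OneHom.coe_mk] at h1
      rw [sumEquiv_apply_left] at h1
      rw [h1, ← ht, map_smul, hgx]
      simp [ht]
  have h1 := (MulAction.stabilizer (isomGroup B) x).card_mul_index
  rw [MulAction.index_stabilizer, horb, ← hJr, Nat.card_congr (MonoidHom.ofInjective hJinj).toEquiv.symm] at h1
  rw [← h1, mul_comm]
  rfl

theorem card_isom_herm [Finite F] (hB : IsHermitian B) (hN : B.SeparatingRight) :
    Nat.card (isomGroup B) = ∏ i ∈ Finset.range (finrank F V), lengthCount σ (i + 1) 1 := by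
  induction hn : finrank F V generalizing V with
  | zero =>
    have : Subsingleton V := Module.finrank_zero_iff.1 hn
    rw [Finset.prod_range_zero, Nat.card_eq_one_iff_unique]
    exact ⟨⟨fun a b => Subtype.ext (LinearEquiv.ext fun v => Subsingleton.elim _ _)⟩, ⟨1⟩⟩
  | succ n ih =>
    have : Nontrivial V := Module.nontrivial_of_finrank_pos (R := F) (by omega)
    obtain ⟨x, hx⟩ := hB.exists_unit hN
    have hnd : NondegOn B (Submodule.span F {x}) :=
      hB.nondegOn_span_singleton (by rw [hx]; exact one_ne_zero)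
    have hp := hnd.finrank_perp
    rw [finrank_span_singleton (fun e => by simp [e] at hx)] at hp
    rw [card_isom_unit_step hB hN hx, card_length_eq hB hN, hn,
      ih (hB.restrict _) (restrictForm_separatingRight (nondegOn_perp hN hnd)) (by omega),
      Finset.prod_range_succ, mul_comm]

theorem card_isom_herm_closed [Fintype F] {q : ℕ} (hF : Fintype.card F = q ^ 2) (hσ : ∀ x, σ x = x ^ q)
    (hB : IsHermitian B) (hN : B.SeparatingRight) :
    Nat.card (isomGroup B) = q ^ (finrank F V * (finrank F V - 1) / 2) *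
      ∏ i ∈ Finset.range (finrank F V), (if Even i then q ^ (i + 1) + 1 else q ^ (i + 1) - 1) := by
  rw [card_isom_herm hB hN, Finset.prod_congr rfl fun i _ => lengthCount_one hF hσ hB.conj i,
    Finset.prod_mul_distrib, Finset.prod_pow_eq_pow_sum, Finset.sum_range_id]

end Order

end CfsgLib.Classical
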