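import Cfsg.Prelude.Def_LieClassical
import Cfsg.Prelude.Def_ClassicalGeometry
import Cfsg.Agent.Lib.Classical.HermCount
import Cfsg.Agent.Lib.Classical.GSpMax

/-!
# `GU`, `SU` and their centres in terms of isometry groups
-/

set_option autoImplicit false
set_option linter.unusedSectionVars false

open Module Matrix

namespace CfsgLib.Classical

variable {F : Type*} [Field F] {σ : F →+* F} {n q : ℕ}

theorem hermForm_eq_stdHerm (hσ : ∀ x, σ x = x ^ q) (u v : Fin n → F) :
    Cfsg.hermForm n F q u v = stdHerm σ n v u := by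
  simp [Cfsg.hermForm, stdHerm_apply, hσ, mul_comm]

theorem mem_GU_iff (hσ : ∀ x, σ x = x ^ q) {g : GL (Fin n) F} :
    g ∈ Cfsg.GU n F q ↔ ∀ x y, stdHerm σ n ((g : Matrix (Fin n) (Fin n) F) *ᵥ x)
      ((g : Matrix (Fin n) (Fin n) F) *ᵥ y) = stdHerm σ n x y := by
  refine ⟨fun h x y => ?_, fun h u v => ?_⟩
  · rw [← hermForm_eq_stdHerm hσ, ← hermForm_eq_stdHerm hσ]
    exact h y x
  · change Cfsg.hermForm n F q _ _ = _
    rw [hermForm_eq_stdHerm hσ, hermForm_eq_stdHerm hσ]
    exact h v u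

/-- `GU` is the isometry group of the standard Hermitian form. -/
noncomputable def guEquiv (hσ : ∀ x, σ x = x ^ q) : Cfsg.GU n F q ≃* isomGroup (stdHerm σ n) where
  toFun g := ⟨(GeneralLinearGroup.toLin g.1).toLinearEquiv, fun x y => (mem_GU_iff hσ).1 g.2 x y⟩
  invFun g := ⟨linToGL g.1, (mem_GU_iff hσ).2 fun x y => by
    rw [linToGL_mulVec, linToGL_mulVec]
    exact g.2 x y⟩
  left_inv g := Subtype.ext (Units.ext (LinearMap.toMatrix'_toLin' _))
  right_inv g := Subtype.ext (LinearEquiv.ext fun x => linToGL_mulVec g.1 x)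
  map_mul' a b := Subtype.ext (LinearEquiv.ext fun x => by
    change ((a.1 * b.1 : GL (Fin n) F) : Matrix (Fin n) (Fin n) F) *ᵥ x = _
    rw [Units.val_mul, ← Matrix.mulVec_mulVec]
    rfl)

theorem guEquiv_apply (hσ : ∀ x, σ x = x ^ q) (g : Cfsg.GU n F q) (x : Fin n → F) :
    (guEquiv hσ g).1 x = (g.1 : Matrix (Fin n) (Fin n) F) *ᵥ x := rfl

theorem card_GU [Fintype F] (hF : Fintype.card F = q ^ 2) (n : ℕ) :
    Nat.card (Cfsg.GU n F q) = q ^ (n * (n - 1) / 2) *
      ∏ i ∈ Finset.range n, (if Even i then q ^ (i + 1) + 1 else q ^ (i + 1) - 1) := by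
  obtain ⟨σ, hσ, hc⟩ := exists_frob hF
  rw [Nat.card_congr (guEquiv hσ).toEquiv,
    card_isom_herm_closed hF hσ (stdHerm_isHermitian hc n) (stdHerm_sepRight n), Module.finrank_fin_fun]

theorem GU_det_norm (hσ : ∀ x, σ x = x ^ q) {g : GL (Fin n) F} (hg : g ∈ Cfsg.GU n F q) :
    (g : Matrix (Fin n) (Fin n) F).det * σ (g : Matrix (Fin n) (Fin n) F).det = 1 := by
  set M := (g : Matrix (Fin n) (Fin n) F)
  have h : (M.map σ)ᵀ * M = 1 := by
    ext i j
    have h := (mem_GU_iff hσ).1 hg (Pi.single i 1) (Pi.single j 1)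
    rw [stdHerm_single] at h
    simp only [stdHerm_apply, mulVec_single, MulOpposite.op_one, one_smul] at h
    rw [mul_apply, one_apply]
    simpa [Pi.single_apply, M] using h
  have h' := congrArg Matrix.det h
  rw [det_mul, det_transpose, det_one, ← RingHom.mapMatrix_apply, ← RingHom.map_det] at h'
  rw [mul_comm]
  exact h'

/-- The determinant of unitary matrices, valued in the elements of norm one. -/
def guDet (hσ : ∀ x, σ x = x ^ q) : Cfsg.GU n F q →* (normHom σ).ker :=
  ((GeneralLinearGroup.det).comp (Cfsg.GU n F q).subtype).codRestrict _ fun g =>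
    MonoidHom.mem_ker.2 (Units.ext (GU_det_norm hσ g.2))

theorem guDet_eq_one_iff (hσ : ∀ x, σ x = x ^ q) (g : Cfsg.GU n F q) :
    guDet hσ g = 1 ↔ GeneralLinearGroup.det g.1 = 1 :=
  ⟨fun h => congrArg Subtype.val h, fun h => Subtype.ext h⟩

/-- Diagonal matrices as invertible matrices. -/
def diagGL (d : Fin n → Fˣ) : GL (Fin n) F where
  val := diagonal fun i => (d i : F)
  inv := diagonal fun i => ((d i)⁻¹ : Fˣ)
  val_inv := by rw [diagonal_mul_diagonal]; simp
  inv_val := by rw [diagonal_mul_diagonal]; simp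

theorem diagGL_mem_GU (hσ : ∀ x, σ x = x ^ q) (d : Fin n → Fˣ) (hd : ∀ i, d i ∈ (normHom σ).ker) :
    diagGL d ∈ Cfsg.GU n F q := by
  refine (mem_GU_iff hσ).2 fun x y => ?_
  simp only [stdHerm_apply, diagGL, mulVec_diagonal, map_mul]
  refine Finset.sum_congr rfl fun i _ => ?_
  have h : (d i : F) * σ (d i) = 1 := congrArg Units.val (MonoidHom.mem_ker.1 (hd i))
  linear_combination (σ (x i) * y i) * h

theorem diagGL_det (d : Fin n → Fˣ) : GeneralLinearGroup.det (diagGL d) = ∏ i, d i :=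
  Units.ext (by simp [diagGL, det_diagonal, Units.coe_prod])

theorem guDet_surjective (hσ : ∀ x, σ x = x ^ q) (hn : 1 ≤ n) : Function.Surjective (guDet (n := n) hσ) := by
  intro c
  let d : Fin n → Fˣ := Function.update 1 (⟨0, hn⟩ : Fin n) (c : Fˣ)
  refine ⟨⟨diagGL d, diagGL_mem_GU hσ d fun i => ?_⟩, Subtype.ext ?_⟩
  · rcases eq_or_ne i ⟨0, hn⟩ with rfl | hi
    · simp [d]
    · simp [d, hi]
  · change GeneralLinearGroup.det (diagGL d) = _
    rw [diagGL_det, Finset.prod_update_of_mem (Finset.mem_univ _)]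
    simp

/-- `SU` inside `GU`. -/
def suToGU (n : ℕ) (F : Type*) [Field F] (q : ℕ) : Cfsg.SU n F q →* Cfsg.GU n F q :=
  ((SpecialLinearGroup.toGL).comp (Cfsg.SU n F q).subtype).codRestrict _ fun A => A.2

theorem suToGU_injective : Function.Injective (suToGU n F q) := fun A B h =>
  Subtype.ext (Subtype.ext (congrArg (fun g : Cfsg.GU n F q => (g.1 : Matrix (Fin n) (Fin n) F)) h))

theorem suToGU_range (hσ : ∀ x, σ x = x ^ q) : (suToGU n F q).range = (guDet hσ).ker := by
  ext g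
  rw [MonoidHom.mem_ker, guDet_eq_one_iff]
  constructor
  · rintro ⟨A, rfl⟩
    exact Units.ext A.1.2
  · intro hg
    exact ⟨⟨⟨(g.1 : Matrix (Fin n) (Fin n) F), congrArg Units.val hg⟩, g.2⟩, Subtype.ext (Units.ext rfl)⟩

theorem card_SU_mul [Fintype F] (hF : Fintype.card F = q ^ 2) (hn : 1 ≤ n) :
    (q + 1) * Nat.card (Cfsg.SU n F q) = Nat.card (Cfsg.GU n F q) := by
  obtain ⟨σ, hσ, hc⟩ := exists_frob hF
  rw [Nat.card_congr (MonoidHom.ofInjective (suToGU_injective (n := n) (F := F) (q := q))).toEquiv,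
    suToGU_range hσ, ← (frob_cards hF hσ hc).2, ← Subgroup.card_mul_index (guDet (n := n) hσ).ker,
    Subgroup.index_ker, MonoidHom.range_eq_top.2 (guDet_surjective hσ hn), Subgroup.card_top, mul_comm]

/-- A matrix commuting with all of `SU` is scalar. -/
theorem scalar_of_commute [Fintype F] (hF : Fintype.card F = q ^ 2) (hn : 2 ≤ n) (M : Matrix (Fin n) (Fin n) F)
    (h : ∀ g ∈ Cfsg.GU n F q, GeneralLinearGroup.det g = 1 →
      M * (g : Matrix (Fin n) (Fin n) F) = (g : Matrix (Fin n) (Fin n) F) * M) :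
    ∃ c : F, M = c • 1 := by
  classical
  obtain ⟨σ, hσ, hc⟩ := exists_frob hF
  have hq := two_le_of_card_sq hF
  obtain ⟨l, hl⟩ : ∃ l : (normHom σ).ker, ((l : Fˣ) : F) ≠ (((l : Fˣ)⁻¹ : Fˣ) : F) := by
    by_contra! hall
    have : Nat.card (normHom σ).ker ≤ 2 := card_roots_pow_le 2 two_pos _ fun u hu => by
      have he : u = u⁻¹ := Units.ext (hall ⟨u, hu⟩)
      rw [pow_two]
      nth_rw 2 [he]
      exact mul_inv_cancel u
    rw [(frob_cards hF hσ hc).2] at this
    omega
  have hoff : ∀ i j, i ≠ j → M i j = 0 := by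
    intro i j hij
    let d : Fin n → Fˣ := fun k => if k = i then (l : Fˣ) else if k = j then (l : Fˣ)⁻¹ else 1
    have hd : ∀ k, d k ∈ (normHom σ).ker := fun k => by
      simp only [d]
      split_ifs
      · exact l.2
      · exact inv_mem l.2
      · exact one_mem _
    have hdet : GeneralLinearGroup.det (diagGL d) = 1 := by
      rw [diagGL_det, ← Finset.mul_prod_erase Finset.univ d (Finset.mem_univ i),
        ← Finset.mul_prod_erase (Finset.univ.erase i) d (Finset.mem_erase.2 ⟨hij.symm, Finset.mem_univ j⟩),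
        Finset.prod_eq_one fun k hk => ?_, mul_one]
      · simp [d, hij.symm]
      · simp only [Finset.mem_erase] at hk
        simp [d, hk.1, hk.2.1]
    have e := congrFun (congrFun (h _ (diagGL_mem_GU hσ d hd) hdet) i) j
    simp only [diagGL, mul_diagonal, diagonal_mul, d, if_true, if_neg hij.symm] at e
    have : M i j * ((((l : Fˣ)⁻¹ : Fˣ) : F) - ((l : Fˣ) : F)) = 0 := by linear_combination e
    exact (mul_eq_zero.1 this).resolve_right (sub_ne_zero.2 hl.symm)
  have hdiag : ∀ i j, M i i = M j j := by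
    intro i j
    rcases eq_or_ne i j with rfl | hij
    · rfl
    let P : Matrix (Fin n) (Fin n) F :=
      diagonal (Function.update 1 i (-1)) * (Equiv.swap i j).permMatrix F
    have hPdet : P.det = 1 := by
      simp [P, det_diagonal, det_permutation, Finset.prod_update_of_mem, Equiv.Perm.sign_swap hij]
    let g : GL (Fin n) F := GeneralLinearGroup.mk'' P (by rw [hPdet]; exact isUnit_one)
    have hgu : g ∈ Cfsg.GU n F q := by
      refine (mem_GU_iff hσ).2 fun x y => ?_
      change stdHerm σ n (P *ᵥ x) (P *ᵥ y) = _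
      simp only [P, ← mulVec_mulVec, permMatrix_mulVec, stdHerm_apply, mulVec_diagonal, map_mul]
      refine Eq.trans (Finset.sum_congr rfl fun k _ => ?_) (Equiv.sum_comp (Equiv.swap i j) fun k => σ (x k) * y k)
      rcases eq_or_ne k i with rfl | hk
      · simp
      · simp [hk]
    have e := congrFun (congrFun (h g hgu (Units.ext hPdet)) i) j
    change (M * P) i j = (P * M) i j at e
    rw [mul_apply, mul_apply, Finset.sum_eq_single i (fun k _ hk => by rw [hoff i k hk.symm, zero_mul]) (by simp),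
      Finset.sum_eq_single j (fun k _ hk => by rw [hoff k j hk, mul_zero]) (by simp)] at e
    have hPij : P i j = -1 := by
      simp [P, diagonal_mul, Equiv.Perm.permMatrix, PEquiv.toMatrix_apply, Equiv.swap_apply_left]
    rw [hPij] at e
    linear_combination -e
  refine ⟨M ⟨0, by omega⟩ ⟨0, by omega⟩, Matrix.ext fun i j => ?_⟩
  rcases eq_or_ne i j with rfl | hij
  · simp [hdiag i ⟨0, by omega⟩]
  · simp [hij, hoff i j hij]

theorem gu_center_scalar [Fintype F] (hF : Fintype.card F = q ^ 2) (hn : 2 ≤ n) {g : Cfsg.GU n F q}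
    (hg : g ∈ Subgroup.center (Cfsg.GU n F q)) :
    ∃ c : F, (g.1 : Matrix (Fin n) (Fin n) F) = c • 1 :=
  scalar_of_commute hF hn _ fun x hx _ =>
    congrArg (fun y : Cfsg.GU n F q => (y.1 : Matrix (Fin n) (Fin n) F))
      (Subgroup.mem_center_iff.1 hg ⟨x, hx⟩).symm

theorem card_pow_eq_one_units [Fintype F] {d : ℕ} (hd : d ∣ Fintype.card F - 1) :
    Nat.card {c : Fˣ // c ^ d = 1} = d := by
  classical
  have hd' : d ∣ Nat.card Fˣ := by rwa [Nat.card_units, Nat.card_eq_fintype_card]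
  have h := IsCyclic.card_powMonoidHom_ker (G := Fˣ) d
  rw [Nat.gcd_eq_right hd'] at h
  exact h

theorem card_center_SU [Fintype F] (hF : Fintype.card F = q ^ 2) (hn : 2 ≤ n) :
    Nat.card (Subgroup.center (Cfsg.SU n F q)) = Nat.gcd n (q + 1) := by
  obtain ⟨σ, hσ, hc⟩ := exists_frob hF
  have : Fact (Even 2) := ⟨even_two⟩
  have hdvd : Nat.gcd n (q + 1) ∣ Fintype.card F - 1 := by
    rw [hF]
    exact (Nat.gcd_dvd_right _ _).trans ⟨q - 1, by
      obtain ⟨r, rfl⟩ : ∃ r, q = r + 1 := ⟨q - 1, by have := two_le_of_card_sq hF; omega⟩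
      rw [Nat.add_sub_cancel, pow_two]; ring_nf; omega⟩
  rw [← card_pow_eq_one_units hdvd]
  refine (Nat.card_congr (Equiv.ofBijective
    (fun c : {c : Fˣ // c ^ Nat.gcd n (q + 1) = 1} => (⟨⟨⟨(c.1 : F) • 1, ?_⟩, ?_⟩, ?_⟩ :
      Subgroup.center (Cfsg.SU n F q))) ⟨?_, ?_⟩)).symm
  · have h1 : c.1 ^ n = 1 := by
      obtain ⟨k, hk⟩ := Nat.gcd_dvd_left n (q + 1)
      exact (congrArg (c.1 ^ ·) hk).trans (by simp only [pow_mul, c.2, one_pow])
    rw [det_smul, det_one, Fintype.card_fin, mul_one, ← Units.val_pow_eq_pow_val, h1, Units.val_one]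
  · have h1 : (c.1 : F) * σ c.1 = 1 := by
      obtain ⟨k, hk⟩ := Nat.gcd_dvd_right n (q + 1)
      have e : c.1 ^ (q + 1) = 1 := (congrArg (c.1 ^ ·) hk).trans (by simp only [pow_mul, c.2, one_pow])
      rw [hσ, ← pow_succ', ← Units.val_pow_eq_pow_val, e, Units.val_one]
    intro u v
    change Cfsg.hermForm n F q (((c.1 : F) • (1 : Matrix (Fin n) (Fin n) F)) *ᵥ u)
      (((c.1 : F) • (1 : Matrix (Fin n) (Fin n) F)) *ᵥ v) = _
    rw [hermForm_eq_stdHerm hσ, hermForm_eq_stdHerm hσ, smul_mulVec, smul_mulVec, one_mulVec, one_mulVec,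
      map_smul, map_smulₛₗ, LinearMap.smul_apply, smul_eq_mul, smul_eq_mul, ← mul_assoc, h1, one_mul]
  · refine Subgroup.mem_center_iff.2 fun A => Subtype.ext (Subtype.ext ?_)
    change (A.1 : Matrix (Fin n) (Fin n) F) * ((c.1 : F) • 1) = ((c.1 : F) • 1) * (A.1 : Matrix (Fin n) (Fin n) F)
    simp
  · intro a b hab
    have e := congrArg (fun A : Subgroup.center (Cfsg.SU n F q) =>
      (A.1.1 : Matrix (Fin n) (Fin n) F) ⟨0, by omega⟩ ⟨0, by omega⟩) hab
    simp only [Matrix.smul_apply, one_apply_eq, smul_eq_mul, mul_one] at e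
    exact Subtype.ext (Units.ext e)
  · rintro ⟨A, hA⟩
    obtain ⟨c, hc'⟩ := scalar_of_commute hF hn (A.1 : Matrix (Fin n) (Fin n) F) fun g hg hg1 =>
      congrArg (fun B : Cfsg.SU n F q => (B.1 : Matrix (Fin n) (Fin n) F))
        (Subgroup.mem_center_iff.1 hA ⟨⟨(g : Matrix (Fin n) (Fin n) F), congrArg Units.val hg1⟩, hg⟩).symm
    have hcn : c ^ n = 1 := by
      have := A.1.2
      rwa [hc', det_smul, det_one, Fintype.card_fin, mul_one] at this
    have hc0 : c ≠ 0 := fun e => by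
      rw [e, zero_pow (by omega)] at hcn
      exact zero_ne_one hcn
    have hcs : c ^ (q + 1) = 1 := by
      have h := (mem_GU_iff hσ (g := SpecialLinearGroup.toGL A.1)).1 A.2
        (Pi.single (⟨0, by omega⟩ : Fin n) 1) (Pi.single (⟨0, by omega⟩ : Fin n) 1)
      change stdHerm σ n ((A.1 : Matrix (Fin n) (Fin n) F) *ᵥ _) ((A.1 : Matrix (Fin n) (Fin n) F) *ᵥ _) = _ at h
      rw [hc', smul_mulVec, one_mulVec, map_smul, map_smulₛₗ, LinearMap.smul_apply, stdHerm_single,
        Pi.single_eq_same, smul_eq_mul, smul_eq_mul, mul_one, hσ] at h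
      rw [pow_succ']
      exact h
    have hu : Units.mk0 c hc0 ^ Nat.gcd n (q + 1) = 1 :=
      pow_gcd_eq_one.2 ⟨Units.ext hcn, Units.ext hcs⟩
    exact ⟨⟨Units.mk0 c hc0, hu⟩, Subtype.ext (Subtype.ext (Subtype.ext hc'.symm))⟩

end CfsgLib.Classical
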