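import Cfsg.Agent.Lib.Classical.SympWitt

/-!
# Perfectness, primitivity on points and simplicity modulo the centre for alternating forms
-/

set_option autoImplicit false
set_option linter.unusedSectionVars false

open Module MulAction
open scoped Pointwise commutatorElement LinearAlgebra.Projectivization

namespace CfsgLib.Classical

variable {F : Type*} [Field F] {V : Type*} [AddCommGroup V] [Module F V] [FiniteDimensional F V]
  {B : V →ₗ[F] V →ₗ[F] F}

/-- An isometry moves any independent, pairwise orthogonal family to any other. -/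
theorem witt_family (hA : B.IsAlt) (hN : B.Nondegenerate) {k : ℕ} {a b : Fin k → V}
    (ha : LinearIndependent F a) (hb : LinearIndependent F b)
    (hoa : ∀ i j, B (a i) (a j) = 0) (hob : ∀ i j, B (b i) (b j) = 0) :
    ∃ g : isomGroup B, ∀ i, g.1 (a i) = b i := by
  let e : Submodule.span F (Set.range a) ≃ₗ[F] Submodule.span F (Set.range b) :=
    (Module.Basis.span ha).equiv (Module.Basis.span hb) (Equiv.refl _)
  let φ := (Submodule.span F (Set.range b)).subtype.comp e.toLinearMap
  have hinj : Function.Injective φ := (Submodule.injective_subtype _).comp e.injective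
  have hφ : ∀ i, φ (Module.Basis.span ha i) = b i := fun i => by
    change ((e (Module.Basis.span ha i)) : V) = b i
    rw [Module.Basis.equiv_apply, Equiv.refl_apply, Module.Basis.span_apply]
  have hform : B.compl₁₂ φ φ = B.compl₁₂ (Submodule.span F (Set.range a)).subtype
      (Submodule.span F (Set.range a)).subtype := by
    refine LinearMap.ext_basis (Module.Basis.span ha) (Module.Basis.span ha) fun i j => ?_
    rw [LinearMap.compl₁₂_apply, LinearMap.compl₁₂_apply, hφ, hφ, hob]
    simp only [Submodule.coe_subtype, Module.Basis.span_apply, hoa]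
  obtain ⟨g, hg⟩ := witt_alt hA hN _ φ hinj fun x y => LinearMap.congr_fun₂ hform x y
  refine ⟨g, fun i => ?_⟩
  have := hg (Module.Basis.span ha i)
  rwa [hφ, Module.Basis.span_apply] at this

/-- The element `x ↦ x + c (B x u • v + B x v • u)` for orthogonal `u, v`. -/
def sv (hA : B.IsAlt) (u v : V) (c : F) : isomGroup B :=
  tv hA (u + v) c * tv hA u (-c) * tv hA v (-c)

theorem sv_apply (hA : B.IsAlt) {u v : V} (h : B u v = 0) (c : F) (x : V) :
    (sv hA u v c).1 x = x + c • (B x u • v + B x v • u) := by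
  have h' : B v u = 0 := hA.isRefl _ _ h
  simp only [sv, Subgroup.coe_mul, LinearEquiv.mul_apply, tv_apply, map_add, map_smul,
    LinearMap.add_apply, LinearMap.smul_apply, smul_eq_mul, h, h', hA u, hA v, mul_zero, add_zero]
  module

theorem conj_sv (hA : B.IsAlt) (g : isomGroup B) (u v : V) (c : F) :
    g * sv hA u v c * g⁻¹ = sv hA (g.1 u) (g.1 v) c := by
  rw [show g * sv hA u v c * g⁻¹ = (g * tv hA (u + v) c * g⁻¹) * (g * tv hA u (-c) * g⁻¹) *
    (g * tv hA v (-c) * g⁻¹) by simp only [sv]; group, conj_tv, conj_tv, conj_tv, map_add, sv]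

theorem sv_mul_add (hA : B.IsAlt) {u v w : V} (h : B u v = 0) (h' : B u w = 0) (hvw : B v w = 0)
    (c : F) : sv hA u v c * sv hA u w c = sv hA u (v + w) c := by
  refine Subtype.ext (LinearEquiv.ext fun x => ?_)
  have hwu : B w u = 0 := hA.isRefl _ _ h'
  have hwv : B w v = 0 := hA.isRefl _ _ hvw
  simp only [Subgroup.coe_mul, LinearEquiv.mul_apply, sv_apply hA h, sv_apply hA h',
    sv_apply hA (show B u (v + w) = 0 by simp [h, h']), map_add, map_smul, LinearMap.add_apply,
    LinearMap.smul_apply, smul_eq_mul, h, hwv, hwu, hA u, mul_zero, add_zero]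
  module

theorem sv_neg_mul (hA : B.IsAlt) {u v : V} (h : B u v = 0) (c : F) :
    sv hA u (-v) c * sv hA u v (-c) = sv hA u v (-(2 * c)) := by
  refine Subtype.ext (LinearEquiv.ext fun x => ?_)
  have hvu : B v u = 0 := hA.isRefl _ _ h
  simp only [Subgroup.coe_mul, LinearEquiv.mul_apply, sv_apply hA h,
    sv_apply hA (show B u (-v) = 0 by simp [h]), map_add, map_smul, map_neg, LinearMap.add_apply,
    LinearMap.smul_apply, smul_eq_mul, h, hvu, hA u, hA v, mul_zero, add_zero]
  module

theorem sv_inv (hA : B.IsAlt) {u v : V} (h : B u v = 0) (c : F) :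
    (sv hA u v c)⁻¹ = sv hA u v (-c) := by
  rw [inv_eq_iff_mul_eq_one]
  refine Subtype.ext (LinearEquiv.ext fun x => ?_)
  have hvu : B v u = 0 := hA.isRefl _ _ h
  simp only [Subgroup.coe_mul, LinearEquiv.mul_apply, sv_apply hA h, OneMemClass.coe_one,
    LinearEquiv.coe_one, id_eq, map_add, map_smul, LinearMap.add_apply, LinearMap.smul_apply,
    smul_eq_mul, h, hvu, hA u, hA v, mul_zero, add_zero]
  module

theorem tv_inv (hA : B.IsAlt) (v : V) (c : F) : (tv hA v c)⁻¹ = tv hA v (-c) := by
  rw [inv_eq_iff_mul_eq_one, tv_mul, add_neg_cancel, tv_zero]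

theorem conj_mul_inv_mem_commutator {G : Type*} [Group G] (g x : G) :
    g * x * g⁻¹ * x⁻¹ ∈ commutator G := by
  rw [← commutatorElement_def]
  exact Subgroup.commutator_mem_commutator (Subgroup.mem_top g) (Subgroup.mem_top x)

/-- All transvections lie in the commutator subgroup as soon as those along one vector do. -/
theorem isom_commutator_eq_top_of (hA : B.IsAlt) (hN : B.Nondegenerate) {u : V} (hu : u ≠ 0)
    (h : ∀ c, tv hA u c ∈ commutator (isomGroup B)) : commutator (isomGroup B) = ⊤ := by
  rw [eq_top_iff, ← tvGroup_eq_top hA hN]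
  refine (Subgroup.closure_le _).2 ?_
  rintro _ ⟨w, c, rfl⟩
  by_cases hw : w = 0
  · subst hw
    rw [show tv hA (0 : V) c = 1 from Subtype.ext (LinearEquiv.ext fun x => by simp)]
    exact one_mem _
  obtain ⟨g, -, hg⟩ := tv_transitive hA hN.1 hu hw
  have hn : (commutator (isomGroup B)).Normal := inferInstance
  have := hn.conj_mem _ (h c) g
  rwa [conj_tv, hg] at this

theorem isom_perfect_of_four (hA : B.IsAlt) (hN : B.Nondegenerate) {u : V} (hu : u ≠ 0) {a : F}
    (ha : a ≠ 0) (ha2 : a ^ 2 ≠ 1) : commutator (isomGroup B) = ⊤ := by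
  refine isom_commutator_eq_top_of hA hN hu fun c => ?_
  obtain ⟨g, -, hg⟩ := tv_transitive hA hN.1 hu (smul_ne_zero ha hu)
  have h := conj_mul_inv_mem_commutator g (tv hA u (c / (a * a - 1)))
  rw [conj_tv, hg, tv_smul, tv_inv, tv_mul] at h
  have hne : a * a - 1 ≠ 0 := sub_ne_zero_of_ne (by rwa [← pow_two])
  convert h using 2
  field_simp
  ring

/-- In the presence of an isotropic pair, transvections are products of commutators and a Siegel map. -/
theorem tv_mul_sv_mem (hA : B.IsAlt) (hN : B.Nondegenerate) {u v : V}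
    (hi : LinearIndependent F ![u, v]) (h : B u v = 0) (c : F) :
    tv hA u c * sv hA u v c ∈ commutator (isomGroup B) := by
  have hvu : B v u = 0 := hA.isRefl _ _ h
  have hi' : LinearIndependent F ![u, u + v] := by
    rw [LinearIndependent.pair_iff] at hi ⊢
    intro s t hst
    obtain ⟨h1, h2⟩ := hi (s + t) t (by rw [← hst]; module)
    subst h2
    simpa using h1
  obtain ⟨g, hg⟩ := witt_family hA hN hi hi'
    (fun i j => by fin_cases i <;> fin_cases j <;> simp [h, hvu, hA u, hA v])
    (fun i j => by fin_cases i <;> fin_cases j <;> simp [h, hvu, hA u, hA v])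
  have hg0 : g.1 u = u := hg 0
  have hg1 : g.1 v = u + v := hg 1
  have hm := conj_mul_inv_mem_commutator g (tv hA v c)
  rw [conj_tv, hg1, tv_inv] at hm
  have e : tv hA u c * sv hA u v c = tv hA (u + v) c * tv hA v (-c) := by
    refine Subtype.ext (LinearEquiv.ext fun x => ?_)
    simp only [Subgroup.coe_mul, LinearEquiv.mul_apply, tv_apply, sv_apply hA h, map_add, map_smul,
      LinearMap.add_apply, LinearMap.smul_apply, smul_eq_mul, h, hvu, hA u, hA v, mul_zero, add_zero]
    module
  rwa [e]

theorem isom_perfect_of_two_ne_zero (hA : B.IsAlt) (hN : B.Nondegenerate) (h2 : (2 : F) ≠ 0)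
    {u v : V} (hi : LinearIndependent F ![u, v]) (h : B u v = 0) :
    commutator (isomGroup B) = ⊤ := by
  have hvu : B v u = 0 := hA.isRefl _ _ h
  refine isom_commutator_eq_top_of hA hN (hi.ne_zero 0) fun c => ?_
  have hi' : LinearIndependent F ![u, -v] := by
    rw [LinearIndependent.pair_iff] at hi ⊢
    intro s t hst
    obtain ⟨h1, h2⟩ := hi s (-t) (by rw [← hst]; module)
    exact ⟨h1, by simpa using h2⟩
  obtain ⟨g, hg⟩ := witt_family hA hN hi hi'
    (fun i j => by fin_cases i <;> fin_cases j <;> simp [h, hvu, hA u, hA v])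
    (fun i j => by fin_cases i <;> fin_cases j <;> simp [h, hvu, hA u, hA v])
  have hg0 : g.1 u = u := hg 0
  have hg1 : g.1 v = -v := hg 1
  have hm := conj_mul_inv_mem_commutator g (sv hA u v (-c / 2))
  rw [conj_sv, hg0, hg1, sv_inv hA h, sv_neg_mul hA h] at hm
  have hs : sv hA u v c ∈ commutator (isomGroup B) := by
    rwa [show -(2 * (-c / 2)) = c by field_simp] at hm
  simpa using mul_mem (tv_mul_sv_mem hA hN hi h c) (inv_mem hs)

theorem isom_perfect_of_three (hA : B.IsAlt) (hN : B.Nondegenerate)
    {u v w : V} (hi : LinearIndependent F ![u, v, w]) (huv : B u v = 0) (huw : B u w = 0)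
    (hvw : B v w = 0) : commutator (isomGroup B) = ⊤ := by
  have hvu : B v u = 0 := hA.isRefl _ _ huv
  have hwu : B w u = 0 := hA.isRefl _ _ huw
  have hwv : B w v = 0 := hA.isRefl _ _ hvw
  refine isom_commutator_eq_top_of hA hN (hi.ne_zero 0) fun c => ?_
  have hiuv : LinearIndependent F ![u, v] := by
    have := hi.comp ![0, 1] (by decide)
    convert this using 1
    ext i; fin_cases i <;> rfl
  have hiuw : LinearIndependent F ![u, w] := by
    have := hi.comp ![0, 2] (by decide)
    convert this using 1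
    ext i; fin_cases i <;> rfl
  have hi' : LinearIndependent F ![u, v + w] := by
    rw [Fintype.linearIndependent_iff] at hi
    rw [LinearIndependent.pair_iff]
    intro s t hst
    have := hi ![s, t, t] (by rw [← hst]; simp [Fin.sum_univ_three]; module)
    exact ⟨this 0, this 1⟩
  obtain ⟨g, hg⟩ := witt_family hA hN hiuw hi'
    (fun i j => by fin_cases i <;> fin_cases j <;> simp [huw, hwu, hA u, hA w])
    (fun i j => by fin_cases i <;> fin_cases j <;> simp [huv, huw, hvu, hwu, hvw, hwv, hA u, hA v, hA w])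
  have hg0 : g.1 u = u := hg 0
  have hg1 : g.1 w = v + w := hg 1
  have hm := conj_mul_inv_mem_commutator g (sv hA u w c)
  rw [conj_sv, hg0, hg1, ← sv_mul_add hA huv huw hvw, mul_inv_cancel_right] at hm
  simpa using mul_mem (tv_mul_sv_mem hA hN hiuv huv c) (inv_mem hm)

section Points

theorem isom_smul_mk (g : isomGroup B) {v : V} (hv : v ≠ 0) :
    g • Projectivization.mk F v hv = Projectivization.mk F (g.1 v) (by simpa using hv) := rfl

theorem isom_pretransitive (hA : B.IsAlt) (hN : B.Nondegenerate) :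
    IsPretransitive (isomGroup B) (ℙ F V) := by
  constructor
  intro p q
  induction p using Projectivization.ind with | h a ha => ?_
  induction q using Projectivization.ind with | h b hb => ?_
  obtain ⟨g, -, hg⟩ := tv_transitive hA hN.1 ha hb
  exact ⟨g, by simp [isom_smul_mk, hg]⟩

theorem mk_mem_block_of_nonorth (hA : B.IsAlt) (hN : B.Nondegenerate) {S : Set (ℙ F V)}
    (hS : IsBlock (isomGroup B) S) {u w z : V} (hu : u ≠ 0) (hw : w ≠ 0) (hz : z ≠ 0)
    (huS : Projectivization.mk F u hu ∈ S) (hwS : Projectivization.mk F w hw ∈ S)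
    (huw : B u w ≠ 0) (huz : B u z ≠ 0) : Projectivization.mk F z hz ∈ S := by
  obtain ⟨g, -, hg0, hg1⟩ := tv_transitive_pairs hA hN.1 (u := u) (v := (B u w)⁻¹ • w) (u' := u)
    (v' := (B u z)⁻¹ • z) (by simp [huw]) (by simp [huz])
  have hgu : g • Projectivization.mk F u hu = Projectivization.mk F u hu := by
    simp [isom_smul_mk, hg0]
  have hgS : g • S = S := hS.smul_eq_of_nonempty ⟨_, ⟨_, huS, hgu⟩, huS⟩
  rw [← hgS]
  refine ⟨_, hwS, ?_⟩
  change g • Projectivization.mk F w hw = _
  rw [isom_smul_mk, Projectivization.mk_eq_mk_iff']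
  refine ⟨B u w * (B u z)⁻¹, ?_⟩
  rw [map_smul] at hg1
  rw [mul_smul, ← hg1, smul_smul, mul_inv_cancel₀ huw, one_smul]

theorem mk_mem_block_of_orth (hA : B.IsAlt) (hN : B.Nondegenerate) {S : Set (ℙ F V)}
    (hS : IsBlock (isomGroup B) S) {u w z : V} (hu : u ≠ 0) (hw : w ≠ 0) (hz : z ≠ 0)
    (huS : Projectivization.mk F u hu ∈ S) (hwS : Projectivization.mk F w hw ∈ S)
    (hiw : LinearIndependent F ![u, w]) (hiz : LinearIndependent F ![u, z])
    (huw : B u w = 0) (huz : B u z = 0) : Projectivization.mk F z hz ∈ S := by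
  have hwu : B w u = 0 := hA.isRefl _ _ huw
  have hzu : B z u = 0 := hA.isRefl _ _ huz
  obtain ⟨g, hg⟩ := witt_family hA hN hiw hiz
    (fun i j => by fin_cases i <;> fin_cases j <;> simp [huw, hwu, hA u, hA w])
    (fun i j => by fin_cases i <;> fin_cases j <;> simp [huz, hzu, hA u, hA z])
  have hg0 : g.1 u = u := hg 0
  have hg1 : g.1 w = z := hg 1
  have hgu : g • Projectivization.mk F u hu = Projectivization.mk F u hu := by
    simp [isom_smul_mk, hg0]
  have hgS : g • S = S := hS.smul_eq_of_nonempty ⟨_, ⟨_, huS, hgu⟩, huS⟩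
  rw [← hgS]
  exact ⟨_, hwS, by simp [isom_smul_mk, hg1]⟩

theorem indep_of_mk_ne {u w : V} (hu : u ≠ 0) (hw : w ≠ 0)
    (h : Projectivization.mk F u hu ≠ Projectivization.mk F w hw) :
    LinearIndependent F ![u, w] := by
  rw [LinearIndependent.pair_iff' hu]
  intro a ha
  exact h (Eq.symm ((Projectivization.mk_eq_mk_iff' _ _ _ _ _).2 ⟨a, ha⟩))

/-- The isometry group of a non-degenerate alternating form is primitive on points. -/
theorem isom_isPreprimitive (hA : B.IsAlt) (hN : B.Nondegenerate) :
    IsPreprimitive (isomGroup B) (ℙ F V) := by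
  have : IsPretransitive (isomGroup B) (ℙ F V) := isom_pretransitive hA hN
  refine ⟨fun {S} hS => ?_⟩
  by_cases hsub : S.Subsingleton
  · exact Or.inl hsub
  right
  obtain ⟨p, hp, q, hq, hpq⟩ := Set.not_subsingleton_iff.1 hsub
  induction p using Projectivization.ind with | h u hu => ?_
  induction q using Projectivization.ind with | h w hw => ?_
  refine Set.eq_univ_iff_forall.2 fun r => ?_
  induction r using Projectivization.ind with | h z hz => ?_
  by_cases hrp : Projectivization.mk F z hz = Projectivization.mk F u hu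
  · exact hrp ▸ hp
  have hiz := indep_of_mk_ne hu hz (Ne.symm hrp)
  by_cases huw : B u w = 0
  · have hiw := indep_of_mk_ne hu hw hpq
    by_cases huz : B u z = 0
    · exact mk_mem_block_of_orth hA hN hS hu hw hz hp hq hiw hiz huw huz
    -- `y` is orthogonal to both `u` and `z` and independent of `u`
    set y := w - (B z w / B z u) • u with hy
    have hzu : B z u ≠ 0 := fun h => huz (hA.isRefl _ _ h)
    have huy : B u y = 0 := by simp [hy, huw, hA u]
    have hzy : B z y = 0 := by simp [hy, hzu]
    have hiy : LinearIndependent F ![u, y] := by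
      rw [LinearIndependent.pair_iff] at hiw ⊢
      intro s t hst
      obtain ⟨h1, h2⟩ := hiw (s - t * (B z w / B z u)) t (by rw [← hst, hy]; module)
      subst h2
      simpa using h1
    have hy0 : y ≠ 0 := hiy.ne_zero 1
    have hyS := mk_mem_block_of_orth hA hN hS hu hw hy0 hp hq hiw hiy huw huy
    have hiyu : LinearIndependent F ![y, u] := LinearIndependent.pair_symm_iff.1 hiy
    refine mk_mem_block_of_orth hA hN hS hy0 hu hz hyS hp hiyu ?_ (hA.isRefl _ _ huy) (hA.isRefl _ _ hzy)
    refine indep_of_mk_ne hy0 hz fun h => huz ?_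
    obtain ⟨a, ha⟩ := (Projectivization.mk_eq_mk_iff' _ _ _ _ _).1 h.symm
    rw [← ha, map_smul, huy, smul_zero]
  · by_cases huz : B u z = 0
    · obtain ⟨y, hy1, hy2⟩ : ∃ y, B u y ≠ 0 ∧ B y z ≠ 0 := by
        obtain ⟨y₁, h₁⟩ := alt_exists_partner hN.1 hu
        obtain ⟨y₂, h₂⟩ := alt_exists_partner hN.1 hz
        by_cases h₁' : B y₁ z = 0
        · by_cases h₂' : B u y₂ = 0
          · refine ⟨y₁ + y₂, ?_, ?_⟩ <;> simp [h₁, h₂', h₁', alt_swap hA y₂ z, h₂]
          · exact ⟨y₂, h₂', by simp [alt_swap hA y₂ z, h₂]⟩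
        · exact ⟨y₁, by simp [h₁], h₁'⟩
      have hy0 : y ≠ 0 := by rintro rfl; simp at hy1
      have hyS := mk_mem_block_of_nonorth hA hN hS hu hw hy0 hp hq huw hy1
      exact mk_mem_block_of_nonorth hA hN hS hy0 hu hz hyS hp
        (fun h => hy1 (hA.isRefl _ _ h)) hy2
    · exact mk_mem_block_of_nonorth hA hN hS hu hw hz hp hq huw huz

/-- The one-parameter transvection group along `v`. -/
def tvHom (hA : B.IsAlt) (v : V) : Multiplicative F →* isomGroup B where
  toFun c := tv hA v c.toAdd
  map_one' := tv_zero hA v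
  map_mul' c d := (tv_mul hA v c.toAdd d.toAdd).symm

theorem tvHom_range_smul (hA : B.IsAlt) (v : V) {a : F} (ha : a ≠ 0) :
    (tvHom hA (a • v)).range = (tvHom hA v).range := by
  ext g
  constructor
  · rintro ⟨c, rfl⟩
    exact ⟨Multiplicative.ofAdd (a * a * c.toAdd), (tv_smul hA v a c.toAdd).symm⟩
  · rintro ⟨c, rfl⟩
    refine ⟨Multiplicative.ofAdd ((a * a)⁻¹ * c.toAdd), ?_⟩
    change tv hA (a • v) _ = tv hA v _
    rw [tv_smul]
    congr 1
    rw [toAdd_ofAdd]
    field_simp

theorem tvHom_range_rep (hA : B.IsAlt) {v : V} (hv : v ≠ 0) :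
    (tvHom hA (Projectivization.mk F v hv).rep).range = (tvHom hA v).range := by
  obtain ⟨a, ha⟩ := Projectivization.exists_smul_eq_mk_rep F v hv
  rw [← ha, Units.smul_def, tvHom_range_smul hA v a.ne_zero]

/-- The Iwasawa structure given by transvection groups. -/
noncomputable def isomIwasawa (hA : B.IsAlt) (hN : B.Nondegenerate) :
    IwasawaStructure (isomGroup B) (ℙ F V) where
  T p := (tvHom hA p.rep).range
  is_comm p := ⟨⟨by
    rintro ⟨_, c, rfl⟩ ⟨_, d, rfl⟩
    exact Subtype.ext ((map_mul (tvHom hA p.rep) c d).symm.trans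
      ((congrArg _ (mul_comm c d)).trans (map_mul _ d c)))⟩⟩
  is_conj g p := by
    induction p using Projectivization.ind with | h v hv => ?_
    rw [isom_smul_mk, tvHom_range_rep, tvHom_range_rep]
    ext h
    constructor
    · rintro ⟨c, rfl⟩
      exact ⟨tvHom hA v c, ⟨c, rfl⟩, conj_tv hA g v c.toAdd⟩
    · rintro ⟨_, ⟨c, rfl⟩, rfl⟩
      exact ⟨c, (conj_tv hA g v c.toAdd).symm⟩
  is_generator := by
    rw [eq_top_iff, ← tvGroup_eq_top hA hN]
    refine (Subgroup.closure_le _).2 ?_
    rintro _ ⟨w, c, rfl⟩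
    by_cases hw : w = 0
    · subst hw
      rw [show tv hA (0 : V) c = 1 from Subtype.ext (LinearEquiv.ext fun x => by simp)]
      exact one_mem _
    refine Subgroup.mem_iSup_of_mem (Projectivization.mk F w hw) ?_
    rw [tvHom_range_rep]
    exact ⟨Multiplicative.ofAdd c, rfl⟩

theorem mem_center_of_fix_points (hA : B.IsAlt) {g : isomGroup B}
    (hg : ∀ p : ℙ F V, g • p = p) : g ∈ Subgroup.center (isomGroup B) := by
  obtain ⟨a, ha⟩ := LinearMap.exists_eq_smul_id_of_forall_notLinearIndependent
    (f := (g.1 : V →ₗ[F] V)) fun v => by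
      by_cases hv : v = 0
      · subst hv
        rw [LinearIndependent.pair_iff]
        push Not
        exact ⟨1, 0, by simp, by simp⟩
      have := hg (Projectivization.mk F v hv)
      rw [isom_smul_mk, Projectivization.mk_eq_mk_iff'] at this
      obtain ⟨c, hc⟩ := this
      rw [LinearIndependent.pair_iff]
      push Not
      exact ⟨-c, 1, by simp [hc], by simp⟩
  have hga : ∀ x, g.1 x = a • x := fun x => by simpa using LinearMap.congr_fun ha x
  refine Subgroup.mem_center_iff.2 fun h => Subtype.ext (LinearEquiv.ext fun x => ?_)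
  simp [hga]

/-- In a perfect isometry group every normal subgroup is central or everything. -/
theorem isom_normal_le_center_or_top (hA : B.IsAlt) (hN : B.Nondegenerate)
    (hp : commutator (isomGroup B) = ⊤) (N : Subgroup (isomGroup B)) [N.Normal] :
    N ≤ Subgroup.center (isomGroup B) ∨ N = ⊤ := by
  have : IsPreprimitive (isomGroup B) (ℙ F V) := isom_isPreprimitive hA hN
  by_cases h : fixedPoints N (ℙ F V) = Set.univ
  · left
    intro g hg
    exact mem_center_of_fix_points hA fun p =>
      (h ▸ Set.mem_univ p : p ∈ fixedPoints N (ℙ F V)) ⟨g, hg⟩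
  · right
    exact top_le_iff.1 (hp ▸ (isomIwasawa hA hN).commutator_le N h)

end Points

/-- If every normal subgroup of a perfect non-trivial group is central or everything, the group
modulo its centre is simple. -/
theorem quotient_center_isSimpleGroup {G : Type*} [Group G] [Nontrivial G]
    (hp : commutator G = ⊤)
    (h : ∀ N : Subgroup G, N.Normal → N ≤ Subgroup.center G ∨ N = ⊤) :
    IsSimpleGroup (G ⧸ Subgroup.center G) := by
  have hc : Subgroup.center G ≠ ⊤ := by
    intro hc
    have hab : commutator G = ⊥ := by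
      rw [eq_bot_iff, commutator_def, Subgroup.commutator_le]
      intro a _ b _
      rw [Subgroup.mem_bot, commutatorElement_eq_one_iff_mul_comm]
      exact (Subgroup.mem_center_iff.1 (hc ▸ Subgroup.mem_top b : b ∈ Subgroup.center G) a)
    exact bot_ne_top (α := Subgroup G) (hab.symm.trans hp)
  have : Nontrivial (G ⧸ Subgroup.center G) := QuotientGroup.nontrivial_iff.2 hc
  refine ⟨fun H hH => ?_⟩
  rcases h (H.comap (QuotientGroup.mk' _)) inferInstance with h' | h'
  · left
    rw [eq_bot_iff]
    intro x hx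
    obtain ⟨y, rfl⟩ := QuotientGroup.mk'_surjective _ x
    exact (Subgroup.mem_bot).2 ((QuotientGroup.eq_one_iff y).2 (h' hx))
  · right
    rw [← Subgroup.map_comap_eq_self_of_surjective (QuotientGroup.mk'_surjective _) H, h',
      Subgroup.map_top_of_surjective _ (QuotientGroup.mk'_surjective _)]

end CfsgLib.Classical
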