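import Cfsg.Agent.Lib.Classical.HermGen
import Cfsg.Agent.Lib.Classical.SympSimple

/-!
# Primitivity on isotropic points and simplicity of the projective special unitary group
-/

set_option autoImplicit false
set_option linter.unusedSectionVars false

open Module MulAction
open scoped LinearAlgebra.Projectivization Pointwise

namespace CfsgLib.Classical

variable {F : Type*} [Field F] {V : Type*} [AddCommGroup V] [Module F V] {σ : F →+* F}
  {B : V →ₛₗ[σ] V →ₗ[F] F}

theorem self_smul_eq_zero {a : F} (ha : a ≠ 0) (v : V) : B (a • v) (a • v) = 0 ↔ B v v = 0 := by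
  rw [map_smul, map_smulₛₗ, LinearMap.smul_apply, smul_eq_mul, smul_eq_mul]
  simp [ha]

theorem iso_rep {v : V} (hv : v ≠ 0) :
    B (Projectivization.mk F v hv).rep (Projectivization.mk F v hv).rep = 0 ↔ B v v = 0 := by
  obtain ⟨a, ha⟩ := Projectivization.exists_smul_eq_mk_rep F v hv
  rw [← ha, Units.smul_def]
  exact self_smul_eq_zero a.ne_zero v

/-- The isotropic points. -/
abbrev IsoPts (B : V →ₛₗ[σ] V →ₗ[F] F) : Type _ := {p : ℙ F V // B p.rep p.rep = 0}

theorem sIsom_smul_mk (g : sIsom B) {v : V} (hv : v ≠ 0) :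
    g • Projectivization.mk F v hv = Projectivization.mk F (g.1.1 v) (by simpa using hv) := rfl

theorem smul_iso (g : sIsom B) {p : ℙ F V} (hp : B p.rep p.rep = 0) : B (g • p).rep (g • p).rep = 0 := by
  induction p using Projectivization.ind with | h v hv => ?_
  rw [sIsom_smul_mk, iso_rep]
  rw [iso_rep] at hp
  exact (g.1.2 v v).trans hp

noncomputable instance isoPtsAction : MulAction (sIsom B) (IsoPts B) where
  smul g p := ⟨g • p.1, smul_iso g p.2⟩
  one_smul p := Subtype.ext (one_smul _ p.1)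
  mul_smul g k p := Subtype.ext (mul_smul g k p.1)

/-- The isotropic point of a vector. -/
def isoPt (B : V →ₛₗ[σ] V →ₗ[F] F) {v : V} (hv : v ≠ 0) (h0 : B v v = 0) : IsoPts B :=
  ⟨Projectivization.mk F v hv, (iso_rep hv).2 h0⟩

theorem smul_isoPt_eq (g : sIsom B) {v w : V} (hv : v ≠ 0) (h0 : B v v = 0) (hw : w ≠ 0) (hw0 : B w w = 0) {a : F}
    (h : g.1.1 v = a • w) : g • isoPt B hv h0 = isoPt B hw hw0 := by
  refine Subtype.ext ?_
  change g • Projectivization.mk F v hv = Projectivization.mk F w hw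
  rw [sIsom_smul_mk, Projectivization.mk_eq_mk_iff']
  exact ⟨a, h.symm⟩

theorem isoPt_surjective (p : IsoPts B) : ∃ (v : V) (hv : v ≠ 0) (h0 : B v v = 0), p = isoPt B hv h0 :=
  ⟨p.1.rep, p.1.rep_nonzero, p.2, Subtype.ext (Projectivization.mk_rep p.1).symm⟩

theorem IsUTv.smul {g : isomGroup B} {v : V} {c : F} (h : IsUTv g v c) (hσ : ∀ a, σ (σ a) = a) {a : F}
    (ha : a ≠ 0) : IsUTv g (a • v) (c / (a * σ a)) := by
  have hσa : σ a ≠ 0 := fun e => ha (by rw [← hσ a, e, map_zero])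
  refine ⟨(self_smul_eq_zero ha v).2 h.1, ?_, fun x => ?_⟩
  · rw [map_div₀, map_mul, hσ, mul_comm (σ a), ← add_div, h.2.1, zero_div]
  · rw [h.2.2 x, map_smulₛₗ, LinearMap.smul_apply, smul_eq_mul, smul_smul]
    congr 2
    field_simp

theorem sIsom_normal : (sIsom B).Normal := MonoidHom.normal_ker _

/-- The transvections with a given centre inside the special group. -/
def tPoint (B : V →ₛₗ[σ] V →ₗ[F] F) {v : V} (h0 : B v v = 0) : Subgroup (sIsom B) where
  carrier := {g | ∃ c, IsUTv g.1 v c}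
  one_mem' := ⟨0, h0, by simp, fun x => by simp⟩
  mul_mem' := by
    rintro a b ⟨c, hc⟩ ⟨d, hd⟩
    refine ⟨c + d, h0, by rw [map_add]; linear_combination hc.2.1 + hd.2.1, fun x => ?_⟩
    change a.1.1 (b.1.1 x) = _
    rw [hd.2.2, hc.2.2, map_add, map_smul, h0, smul_zero, add_zero]
    module
  inv_mem' := by
    rintro a ⟨c, hc⟩
    refine ⟨-c, h0, by rw [map_neg]; linear_combination -hc.2.1, fun x => ?_⟩
    change a.1.1.symm x = _
    rw [LinearEquiv.symm_apply_eq, map_add, map_smul, hc.2.2, hc.2.2, h0]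
    module

namespace IsHermitian

variable [Finite F] [FiniteDimensional F V] (h : IsHermitian B)
include h

theorem exists_partner_orth (hN : B.SeparatingRight) {u z : V} (hu : B u u = 0) (huz : B u z = 0)
    (hmem : u ∉ Submodule.span F {z}) : ∃ u', B u' u' = 0 ∧ B u u' = 1 ∧ B z u' = 0 := by
  obtain ⟨φ, hφu, hφz⟩ := Submodule.exists_dual_map_eq_bot_of_notMem hmem inferInstance
  obtain ⟨y, hy⟩ := h.exists_form_eq hN φ
  have hyz : B z y = 0 := h.isRefl _ _ ((hy z).trans ((Submodule.eq_bot_iff _).1 hφz _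
    (Submodule.mem_map_of_mem (Submodule.mem_span_singleton_self z))))
  have hyu : B u y ≠ 0 := fun e => hφu ((hy u).symm.trans (h.isRefl _ _ e))
  set y' := (B u y)⁻¹ • y with hy'
  have huy' : B u y' = 1 := by rw [hy', map_smul, smul_eq_mul, inv_mul_cancel₀ hyu]
  obtain ⟨e, he⟩ := h.conj.exists_trace_eq (a := -B y' y') (by rw [map_neg, h.self_fixed])
  refine ⟨y' + e • u, ?_, ?_, ?_⟩
  · rw [h.add_self, h.smul_self e u, hu, map_smul (B y') e u, ← h.symm u y', huy', map_one, smul_eq_mul, mul_one, he]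
    ring
  · rw [map_add, map_smul (B u) e u, hu, huy', smul_zero, add_zero]
  · simp [hy', hyz, h.isRefl _ _ huz]

theorem fix_det (hN : B.SeparatingRight) (g : isomGroup B) {r s : V} (hr : B r r = 0) (hs : B s s = 0)
    (hrs : B r s = 1) : ∃ H : isomGroup B, H * g ∈ sIsom B ∧ ∃ l, l ≠ 0 ∧ H.1 r = l • r ∧ H.1 s = (σ l)⁻¹ • s ∧
      ∀ x, B r x = 0 → B s x = 0 → H.1 x = x := by
  obtain ⟨H, hd, hrest⟩ := h.exists_det_torus hN hr hs hrs (δ := (idet B g)⁻¹)
    (by rw [map_inv₀, ← mul_inv, h.idet_norm hN, inv_one])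
  refine ⟨H, MonoidHom.mem_ker.2 ?_, hrest⟩
  rw [map_mul, hd, inv_mul_cancel₀]
  intro e
  simpa [e] using h.idet_norm hN g

theorem move_point (hN : B.SeparatingRight) {r r' : V} (hr : B r r = 0) (hr' : B r' r' = 0) (h0 : r ≠ 0)
    (h0' : r' ≠ 0) : ∃ (g : sIsom B) (l : F), g.1.1 r = l • r' := by
  obtain ⟨g, hg⟩ := h.witt_family hN (a := fun _ : Unit => r) (b := fun _ : Unit => r')
    (linearIndependent_unique_iff.2 h0) (linearIndependent_unique_iff.2 h0') (fun _ _ => hr.trans hr'.symm)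
  obtain ⟨s, -, hs, hrs⟩ := h.exists_partner (nondegOn_iff.2 fun x _ hx => hN x fun w => hx w trivial :
    NondegOn B (⊤ : Submodule F V)) trivial h0' hr'
  obtain ⟨H, hH, l, -, hHr, -, -⟩ := h.fix_det hN g hr' hs hrs
  exact ⟨⟨H * g, hH⟩, l, by change H.1 (g.1 r) = _; rw [hg (), hHr]⟩

theorem move_nonorth (hN : B.SeparatingRight) {u w z : V} (hu : B u u = 0) (hw : B w w = 0) (hz : B z z = 0)
    (huw : B u w ≠ 0) (huz : B u z ≠ 0) :
    ∃ (g : sIsom B) (a b : F), g.1.1 u = a • u ∧ g.1.1 w = b • z := by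
  have hnorm : ∀ y, B y y = 0 → B u y ≠ 0 → B u ((B u y)⁻¹ • y) = 1 ∧ B ((B u y)⁻¹ • y) ((B u y)⁻¹ • y) = 0 :=
    fun y hy hne => ⟨by rw [map_smul, smul_eq_mul, inv_mul_cancel₀ hne], by rw [h.smul_self, hy, mul_zero]⟩
  obtain ⟨h1, h2⟩ := hnorm w hw huw
  obtain ⟨h3, h4⟩ := hnorm z hz huz
  have hli : ∀ y, B u y = 1 → LinearIndependent F ![u, y] := fun y hy => by
    rw [LinearIndependent.pair_iff]
    intro a b hab
    have e := congrArg (B u) hab
    simp [hu, hy] at e
    subst e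
    have hu0 : u ≠ 0 := fun e => by simp [e] at hy
    simpa [hu0] using hab
  have h1' : B ((B u w)⁻¹ • w) u = 1 := by rw [← h.symm, h1, map_one]
  have h3' : B ((B u z)⁻¹ • z) u = 1 := by rw [← h.symm, h3, map_one]
  obtain ⟨g, hg⟩ := h.witt_family hN (a := ![u, (B u w)⁻¹ • w]) (b := ![u, (B u z)⁻¹ • z]) (hli _ h1) (hli _ h3)
    (fun i j => by
      fin_cases i <;> fin_cases j
      · rfl
      · exact h1.trans h3.symm
      · exact h1'.trans h3'.symm
      · exact h2.trans h4.symm)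
  obtain ⟨H, hH, l, -, hHu, hHs, -⟩ := h.fix_det hN g hu h4 h3
  refine ⟨⟨H * g, hH⟩, l, B u w * ((σ l)⁻¹ * (B u z)⁻¹), ?_, ?_⟩
  · change H.1 (g.1 u) = _
    rw [show g.1 u = u from hg 0, hHu]
  · change H.1 (g.1 w) = _
    have e : g.1 w = B u w • ((B u z)⁻¹ • z) := by
      rw [← (show g.1 ((B u w)⁻¹ • w) = (B u z)⁻¹ • z from hg 1), ← map_smul, smul_smul, mul_inv_cancel₀ huw, one_smul]
    rw [e, map_smul, hHs, smul_smul, smul_smul, mul_assoc]

theorem move_orth (hN : B.SeparatingRight) {u w z : V} (hu : B u u = 0) (hw : B w w = 0) (hz : B z z = 0)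
    (huw : B u w = 0) (huz : B u z = 0) (hiw : LinearIndependent F ![u, w]) (hiz : LinearIndependent F ![u, z]) :
    ∃ (g : sIsom B) (a : F), g.1.1 u = a • u ∧ g.1.1 w = z := by
  obtain ⟨g, hg⟩ := h.witt_family hN (a := ![u, w]) (b := ![u, z]) hiw hiz (fun i j => by
    fin_cases i <;> fin_cases j
    · rfl
    · exact huw.trans huz.symm
    · exact (h.isRefl _ _ huw).trans (h.isRefl _ _ huz).symm
    · exact hw.trans hz.symm)
  have hmem : u ∉ Submodule.span F {z} := fun hm => by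
    obtain ⟨a, ha⟩ := Submodule.mem_span_singleton.1 hm
    have := (LinearIndependent.pair_iff.1 hiz 1 (-a) (by rw [one_smul, ← ha]; module)).1
    exact one_ne_zero this
  obtain ⟨u', hu', huu', hzu'⟩ := h.exists_partner_orth hN hu huz hmem
  obtain ⟨H, hH, l, -, hHu, -, hHx⟩ := h.fix_det hN g hu hu' huu'
  refine ⟨⟨H * g, hH⟩, l, ?_, ?_⟩
  · change H.1 (g.1 u) = _
    rw [show g.1 u = u from hg 0, hHu]
  · change H.1 (g.1 w) = _
    rw [show g.1 w = z from hg 1, hHx z huz (h.isRefl _ _ hzu')]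

theorem isoPts_pretransitive (hN : B.SeparatingRight) : IsPretransitive (sIsom B) (IsoPts B) := by
  constructor
  intro p q
  obtain ⟨v, hv, hv0, rfl⟩ := isoPt_surjective p
  obtain ⟨w, hw, hw0, rfl⟩ := isoPt_surjective q
  obtain ⟨g, l, hg⟩ := h.move_point hN hv0 hw0 hv hw
  exact ⟨g, smul_isoPt_eq g hv hv0 hw hw0 hg⟩

theorem isoPts_isPreprimitive (hN : B.SeparatingRight) : IsPreprimitive (sIsom B) (IsoPts B) := by
  have : IsPretransitive (sIsom B) (IsoPts B) := h.isoPts_pretransitive hN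
  refine ⟨fun {S} hS => ?_⟩
  by_cases hsub : S.Subsingleton
  · exact Or.inl hsub
  right
  -- a point of the block moves a second one along
  have step : ∀ {u w z : V} (hu : u ≠ 0) (hw : w ≠ 0) (hz : z ≠ 0) (hu0 : B u u = 0) (hw0 : B w w = 0)
      (hz0 : B z z = 0), isoPt B hu hu0 ∈ S → isoPt B hw hw0 ∈ S →
      (∃ (g : sIsom B) (a b : F), g.1.1 u = a • u ∧ g.1.1 w = b • z) → isoPt B hz hz0 ∈ S := by
    rintro u w z hu hw hz hu0 hw0 hz0 huS hwS ⟨g, a, b, ha, hb⟩
    have hgS : g • S = S := hS.smul_eq_of_nonempty ⟨_, ⟨_, huS, smul_isoPt_eq g hu hu0 hu hu0 ha⟩, huS⟩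
    rw [← hgS]
    exact ⟨_, hwS, smul_isoPt_eq g hw hw0 hz hz0 hb⟩
  have orth : ∀ {u w z : V} (hu : u ≠ 0) (hw : w ≠ 0) (hz : z ≠ 0) (hu0 : B u u = 0) (hw0 : B w w = 0)
      (hz0 : B z z = 0), isoPt B hu hu0 ∈ S → isoPt B hw hw0 ∈ S → B u w = 0 → B u z = 0 →
      LinearIndependent F ![u, w] → LinearIndependent F ![u, z] → isoPt B hz hz0 ∈ S := by
    intro u w z hu hw hz hu0 hw0 hz0 huS hwS huw huz hiw hiz
    obtain ⟨g, a, ha, hb⟩ := h.move_orth hN hu0 hw0 hz0 huw huz hiw hiz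
    exact step hu hw hz hu0 hw0 hz0 huS hwS ⟨g, a, 1, ha, by rw [hb, one_smul]⟩
  have indep : ∀ {u z : V} (hu : u ≠ 0) (hz : z ≠ 0) (hu0 : B u u = 0) (hz0 : B z z = 0),
      isoPt B hu hu0 ≠ isoPt B hz hz0 → LinearIndependent F ![u, z] := fun hu hz hu0 hz0 hne =>
    indep_of_mk_ne hu hz fun e => hne (Subtype.ext e)
  obtain ⟨p, hp, q, hq, hpq⟩ := Set.not_subsingleton_iff.1 hsub
  obtain ⟨u, hu, hu0, rfl⟩ := isoPt_surjective p
  obtain ⟨w, hw, hw0, rfl⟩ := isoPt_surjective q
  have hiw := indep hu hw hu0 hw0 hpq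
  refine Set.eq_univ_iff_forall.2 fun r => ?_
  obtain ⟨z, hz, hz0, rfl⟩ := isoPt_surjective r
  by_cases hrp : isoPt B hz hz0 = isoPt B hu hu0
  · exact hrp ▸ hp
  have hiz := indep hu hz hu0 hz0 (Ne.symm hrp)
  by_cases huw : B u w = 0
  · by_cases huz : B u z = 0
    · exact orth hu hw hz hu0 hw0 hz0 hp hq huw huz hiw hiz
    have hzu : B z u ≠ 0 := fun e => huz (h.isRefl _ _ e)
    set y := w - (B z w / B z u) • u with hy
    have huy : B u y = 0 := by simp [hy, huw, hu0]
    have hzy : B z y = 0 := by simp [hy, hzu]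
    have hy0 : B y y = 0 := by
      rw [hy]
      simp [map_smulₛₗ, hu0, hw0, huw, h.isRefl _ _ huw]
    have hiy : LinearIndependent F ![u, y] := by
      rw [LinearIndependent.pair_iff] at hiw ⊢
      intro s t hst
      obtain ⟨h1, h2⟩ := hiw (s - t * (B z w / B z u)) t (by rw [← hst, hy]; module)
      subst h2
      simpa using h1
    have hyne : y ≠ 0 := hiy.ne_zero 1
    have hyS := orth hu hw hyne hu0 hw0 hy0 hp hq huw huy hiw hiy
    refine orth hyne hu hz hy0 hu0 hz0 hyS hp (h.isRefl _ _ huy) (h.isRefl _ _ hzy)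
      (LinearIndependent.pair_symm_iff.1 hiy) (indep hyne hz hy0 hz0 fun e => huz ?_)
    obtain ⟨a, ha⟩ := (Projectivization.mk_eq_mk_iff' _ _ _ hz hyne).1 (congrArg Subtype.val e).symm
    rw [← ha, map_smul, huy, smul_zero]
  · have nonorth : ∀ {y : V} (hyne : y ≠ 0) (hy0 : B y y = 0), B u y ≠ 0 → isoPt B hyne hy0 ∈ S :=
      fun hyne hy0 huy => step hu hw hyne hu0 hw0 hy0 hp hq (h.move_nonorth hN hu0 hw0 hy0 huw huy)
    by_cases huz : B u z = 0
    · obtain ⟨v, hv1, hv2⟩ : ∃ v, B u v ≠ 0 ∧ B z v ≠ 0 := by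
        obtain ⟨a, ha⟩ : ∃ a, B u a ≠ 0 := by
          by_contra! e; exact hu (hN u fun x => h.isRefl _ _ (e x))
        obtain ⟨b, hb⟩ : ∃ b, B z b ≠ 0 := by
          by_contra! e; exact hz (hN z fun x => h.isRefl _ _ (e x))
        by_cases h1 : B z a = 0
        · by_cases h2 : B u b = 0
          · exact ⟨a + b, by simp [h2, ha], by simp [h1, hb]⟩
          · exact ⟨b, h2, hb⟩
        · exact ⟨a, ha, h1⟩
      have hvu : B v u ≠ 0 := fun e => hv1 (h.isRefl _ _ e)
      obtain ⟨c, hc⟩ := h.conj.exists_trace_eq (a := -B v v) (by rw [map_neg, h.self_fixed])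
      set y := v + (c / B v u) • u with hy
      have hy0 : B y y = 0 := by
        rw [hy, h.add_self, h.smul_self, hu0, map_smul, smul_eq_mul, div_mul_cancel₀ _ hvu, hc]
        ring
      have huy : B u y ≠ 0 := by simpa [hy, hu0] using hv1
      have hzy : B z y ≠ 0 := by simpa [hy, h.isRefl _ _ huz] using hv2
      have hyne : y ≠ 0 := fun e => huy (by rw [e, map_zero])
      exact step hyne hu hz hy0 hu0 hz0 (nonorth hyne hy0 huy) hp
        (h.move_nonorth hN hy0 hu0 hz0 (fun e => huy (h.isRefl _ _ e)) fun e => hzy (h.isRefl _ _ e))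
    · exact nonorth hz hz0 huz

theorem isoPts_nontrivial_group (hN : B.SeparatingRight) (hd : 2 ≤ finrank F V) : Nontrivial (sIsom B) := by
  have htop : NondegOn B (⊤ : Submodule F V) := nondegOn_iff.2 fun x _ hx => hN x fun w => hx w trivial
  obtain ⟨r, -, hr0, hr⟩ := h.exists_isotropic htop (by rw [finrank_top]; exact hd)
  obtain ⟨s, -, hs, hrs⟩ := h.exists_partner htop trivial hr0 hr
  obtain ⟨c, hc, hc'⟩ := h.conj.exists_trace_zero
  obtain ⟨g, hg⟩ := h.exists_uTv hN hr hc'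
  refine ⟨⟨⟨g, MonoidHom.mem_ker.2 (h.idet_uTv hg)⟩, 1, fun e => hr0 ?_⟩⟩
  have := congrArg (fun k : sIsom B => k.1.1 s) e
  simp [hg.2.2, hrs, hc] at this
  exact this

/-- The transvection groups form an Iwasawa structure. -/
noncomputable def sIwasawa (hN : B.SeparatingRight)
    (hex : 3 ≤ finrank F V → BigFixed σ ∨ 4 ≤ finrank F V) : IwasawaStructure (sIsom B) (IsoPts B) where
  T p := tPoint B p.2
  is_comm p := ⟨⟨by
    rintro ⟨a, c, hc⟩ ⟨b, d, hd⟩
    refine Subtype.ext (Subtype.ext (Subtype.ext (LinearEquiv.ext fun x => ?_)))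
    change a.1.1 (b.1.1 x) = b.1.1 (a.1.1 x)
    rw [hd.2.2, hc.2.2, hc.2.2, hd.2.2, map_add, map_add, map_smul, map_smul, hc.1, smul_zero, smul_zero]
    module⟩⟩
  is_conj g p := by
    have key : ∀ (g : sIsom B) (p : IsoPts B) (k : sIsom B), k ∈ tPoint B p.2 → g * k * g⁻¹ ∈ tPoint B (g • p).2 := by
      rintro g p k ⟨c, hc⟩
      obtain ⟨v, hv, hv0, rfl⟩ := isoPt_surjective p
      obtain ⟨a, ha⟩ := Projectivization.exists_smul_eq_mk_rep F (g.1.1 (isoPt B hv hv0).1.rep)
        (by simpa using Projectivization.rep_nonzero _)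
      have e : (g • isoPt B hv hv0).1 = Projectivization.mk F (g.1.1 (isoPt B hv hv0).1.rep)
          (by simpa using Projectivization.rep_nonzero _) := by
        change g • (isoPt B hv hv0).1 = _
        conv_lhs => rw [← Projectivization.mk_rep (isoPt B hv hv0).1]
        rw [sIsom_smul_mk]
      have h1 := (hc.conj g.1).smul h.conj.invol a.ne_zero
      refine ⟨c / ((a : F) * σ a), ?_⟩
      rw [e, ← ha, Units.smul_def]
      exact h1
    ext k
    constructor
    · intro hk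
      refine ⟨g⁻¹ * k * g, ?_, by simp [MulAut.conj_apply]; group⟩
      have := key g⁻¹ (g • p) k hk
      simpa using this
    · rintro ⟨k', hk', rfl⟩
      exact key g p k' hk'
  is_generator := by
    have hT := h.sIsom_eq_tGroup hN hex
    rw [eq_top_iff]
    rintro ⟨g, hg⟩ -
    have hle : tGroup B ≤ (⨆ p : IsoPts B, tPoint B p.2).map (sIsom B).subtype := by
      refine (Subgroup.closure_le _).2 ?_
      rintro x ⟨v, c, hx⟩
      refine ⟨⟨x, MonoidHom.mem_ker.2 (h.idet_uTv hx)⟩, ?_, rfl⟩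
      by_cases hv : v = 0
      · have : x = 1 := Subtype.ext (LinearEquiv.ext fun y => by rw [hx.2.2, hv]; simp)
        subst this
        exact one_mem _
      obtain ⟨a, ha⟩ := Projectivization.exists_smul_eq_mk_rep F v hv
      refine Subgroup.mem_iSup_of_mem (isoPt B hv hx.1) ⟨c / ((a : F) * σ a), ?_⟩
      change IsUTv x (Projectivization.mk F v hv).rep _
      rw [← ha, Units.smul_def]
      exact hx.smul h.conj.invol a.ne_zero
    obtain ⟨y, hy, e⟩ := hle (hT ▸ hg : g ∈ tGroup B)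
    exact (Subtype.ext e : y = ⟨g, hg⟩) ▸ hy

theorem mem_center_of_fix_isoPts (hN : B.SeparatingRight)
    (hex : 3 ≤ finrank F V → BigFixed σ ∨ 4 ≤ finrank F V) {k : sIsom B} (hk : ∀ p : IsoPts B, k • p = p) :
    k ∈ Subgroup.center (sIsom B) := by
  have hline : ∀ v : V, v ≠ 0 → B v v = 0 → ∃ l : F, k.1.1 v = l • v := by
    intro v hv h0
    have := congrArg Subtype.val (hk (isoPt B hv h0))
    change k • Projectivization.mk F v hv = _ at this
    rw [sIsom_smul_mk] at this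
    obtain ⟨l, hl⟩ := (Projectivization.mk_eq_mk_iff' _ _ _ _ _).1 this
    exact ⟨l, hl.symm⟩
  refine Subgroup.mem_center_iff.2 fun g => Subtype.ext ?_
  have hg : g.1 ∈ tGroup B := h.sIsom_eq_tGroup hN hex ▸ g.2
  have hle : tGroup B ≤ Subgroup.centralizer {k.1} := (Subgroup.closure_le _).2 (by
    rintro x ⟨v, c, hx⟩
    rw [SetLike.mem_coe, Subgroup.mem_centralizer_singleton_iff]
    suffices k.1 * x * k.1⁻¹ = x by rw [mul_inv_eq_iff_eq_mul] at this; first | exact this | exact this.symm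
    by_cases hv : v = 0
    · have : x = 1 := Subtype.ext (LinearEquiv.ext fun y => by rw [hx.2.2, hv]; simp)
      simp [this]
    obtain ⟨l, hl⟩ := hline v hv hx.1
    obtain ⟨s, -, hs, hvs⟩ := h.exists_partner (nondegOn_iff.2 fun y _ hy => hN y fun w => hy w trivial :
      NondegOn B (⊤ : Submodule F V)) trivial hv hx.1
    have hsv : B s v = 1 := by rw [← h.symm, hvs, map_one]
    have hs0 : s ≠ 0 := fun e => by simp [e] at hvs
    obtain ⟨c₀, hc₀, hc₀'⟩ := h.conj.exists_trace_zero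
    obtain ⟨μ, hμ⟩ := hline s hs0 hs
    have hz : B (v + c₀ • s) (v + c₀ • s) = 0 := by
      rw [h.add_self, h.smul_self, hx.1, hs, map_smul, hvs, smul_eq_mul, mul_one, hc₀']
      ring
    obtain ⟨ν, hν⟩ := hline _ (fun e => by have := congrArg (B s) e; simp [hsv, hs] at this) hz
    rw [map_add, map_smul, hl, hμ] at hν
    have e1 := congrArg (B s) hν
    have e2 := congrArg (B v) hν
    simp [hsv, hs, hvs, hx.1] at e1 e2
    have hμν : μ = ν := mul_left_cancel₀ hc₀ (by linear_combination e2)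
    have hn : σ l * l = 1 := by
      have := k.1.2 v s
      rw [hl, hμ, hμν, ← e1, map_smul, map_smulₛₗ, LinearMap.smul_apply, hvs, smul_eq_mul, smul_eq_mul] at this
      linear_combination this
    refine Subtype.ext (LinearEquiv.ext fun y => ?_)
    rw [(hx.conj k.1).2.2, hx.2.2, hl, map_smulₛₗ, LinearMap.smul_apply, smul_eq_mul, smul_smul]
    congr 2
    linear_combination (c * B v y) * hn)
  exact Subgroup.mem_centralizer_singleton_iff.1 (hle hg)

theorem sIsom_quotient_simple (hN : B.SeparatingRight) (hd : BigFixed σ ∧ 3 ≤ finrank F V ∨ 4 ≤ finrank F V) :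
    IsSimpleGroup (sIsom B ⧸ Subgroup.center (sIsom B)) := by
  have hex : 3 ≤ finrank F V → BigFixed σ ∨ 4 ≤ finrank F V := fun _ => by
    rcases hd with ⟨hb, -⟩ | h4
    · exact Or.inl hb
    · exact Or.inr h4
  have : Nontrivial (sIsom B) := h.isoPts_nontrivial_group hN (by omega)
  have hp := h.sIsom_perfect hN hd
  refine quotient_center_isSimpleGroup hp fun N hNn => ?_
  have : IsPreprimitive (sIsom B) (IsoPts B) := h.isoPts_isPreprimitive hN
  by_cases hfix : fixedPoints N (IsoPts B) = Set.univ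
  · left
    intro g hg
    exact h.mem_center_of_fix_isoPts hN hex fun p =>
      (hfix ▸ Set.mem_univ p : p ∈ fixedPoints N (IsoPts B)) ⟨g, hg⟩
  · right
    exact top_le_iff.1 (hp ▸ (h.sIwasawa hN hex).commutator_le N hfix)

end IsHermitian

end CfsgLib.Classical
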