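import Cfsg.Agent.Lib.Classical.HermMatrix
import Cfsg.Agent.Lib.Classical.HermSimple

/-!
# `SU` as a special isometry group
-/

set_option autoImplicit false
set_option linter.unusedSectionVars false

open Module Matrix

namespace CfsgLib.Classical

variable {F : Type*} [Field F] {σ : F →+* F} {n q : ℕ}

theorem idet_guEquiv (hσ : ∀ x, σ x = x ^ q) (g : Cfsg.GU n F q) :
    idet (stdHerm σ n) (guEquiv hσ g) = (g.1 : Matrix (Fin n) (Fin n) F).det := by
  have e : ((guEquiv hσ g).1 : (Fin n → F) →ₗ[F] (Fin n → F)) =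
      Matrix.toLin' (g.1 : Matrix (Fin n) (Fin n) F) := LinearMap.ext fun x => rfl
  change LinearMap.det ((guEquiv hσ g).1 : (Fin n → F) →ₗ[F] (Fin n → F)) = _
  rw [e, LinearMap.det_toLin']

/-- `SU` as isometries of the standard Hermitian form. -/
noncomputable def suHom (hσ : ∀ x, σ x = x ^ q) : Cfsg.SU n F q →* isomGroup (stdHerm σ n) :=
  (guEquiv hσ).toMonoidHom.comp (suToGU n F q)

theorem suHom_injective (hσ : ∀ x, σ x = x ^ q) : Function.Injective (suHom (n := n) hσ) :=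
  (guEquiv hσ).injective.comp suToGU_injective

theorem suHom_range (hσ : ∀ x, σ x = x ^ q) : (suHom (n := n) hσ).range = sIsom (stdHerm σ n) := by
  ext g
  constructor
  · rintro ⟨A, rfl⟩
    refine MonoidHom.mem_ker.2 ?_
    change idet _ (guEquiv hσ (suToGU n F q A)) = 1
    rw [idet_guEquiv]
    exact A.1.2
  · intro hg
    obtain ⟨x, rfl⟩ := (guEquiv hσ).surjective g
    obtain ⟨A, rfl⟩ : x ∈ (suToGU n F q).range := by
      rw [suToGU_range hσ, MonoidHom.mem_ker, guDet_eq_one_iff]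
      have h := MonoidHom.mem_ker.1 hg
      rw [idet_guEquiv] at h
      exact Units.ext h
    exact ⟨A, rfl⟩

/-- `SU ≅` the special isometry group. -/
noncomputable def suEquiv (hσ : ∀ x, σ x = x ^ q) : Cfsg.SU n F q ≃* sIsom (stdHerm σ n) :=
  (MonoidHom.ofInjective (suHom_injective hσ)).trans (MulEquiv.subgroupCongr (suHom_range hσ))

theorem suEquiv_apply (hσ : ∀ x, σ x = x ^ q) (A : Cfsg.SU n F q) (x : Fin n → F) :
    (suEquiv hσ A).1.1 x = (A.1 : Matrix (Fin n) (Fin n) F) *ᵥ x := rfl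

theorem bigFixed_of_le [Fintype F] (hF : Fintype.card F = q ^ 2) (hσ : ∀ x, σ x = x ^ q)
    (hc : IsConjugation σ) (hq : 3 ≤ q) : BigFixed σ := by
  have h := (frob_cards hF hσ hc).1
  have : Nontrivial (fixedUnits σ) := Finite.one_lt_card_iff_nontrivial.1 (by omega)
  obtain ⟨u, hu⟩ := exists_ne (1 : fixedUnits σ)
  exact ⟨(u : Fˣ), u.2, Units.ne_zero _, fun e => hu (Subtype.ext (Units.ext e))⟩

theorem unitaryTransvection_mulVec (hσ : ∀ x, σ x = x ^ q) (v x : Fin n → F) (c : F) :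
    Cfsg.unitaryTransvection n q v c *ᵥ x = x + (c * stdHerm σ n v x) • v := by
  rw [Cfsg.unitaryTransvection, add_mulVec, one_mulVec, smul_mulVec, vecMulVec_mulVec, mul_smul,
    stdHerm_apply]
  congr 2
  ext i
  simp [dotProduct, hσ, mul_comm]

/-- Correspondence of transvections. -/
theorem isUTv_suEquiv_iff (hσ : ∀ x, σ x = x ^ q) {A : Cfsg.SU n F q} {v : Fin n → F} {c : F} :
    IsUTv (suEquiv hσ A).1 v c ↔ Cfsg.hermForm n F q v v = 0 ∧ c + σ c = 0 ∧
      (A.1 : Matrix (Fin n) (Fin n) F) = Cfsg.unitaryTransvection n q v c := by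
  rw [IsUTv, hermForm_eq_stdHerm hσ]
  refine and_congr_right fun _ => and_congr_right fun _ => ?_
  simp only [suEquiv_apply, ← unitaryTransvection_mulVec hσ]
  exact ⟨fun h => Matrix.toLin'.injective (LinearMap.ext h), fun h x => by rw [h]⟩

/-- The scalar of a unitary transvection in `SU` has trace zero. -/
theorem trace_zero_of_eq (hσ : ∀ x, σ x = x ^ q) (hc : IsConjugation σ) {A : Cfsg.SU n F q} {v : Fin n → F} {c : F}
    (hv0 : Cfsg.hermForm n F q v v = 0)
    (hA : (A.1 : Matrix (Fin n) (Fin n) F) = Cfsg.unitaryTransvection n q v c) :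
    v = 0 ∨ c + σ c = 0 := by
  refine (em (v = 0)).imp_right fun hv => ?_
  obtain ⟨i, hi⟩ := Function.ne_iff.1 hv
  have h := (suEquiv hσ A).1.2 (Pi.single i 1) (Pi.single i 1)
  rw [hermForm_eq_stdHerm hσ] at hv0
  rw [suEquiv_apply, hA, unitaryTransvection_mulVec hσ] at h
  have hs : stdHerm σ n v (Pi.single i 1) = σ (v i) := by
    rw [← (stdHerm_isHermitian hc n).symm, stdHerm_single]
  simp [map_add, map_smulₛₗ, stdHerm_single, hs, hv0, hc.invol] at h
  have hi' : σ (v i) ≠ 0 := fun e => hi (by rw [← hc.invol (v i), e, map_zero]; rfl)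
  exact (mul_right_inj' (mul_ne_zero hi hi')).1 (by linear_combination h : v i * σ (v i) * (c + σ c) = v i * σ (v i) * 0)

theorem exists_SU_transvection (hσ : ∀ x, σ x = x ^ q) {g : sIsom (stdHerm σ n)} {v : Fin n → F} {c : F}
    (hg : IsUTv g.1 v c) : ∃ A : Cfsg.SU n F q, suEquiv hσ A = g ∧ Cfsg.hermForm n F q v v = 0 ∧
      (A.1 : Matrix (Fin n) (Fin n) F) = Cfsg.unitaryTransvection n q v c := by
  obtain ⟨A, rfl⟩ := (suEquiv hσ).surjective g
  obtain ⟨h1, -, h3⟩ := (isUTv_suEquiv_iff hσ).1 hg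
  exact ⟨A, rfl, h1, h3⟩

end CfsgLib.Classical
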