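import Mathlib

/-!
# Finite fields with an involutive automorphism
-/

set_option autoImplicit false

namespace CfsgLib.Classical

variable {F : Type*} [Field F] {σ : F →+* F}

/-- `σ` is an automorphism of order two. -/
structure IsConjugation (σ : F →+* F) : Prop where
  invol : ∀ a, σ (σ a) = a
  ne_id : σ ≠ RingHom.id F

namespace IsConjugation

variable (h : IsConjugation σ)
include h

theorem exists_not_fixed : ∃ a, σ a ≠ a := by
  by_contra! hall
  exact h.ne_id (RingHom.ext hall)

theorem exists_trace_ne_zero : ∃ c, c + σ c ≠ 0 := by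
  by_contra! hall
  obtain ⟨a, ha⟩ := h.exists_not_fixed
  have h1 := hall 1
  rw [map_one] at h1
  exact ha (by linear_combination (hall a) - a * h1)

theorem exists_trace_eq {a : F} (ha : σ a = a) : ∃ c, c + σ c = a := by
  obtain ⟨c, hc⟩ := h.exists_trace_ne_zero
  refine ⟨a / (c + σ c) * c, ?_⟩
  have hf : σ (a / (c + σ c)) = a / (c + σ c) := by
    rw [map_div₀, map_add, ha, h.invol, add_comm]
  rw [map_mul, hf, ← mul_add, div_mul_cancel₀ _ hc]

theorem exists_trace_zero : ∃ c, c ≠ 0 ∧ c + σ c = 0 := by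
  obtain ⟨a, ha⟩ := h.exists_not_fixed
  refine ⟨a - σ a, sub_ne_zero.2 (Ne.symm ha), ?_⟩
  rw [map_sub, h.invol]
  ring

theorem norm_fixed (c : F) : σ (c * σ c) = c * σ c := by
  rw [map_mul, h.invol, mul_comm]

/-- Hilbert 90 for the quadratic extension. -/
theorem exists_div_eq {x : F} (hx : x * σ x = 1) : ∃ z, z ≠ 0 ∧ z = x * σ z := by
  by_cases h1 : 1 + x = 0
  · obtain ⟨a, ha⟩ := h.exists_not_fixed
    obtain rfl : x = -1 := by linear_combination h1
    refine ⟨a - σ a, sub_ne_zero.2 (Ne.symm ha), ?_⟩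
    rw [map_sub, h.invol]
    ring
  · refine ⟨1 + x, h1, ?_⟩
    rw [map_add, map_one, mul_add, hx]
    ring

end IsConjugation

/-- The norm as a homomorphism of unit groups. -/
def normHom (σ : F →+* F) : Fˣ →* Fˣ := (MonoidHom.id Fˣ) * Units.map (σ : F →* F)

theorem normHom_apply (σ : F →+* F) (x : Fˣ) : (normHom σ x : F) = x * σ x := rfl

/-- The fixed units. -/
def fixedUnits (σ : F →+* F) : Subgroup Fˣ where
  carrier := {u | σ (u : F) = u}
  one_mem' := map_one σ
  mul_mem' {a b} (ha : _ = _) (hb : _ = _) := by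
    change σ ((a : F) * b) = a * b
    rw [map_mul, ha, hb]
  inv_mem' {a} (ha : _ = _) := by
    change σ ((a⁻¹ : Fˣ) : F) = _
    rw [Units.val_inv_eq_inv_val, map_inv₀, ha]

theorem mem_fixedUnits {u : Fˣ} : u ∈ fixedUnits σ ↔ σ (u : F) = u := Iff.rfl

namespace IsConjugation

variable (h : IsConjugation σ)
include h

theorem normHom_le_fixed : (normHom σ).range ≤ fixedUnits σ := by
  rintro _ ⟨x, rfl⟩
  exact h.norm_fixed x

theorem range_normHom [Finite F] : (normHom σ).range = fixedUnits σ := by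
  let ψ : Fˣ →* Fˣ := (MonoidHom.id Fˣ) / Units.map (σ : F →* F)
  have hψ : ∀ x, ψ x = x / Units.map (σ : F →* F) x := fun x => rfl
  have hker : ψ.ker = fixedUnits σ := by
    ext x
    rw [MonoidHom.mem_ker, hψ, div_eq_one, mem_fixedUnits, Units.ext_iff]
    exact eq_comm
  have hrange : ψ.range = (normHom σ).ker := by
    refine le_antisymm ?_ ?_
    · rintro _ ⟨x, rfl⟩
      rw [MonoidHom.mem_ker, hψ, map_div, div_eq_one]
      refine Units.ext ?_
      rw [normHom_apply, normHom_apply]
      change (x : F) * σ x = σ x * σ (σ x)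
      rw [h.invol, mul_comm]
    · intro x hx
      have hx' : (x : F) * σ x = 1 := congrArg Units.val (MonoidHom.mem_ker.1 hx)
      obtain ⟨z, hz0, hz⟩ := h.exists_div_eq hx'
      refine ⟨Units.mk0 z hz0, ?_⟩
      rw [hψ, div_eq_iff_eq_mul, Units.ext_iff]
      exact hz
  have h1 : Nat.card ψ.ker * Nat.card ψ.range = Nat.card Fˣ := by
    rw [← Subgroup.index_ker, Subgroup.card_mul_index]
  have h2 : Nat.card (normHom σ).ker * Nat.card (normHom σ).range = Nat.card Fˣ := by
    rw [← Subgroup.index_ker, Subgroup.card_mul_index]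
  rw [hker, hrange] at h1
  refine Subgroup.eq_of_le_of_card_ge h.normHom_le_fixed (le_of_eq ?_)
  refine Nat.eq_of_mul_eq_mul_left (Nat.card_pos (α := (normHom σ).ker)) ?_
  rw [h2, mul_comm, h1]

theorem exists_norm_eq [Finite F] {a : F} (ha : σ a = a) : ∃ c, c * σ c = a := by
  by_cases h0 : a = 0
  · exact ⟨0, by simp [h0]⟩
  have hm : Units.mk0 a h0 ∈ (normHom σ).range := by rw [h.range_normHom]; exact ha
  obtain ⟨c, hc⟩ := hm
  exact ⟨c, congrArg Units.val hc⟩

theorem card_norm_ker_mul [Finite F] :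
    Nat.card (normHom σ).ker * Nat.card (fixedUnits σ) = Nat.card Fˣ := by
  rw [← h.range_normHom, ← Subgroup.index_ker, Subgroup.card_mul_index]

end IsConjugation

/-! ### The automorphism `x ↦ x ^ q` of a field with `q²` elements -/

section Frob

variable [Fintype F] {q : ℕ}

theorem two_le_of_card_sq (hF : Fintype.card F = q ^ 2) : 2 ≤ q := by
  have h := Fintype.one_lt_card (α := F)
  rw [hF] at h
  by_contra hq
  interval_cases q <;> simp at h

theorem exists_frob (hF : Fintype.card F = q ^ 2) :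
    ∃ σ : F →+* F, (∀ x, σ x = x ^ q) ∧ IsConjugation σ := by
  obtain ⟨p, hc⟩ := CharP.exists F
  obtain ⟨n, hp, hn⟩ := FiniteField.card F p
  have := Fact.mk hp
  obtain ⟨k, -, hk⟩ := (Nat.dvd_prime_pow hp).1 (show q ∣ p ^ (n : ℕ) by rw [← hn, hF]; exact dvd_pow_self q two_ne_zero)
  have hσ : ∀ x : F, iterateFrobenius F p k x = x ^ q := fun x => by rw [iterateFrobenius_def, hk]
  refine ⟨iterateFrobenius F p k, hσ, ⟨fun a => ?_, fun he => ?_⟩⟩
  · rw [hσ, hσ, ← pow_mul, ← pow_two, ← hF, FiniteField.pow_card]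
  · have hq := two_le_of_card_sq hF
    have hall : ∀ x : F, x ^ q = x := fun x => by rw [← hσ, he]; rfl
    classical
    have hne : (Polynomial.X ^ q - Polynomial.X : Polynomial F) ≠ 0 :=
      FiniteField.X_pow_card_sub_X_ne_zero F (by omega)
    have h := Polynomial.card_le_degree_of_subset_roots (Z := (Finset.univ : Finset F))
      (p := (Polynomial.X ^ q - Polynomial.X : Polynomial F)) (fun x _ => by
        rw [Polynomial.mem_roots hne, Polynomial.IsRoot.def, Polynomial.eval_sub, Polynomial.eval_pow,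
          Polynomial.eval_X, hall, sub_self])
    rw [FiniteField.X_pow_card_sub_X_natDegree_eq F (by omega), Finset.card_univ, hF, pow_two] at h
    nlinarith

theorem card_roots_pow_le (k : ℕ) (hk : 0 < k) (H : Subgroup Fˣ) (hH : ∀ u ∈ H, u ^ k = 1) :
    Nat.card H ≤ k := by
  classical
  have : Finite Fˣ := inferInstance
  obtain ⟨g, hg⟩ := IsCyclic.exists_generator (α := H)
  rw [← orderOf_eq_card_of_forall_mem_zpowers hg]
  refine orderOf_le_of_pow_eq_one hk (Subtype.ext ?_)
  rw [SubgroupClass.coe_pow]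
  exact hH _ g.2

theorem frob_cards (hF : Fintype.card F = q ^ 2) (hσ : ∀ x, σ x = x ^ q) (h : IsConjugation σ) :
    Nat.card (fixedUnits σ) = q - 1 ∧ Nat.card (normHom σ).ker = q + 1 := by
  have hq := two_le_of_card_sq hF
  have h1 : Nat.card (fixedUnits σ) ≤ q - 1 := card_roots_pow_le _ (by omega) _ fun u hu => by
    have hu' : (u : F) ^ q = u := (hσ _).symm.trans hu
    refine Units.ext (mul_right_cancel₀ (Units.ne_zero u) ?_)
    rw [Units.val_pow_eq_pow_val, ← pow_succ, Nat.sub_add_cancel (by omega), hu', Units.val_one, one_mul]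
  have h2 : Nat.card (normHom σ).ker ≤ q + 1 := card_roots_pow_le _ (by omega) _ fun u hu => by
    have hu' : (u : F) * σ u = 1 := congrArg Units.val (MonoidHom.mem_ker.1 hu)
    rw [hσ] at hu'
    refine Units.ext ?_
    rw [Units.val_pow_eq_pow_val, pow_succ, mul_comm, hu', Units.val_one]
  have h3 := h.card_norm_ker_mul
  rw [Nat.card_units, Nat.card_eq_fintype_card (α := F), hF] at h3
  have h4 : q ^ 2 - 1 = (q + 1) * (q - 1) := by
    obtain ⟨r, rfl⟩ : ∃ r, q = r + 1 := ⟨q - 1, by omega⟩
    rw [Nat.add_sub_cancel, pow_two]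
    ring_nf
    omega
  rw [h4] at h3
  constructor
  · by_contra hne
    have h5 : Nat.card (normHom σ).ker * Nat.card (fixedUnits σ) < (q + 1) * (q - 1) := by
      refine lt_of_le_of_lt (Nat.mul_le_mul_right _ h2) (Nat.mul_lt_mul_of_pos_left ?_ (by omega))
      omega
    omega
  · by_contra hne
    have h5 : Nat.card (normHom σ).ker * Nat.card (fixedUnits σ) < (q + 1) * (q - 1) := by
      refine lt_of_le_of_lt (Nat.mul_le_mul_left _ h1) (Nat.mul_lt_mul_of_pos_right ?_ (by omega))
      omega
    omega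

end Frob

end CfsgLib.Classical
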