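import Cfsg.Agent.Lib.Classical.FormBasic
import Cfsg.Agent.Lib.Classical.HermField

/-!
# Hermitian forms over finite fields: orthonormal bases and Witt's lemma

Conventions as in `FormBasic`: `B : V →ₛₗ[σ] V →ₗ[F] F` is semilinear in the first variable.
-/

set_option autoImplicit false
set_option linter.unusedSectionVars false

open Module

namespace CfsgLib.Classical

variable {F : Type*} [Field F] {V : Type*} [AddCommGroup V] [Module F V] {σ : F →+* F}

/-- `B` is Hermitian for the conjugation `σ`. -/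
structure IsHermitian (B : V →ₛₗ[σ] V →ₗ[F] F) : Prop where
  conj : IsConjugation σ
  symm : ∀ x y, σ (B x y) = B y x

variable {B : V →ₛₗ[σ] V →ₗ[F] F}

namespace IsHermitian

variable (h : IsHermitian B)
include h

theorem isRefl : B.IsRefl := fun x y hxy => by rw [← h.symm x y, hxy, map_zero]

theorem self_fixed (x : V) : σ (B x x) = B x x := h.symm x x

theorem smul_self (c : F) (x : V) : B (c • x) (c • x) = c * σ c * B x x := by
  rw [map_smul, map_smulₛₗ, LinearMap.smul_apply, smul_eq_mul, smul_eq_mul]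
  ring

theorem add_self (x y : V) : B (x + y) (x + y) = B x x + B y y + (B x y + σ (B x y)) := by
  rw [h.symm]
  simp only [map_add, LinearMap.add_apply]
  ring

theorem restrict (W : Submodule F V) : IsHermitian (restrictForm B W) :=
  ⟨h.conj, fun x y => h.symm x y⟩

/-- A non-zero Hermitian form has a non-isotropic vector. -/
theorem exists_self_ne_zero {x y : V} (hxy : B x y ≠ 0) : B x x ≠ 0 ∨ B y y ≠ 0 ∨
    ∃ c : F, B (x + c • y) (x + c • y) ≠ 0 := by
  by_cases hx : B x x = 0
  · by_cases hy : B y y = 0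
    · obtain ⟨t, ht⟩ := h.conj.exists_trace_ne_zero
      refine Or.inr (Or.inr ⟨t / B x y, ?_⟩)
      rw [h.add_self, h.smul_self, hx, hy, map_smul, smul_eq_mul, div_mul_cancel₀ _ hxy]
      simpa using ht
    · exact Or.inr (Or.inl hy)
  · exact Or.inl hx

theorem exists_scaled [Finite F] {x : V} (hx : B x x ≠ 0) {a : F} (ha : σ a = a) :
    ∃ c : F, B (c • x) (c • x) = a := by
  obtain ⟨c, hc⟩ := h.conj.exists_norm_eq (a := a / B x x) (by rw [map_div₀, ha, h.self_fixed])
  exact ⟨c, by rw [h.smul_self, hc, div_mul_cancel₀ _ hx]⟩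

theorem exists_unit [Finite F] [Nontrivial V] (hN : B.SeparatingRight) : ∃ x, B x x = 1 := by
  obtain ⟨y, hy⟩ := exists_ne (0 : V)
  obtain ⟨x, hxy⟩ : ∃ x, B x y ≠ 0 := by
    by_contra! hall
    exact hy (hN y hall)
  obtain ⟨z, hz⟩ : ∃ z, B z z ≠ 0 := by
    rcases h.exists_self_ne_zero hxy with h1 | h1 | ⟨c, h1⟩ <;> exact ⟨_, h1⟩
  obtain ⟨c, hc⟩ := h.exists_scaled hz (map_one σ)
  exact ⟨_, hc⟩

theorem nondegOn_span_singleton {x : V} (hx : B x x ≠ 0) : NondegOn B (Submodule.span F {x}) := by
  refine nondegOn_iff.2 fun y hy hyw => ?_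
  obtain ⟨c, rfl⟩ := Submodule.mem_span_singleton.1 hy
  have := hyw x (Submodule.mem_span_singleton_self x)
  rw [map_smul, smul_eq_mul, mul_eq_zero] at this
  rw [this.resolve_right hx, zero_smul]

/-- Orthonormal bases exist. -/
theorem exists_orthonormal [Finite F] [FiniteDimensional F V] (hN : B.SeparatingRight) :
    ∃ b : Basis (Fin (finrank F V)) F V, ∀ i j, B (b i) (b j) = if i = j then 1 else 0 := by
  suffices H : ∀ n, ∀ W : Submodule F V, finrank F W = n → NondegOn B W →
      ∃ f : Fin n → V, (∀ i, f i ∈ W) ∧ ∀ i j, B (f i) (f j) = if i = j then 1 else 0 by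
    obtain ⟨f, -, hf⟩ := H (finrank F V) ⊤ (finrank_top F V)
      (nondegOn_iff.2 fun x _ hx => hN x fun w => hx w trivial)
    have hli : LinearIndependent F f := by
      rw [Fintype.linearIndependent_iff]
      intro g hg i
      have := congrArg (B (f i)) hg
      simpa [hf] using this
    refine ⟨basisOfLinearIndependentOfCardEqFinrank' f hli (Fintype.card_fin _), ?_⟩
    simpa using hf
  intro n
  induction n with
  | zero => exact fun W _ _ => ⟨Fin.elim0, fun i => i.elim0, fun i => i.elim0⟩
  | succ n ih =>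
    intro W hW hnd
    have : Nontrivial W := Module.nontrivial_of_finrank_pos (R := F) (by omega)
    obtain ⟨x, hx⟩ := (h.restrict W).exists_unit (restrictForm_separatingRight hnd)
    rw [restrictForm_apply] at hx
    have hx1 : NondegOn B (Submodule.span F {(x : V)}) :=
      h.nondegOn_span_singleton (by rw [hx]; exact one_ne_zero)
    set W' := W ⊓ perp B (Submodule.span F {(x : V)}) with hW'
    have hmem : ∀ y ∈ W, y - B (x : V) y • (x : V) ∈ W' := fun y hy =>
      ⟨W.sub_mem hy (W.smul_mem _ x.2), mem_perp_span.2 fun w hw => by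
        rw [Set.mem_singleton_iff.1 hw, map_sub, map_smul, hx, smul_eq_mul, mul_one, sub_self]⟩
    have hsup : W' ⊔ Submodule.span F {(x : V)} = W := by
      refine le_antisymm (sup_le inf_le_left ((Submodule.span_singleton_le_iff_mem _ _).2 x.2)) fun y hy => ?_
      rw [← sub_add_cancel y (B (x : V) y • (x : V))]
      exact Submodule.add_mem_sup (hmem y hy) (Submodule.smul_mem _ _ (Submodule.mem_span_singleton_self _))
    have hdisj : W' ⊓ Submodule.span F {(x : V)} = ⊥ := by
      rw [inf_comm, eq_bot_iff]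
      exact le_trans (inf_le_inf_left _ inf_le_right) hx1.le_bot
    have hx0 : (x : V) ≠ 0 := fun e => by simp [e] at hx
    have hfr : finrank F W' = n := by
      have h1 := Submodule.finrank_sup_add_finrank_inf_eq W' (Submodule.span F {(x : V)})
      rw [hsup, hdisj, finrank_bot, finrank_span_singleton hx0, hW] at h1
      omega
    have hnd' : NondegOn B W' := by
      refine nondegOn_iff.2 fun y hy hyw => nondegOn_iff.1 hnd y hy.1 fun w hw => ?_
      rw [← sub_add_cancel w (B (x : V) w • (x : V)), map_add, LinearMap.add_apply, hyw _ (hmem w hw),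
        map_smulₛₗ, LinearMap.smul_apply, mem_perp_span.1 hy.2 _ (Set.mem_singleton _), smul_zero, add_zero]
    obtain ⟨f, hf, hff⟩ := ih W' hfr hnd'
    have hxf : ∀ j, B (x : V) (f j) = 0 := fun j => mem_perp_span.1 (hf j).2 _ (Set.mem_singleton _)
    refine ⟨Fin.cons (x : V) f, Fin.cases x.2 fun i => (hf i).1, fun i j => ?_⟩
    refine Fin.cases ?_ (fun i => ?_) i <;> refine Fin.cases ?_ (fun j => ?_) j
    · simpa using hx
    · simp [hxf, Fin.succ_ne_zero, eq_comm]
    · simp [h.isRefl _ _ (hxf i), Fin.succ_ne_zero]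
    · simp [hff]

/-- Every linear functional is `B w`. -/
theorem exists_form_eq [Finite F] [FiniteDimensional F V] (hN : B.SeparatingRight) (f : V →ₗ[F] F) :
    ∃ w, ∀ a, B w a = f a := by
  obtain ⟨b, hb⟩ := h.exists_orthonormal hN
  refine ⟨∑ i, σ (f (b i)) • b i, fun a => ?_⟩
  have e : B (∑ i, σ (f (b i)) • b i) = f := b.ext fun j => by
    simp [map_smulₛₗ, hb, h.conj.invol]
  rw [e]

/-- Two spaces with non-degenerate Hermitian forms of the same dimension are isometric. -/
theorem exists_isometry {V' : Type*} [AddCommGroup V'] [Module F V'] [Finite F] [FiniteDimensional F V]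
    [FiniteDimensional F V'] {B' : V' →ₛₗ[σ] V' →ₗ[F] F} (h' : IsHermitian B') (hN : B.SeparatingRight)
    (hN' : B'.SeparatingRight) (hd : finrank F V = finrank F V') :
    ∃ e : V ≃ₗ[F] V', ∀ x y, B' (e x) (e y) = B x y := by
  obtain ⟨b, hb⟩ := h.exists_orthonormal hN
  obtain ⟨b', hb'⟩ := h'.exists_orthonormal hN'
  refine ⟨b.equiv b' (finCongr hd), fun x y => ?_⟩
  have e : ∀ i, (B' (b.equiv b' (finCongr hd) (b i))).comp (b.equiv b' (finCongr hd) : V →ₗ[F] V') = B (b i) :=
    fun i => b.ext fun j => by simp [hb, hb', Fin.ext_iff]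
  rw [← b.sum_repr x]
  simp only [map_sum, map_smul, map_smulₛₗ, LinearMap.sum_apply, LinearMap.smul_apply]
  exact Finset.sum_congr rfl fun i _ => congrArg _ (LinearMap.congr_fun (e i) y)

/-- Witt's lemma. -/
theorem witt [Finite F] [FiniteDimensional F V] (hN : B.SeparatingRight) (X : Submodule F V)
    (φ : X →ₗ[F] V) (hi : Function.Injective φ) (hφ : ∀ x x' : X, B (φ x) (φ x') = B (x : V) x') :
    ∃ g : isomGroup B, ∀ x : X, g.1 x = φ x := by
  induction hk : finrank F V - finrank F X using Nat.strong_induction_on generalizing X with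
  | _ k ih =>
  by_cases hnd : NondegOn B X
  · let Y := LinearMap.range φ
    have hYd : finrank F Y = finrank F X := LinearMap.finrank_range_of_inj hi
    have hndY : NondegOn B Y := by
      refine nondegOn_iff.2 ?_
      rintro _ ⟨x, rfl⟩ hx
      have : (x : V) = 0 := nondegOn_iff.1 hnd x x.2 fun w hw => by
        rw [← hφ ⟨w, hw⟩ x]; exact hx _ ⟨_, rfl⟩
      rw [show x = 0 from Subtype.ext this, map_zero]
    obtain ⟨e, he⟩ := (h.restrict (perp B X)).exists_isometry (h.restrict (perp B Y))
      (restrictForm_separatingRight (nondegOn_perp hN hnd))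
      (restrictForm_separatingRight (nondegOn_perp hN hndY))
      (by have := hnd.finrank_perp; have := hndY.finrank_perp; omega)
    let g : V ≃ₗ[F] V := (Submodule.prodEquivOfIsCompl X (perp B X) hnd.isCompl).symm ≪≫ₗ
      ((LinearEquiv.ofInjective φ hi).prodCongr e) ≪≫ₗ Submodule.prodEquivOfIsCompl Y (perp B Y) hndY.isCompl
    have hg : ∀ (x : X) (u : perp B X), g ((x : V) + u) = φ x + (e u : V) := fun x u => by
      have e1 : (Submodule.prodEquivOfIsCompl X (perp B X) hnd.isCompl).symm ((x : V) + u) = (x, u) := by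
        rw [LinearEquiv.symm_apply_eq, Submodule.coe_prodEquivOfIsCompl']
      simp [g, e1]
    refine ⟨⟨g, fun a b => ?_⟩, fun x => ?_⟩
    · obtain ⟨x, u, rfl⟩ := exists_add_eq hnd.isCompl a
      obtain ⟨x', u', rfl⟩ := exists_add_eq hnd.isCompl b
      rw [hg, hg]
      have h1 : B (φ x) (e u' : V) = 0 := mem_perp.1 (e u').2 _ ⟨x, rfl⟩
      have h2 : B (e u : V) (φ x') = 0 := h.isRefl _ _ (mem_perp.1 (e u).2 _ ⟨x', rfl⟩)
      have h3 : B (x : V) (u' : V) = 0 := mem_perp.1 u'.2 _ x.2
      have h4 : B (u : V) (x' : V) = 0 := h.isRefl _ _ (mem_perp.1 u.2 _ x'.2)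
      have h5 : B (e u : V) (e u' : V) = B (u : V) u' := he u u'
      simp [map_add, h1, h2, h3, h4, h5, hφ]
    · simpa using hg x 0
  · obtain ⟨r, hr, hr0⟩ : ∃ r ∈ X ⊓ perp B X, r ≠ 0 := by
      by_contra! hall
      exact hnd (Submodule.disjoint_def.2 fun x hx hx' => hall x ⟨hx, hx'⟩)
    obtain ⟨z, hz⟩ : ∃ z, B r z ≠ 0 := by
      by_contra! hall
      exact hr0 (hN r fun w => h.isRefl _ _ (hall w))
    have hzX : z ∉ X := fun hzX => hz (h.isRefl _ _ (mem_perp.1 hr.2 z hzX))
    obtain ⟨L, hL⟩ := LinearMap.exists_leftInverse_of_injective φ (LinearMap.ker_eq_bot.2 hi)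
    obtain ⟨w, hw⟩ := h.exists_form_eq hN ((B z).comp (X.subtype.comp L))
    have hw' : ∀ x : X, B w (φ x) = B z (x : V) := fun x => by
      rw [hw, LinearMap.comp_apply, LinearMap.comp_apply,
        show L (φ x) = x from LinearMap.congr_fun hL x]
      rfl
    have hra : B w (φ ⟨r, hr.1⟩) ≠ 0 := by
      rw [hw']
      exact fun e => hz (h.isRefl _ _ e)
    obtain ⟨c, hc⟩ := h.conj.exists_trace_eq (a := B z z - B w w)
      (by rw [map_sub, h.self_fixed, h.self_fixed])
    set a := φ ⟨r, hr.1⟩ with ha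
    have haX : ∀ x : X, B a (φ x) = 0 := fun x => by
      rw [ha, hφ]
      exact h.isRefl _ _ (mem_perp.1 hr.2 x x.2)
    set w' := w + (c / B w a) • a with hw'def
    have hwX : ∀ x : X, B w' (φ x) = B z (x : V) := fun x => by
      rw [hw'def, map_add, LinearMap.add_apply, map_smulₛₗ, LinearMap.smul_apply, haX, smul_zero, add_zero, hw']
    have hww : B w' w' = B z z := by
      have e1 : B a a = 0 := haX _
      rw [hw'def, h.add_self, h.smul_self, e1, map_smul, smul_eq_mul, div_mul_cancel₀ _ hra, hc]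
      ring
    let f : V →ₗ.[F] V := ⟨X, φ⟩
    let f' := f.supSpanSingleton z w' hzX
    have hdom : f'.domain = X ⊔ Submodule.span F {z} := LinearPMap.domain_supSpanSingleton _ _ _ _
    have hval : ∀ (x : X) (t : F) (hm : (x : V) + t • z ∈ f'.domain),
        f'.toFun ⟨(x : V) + t • z, hm⟩ = φ x + t • w' := fun x t hm =>
      LinearPMap.supSpanSingleton_apply_mk f z w' hzX x.1 x.2 t
    have hrep : ∀ y : f'.domain, ∃ (x : X) (t : F), (y : V) = (x : V) + t • z := by
      intro y
      obtain ⟨a, ha, b, hb, e⟩ := Submodule.mem_sup.1 (hdom ▸ y.2 : (y : V) ∈ X ⊔ Submodule.span F {z})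
      obtain ⟨t, rfl⟩ := Submodule.mem_span_singleton.1 hb
      exact ⟨⟨a, ha⟩, t, e.symm⟩
    have hpres : ∀ y y' : f'.domain, B (f'.toFun y) (f'.toFun y') = B (y : V) y' := by
      intro y y'
      obtain ⟨x, t, hy⟩ := hrep y
      obtain ⟨x', t', hy'⟩ := hrep y'
      have ey : f'.toFun y = φ x + t • w' := by
        rw [← hval x t (hy ▸ y.2)]; congr 1; exact Subtype.ext hy
      have ey' : f'.toFun y' = φ x' + t' • w' := by
        rw [← hval x' t' (hy' ▸ y'.2)]; congr 1; exact Subtype.ext hy'
      have hwX' : B (φ x) w' = B (x : V) z := by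
        rw [← h.symm w' (φ x), hwX, h.symm]
      rw [ey, ey', hy, hy']
      simp only [map_add, map_smulₛₗ, LinearMap.add_apply, LinearMap.smul_apply, smul_eq_mul,
        RingHom.id_apply, hφ, hwX, hwX', hww]
    have hinj : Function.Injective f'.toFun := by
      rw [injective_iff_map_eq_zero]
      intro y hy
      obtain ⟨x, t, hyv⟩ := hrep y
      have h1 := hpres ⟨(r : V) , by rw [hdom]; exact Submodule.mem_sup_left hr.1⟩ y
      rw [hy, map_zero, hyv, map_add, map_smul, smul_eq_mul,
        h.isRefl _ _ (mem_perp.1 hr.2 x x.2), zero_add] at h1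
      obtain rfl : t = 0 := (mul_eq_zero.1 h1.symm).resolve_right hz
      have ey : f'.toFun y = φ x + (0 : F) • w' := by
        rw [← hval x 0 (hyv ▸ y.2)]; congr 1; exact Subtype.ext hyv
      rw [hy, zero_smul, add_zero] at ey
      rw [hi (ey.symm.trans (map_zero φ).symm)] at hyv
      exact Subtype.ext (by simpa using hyv)
    have hlt : finrank F X < finrank F f'.domain := by
      refine Submodule.finrank_lt_finrank_of_lt (lt_of_le_of_ne (by rw [hdom]; exact le_sup_left) fun e => hzX ?_)
      rw [e, hdom]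
      exact Submodule.mem_sup_right (Submodule.mem_span_singleton_self z)
    have hle := Submodule.finrank_le f'.domain
    obtain ⟨g, hg⟩ := ih (finrank F V - finrank F f'.domain) (by omega) f'.domain f'.toFun hinj hpres rfl
    refine ⟨g, fun x => ?_⟩
    have hm : (x : V) + (0 : F) • z ∈ f'.domain := by
      rw [zero_smul, add_zero, hdom]; exact Submodule.mem_sup_left x.2
    have := hg ⟨_, hm⟩
    rw [hval x 0 hm] at this
    simpa using this

end IsHermitian

end CfsgLib.Classical
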