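import Cfsg.Agent.Lib.Classical.SL2Sylow
import Cfsg.Agent.Lib.Classical.SLOrders
import Cfsg.Agent.Lib.Recognition.SLTwoElements
import Cfsg.Agent.Lib.TwoGroups.CyclicMax

/-!
# Tori of `SL₂(q)`: element orders, cyclic and quaternion Sylow subgroups
-/

set_option autoImplicit false
set_option linter.unusedSectionVars false
set_option backward.isDefEq.respectTransparency false

open Matrix
open scoped MatrixGroups

namespace CfsgLib.Classical

variable {F : Type*} [Field F]

local notation "M2" => Matrix (Fin 2) (Fin 2) F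

theorem sl2_ext {g h : SL(2, F)} (e : (g : M2) = (h : M2)) : g = h := Subtype.ext e

theorem sl2_coe_pow (g : SL(2, F)) (k : ℕ) : ((g ^ k : SL(2, F)) : M2) = (g : M2) ^ k :=
  Matrix.SpecialLinearGroup.coe_pow g k

theorem sl2_coe_mul (g h : SL(2, F)) : ((g * h : SL(2, F)) : M2) = (g : M2) * (h : M2) :=
  Matrix.SpecialLinearGroup.coe_mul g h

theorem sl2_sq_of_eigen_one (g : SL(2, F)) (h : ((g : M2) - 1).det = 0) :
    ((g : M2) - 1) * ((g : M2) - 1) = 0 := by
  have hg := g.2
  have htr : (g : M2).trace = 2 := by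
    rw [det_fin_two] at h hg
    simp [trace_fin_two] at h ⊢
    linear_combination hg - h
  rw [sub_mul, mul_sub, mul_one, one_mul, sl2_sq, htr, two_smul]
  abel

/-- An element with trace two has order dividing the characteristic. -/
theorem sl2_pow_char (p : ℕ) [Fact p.Prime] [CharP F p] (g : SL(2, F)) (h : ((g : M2) - 1).det = 0) : g ^ p = 1 := by
  haveI : CharP M2 p := inferInstance
  refine sl2_ext ?_
  have e : ((g : M2) - 1) ^ p = 0 := by
    obtain ⟨r, hr⟩ := Nat.exists_eq_add_of_le (Fact.out : p.Prime).two_le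
    rw [hr, pow_add, pow_two, sl2_sq_of_eigen_one g h, zero_mul]
  rw [sub_pow_char_of_commute p (Commute.one_right _), one_pow, sub_eq_zero] at e
  simpa using e

/-- `(g^q - g)(g^q - g⁻¹) = 0`. -/
theorem sl2_frob_product [Fintype F] (g : SL(2, F)) :
    ((g : M2) ^ Fintype.card F - (g : M2)) * ((g : M2) ^ Fintype.card F - ((g : M2).trace • 1 - (g : M2))) = 0 := by
  obtain ⟨p, hp'⟩ := CharP.exists F
  obtain ⟨f, hp, hq⟩ := FiniteField.card F p
  haveI : Fact p.Prime := ⟨hp⟩
  haveI : CharP M2 p := inferInstance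
  set A : M2 := (g : M2) with hA
  set t := A.trace
  set B := A ^ Fintype.card F with hB
  have hsq : A * A = t • A - 1 := sl2_sq g
  have hBB : B * B = t • B - 1 := by
    rw [hB, ← (Commute.refl A).mul_pow, hsq, hq]
    rw [sub_pow_char_pow_of_commute p f (Commute.one_right _), one_pow, smul_pow]
    congr 2
    rw [← hq, FiniteField.pow_card]
  have hcomm : A * B = B * A := (Commute.self_pow A _).eq
  rw [sub_mul, mul_sub, mul_sub, mul_sub, mul_sub, hBB, hcomm, mul_smul_comm, mul_one, mul_smul_comm, mul_one, hsq]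
  abel

/-- Tori: an element of order prime to the characteristic has order dividing `q - 1` or `q + 1`. -/
theorem sl2_order_dvd [Fintype F] (p : ℕ) [Fact p.Prime] [CharP F p] (g : SL(2, F))
    (hg : (orderOf g).Coprime p) : orderOf g ∣ Fintype.card F - 1 ∨ orderOf g ∣ Fintype.card F + 1 := by
  classical
  set q := Fintype.card F with hq
  have hq2 : 2 ≤ q := Fintype.one_lt_card
  set A : M2 := (g : M2) with hA
  set t := A.trace
  by_cases hroot : ∃ l : F, l ^ 2 - t * l + 1 = 0
  · left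
    obtain ⟨l, hl⟩ := hroot
    have hl0 : l ≠ 0 := fun h => by rw [h] at hl; simp at hl
    have hg2 := g.2
    rw [det_fin_two] at hg2
    obtain ⟨v, hv, hev⟩ : ∃ v : Fin 2 → F, v ≠ 0 ∧ A *ᵥ v = l • v := by
      have hdet : (A - l • (1 : M2)).det = 0 := by
        rw [det_fin_two]
        simp [A, t, trace_fin_two] at hl ⊢
        linear_combination hl + hg2
      obtain ⟨v, hv, e⟩ := Matrix.exists_mulVec_eq_zero_iff.2 hdet
      exact ⟨v, hv, by rwa [sub_mulVec, smul_mulVec, one_mulVec, sub_eq_zero] at e⟩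
    have hpow : ∀ k, (A ^ k) *ᵥ v = l ^ k • v := by
      intro k
      induction k with
      | zero => simp
      | succ k ih => rw [pow_succ, ← mulVec_mulVec, hev, mulVec_smul, ih, smul_smul, pow_succ, mul_comm]
    have h1 : (((g ^ (q - 1) : SL(2, F)) : M2) - 1).det = 0 := by
      rw [← Matrix.exists_mulVec_eq_zero_iff]
      refine ⟨v, hv, ?_⟩
      rw [sl2_coe_pow, sub_mulVec, one_mulVec, hpow, FiniteField.pow_card_sub_one_eq_one l hl0,
        one_smul, sub_self]
    have h2 := sl2_pow_char p _ h1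
    rw [← pow_mul] at h2
    exact (Nat.Coprime.dvd_of_dvd_mul_right hg (orderOf_dvd_of_pow_eq_one h2))
  · -- `F[g]` is a field
    push Not at hroot
    have hdecomp : ∀ k, ∃ x y : F, A ^ k = x • 1 + y • A := by
      intro k
      induction k with
      | zero => exact ⟨1, 0, by simp⟩
      | succ k ih =>
        obtain ⟨x, y, e⟩ := ih
        refine ⟨-y, x + y * t, ?_⟩
        rw [pow_succ, e, add_mul, smul_mul_assoc, one_mul, smul_mul_assoc, sl2_sq]
        module
    obtain ⟨x, y, e⟩ := hdecomp q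
    have hprod := sl2_frob_product g
    rw [← hq, e] at hprod
    by_cases hxy : x = 0 ∧ y = 1
    · left
      rw [hxy.1, hxy.2, zero_smul, zero_add, one_smul] at e
      have : g ^ q = g := sl2_ext (by rw [sl2_coe_pow]; exact e)
      refine orderOf_dvd_of_pow_eq_one (mul_left_cancel (a := g) ?_)
      rw [mul_one, ← pow_succ', Nat.sub_add_cancel (by omega), this]
    · right
      have hdet : (x • (1 : M2) + y • A - A).det ≠ 0 := by
        have hg2 := g.2
        rw [det_fin_two] at hg2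
        have e' : (x • (1 : M2) + y • A - A).det = x ^ 2 + x * (y - 1) * t + (y - 1) ^ 2 := by
          rw [det_fin_two]
          simp [A, t, trace_fin_two]
          linear_combination (y - 1) ^ 2 * hg2
        rw [e']
        intro h0
        by_cases hy : y - 1 = 0
        · rw [hy] at h0
          exact hxy ⟨by simpa using h0, by linear_combination hy⟩
        · refine hroot (-x / (y - 1)) ?_
          field_simp
          linear_combination h0
      have hu : IsUnit (x • (1 : M2) + y • A - A) := by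
        rw [Matrix.isUnit_iff_isUnit_det]; exact isUnit_iff_ne_zero.2 hdet
      have hB : x • (1 : M2) + y • A = t • 1 - A := sub_eq_zero.1 (hu.mul_right_eq_zero.1 hprod)
      refine orderOf_dvd_of_pow_eq_one (sl2_ext ?_)
      rw [sl2_coe_pow, (show ((1 : SL(2, F)) : M2) = 1 from rfl), pow_succ, e, hB, sub_mul, smul_mul_assoc, one_mul,
        sl2_sq]
      abel

theorem exists_orderOf_eq_of_forall_dvd {G : Type*} [Group G] [Finite G] {g : G} {n : ℕ}
    (h : ∀ k, g ^ k = 1 → n ∣ k) : ∃ x : G, orderOf x = n := by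
  have hd : n ∣ orderOf g := h _ (pow_orderOf_eq_one g)
  exact ⟨g ^ (orderOf g / n), orderOf_pow_orderOf_div (orderOf_pos g).ne' hd⟩

variable [Fintype F]

theorem exists_sl2_minus : ∃ g : SL(2, F), orderOf g = Fintype.card F - 1 := by
  obtain ⟨ζ, -, h⟩ := CfsgLib.Recognition.SLTwoElements.exists_minus F
  rw [← Nat.card_eq_fintype_card]
  exact exists_orderOf_eq_of_forall_dvd h

theorem exists_sl2_plus (p : ℕ) [Fact p.Prime] [CharP F p] : ∃ g : SL(2, F), orderOf g = Fintype.card F + 1 := by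
  obtain ⟨g, h⟩ := CfsgLib.Recognition.SLTwoElements.exists_plus F p
  exact exists_orderOf_eq_of_forall_dvd h

theorem card_sl2' : Nat.card SL(2, F) = Fintype.card F * ((Fintype.card F - 1) * (Fintype.card F + 1)) := by
  rw [card_sl2 rfl, mul_comm (Fintype.card F - 1), ← Nat.sq_sub_sq, one_pow]

/-- For `r` odd, different from the characteristic, the Sylow `r`-subgroups are cyclic. -/
theorem sl2_sylow_cyclic (p : ℕ) [Fact p.Prime] [CharP F p] (r : ℕ) [hr : Fact r.Prime] (hr2 : r ≠ 2)
    (hrp : r ≠ p) (R : Sylow r SL(2, F)) : IsCyclic (R : Subgroup SL(2, F)) := by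
  classical
  set q := Fintype.card F with hq
  have hq2 : 2 ≤ q := Fintype.one_lt_card
  have hrq : ¬ r ∣ q := by
    obtain ⟨f, hp', hf⟩ := FiniteField.card F p
    rw [hq, hf]
    exact fun h => hrp ((Nat.prime_dvd_prime_iff_eq hr.out hp').1 (hr.out.dvd_of_dvd_pow h))
  have hnot : ¬ (r ∣ q - 1 ∧ r ∣ q + 1) := by
    rintro ⟨h1, h2⟩
    have h3 := Nat.dvd_sub h2 h1
    rw [show q + 1 - (q - 1) = 2 by omega] at h3
    exact hr2 ((Nat.prime_dvd_prime_iff_eq hr.out Nat.prime_two).1 h3)
  obtain ⟨g, hg⟩ : ∃ g : SL(2, F), (Nat.card SL(2, F)).factorization r ≤ (orderOf g).factorization r := by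
    obtain ⟨x, hx⟩ := exists_sl2_minus (F := F)
    obtain ⟨y, hy⟩ := exists_sl2_plus (F := F) p
    have h1 : q - 1 ≠ 0 := by omega
    rw [card_sl2', ← hq, Nat.factorization_mul (by omega) (mul_ne_zero h1 (by omega)),
      Nat.factorization_mul h1 (by omega), Finsupp.add_apply, Finsupp.add_apply,
      Nat.factorization_eq_zero_of_not_dvd hrq, zero_add]
    by_cases hm : r ∣ q - 1
    · refine ⟨x, ?_⟩
      rw [hx, Nat.factorization_eq_zero_of_not_dvd (fun h => hnot ⟨hm, h⟩), add_zero]
    · refine ⟨y, ?_⟩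
      rw [hy, Nat.factorization_eq_zero_of_not_dvd hm, zero_add]
  have hle : r ^ (Nat.card SL(2, F)).factorization r ∣ orderOf g :=
    (hr.out.pow_dvd_iff_le_factorization (orderOf_pos g).ne').2 hg
  set h := g ^ (orderOf g / r ^ (Nat.card SL(2, F)).factorization r)
  have hh : orderOf h = r ^ (Nat.card SL(2, F)).factorization r :=
    orderOf_pow_orderOf_div (orderOf_pos g).ne' hle
  let S : Sylow r SL(2, F) := Sylow.ofCard (Subgroup.zpowers h) (by rw [Nat.card_zpowers, hh])
  have hS : IsCyclic (S : Subgroup SL(2, F)) := by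
    show IsCyclic (Subgroup.zpowers h)
    infer_instance
  obtain ⟨c⟩ : Nonempty ((S : Subgroup SL(2, F)) ≃* (R : Subgroup SL(2, F))) := ⟨S.equiv R⟩
  exact c.isCyclic.1 hS

omit [Fintype F] in
theorem sl2_neg_ne_one (h2 : (2 : F) ≠ 0) : (-1 : SL(2, F)) ≠ 1 := by
  intro e
  have h := congrArg (fun x : SL(2, F) => (x : M2) 0 0) e
  simp at h
  exact h2 (by linear_combination -h)

omit [Fintype F] in
theorem sl2_orderOf_neg_one (h2 : (2 : F) ≠ 0) : orderOf (-1 : SL(2, F)) = 2 :=
  orderOf_eq_prime (by rw [pow_two, neg_mul_neg, one_mul]) (sl2_neg_ne_one h2)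

omit [Fintype F] in
theorem sl2_eq_neg_one (h2 : (2 : F) ≠ 0) {g : SL(2, F)} (h1 : g ≠ 1) (hg : g * g = 1) : g = -1 :=
  sl2_ext (by rw [sl2_involution h2 g h1 hg]; simp)

/-- An element of `SL₂` inverted by a square root of `-1`. -/
theorem sl2_exists_inverter (h2 : (2 : F) ≠ 0) (g : SL(2, F)) (ht : (g : M2).trace ^ 2 ≠ 4) :
    ∃ b : SL(2, F), b * b = -1 ∧ b * g * b⁻¹ = g⁻¹ := by
  classical
  have hg2 := g.2
  rw [det_fin_two] at hg2
  rw [trace_fin_two] at ht
  obtain ⟨x, y, z, hd, hlin⟩ : ∃ x y z : F, -x ^ 2 - y * z = 1 ∧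
      x * ((g : M2) 0 0 - (g : M2) 1 1) + y * (g : M2) 1 0 + z * (g : M2) 0 1 = 0 := by
    by_cases hc : (g : M2) 1 0 = 0
    · have had : (g : M2) 0 0 - (g : M2) 1 1 ≠ 0 := fun h => ht (by
        rw [hc, mul_zero, sub_zero] at hg2
        linear_combination 4 * hg2 + ((g : M2) 0 0 - (g : M2) 1 1) * h)
      refine ⟨-(g : M2) 0 1 / ((g : M2) 0 0 - (g : M2) 1 1),
        -1 - (-(g : M2) 0 1 / ((g : M2) 0 0 - (g : M2) 1 1)) ^ 2, 1, by ring, ?_⟩
      rw [hc]; field_simp; ring
    · set D := ((g : M2) 0 0 - (g : M2) 1 1) ^ 2 + 4 * (g : M2) 0 1 * (g : M2) 1 0 with hD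
      have hD0 : D ≠ 0 := fun h => ht (by rw [hD] at h; linear_combination h + 4 * hg2)
      have h4 : (2 : F) * (g : M2) 1 0 ≠ 0 := mul_ne_zero h2 hc
      obtain ⟨u, z, hu⟩ := FiniteField.exists_root_sum_quadratic
        (f := -Polynomial.X ^ 2)
        (g := Polynomial.C (D / (2 * (g : M2) 1 0) ^ 2) * Polynomial.X ^ 2 - Polynomial.C 1)
        (by rw [Polynomial.degree_neg, Polynomial.degree_X_pow]; rfl)
        (by
          rw [Polynomial.degree_sub_eq_left_of_degree_lt] <;>
            rw [Polynomial.degree_C_mul_X_pow 2 (div_ne_zero hD0 (pow_ne_zero 2 h4))]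
          · rfl
          · exact lt_of_le_of_lt Polynomial.degree_C_le (by norm_num))
        (FiniteField.odd_card_of_char_ne_two fun h => h2 (by
          haveI := ringChar.of_eq h
          exact CharTwo.two_eq_zero))
      simp only [Polynomial.eval_neg, Polynomial.eval_pow, Polynomial.eval_X, Polynomial.eval_sub,
        Polynomial.eval_mul, Polynomial.eval_C] at hu
      refine ⟨u + z * ((g : M2) 0 0 - (g : M2) 1 1) / (2 * (g : M2) 1 0),
        (-(u + z * ((g : M2) 0 0 - (g : M2) 1 1) / (2 * (g : M2) 1 0)) * ((g : M2) 0 0 - (g : M2) 1 1) -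
          z * (g : M2) 0 1) / (g : M2) 1 0, z, ?_, by field_simp; ring⟩
      rw [hD] at hu
      field_simp at hu ⊢
      linear_combination hu
  let b : SL(2, F) := ⟨!![x, y; z, -x], by rw [det_fin_two_of]; linear_combination hd⟩
  have hb : b * b = -1 := by
    apply sl2_ext
    ext i j
    fin_cases i <;> fin_cases j <;> simp [b, Matrix.mul_apply, Fin.sum_univ_two] <;>
      first | linear_combination -hd | ring
  refine ⟨b, hb, ?_⟩
  have hbg : (b * g) * (b * g) = -1 := by
    have htr : ((b * g : SL(2, F)) : M2).trace = 0 := by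
      simp [b, trace_fin_two, Matrix.mul_apply, Fin.sum_univ_two, Matrix.vecMul, dotProduct]
      linear_combination hlin
    apply sl2_ext
    rw [sl2_coe_mul, sl2_sq, htr]
    simp
  have hbi : b⁻¹ = -b := inv_eq_of_mul_eq_one_right (by rw [mul_neg, hb, neg_neg])
  calc b * g * b⁻¹ = -((b * g * b * g) * g⁻¹) := by rw [hbi, mul_neg, mul_inv_cancel_right]
    _ = g⁻¹ := by rw [mul_assoc (b * g), hbg, neg_mul, one_mul, neg_neg]

theorem sl2_trace_of_order (p : ℕ) [Fact p.Prime] [CharP F p] {g : SL(2, F)}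
    (hg : (orderOf g).Coprime p) (h3 : 3 ≤ orderOf g) : (g : M2).trace ^ 2 ≠ 4 := by
  intro h
  have hg2 := g.2
  rw [det_fin_two] at hg2
  rw [trace_fin_two, show (4 : F) = 2 ^ 2 by norm_num, sq_eq_sq_iff_eq_or_eq_neg] at h
  have hsq : orderOf g ∣ 2 * p := by
    apply orderOf_dvd_of_pow_eq_one
    rcases h with h | h
    · rw [pow_mul', sl2_pow_char p g (by rw [det_fin_two]; simp; linear_combination hg2 - h), one_pow]
    · have e := sl2_pow_char p (-g) (by rw [det_fin_two]; simp; linear_combination hg2 + h)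
      rw [pow_mul', ← neg_neg g, neg_pow, e, mul_one, ← pow_mul, mul_comm p 2, pow_mul, neg_one_sq, one_pow]
  have := Nat.le_of_dvd two_pos (hg.dvd_of_dvd_mul_right hsq)
  omega

/-- For `q` odd the Sylow `2`-subgroups are generalised quaternion. -/
theorem sl2_sylow_two (hodd : Odd (Fintype.card F)) (P : Sylow 2 SL(2, F)) :
    ∃ k : ℕ, 1 ≤ k ∧ (Nat.card SL(2, F)).factorization 2 = k + 2 ∧
      Nonempty ((P : Subgroup SL(2, F)) ≃* QuaternionGroup (2 ^ k)) := by
  classical
  obtain ⟨p, hp'⟩ := CharP.exists F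
  obtain ⟨f, hp, hq⟩ := FiniteField.card F p
  haveI : Fact p.Prime := ⟨hp⟩
  have hpodd : Odd p := (Nat.odd_pow_iff f.ne_zero).1 (hq ▸ hodd)
  have h2 : (2 : F) ≠ 0 := by
    intro h
    have := (CharP.cast_eq_zero_iff F p 2).1 (by exact_mod_cast h)
    rw [(Nat.prime_dvd_prime_iff_eq hp Nat.prime_two).1 this] at hpodd
    exact absurd hpodd (by decide)
  set q := Fintype.card F with hqdef
  have hq3 : 3 ≤ q := by
    have : 2 ≤ q := Fintype.one_lt_card
    rcases hodd with ⟨r, hr⟩; omega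
  -- a cyclic torus with the larger 2-part
  obtain ⟨g, s, hgs, hcard⟩ : ∃ (g : SL(2, F)) (s : ℕ), 2 ≤ s ∧ 2 ^ s ∣ orderOf g ∧
      (Nat.card SL(2, F)).factorization 2 = s + 1 := by
    obtain ⟨x, hx⟩ := exists_sl2_minus (F := F)
    obtain ⟨y, hy⟩ := exists_sl2_plus (F := F) p
    have hqodd : ¬ 2 ∣ q := fun h => by rcases hodd with ⟨r, hr⟩; omega
    have e : (Nat.card SL(2, F)).factorization 2 = (q - 1).factorization 2 + (q + 1).factorization 2 := by
      rw [card_sl2', ← hqdef, Nat.factorization_mul (by omega) (mul_ne_zero (by omega) (by omega)),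
        Nat.factorization_mul (by omega) (by omega), Finsupp.add_apply, Finsupp.add_apply,
        Nat.factorization_eq_zero_of_not_dvd hqodd, zero_add]
    have h2d : ∀ n, n ≠ 0 → ∀ j, (2 ^ j ∣ n ↔ j ≤ n.factorization 2) := fun n hn j =>
      Nat.prime_two.pow_dvd_iff_le_factorization hn
    rcases hodd with ⟨r, hr⟩
    rcases Nat.even_or_odd r with ⟨u, hu⟩ | ⟨u, hu⟩
    · refine ⟨x, (q - 1).factorization 2, (h2d _ (by omega) 2).1 ⟨u, by omega⟩,
        by rw [hx]; exact (h2d _ (by omega) _).2 le_rfl, ?_⟩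
      rw [e]
      have h1 : 1 ≤ (q + 1).factorization 2 := (h2d _ (by omega) 1).1 ⟨2 * u + 1, by omega⟩
      have h2' : ¬ 2 ≤ (q + 1).factorization 2 := fun h => by
        obtain ⟨w, hw⟩ := (h2d _ (by omega) 2).2 h; omega
      omega
    · refine ⟨y, (q + 1).factorization 2, (h2d _ (by omega) 2).1 ⟨u + 1, by omega⟩,
        by rw [hy]; exact (h2d _ (by omega) _).2 le_rfl, ?_⟩
      rw [e]
      have h1 : 1 ≤ (q - 1).factorization 2 := (h2d _ (by omega) 1).1 ⟨2 * u + 1, by omega⟩
      have h2' : ¬ 2 ≤ (q - 1).factorization 2 := fun h => by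
        obtain ⟨w, hw⟩ := (h2d _ (by omega) 2).2 h; omega
      omega
  obtain ⟨hdvd, hfact⟩ := hcard
  obtain ⟨k, rfl⟩ := Nat.exists_eq_add_of_le' (show 1 ≤ s by omega)
  set a := g ^ (orderOf g / 2 ^ (k + 1))
  have ha : orderOf a = 2 * 2 ^ k := by
    rw [show orderOf a = 2 ^ (k + 1) from orderOf_pow_orderOf_div (orderOf_pos g).ne' hdvd, pow_succ, mul_comm]
  have ha4 : 4 ≤ orderOf a := by
    rw [ha]
    have : 2 ^ 1 ≤ 2 ^ k := Nat.pow_le_pow_right two_pos (by omega)
    omega
  obtain ⟨b, hb2, hba⟩ := sl2_exists_inverter h2 a (sl2_trace_of_order p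
    (by
      rw [ha, ← pow_succ']
      exact Nat.Coprime.pow_left _ (Nat.coprime_two_left.2 hpodd)) (by omega))
  have ham : a ^ 2 ^ k = -1 := by
    refine sl2_eq_neg_one h2 (pow_ne_one_of_lt_orderOf (by positivity) (by rw [ha]; have := Nat.two_pow_pos k; omega)) ?_
    rw [← pow_add, ← two_mul, ← ha, pow_orderOf_eq_one]
  have hb : b ∉ Subgroup.zpowers a := fun hmem => by
    have hc : b * a = a * b := by
      obtain ⟨i, rfl⟩ := Subgroup.mem_zpowers_iff.1 hmem
      exact ((Commute.refl a).zpow_left i).eq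
    rw [hc, mul_inv_cancel_right, eq_inv_iff_mul_eq_one] at hba
    have := orderOf_dvd_of_pow_eq_one (show a ^ 2 = 1 by rw [pow_two, hba])
    have := Nat.le_of_dvd two_pos this
    omega
  -- the subgroup generated by `a` and `b`
  set Z := Subgroup.zpowers a
  have hN : b ∈ Subgroup.normalizer (Z : Set SL(2, F)) := by
    rw [Subgroup.mem_normalizer_iff]
    intro h
    have key : ∀ h, h ∈ Z → b * h * b⁻¹ ∈ Z := fun h hh => by
      obtain ⟨i, rfl⟩ := Subgroup.mem_zpowers_iff.1 hh
      rw [← conj_zpow, hba, _root_.inv_zpow]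
      exact inv_mem (zpow_mem (Subgroup.mem_zpowers a) i)
    refine ⟨key h, fun hh => ?_⟩
    have := key _ hh
    have e : b * (b * h * b⁻¹) * b⁻¹ = h := by
      calc b * (b * h * b⁻¹) * b⁻¹ = (b * b) * h * (b * b)⁻¹ := by group
        _ = h := by rw [hb2, inv_neg_one, neg_one_mul, neg_mul, mul_neg, mul_one, neg_neg]
    rwa [e] at this
  have hbb : b * b ∈ Z := by rw [hb2, ← ham]; exact pow_mem (Subgroup.mem_zpowers a) _
  let H : Subgroup SL(2, F) :=
    { carrier := {x | x ∈ Z ∨ b⁻¹ * x ∈ Z}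
      one_mem' := Or.inl (one_mem Z)
      mul_mem' := by
        rw [Subgroup.mem_normalizer_iff] at hN
        have hN' : ∀ z ∈ Z, b⁻¹ * z * b ∈ Z := fun z hz => (hN _).2 (by
          rw [show b * (b⁻¹ * z * b) * b⁻¹ = z by group]; exact hz)
        rintro x y (hx | hx) (hy | hy)
        · exact Or.inl (mul_mem hx hy)
        · right
          rw [show b⁻¹ * (x * y) = (b⁻¹ * x * b) * (b⁻¹ * y) by group]
          exact mul_mem (hN' x hx) hy
        · right
          rw [← mul_assoc]
          exact mul_mem hx hy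
        · left
          rw [show x * y = (b * b) * (b⁻¹ * (b⁻¹ * x) * b) * (b⁻¹ * y) by group]
          exact mul_mem (mul_mem hbb (hN' _ hx)) hy
      inv_mem' := by
        rw [Subgroup.mem_normalizer_iff] at hN
        rintro x (hx | hx)
        · exact Or.inl (inv_mem hx)
        · right
          rw [show b⁻¹ * x⁻¹ = (b * b)⁻¹ * (b * (b⁻¹ * x)⁻¹ * b⁻¹) by group]
          exact mul_mem (inv_mem hbb) ((hN _).1 (inv_mem hx)) }
  have hH : Nat.card H = 4 * 2 ^ k := by
    let e : H → Z ⊕ Z := fun x => if h : (x : SL(2, F)) ∈ Z then Sum.inl ⟨x, h⟩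
      else Sum.inr ⟨b⁻¹ * x, x.2.resolve_left h⟩
    have hbij : Function.Bijective e := by
      constructor
      · intro x y hxy
        simp only [e] at hxy
        split_ifs at hxy <;> simp only [Sum.inl.injEq, Sum.inr.injEq, Subtype.mk.injEq, mul_right_inj] at hxy <;>
          exact Subtype.ext hxy
      · rintro (z | z)
        · exact ⟨⟨z, Or.inl z.2⟩, by simp [e]⟩
        · refine ⟨⟨b * z, Or.inr (by simp)⟩, ?_⟩
          have : b * (z : SL(2, F)) ∉ Z := fun h => hb (by simpa using mul_mem h (inv_mem z.2))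
          simp [e, this]
    rw [Nat.card_eq_of_bijective e hbij, Nat.card_sum, Nat.card_zpowers, ha]; ring
  have hbH : b ∈ H := Or.inr (by simp)
  have haH : a ∈ H := Or.inl (Subgroup.mem_zpowers a)
  obtain ⟨eQ⟩ := CfsgLib.TwoGroups.CyclicMax.quaternion_iso (G := H) (a := ⟨a, haH⟩) (b := ⟨b, hbH⟩) (m := 2 ^ k)
    (by positivity) (by rw [Subgroup.orderOf_mk, ha]) hH
    (fun h => hb (by
      obtain ⟨i, hi⟩ := Subgroup.mem_zpowers_iff.1 h
      exact ⟨i, by simpa using congrArg Subtype.val hi⟩))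
    (Subtype.ext (by simpa using hb2.trans ham.symm))
    (Subtype.ext (by simpa using hba))
  let S : Sylow 2 SL(2, F) := Sylow.ofCard H (by rw [hH, hfact]; ring)
  exact ⟨k, by omega, by omega, ⟨(P.equiv S).trans eQ⟩⟩

end CfsgLib.Classical
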