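import Cfsg.Agent.Lib.Classical.SL2Tori

/-!
# Elements of order four in `SL₂(q)` and involutions of `PSL₂(q)`
-/

set_option autoImplicit false
set_option linter.unusedSectionVars false
set_option backward.isDefEq.respectTransparency false

open Matrix
open scoped MatrixGroups

namespace CfsgLib.Classical

variable {F : Type*} [Field F]

local notation "M2" => Matrix (Fin 2) (Fin 2) F

/-- The element with matrix `[[0,-1],[1,0]]`. -/
def sl2J : SL(2, F) := ⟨!![0, -1; 1, 0], by simp⟩

theorem sl2_mul_self_eq_neg_one_iff (g : SL(2, F)) : g * g = -1 ↔ (g : M2).trace = 0 := by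
  constructor
  · intro h
    have e : (g : M2) * (g : M2) = -1 := by rw [← sl2_coe_mul, h]; simp
    rw [sl2_sq, sub_eq_iff_eq_add, neg_add_cancel] at e
    rcases smul_eq_zero.1 e with e' | e'
    · exact e'
    · rw [e']; simp
  · intro h
    refine sl2_ext ?_
    rw [sl2_coe_mul, sl2_sq, h]
    simp

theorem sl2_inv_eq_neg {g : SL(2, F)} (h : g * g = -1) : g⁻¹ = -g :=
  inv_eq_of_mul_eq_one_right (by rw [mul_neg, h, neg_neg])

variable [Fintype F]

theorem sl2_odd_of_two (h2 : (2 : F) ≠ 0) : Fintype.card F % 2 = 1 :=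
  FiniteField.odd_card_of_char_ne_two fun h => h2 (by
    haveI := ringChar.of_eq h
    exact CharTwo.two_eq_zero)

theorem sl2_trace_zero_conj_J (h2 : (2 : F) ≠ 0) (x : SL(2, F)) (hx : x * x = -1) :
    ∃ h : SL(2, F), h⁻¹ * x * h = sl2J := by
  classical
  have ht := (sl2_mul_self_eq_neg_one_iff x).1 hx
  have hdet := x.2
  rw [trace_fin_two] at ht
  rw [det_fin_two] at hdet
  set a := (x : M2) 0 0
  set b := (x : M2) 0 1
  set c := (x : M2) 1 0
  have hd : (x : M2) 1 1 = -a := by linear_combination ht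
  rw [hd] at hdet
  obtain ⟨u, v, huv⟩ : ∃ u v : F, c * u ^ 2 - 2 * a * u * v - b * v ^ 2 = 1 := by
    by_cases hc : c = 0
    · have ha : a ≠ 0 := fun h => by rw [hc, h] at hdet; simp at hdet
      exact ⟨-(1 + b) / (2 * a), 1, by rw [hc]; field_simp; ring⟩
    · obtain ⟨w, v, hwv⟩ := FiniteField.exists_root_sum_quadratic
        (f := Polynomial.C c * Polynomial.X ^ 2)
        (g := Polynomial.C c⁻¹ * Polynomial.X ^ 2 - Polynomial.C 1)
        (by rw [Polynomial.degree_C_mul_X_pow 2 hc]; rfl)
        (by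
          rw [Polynomial.degree_sub_eq_left_of_degree_lt] <;>
            rw [Polynomial.degree_C_mul_X_pow 2 (inv_ne_zero hc)]
          · rfl
          · exact lt_of_le_of_lt Polynomial.degree_C_le (by norm_num))
        (sl2_odd_of_two h2)
      simp only [Polynomial.eval_pow, Polynomial.eval_X, Polynomial.eval_sub,
        Polynomial.eval_mul, Polynomial.eval_C] at hwv
      refine ⟨w + a * v / c, v, ?_⟩
      field_simp at hwv ⊢
      linear_combination hwv + v ^ 2 * hdet
  refine ⟨⟨!![u, a * u + b * v; v, c * u - a * v], by rw [det_fin_two_of]; linear_combination huv⟩, ?_⟩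
  rw [mul_assoc, inv_mul_eq_iff_eq_mul]
  refine sl2_ext ?_
  rw [sl2_coe_mul, sl2_coe_mul, sl2J]
  ext i j
  fin_cases i <;> fin_cases j <;> simp [Matrix.mul_apply, Fin.sum_univ_two] <;>
    simp only [show (x : M2) 0 0 = a from rfl, show (x : M2) 0 1 = b from rfl, show (x : M2) 1 0 = c from rfl, hd] <;>
    first | ring1 | linear_combination (-u) * hdet | linear_combination (-v) * hdet

theorem sl2_trace_zero_conj (h2 : (2 : F) ≠ 0) {x y : SL(2, F)} (hx : x * x = -1) (hy : y * y = -1) :
    ∃ g : SL(2, F), g * x * g⁻¹ = y := by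
  obtain ⟨h, hh⟩ := sl2_trace_zero_conj_J h2 x hx
  obtain ⟨k, hk⟩ := sl2_trace_zero_conj_J h2 y hy
  refine ⟨k * h⁻¹, ?_⟩
  calc k * h⁻¹ * x * (k * h⁻¹)⁻¹ = k * (h⁻¹ * x * h) * k⁻¹ := by group
    _ = k * (k⁻¹ * y * k) * k⁻¹ := by rw [hh, hk]
    _ = y := by group

theorem sl2_card_trace_zero (h2 : (2 : F) ≠ 0) :
    Nat.card {g : SL(2, F) // g * g = -1} =
      if Fintype.card F % 4 = 1 then Fintype.card F * (Fintype.card F + 1)
      else Fintype.card F * (Fintype.card F - 1) := by
  classical
  set q := Fintype.card F with hq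
  have hq2 : 2 ≤ q := Fintype.one_lt_card
  let e : {g : SL(2, F) // g * g = -1} ≃ Σ a : F, {v : F × F // v.1 * v.2 = -1 - a ^ 2} :=
    { toFun := fun g => ⟨(g.1 : M2) 0 0, ⟨((g.1 : M2) 0 1, (g.1 : M2) 1 0), by
        have h1 := g.1.2
        have h2' := (sl2_mul_self_eq_neg_one_iff g.1).1 g.2
        rw [det_fin_two] at h1
        rw [trace_fin_two] at h2'
        show (g.1 : M2) 0 1 * (g.1 : M2) 1 0 = _
        linear_combination -h1 + (g.1 : M2) 0 0 * h2'⟩⟩
      invFun := fun p => ⟨⟨!![p.1, p.2.1.1; p.2.1.2, -p.1], by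
          rw [det_fin_two_of]; linear_combination -p.2.2⟩,
        (sl2_mul_self_eq_neg_one_iff _).2 (by simp [trace_fin_two])⟩
      left_inv := fun g => by
        have h2' := (sl2_mul_self_eq_neg_one_iff g.1).1 g.2
        rw [trace_fin_two] at h2'
        refine Subtype.ext (sl2_ext ?_)
        ext i j
        fin_cases i <;> fin_cases j <;> simp <;> linear_combination -h2'
      right_inv := fun p => by simp }
  have hfib : ∀ k : F, Nat.card {v : F × F // v.1 * v.2 = k} = if k = 0 then 2 * q - 1 else q - 1 := by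
    intro k
    have hsig : {v : F × F // v.1 * v.2 = k} ≃ Σ x : F, {y : F // x * y = k} :=
      { toFun := fun v => ⟨v.1.1, v.1.2, v.2⟩
        invFun := fun s => ⟨(s.1, s.2.1), s.2.2⟩
        left_inv := fun v => rfl
        right_inv := fun s => rfl }
    rw [Nat.card_congr hsig, Nat.card_sigma]
    have h0 : ∀ x : F, Nat.card {y : F // x * y = k} = if x = 0 then (if k = 0 then q else 0) else 1 := by
      intro x
      by_cases hx : x = 0
      · subst hx
        by_cases hk : k = 0
        · rw [if_pos rfl, if_pos hk, hq, ← Nat.card_eq_fintype_card]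
          exact Nat.card_congr (Equiv.subtypeUnivEquiv fun y => by simp [hk])
        · rw [if_pos rfl, if_neg hk, Nat.card_eq_zero]
          exact Or.inl ⟨fun y => hk (by rw [← y.2, zero_mul])⟩
      · rw [if_neg hx, Nat.card_eq_one_iff_unique]
        exact ⟨⟨fun y z => Subtype.ext (mul_left_cancel₀ hx (y.2.trans z.2.symm))⟩, ⟨⟨x⁻¹ * k, by field_simp⟩⟩⟩
    simp only [h0]
    rw [Finset.sum_ite, Finset.sum_const, Finset.sum_const]
    have h1 : (Finset.univ.filter fun x : F => x = 0).card = 1 := Finset.card_eq_one.2 ⟨0, by ext; simp⟩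
    have h2' := Finset.card_filter_add_card_filter_not (s := (Finset.univ : Finset F)) (fun x : F => x = 0)
    rw [Finset.card_univ, ← hq, h1] at h2'
    rw [h1]
    split_ifs <;> simp <;> omega
  rw [Nat.card_congr e, Nat.card_sigma]
  simp only [hfib]
  rw [Finset.sum_ite, Finset.sum_const, Finset.sum_const, smul_eq_mul, smul_eq_mul]
  have hodd := sl2_odd_of_two h2
  have hroots : (Finset.univ.filter fun a : F => (-1 : F) - a ^ 2 = 0).card = if q % 4 = 1 then 2 else 0 := by
    by_cases h4 : q % 4 = 1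
    · rw [if_pos h4]
      obtain ⟨i, hi⟩ := FiniteField.isSquare_neg_one_iff.2 (show Fintype.card F % 4 ≠ 3 by omega)
      have hi0 : i ≠ 0 := fun h => by rw [h, mul_zero] at hi; simp at hi
      have hne : i ≠ -i := fun h => hi0 (mul_left_cancel₀ h2 (by rw [mul_zero]; linear_combination h))
      rw [show (Finset.univ.filter fun a : F => (-1 : F) - a ^ 2 = 0) = {i, -i} from ?_, Finset.card_pair hne]
      ext a
      simp only [Finset.mem_filter, Finset.mem_univ, true_and, Finset.mem_insert, Finset.mem_singleton, sub_eq_zero]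
      rw [hi, pow_two, eq_comm, mul_self_eq_mul_self_iff]
    · rw [if_neg h4, Finset.card_eq_zero, Finset.filter_eq_empty_iff]
      intro a _ ha
      have := FiniteField.isSquare_neg_one_iff.1 (⟨a, by linear_combination ha⟩ : IsSquare (-1 : F))
      omega
  have hsplit := Finset.card_filter_add_card_filter_not (s := (Finset.univ : Finset F))
    (fun a : F => (-1 : F) - a ^ 2 = 0)
  rw [Finset.card_univ, ← hq, hroots] at hsplit
  rw [hroots]
  obtain ⟨r, hr⟩ : ∃ r, q = 2 * r + 1 := ⟨q / 2, by omega⟩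
  clear_value q
  subst hr
  split_ifs at hsplit ⊢ with h
  · rw [show (Finset.univ.filter fun a : F => ¬ (-1 : F) - a ^ 2 = 0).card = 2 * r - 1 by omega]
    rcases r with _ | r
    · omega
    · simp only [show 2 * (2 * (r + 1) + 1) - 1 = 4 * r + 5 by omega, show 2 * (r + 1) + 1 - 1 = 2 * r + 2 by omega,
        show 2 * (r + 1) - 1 = 2 * r + 1 by omega]
      ring
  · rw [show (Finset.univ.filter fun a : F => ¬ (-1 : F) - a ^ 2 = 0).card = 2 * r + 1 by omega]
    simp

/-- The centraliser of an element of order four has order `q - 1` or `q + 1`. -/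
theorem sl2_card_centralizer (h2 : (2 : F) ≠ 0) {x : SL(2, F)} (hx : x * x = -1) :
    Nat.card (Subgroup.centralizer ({x} : Set SL(2, F))) =
      if Fintype.card F % 4 = 1 then Fintype.card F - 1 else Fintype.card F + 1 := by
  classical
  set C := Subgroup.centralizer ({x} : Set SL(2, F))
  let f : SL(2, F) ⧸ C → {g : SL(2, F) // g * g = -1} := Quotient.lift
    (fun g => ⟨g * x * g⁻¹, by
      rw [show g * x * g⁻¹ * (g * x * g⁻¹) = g * (x * x) * g⁻¹ by group, hx, mul_neg, mul_one, neg_mul, mul_inv_cancel]⟩)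
    (fun g k hgk => by
      have h := QuotientGroup.leftRel_apply.1 hgk
      rw [Subgroup.mem_centralizer_singleton_iff] at h
      refine Subtype.ext ?_
      calc g * x * g⁻¹ = g * (x * (g⁻¹ * k)) * k⁻¹ := by group
        _ = g * ((g⁻¹ * k) * x) * k⁻¹ := by rw [h]
        _ = k * x * k⁻¹ := by group)
  have hbij : Function.Bijective f := by
    constructor
    · intro p r
      induction p using QuotientGroup.induction_on with
      | _ g =>
        induction r using QuotientGroup.induction_on with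
        | _ k =>
          intro e
          refine QuotientGroup.eq.2 ?_
          rw [Subgroup.mem_centralizer_singleton_iff]
          have e' : g * x * g⁻¹ = k * x * k⁻¹ := congrArg Subtype.val e
          calc g⁻¹ * k * x = g⁻¹ * (k * x * k⁻¹) * k := by group
            _ = g⁻¹ * (g * x * g⁻¹) * k := by rw [e']
            _ = x * (g⁻¹ * k) := by group
    · rintro ⟨y, hy⟩
      obtain ⟨g, hg⟩ := sl2_trace_zero_conj h2 hx hy
      exact ⟨QuotientGroup.mk g, Subtype.ext hg⟩
  have h := Subgroup.card_eq_card_quotient_mul_card_subgroup C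
  rw [Nat.card_eq_of_bijective f hbij, sl2_card_trace_zero h2, card_sl2'] at h
  have hq2 : 2 ≤ Fintype.card F := Fintype.one_lt_card
  split_ifs at h ⊢
  · rw [mul_comm (Fintype.card F - 1), ← mul_assoc] at h
    exact (Nat.eq_of_mul_eq_mul_left (by positivity) h).symm
  · rw [← mul_assoc] at h
    exact (Nat.eq_of_mul_eq_mul_left (Nat.mul_pos (by omega) (by omega)) h).symm

/-- A subgroup of order four of `SL₂`, `q` odd, is generated by a square root of `-1`. -/
theorem sl2_four_subgroup (h2 : (2 : F) ≠ 0) (A : Subgroup SL(2, F)) (hA : Nat.card A = 4) :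
    ∃ x : SL(2, F), x * x = -1 ∧ A = Subgroup.zpowers x := by
  have hpow : ∀ a ∈ A, (a * a) * (a * a) = 1 := fun a ha => by
    have : (⟨a, ha⟩ : A) ^ 4 = 1 := by rw [← hA]; exact pow_card_eq_one'
    simpa [pow_succ, mul_assoc] using congrArg Subtype.val this
  obtain ⟨a, ha, haa⟩ : ∃ a ∈ A, a * a ≠ 1 := by
    by_contra! h
    have hsub : ∀ a : A, (a : SL(2, F)) = 1 ∨ (a : SL(2, F)) = -1 := fun a =>
      or_iff_not_imp_left.2 fun h1 => sl2_eq_neg_one h2 h1 (h _ a.2)
    have hle : Nat.card A ≤ Nat.card ({1, -1} : Set SL(2, F)) :=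
      Nat.card_le_card_of_injective (fun a => ⟨(a : SL(2, F)), hsub a⟩) fun a b e =>
        Subtype.ext (Subtype.mk.inj e)
    rw [hA, Nat.card_coe_set_eq, Set.ncard_pair (sl2_neg_ne_one h2).symm] at hle
    omega
  have hx : a * a = -1 := sl2_eq_neg_one h2 haa (hpow a ha)
  refine ⟨a, hx, (Subgroup.eq_of_le_of_card_ge (Subgroup.zpowers_le.2 ha) ?_).symm⟩
  have h4 : orderOf a = 2 ^ (1 + 1) := orderOf_eq_prime_pow
    (by rw [pow_one, pow_two, hx]; exact sl2_neg_ne_one h2)
    (by rw [show 2 ^ (1 + 1) = 4 from rfl]; simpa [pow_succ, mul_assoc] using hpow a ha)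
  rw [Nat.card_zpowers, h4, hA]
  norm_num

theorem sl2_center_eq {z : SL(2, F)} (hz : z ∈ Subgroup.center SL(2, F)) : z = 1 ∨ z = -1 := by
  obtain ⟨t, ht, e⟩ := Matrix.SpecialLinearGroup.mem_center_iff.1 hz
  rw [Fintype.card_fin, pow_two] at ht
  rcases mul_self_eq_one_iff.1 ht with rfl | rfl
  · exact Or.inl (sl2_ext (by rw [← e]; simp))
  · exact Or.inr (sl2_ext (by rw [← e]; simp [Matrix.scalar_apply, ← diagonal_neg]))

theorem sl2_neg_one_central : (-1 : SL(2, F)) ∈ Subgroup.center SL(2, F) :=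
  Subgroup.mem_center_iff.2 fun g => by rw [mul_neg, mul_one, neg_mul, one_mul]

/-- Involutions of `PSL₂` lift to square roots of `-1`. -/
theorem psl2_involution_lift (h2 : (2 : F) ≠ 0) (g : SL(2, F))
    (h : orderOf (QuotientGroup.mk' (Subgroup.center SL(2, F)) g) = 2) : g * g = -1 := by
  have h' : QuotientGroup.mk' (Subgroup.center SL(2, F)) (g * g) = 1 := by
    have h'' := pow_orderOf_eq_one (QuotientGroup.mk' (Subgroup.center SL(2, F)) g)
    rw [h] at h''
    rw [map_mul, ← pow_two]; exact h''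
  rw [← MonoidHom.mem_ker, QuotientGroup.ker_mk'] at h'
  refine (sl2_center_eq h').resolve_left fun e => ?_
  by_cases h1 : g = 1
  · rw [h1, map_one, orderOf_one] at h; omega
  · rw [sl2_eq_neg_one h2 h1 e] at h
    have : QuotientGroup.mk' (Subgroup.center SL(2, F)) (-1) = 1 := by
      rw [← MonoidHom.mem_ker, QuotientGroup.ker_mk']; exact sl2_neg_one_central
    rw [this, orderOf_one] at h
    omega

end CfsgLib.Classical
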