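import Cfsg.Agent.Lib.Orth.Bridge
import Cfsg.Agent.Lib.Orth.Stab

/-!
# Applications of the orthogonal group library: indices of `Ω`, index-two subgroups, Witt's lemma
-/

set_option autoImplicit false
set_option linter.unusedSectionVars false

open QuadraticMap Module
open scoped commutatorElement
open CfsgLib.Orth

namespace CfsgLib.Classical

variable {F V : Type*} [Field F] [AddCommGroup V] [Module F V] [FiniteDimensional F V]
  {Q : QuadraticForm F V} (hQ : (QuadraticMap.polarBilin Q).Nondegenerate)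

include hQ

theorem exists_value_top [Fintype F] (hn : 2 ≤ finrank F V) (c : F) : ∃ a, Q a = c := by
  obtain ⟨a, -, ha⟩ := exists_value (Q := Q) (⊤ : Submodule F V) (by
    rw [LinearMap.BilinForm.orthogonal_top_eq_bot hQ
      , inf_bot_eq, finrank_bot, finrank_top]
    omega) c
  exact ⟨a, ha⟩

omit hQ in
theorem refl_eq_one {a : V} (ha : Q a = 0) : refl Q a = 1 :=
  Subtype.ext (LinearEquiv.ext fun v => by rw [refl_apply, ha]; simp)

theorem det_pm (h4 : Good F V) (g : orthGroup Q) :
    LinearMap.det (g.1 : V →ₗ[F] V) = 1 ∨ LinearMap.det (g.1 : V →ₗ[F] V) = -1 := by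
  have hg : g ∈ reflGroup Q := by rw [reflGroup_eq_top hQ h4]; trivial
  induction hg using Subgroup.closure_induction with
  | mem x hx =>
    obtain ⟨a, rfl⟩ := hx
    by_cases ha : Q a = 0
    · left; rw [refl_eq_one ha]; exact LinearMap.det_id
    · exact Or.inr (det_refl Q ha)
  | one => exact Or.inl LinearMap.det_id
  | mul x y _ _ hx hy =>
    change LinearMap.det ((x.1 : V →ₗ[F] V) * (y.1 : V →ₗ[F] V)) = 1 ∨ _ = -1
    rw [map_mul]
    rcases hx with h | h <;> rcases hy with h' | h' <;> simp [h, h']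
  | inv x _ hx =>
    have h : LinearMap.det ((x⁻¹).1 : V →ₗ[F] V) * LinearMap.det (x.1 : V →ₗ[F] V) = 1 := by
      rw [← map_mul]
      change LinearMap.det (((x⁻¹ * x : orthGroup Q)).1 : V →ₗ[F] V) = 1
      rw [inv_mul_cancel]
      exact LinearMap.det_id
    rcases hx with h' | h' <;> rw [h'] at h
    · exact Or.inl (by simpa using h)
    · exact Or.inr (by linear_combination -h)

/-- The determinant as a sign. -/
theorem exists_detSign (h4 : Good F V) (h2 : (2 : F) ≠ 0) : ∃ χ : orthGroup Q →* ℤˣ,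
    ∀ g, (((χ g : ℤˣ) : ℤ) : F) = LinearMap.det (g.1 : V →ₗ[F] V) := by
  classical
  let f : orthGroup Q → ℤˣ := fun g => if LinearMap.det (g.1 : V →ₗ[F] V) = 1 then 1 else -1
  have hf : ∀ g, (((f g : ℤˣ) : ℤ) : F) = LinearMap.det (g.1 : V →ₗ[F] V) := fun g => by
    simp only [f]
    split_ifs with h
    · simp [h]
    · simp [(det_pm hQ h4 g).resolve_left h]
  have hinj : ∀ u v : ℤˣ, (((u : ℤˣ) : ℤ) : F) = ((v : ℤ) : F) → u = v := by
    intro u v h
    rcases Int.units_eq_one_or u with rfl | rfl <;> rcases Int.units_eq_one_or v with rfl | rfl <;>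
      simp at h ⊢
    · exact h2 (by linear_combination h)
    · exact h2 (by linear_combination -h)
  refine ⟨MonoidHom.mk' f fun a b => hinj _ _ ?_, hf⟩
  rw [hf, Units.val_mul, Int.cast_mul, hf, hf]
  exact map_mul LinearMap.det (a.1 : V →ₗ[F] V) (b.1 : V →ₗ[F] V)

/-- Odd order: determinant and spinor norm identify the quotient by `Ω` with `2²`. -/
theorem exists_invariants [Fintype F] [Finite V] (h2 : (2 : F) ≠ 0) (hn : 2 ≤ finrank F V) :
    ∃ Φ : orthGroup Q →* ℤˣ × ℤˣ, Function.Surjective Φ ∧ Φ.ker = commutator (orthGroup Q) ∧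
      ∀ g, (Φ g).1 = 1 ↔ LinearMap.det (g.1 : V →ₗ[F] V) = 1 := by
  classical
  obtain ⟨χ, hχ⟩ := exists_detSign hQ (good_of_two_ne h2) h2
  have hχ1 : ∀ g, χ g = 1 ↔ LinearMap.det (g.1 : V →ₗ[F] V) = 1 := fun g => by
    rw [← hχ g]
    rcases Int.units_eq_one_or (χ g) with h | h <;> simp [h]
    intro h'
    exact h2 (by linear_combination -h')
  refine ⟨χ.prod (levelSign Q 1), ?_, ?_, fun g => hχ1 g⟩
  · obtain ⟨ε, hε⟩ := FiniteField.exists_nonsquare (F := F) (fun h => h2 (by
      have := ringChar.of_eq h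
      exact CharTwo.two_eq_zero))
    obtain ⟨a, ha⟩ := exists_value_top hQ hn (1 : F)
    obtain ⟨b, hb⟩ := exists_value_top hQ hn ε
    have hε0 : ε ≠ 0 := fun h => hε (h ▸ ⟨0, by simp⟩)
    have hdet : ∀ c, Q c ≠ 0 → χ (refl Q c) = -1 := fun c hc => by
      rcases Int.units_eq_one_or (χ (refl Q c)) with h | h
      · have := (hχ1 _).1 h
        rw [det_refl Q hc] at this
        exact absurd (by linear_combination -this) h2
      · exact h
    have e1 : (χ.prod (levelSign Q 1)) (refl Q a) = (-1, -1) := by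
      rw [MonoidHom.prod_apply, hdet a (by rw [ha]; exact one_ne_zero),
        levelSign_refl Q h2 one_ne_zero (by rw [ha]; exact one_ne_zero), if_pos (by simp [ha])]
    have e2 : (χ.prod (levelSign Q 1)) (refl Q b) = (-1, 1) := by
      rw [MonoidHom.prod_apply, hdet b (by rw [hb]; exact hε0),
        levelSign_refl Q h2 one_ne_zero (by rw [hb]; exact hε0), if_neg (by simp [hb, hε])]
    rintro ⟨u, v⟩
    rcases Int.units_eq_one_or u with rfl | rfl <;> rcases Int.units_eq_one_or v with rfl | rfl
    · exact ⟨1, map_one _⟩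
    · exact ⟨refl Q a * refl Q b, by rw [map_mul, e1, e2]; rfl⟩
    · exact ⟨refl Q b, e2⟩
    · exact ⟨refl Q a, e1⟩
  · ext g
    rw [MonoidHom.mem_ker, mem_commutator_odd hQ h2, MonoidHom.prod_apply, Prod.mk_eq_one, hχ1]

theorem index_commutator_odd [Fintype F] [Finite V] (h2 : (2 : F) ≠ 0) (hn : 2 ≤ finrank F V) :
    (commutator (orthGroup Q)).index = 4 := by
  obtain ⟨Φ, hs, hk, -⟩ := exists_invariants hQ h2 hn
  rw [← hk, Subgroup.index_ker, MonoidHom.range_eq_top.2 hs, Subgroup.card_top]
  simp [Nat.card_eq_fintype_card]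

theorem index_commutator_two [Fintype F] [CharP F 2] (h4 : Good F V) (hn : 2 ≤ finrank F V) :
    (commutator (orthGroup Q)).index = 2 := by
  obtain ⟨κ, hκ⟩ := exists_dickson Q hQ
  have hk : κ.ker = commutator (orthGroup Q) := by
    ext g
    rw [MonoidHom.mem_ker, mem_commutator_two hQ h4 κ hκ]
  have hr : κ.range = Subgroup.zpowers (Multiplicative.ofAdd (1 : F)) := by
    refine le_antisymm ?_ ?_
    · rintro _ ⟨g, rfl⟩
      have hg : g ∈ reflGroup Q := by rw [reflGroup_eq_top hQ h4]; trivial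
      induction hg using Subgroup.closure_induction with
      | mem x hx =>
        obtain ⟨a, rfl⟩ := hx
        by_cases ha : Q a = 0
        · rw [refl_eq_one ha]; simp
        · rw [hκ a ha]; exact Subgroup.mem_zpowers _
      | one => simp
      | mul x y _ _ hx hy => rw [map_mul]; exact mul_mem hx hy
      | inv x _ hx => rw [map_inv]; exact inv_mem hx
    · rw [Subgroup.zpowers_le]
      obtain ⟨a, ha⟩ := exists_value_top hQ hn (1 : F)
      exact ⟨refl Q a, hκ a (by rw [ha]; exact one_ne_zero)⟩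
  rw [← hk, Subgroup.index_ker, hr, Nat.card_zpowers]
  refine orderOf_eq_prime ?_ ?_
  · rw [← ofAdd_nsmul, two_nsmul, CharTwo.add_self_eq_zero, ofAdd_zero]
  · intro h; exact one_ne_zero (congrArg Multiplicative.toAdd h)

omit hQ in
/-- The isometries of determinant one. -/
def detKer (Q : QuadraticForm F V) : Subgroup (orthGroup Q) where
  carrier := {g | LinearMap.det (g.1 : V →ₗ[F] V) = 1}
  one_mem' := LinearMap.det_id
  mul_mem' {a b} (ha : _ = 1) (hb : _ = 1) := by
    change LinearMap.det ((a.1 : V →ₗ[F] V) * (b.1 : V →ₗ[F] V)) = 1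
    rw [map_mul, ha, hb, one_mul]
  inv_mem' {a} (ha : _ = 1) := by
    have h : LinearMap.det ((a⁻¹).1 : V →ₗ[F] V) * LinearMap.det (a.1 : V →ₗ[F] V) = 1 := by
      rw [← map_mul]
      change LinearMap.det (((a⁻¹ * a : orthGroup Q)).1 : V →ₗ[F] V) = 1
      rw [inv_mul_cancel]
      exact LinearMap.det_id
    rwa [ha, mul_one] at h

theorem refl_mul_mem_detKer (a b : V) (ha : Q a ≠ 0) (hb : Q b ≠ 0) :
    refl Q a * refl Q b ∈ detKer Q := by
  change LinearMap.det (((refl Q a).1 : V →ₗ[F] V) * ((refl Q b).1 : V →ₗ[F] V)) = 1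
  rw [map_mul, det_refl Q ha, det_refl Q hb]
  ring

theorem commutator_le_detKer : commutator (orthGroup Q) ≤ detKer Q := by
  intro g hg
  let δ : orthGroup Q →* F :=
    { toFun := fun g => LinearMap.det (g.1 : V →ₗ[F] V)
      map_one' := LinearMap.det_id
      map_mul' := fun x y => map_mul LinearMap.det (x.1 : V →ₗ[F] V) (y.1 : V →ₗ[F] V) }
  exact congrArg Units.val (MonoidHom.mem_ker.1 (Abelianization.commutator_subset_ker δ.toHomUnits hg))

theorem commutator_le_of_squares (h4 : Good F V) (T : Subgroup (orthGroup Q))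
    (hT : ∀ x ∈ detKer Q, x * x ∈ T) : commutator (orthGroup Q) ≤ T := by
  let T₀ : Subgroup (orthGroup Q) := Subgroup.closure {y | ∃ x ∈ detKer Q, y = x * x}
  have hT₀ : T₀ ≤ T := (Subgroup.closure_le _).2 (by rintro _ ⟨x, hx, rfl⟩; exact hT x hx)
  have hn : T₀.Normal := by
    refine ⟨fun n hn g => ?_⟩
    have hle : T₀ ≤ T₀.comap (MulAut.conj g).toMonoidHom := (Subgroup.closure_le _).2 (by
      rintro _ ⟨x, hx, rfl⟩
      refine Subgroup.subset_closure ⟨g * x * g⁻¹, ?_, by simp [MulAut.conj_apply, mul_assoc]⟩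
      change LinearMap.det ((g.1 : V →ₗ[F] V) * (x.1 : V →ₗ[F] V) * ((g⁻¹).1 : V →ₗ[F] V)) = 1
      rw [map_mul, map_mul, show LinearMap.det (x.1 : V →ₗ[F] V) = 1 from hx, mul_one, ← map_mul]
      change LinearMap.det (((g * g⁻¹ : orthGroup Q)).1 : V →ₗ[F] V) = 1
      rw [mul_inv_cancel]
      exact LinearMap.det_id)
    exact hle hn
  refine le_trans ?_ hT₀
  let π := QuotientGroup.mk' T₀
  have hgen : ∀ a b, π (refl Q a) * π (refl Q b) = π (refl Q b) * π (refl Q a) := by
    intro a b
    by_cases ha : Q a = 0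
    · simp [refl_eq_one ha]
    by_cases hb : Q b = 0
    · simp [refl_eq_one hb]
    rw [← map_mul, ← map_mul, eq_comm]
    refine QuotientGroup.eq.2 ?_
    have : (refl Q b * refl Q a)⁻¹ * (refl Q a * refl Q b) =
        (refl Q a * refl Q b) * (refl Q a * refl Q b) := by
      rw [_root_.mul_inv_rev, refl_inv, refl_inv]
    rw [this]
    exact Subgroup.subset_closure ⟨_, refl_mul_mem_detKer hQ a b ha hb, rfl⟩
  have hcomm : ∀ g h : orthGroup Q, π g * π h = π h * π g := by
    intro g h
    have hg : g ∈ reflGroup Q := by rw [reflGroup_eq_top hQ h4]; trivial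
    induction hg using Subgroup.closure_induction with
    | mem x hx =>
      obtain ⟨a, rfl⟩ := hx
      have hh : h ∈ reflGroup Q := by rw [reflGroup_eq_top hQ h4]; trivial
      induction hh using Subgroup.closure_induction with
      | mem y hy => obtain ⟨b, rfl⟩ := hy; exact hgen a b
      | one => simp
      | mul y z _ _ hy hz =>
        have e1 : Commute (π (refl Q a)) (π y) := hy
        have e2 : Commute (π (refl Q a)) (π z) := hz
        rw [map_mul]; exact e1.mul_right e2
      | inv y _ hy => rw [map_inv]; exact (show Commute (π (refl Q a)) (π y) from hy).inv_right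
    | one => simp
    | mul x y _ _ hx hy =>
      rw [map_mul]; exact (show Commute (π x) (π h) from hx).mul_left hy
    | inv x _ hx => rw [map_inv]; exact (show Commute (π x) (π h) from hx).inv_left
  rw [commutator_def, Subgroup.commutator_le]
  intro x _ y _
  refine (QuotientGroup.eq_one_iff _).1 ?_
  change π ⁅x, y⁆ = 1
  rw [map_commutatorElement, commutatorElement_eq_one_iff_mul_comm]
  exact hcomm x y

/-- `SO` has exactly one subgroup of index two. -/
theorem detKer_unique_index_two [Fintype F] (hn : 2 ≤ finrank F V) (h4 : Good F V) :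
    ∃! H : Subgroup (detKer Q), H.index = 2 := by
  classical
  have : Finite V := Module.finite_of_finite F
  set C := (commutator (orthGroup Q)).subgroupOf (detKer Q) with hC
  have hCi : C.index = 2 := by
    change (commutator (orthGroup Q)).relIndex (detKer Q) = 2
    by_cases h2 : (2 : F) = 0
    · have : CharP F 2 := CharTwo.of_one_ne_zero_of_two_eq_zero one_ne_zero h2
      have htop : detKer Q = ⊤ := eq_top_iff.2 fun g _ => by
        rcases det_pm hQ h4 g with h | h
        · exact h
        · rwa [CharTwo.neg_eq] at h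
      rw [htop, Subgroup.relIndex_top_right, index_commutator_two hQ h4 hn]
    · obtain ⟨Φ, hs, hk, h1⟩ := exists_invariants hQ h2 hn
      have hd : detKer Q = ((MonoidHom.fst ℤˣ ℤˣ).comp Φ).ker := by
        ext g
        exact (h1 g).symm
      have hi : (detKer Q).index = 2 := by
        rw [hd, Subgroup.index_ker, MonoidHom.range_eq_top.2 ?_, Subgroup.card_top,
          Nat.card_eq_fintype_card, Fintype.card_units_int]
        exact fun u => let ⟨g, hg⟩ := hs (u, 1); ⟨g, congrArg Prod.fst hg⟩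
      have hm := Subgroup.relIndex_mul_index (commutator_le_detKer hQ)
      rw [index_commutator_odd hQ h2 hn, hi] at hm
      omega
  refine ⟨C, hCi, fun H hH => ?_⟩
  have hsq : ∀ x ∈ detKer Q, x * x ∈ H.map (detKer Q).subtype := fun x hx =>
    ⟨⟨x, hx⟩ * ⟨x, hx⟩, Subgroup.mul_self_mem_of_index_two hH _, rfl⟩
  have hle : C ≤ H := by
    intro x hx
    obtain ⟨y, hy, hyx⟩ := commutator_le_of_squares hQ h4 _ hsq hx
    rwa [← Subtype.ext hyx]
  refine le_antisymm ?_ hle
  have hm := Subgroup.relIndex_mul_index hle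
  rw [hH, hCi] at hm
  exact Subgroup.relIndex_eq_one.1 (by omega)

omit hQ in
theorem commutator_le_of_index_two {G : Type*} [Group G] (H : Subgroup G) (hH : H.index = 2) :
    commutator G ≤ H := by
  rw [commutator_def, Subgroup.commutator_le]
  intro x _ y _
  have key : ∀ a b : G, (a * b ∈ H ↔ (a ∈ H ↔ b ∈ H)) := fun a b => Subgroup.mul_mem_iff_of_index_two hH
  rw [commutatorElement_def, key, key, key, inv_mem_iff, inv_mem_iff]
  tauto

omit hQ in
theorem index_two_subgroups_klein : Nat.card {H : Subgroup (ℤˣ × ℤˣ) // H.index = 2} = 3 := by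
  classical
  have hcard : Nat.card (ℤˣ × ℤˣ) = 4 := by simp [Nat.card_eq_fintype_card]
  have hsq : ∀ x : ℤˣ × ℤˣ, x * x = 1 := fun x => Prod.ext (Int.units_mul_self x.1) (Int.units_mul_self x.2)
  let f : {x : ℤˣ × ℤˣ // x ≠ 1} → {H : Subgroup (ℤˣ × ℤˣ) // H.index = 2} := fun x =>
    ⟨Subgroup.zpowers x.1, by
      have h := (Subgroup.zpowers x.1).card_mul_index
      rw [Nat.card_zpowers, orderOf_eq_prime (p := 2) (by rw [pow_two]; exact hsq _) x.2, hcard] at h
      omega⟩
  have hf : Function.Bijective f := by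
    constructor
    · rintro ⟨x, hx⟩ ⟨y, hy⟩ h
      have hxy : x ∈ Subgroup.zpowers y := by
        have e : Subgroup.zpowers x = Subgroup.zpowers y := congrArg Subtype.val h
        rw [← e]; exact Subgroup.mem_zpowers x
      obtain ⟨k, hk⟩ := hxy
      rcases Int.even_or_odd k with ⟨l, rfl⟩ | ⟨l, rfl⟩
      · simp only [zpow_add, ← mul_zpow, hsq, one_zpow] at hk
        exact absurd hk.symm hx
      · simp only [zpow_add, two_mul, ← mul_zpow, hsq, one_zpow, one_mul, zpow_one] at hk
        exact Subtype.ext hk.symm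
    · rintro ⟨H, hH⟩
      have h := H.card_mul_index
      rw [hH, hcard] at h
      have : Nontrivial H := Finite.one_lt_card_iff_nontrivial.1 (by omega)
      obtain ⟨x, hx⟩ := exists_ne (1 : H)
      refine ⟨⟨x.1, fun e => hx (Subtype.ext e)⟩, Subtype.ext (Subgroup.eq_of_le_of_card_ge
        (Subgroup.zpowers_le.2 x.2) ?_)⟩
      rw [Nat.card_zpowers, orderOf_eq_prime (p := 2) (by rw [pow_two]; exact hsq _) fun e => hx (Subtype.ext e)]
      change Nat.card H ≤ 2
      omega
  rw [← Nat.card_congr (Equiv.ofBijective f hf), Nat.card_eq_fintype_card]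
  rfl

theorem three_index_two_subgroups [Fintype F] (h2 : (2 : F) ≠ 0) (hn : 2 ≤ finrank F V) :
    Nat.card {H : Subgroup (orthGroup Q) // H.index = 2} = 3 := by
  have : Finite V := Module.finite_of_finite F
  obtain ⟨Φ, hs, hk, -⟩ := exists_invariants hQ h2 hn
  rw [← index_two_subgroups_klein]
  refine Nat.card_congr
    { toFun := fun H => ⟨H.1.map Φ, ?_⟩
      invFun := fun K => ⟨K.1.comap Φ, (K.1.index_comap_of_surjective hs).trans K.2⟩
      left_inv := fun H => Subtype.ext (Subgroup.comap_map_eq_self ?_)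
      right_inv := fun K => Subtype.ext (Subgroup.map_comap_eq_self_of_surjective hs _) }
  · rw [Subgroup.index_map_eq _ hs ?_, H.2]
    rw [hk]
    intro g hg
    exact commutator_le_of_index_two H.1 H.2 hg
  · rw [hk]
    intro g hg
    exact commutator_le_of_index_two H.1 H.2 hg

omit hQ in
/-- Extension of `Q` by a hyperbolic plane. -/
noncomputable def plusPlane (Q : QuadraticForm F V) : QuadraticForm F (V × (F × F)) :=
  Q.comp (LinearMap.fst F V (F × F)) +
    QuadraticMap.linMulLin ((LinearMap.fst F F F).comp (LinearMap.snd F V (F × F)))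
      ((LinearMap.snd F F F).comp (LinearMap.snd F V (F × F)))

omit hQ in
theorem plusPlane_apply (x : V × (F × F)) : plusPlane Q x = Q x.1 + x.2.1 * x.2.2 := by
  simp [plusPlane]

omit hQ in
theorem plusPlane_polar (x y : V × (F × F)) :
    polar (plusPlane Q) x y = polar Q x.1 y.1 + (x.2.1 * y.2.2 + x.2.2 * y.2.1) := by
  simp only [polar, plusPlane_apply, Prod.fst_add, Prod.snd_add]
  ring

/-- Witt's lemma without any exception. -/
theorem witt_extension (X Y : Submodule F V) (φ : X ≃ₗ[F] Y)
    (hφ : ∀ x : X, Q (φ x : V) = Q (x : V)) :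
    ∃ g : V ≃ₗ[F] V, (∀ v, Q (g v) = Q v) ∧ ∀ x : X, g (x : V) = (φ x : V) := by
  by_cases h4 : Good F V
  · obtain ⟨g, hg⟩ := exists_map_submodule hQ h4 (Y.subtype ∘ₗ φ.toLinearMap)
      (Y.injective_subtype.comp φ.injective) hφ
    exact ⟨g.1, g.2, hg⟩
  have hd : finrank F V = 4 := by
    by_contra h; exact h4 (Or.inr h)
  have hQ' : (QuadraticMap.polarBilin (plusPlane Q)).Nondegenerate := by
    have hl : ∀ x : V × (F × F), (∀ y, polar (plusPlane Q) x y = 0) → x = 0 := by
      intro x hx
      have h1 : x.1 = 0 := hQ.1 x.1 fun w => by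
        simpa [plusPlane_polar] using hx (w, 0)
      have h2 := hx (0, (0, 1))
      have h3 := hx (0, (1, 0))
      simp [plusPlane_polar] at h2 h3
      exact Prod.ext h1 (Prod.ext h2 h3)
    exact ⟨fun x hx => hl x hx, fun y hy => hl y fun x => (polar_comm _ y x).trans (hy x)⟩
  have h4' : Good F (V × (F × F)) :=
    Or.inr (by rw [Module.finrank_prod, Module.finrank_prod, Module.finrank_self, hd]; norm_num)
  let U : Submodule F (V × (F × F)) := X.prod ⊤
  let f : U →ₗ[F] V × (F × F) :=
    { toFun := fun u => ((φ ⟨u.1.1, u.2.1⟩ : V), u.1.2)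
      map_add' := fun a b => by
        refine Prod.ext ?_ rfl
        simp only [Submodule.coe_add, Prod.fst_add]
        exact congrArg Subtype.val (map_add φ ⟨a.1.1, a.2.1⟩ ⟨b.1.1, b.2.1⟩)
      map_smul' := fun c a => by
        refine Prod.ext ?_ rfl
        simp only [SetLike.val_smul, Prod.smul_fst, RingHom.id_apply]
        exact congrArg Subtype.val (map_smul φ c ⟨a.1.1, a.2.1⟩) }
  obtain ⟨g, hg⟩ := exists_map_submodule hQ' h4' f (by
      intro a b hab
      have h1 : φ ⟨a.1.1, a.2.1⟩ = φ ⟨b.1.1, b.2.1⟩ := Subtype.ext (congrArg Prod.fst hab)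
      have h2 : a.1.1 = b.1.1 := congrArg Subtype.val (φ.injective h1)
      exact Subtype.ext (Prod.ext h2 (congrArg Prod.snd hab :)))
    (fun u => by simp [f, plusPlane_apply, hφ])
  have hfix : ∀ p : F × F, g.1 (0, p) = (0, p) := fun p => by
    rw [hg ⟨(0, p), ⟨zero_mem _, trivial⟩⟩]
    exact Prod.ext (by change ((φ ⟨0, zero_mem X⟩ : Y) : V) = 0; simp [← Prod.zero_eq_mk]) rfl
  have hsnd : ∀ v : V, (g.1 (v, 0)).2 = 0 := by
    intro v
    have h1 := polar_isom g (v, 0) (0, ((0 : F), (1 : F)))
    have h2 := polar_isom g (v, 0) (0, ((1 : F), (0 : F)))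
    rw [hfix] at h1 h2
    simp [plusPlane_polar] at h1 h2
    exact Prod.ext h1 h2
  let L : V →ₗ[F] V := (LinearMap.fst F V (F × F)).comp
    ((g.1 : (V × (F × F)) →ₗ[F] V × (F × F)).comp (LinearMap.inl F V (F × F)))
  have hL : ∀ v, Q (L v) = Q v := fun v => by
    have h := apply_quad g (v, 0)
    rw [plusPlane_apply, plusPlane_apply, hsnd] at h
    simpa [L] using h
  obtain ⟨g', hg'⟩ := exists_of_preserving hQ L hL
  refine ⟨g'.1, g'.2, fun x => ?_⟩
  rw [hg']
  change (g.1 ((x : V), 0)).1 = _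
  rw [hg ⟨((x : V), 0), ⟨x.2, trivial⟩⟩]
  rfl

end CfsgLib.Classical

/-! ## Transfer along an equivalence -/

namespace CfsgLib.Classical

theorem existsUnique_index_congr {G H : Type*} [Group G] [Group H] (e : G ≃* H) {n : ℕ}
    (h : ∃! K : Subgroup H, K.index = n) : ∃! K : Subgroup G, K.index = n := by
  obtain ⟨K, hK, hu⟩ := h
  refine ⟨K.comap e.toMonoidHom, (K.index_comap_of_surjective e.surjective).trans hK, fun L hL => ?_⟩
  have h1 : L.map e.toMonoidHom = K := hu _ (by
    change (L.map (e : G →* H)).index = n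
    rw [Subgroup.index_map_equiv, hL])
  rw [← h1]
  exact (Subgroup.comap_map_eq_self_of_injective e.injective L).symm

theorem card_index_congr {G H : Type*} [Group G] [Group H] (e : G ≃* H) (n : ℕ) :
    Nat.card {K : Subgroup G // K.index = n} = Nat.card {K : Subgroup H // K.index = n} :=
  Nat.card_congr (e.mapSubgroup.toEquiv.subtypeEquiv fun K => by
    change K.index = n ↔ (K.map (e : G →* H)).index = n
    rw [Subgroup.index_map_equiv])

end CfsgLib.Classical
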