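import Cfsg.Agent.Lib.Classical.OrthApps
import Cfsg.Agent.Lib.Orth.Standard

/-!
# Zeros of quadratic forms and orders of orthogonal groups over finite fields
-/

set_option autoImplicit false
set_option linter.unusedSectionVars false

open Module QuadraticMap CfsgLib.Orth

namespace CfsgLib.Classical

variable {F : Type*} [Field F] {V V' : Type*} [AddCommGroup V] [Module F V] [AddCommGroup V'] [Module F V']

/-- Isometric forms have isomorphic orthogonal groups. -/
def orthGroupCongr {Q : QuadraticForm F V} {Q' : QuadraticForm F V'} (e : V ≃ₗ[F] V')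
    (he : ∀ v, Q' (e v) = Q v) : orthGroup Q ≃* orthGroup Q' where
  toFun g := ⟨(e.symm.trans g.1).trans e, fun v => by
    change Q' (e (g.1 (e.symm v))) = Q' v
    rw [he, apply_quad, ← he, e.apply_symm_apply]⟩
  invFun g := ⟨(e.trans g.1).trans e.symm, fun v => by
    change Q (e.symm (g.1 (e v))) = Q v
    rw [← he, e.apply_symm_apply, apply_quad, he]⟩
  left_inv g := Subtype.ext (LinearEquiv.ext fun v => by
    change e.symm (e (g.1 (e.symm (e v)))) = g.1 v
    rw [e.symm_apply_apply, e.symm_apply_apply])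
  right_inv g := Subtype.ext (LinearEquiv.ext fun v => by
    change e (e.symm (g.1 (e (e.symm v)))) = g.1 v
    rw [e.apply_symm_apply, e.apply_symm_apply])
  map_mul' a b := Subtype.ext (LinearEquiv.ext fun v => by
    change e (a.1 (b.1 (e.symm v))) = e (a.1 (e.symm (e (b.1 (e.symm v)))))
    rw [e.symm_apply_apply])

/-- The number of zeros. -/
noncomputable def zeroCount (Q : QuadraticForm F V) : ℕ := Nat.card {v : V // Q v = 0}

theorem zeroCount_congr {Q : QuadraticForm F V} {Q' : QuadraticForm F V'} (e : V ≃ₗ[F] V')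
    (he : ∀ v, Q' (e v) = Q v) : zeroCount Q = zeroCount Q' :=
  Nat.card_congr (e.toEquiv.subtypeEquiv fun v => by rw [← he]; rfl)

instance orthGroup_finite [Finite V] (Q : QuadraticForm F V) : Finite (orthGroup Q) :=
  Finite.of_injective (fun g x => g.1 x) fun g k e => Subtype.ext (LinearEquiv.ext fun x => congrFun e x)

section Count

variable [FiniteDimensional F V] {Q : QuadraticForm F V}

theorem plusPlane_nondeg (hQ : (QuadraticMap.polarBilin Q).Nondegenerate) :
    (QuadraticMap.polarBilin (plusPlane Q)).Nondegenerate := by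
  refine nondegenerate_of_left fun x hx => ?_
  have h1 : x.1 = 0 := hQ.1 x.1 fun w => by simpa [plusPlane_polar] using hx (w, 0)
  have h2 := hx (0, (0, 1))
  have h3 := hx (0, (1, 0))
  simp [plusPlane_polar] at h2 h3
  exact Prod.ext h1 (Prod.ext h2 h3)

theorem zeroCount_plusPlane [Fintype F] (Q : QuadraticForm F V) :
    zeroCount (plusPlane Q) = (Fintype.card F - 1) * Nat.card V + Fintype.card F * zeroCount Q := by
  classical
  have : Finite V := Module.finite_of_finite F
  have := Fintype.ofFinite V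
  let e : {x : V × (F × F) // plusPlane Q x = 0} ≃ ({a : F // a ≠ 0} × V) ⊕ (F × {v : V // Q v = 0}) :=
    { toFun := fun x => if ha : x.1.2.1 = 0 then Sum.inr (x.1.2.2, ⟨x.1.1, by
          have := x.2; rw [plusPlane_apply, ha, zero_mul, add_zero] at this; exact this⟩)
        else Sum.inl (⟨x.1.2.1, ha⟩, x.1.1)
      invFun := fun y => match y with
        | Sum.inl (a, v) => ⟨(v, (a.1, -(Q v) / a.1)), by
            rw [plusPlane_apply, mul_div_cancel₀ _ a.2, add_neg_cancel]⟩
        | Sum.inr (b, v) => ⟨(v.1, (0, b)), by rw [plusPlane_apply, v.2, zero_mul, add_zero]⟩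
      left_inv := fun x => by
        obtain ⟨⟨v, a, b⟩, hx⟩ := x
        rw [plusPlane_apply] at hx
        simp only at hx
        by_cases ha : a = 0
        · subst ha; simp
        · simp [ha]
          field_simp
          linear_combination -hx
      right_inv := fun y => by
        rcases y with ⟨a, v⟩ | ⟨b, v⟩
        · simp [a.2]
        · simp }
  rw [zeroCount, Nat.card_congr e, Nat.card_sum, Nat.card_prod, Nat.card_prod,
    Nat.card_eq_fintype_card (α := F), ← zeroCount, Nat.card_eq_fintype_card (α := {a : F // a ≠ 0}),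
    Fintype.card_subtype_compl, Fintype.card_subtype_eq]

theorem card_orth_plusPlane [Fintype F] (hQ : (QuadraticMap.polarBilin Q).Nondegenerate) :
    Nat.card (orthGroup (plusPlane Q)) =
      (zeroCount (plusPlane Q) - 1) * Nat.card V * Nat.card (orthGroup Q) := by
  classical
  have : Finite V := Module.finite_of_finite F
  have hP := plusPlane_nondeg hQ
  set P := plusPlane Q with hPdef
  have : Finite (V × (F × F)) := inferInstance
  set e₀ : V × (F × F) := (0, (1, 0)) with he₀
  set f₀ : V × (F × F) := (0, (0, 1)) with hf₀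
  let S := {p : (V × (F × F)) × (V × (F × F)) // P p.1 = 0 ∧ P p.2 = 0 ∧ polar P p.1 p.2 = 1}
  have hli : ∀ e f : V × (F × F), P e = 0 → P f = 0 → polar P e f = 1 → LinearIndependent F ![e, f] := by
    intro e f he hf hef
    rw [LinearIndependent.pair_iff]
    intro s t hst
    have h1 := congrArg (polar P e) hst
    have h2 := congrArg (polar P f) hst
    rw [polar_add_right, polar_smul_r', polar_smul_r', polar_self', he, hef, polar_zero_right] at h1
    rw [polar_add_right, polar_smul_r', polar_smul_r', polar_self', hf, polar_comm _ f e, hef, polar_zero_right] at h2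
    constructor
    · linear_combination h2
    · linear_combination h1
  have hpair : ∀ e f : V × (F × F), P e = 0 → P f = 0 → polar P e f = 1 →
      ∃ g : orthGroup P, g.1 e₀ = e ∧ g.1 f₀ = f := by
    intro e f he hf hef
    have he0 : P e₀ = 0 := by simp [hPdef, he₀, plusPlane_apply]
    have hf0 : P f₀ = 0 := by simp [hPdef, hf₀, plusPlane_apply]
    have hef0 : polar P e₀ f₀ = 1 := by simp [hPdef, he₀, hf₀, plusPlane_polar]
    have l₀ := hli _ _ he0 hf0 hef0
    have l := hli e f he hf hef
    let φ := ((Basis.span l₀).equiv (Basis.span l) (Equiv.refl _))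
    have hφ : ∀ i, φ (Basis.span l₀ i) = Basis.span l i := fun i => Basis.equiv_apply _ _ _ _
    obtain ⟨g, hg, hgx⟩ := witt_extension hP _ _ φ (by
      intro x
      have hx : (x : V × (F × F)) = (Basis.span l₀).repr x 0 • e₀ + (Basis.span l₀).repr x 1 • f₀ := by
        conv_lhs => rw [← (Basis.span l₀).sum_repr x]
        simp [Fin.sum_univ_two, Basis.span_apply]
      have hy : (φ x : V × (F × F)) = (Basis.span l₀).repr x 0 • e + (Basis.span l₀).repr x 1 • f := by
        conv_lhs => rw [← (Basis.span l₀).sum_repr x]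
        rw [map_sum]
        simp only [map_smul, hφ]
        simp [Fin.sum_univ_two, Basis.span_apply]
      rw [hy, hx, quad_add', quad_add', quad_smul', quad_smul', quad_smul', quad_smul', polar_smul_l', polar_smul_r',
        polar_smul_l', polar_smul_r', he, hf, hef, he0, hf0, hef0])
    refine ⟨⟨g, hg⟩, ?_, ?_⟩
    · have := hgx (Basis.span l₀ 0)
      rw [hφ] at this
      simpa [Basis.span_apply] using this
    · have := hgx (Basis.span l₀ 1)
      rw [hφ] at this
      simpa [Basis.span_apply] using this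
  have hsingle : ∀ e : V × (F × F), e ≠ 0 → P e = 0 → ∃ g : orthGroup P, g.1 e₀ = e := by
    intro e he he'
    obtain ⟨w, hw⟩ : ∃ w, polar P e w ≠ 0 := by
      by_contra! hall
      exact he (hP.1 e hall)
    set w' := (polar P e w)⁻¹ • w with hw'
    have h1 : polar P e w' = 1 := by rw [hw', polar_smul_r', inv_mul_cancel₀ hw]
    clear_value w'
    have h2 : P (w' + (-(P w')) • e) = 0 := by
      rw [quad_add', quad_smul', he', polar_smul_r', polar_comm _ w' e, h1]; ring
    have h3 : polar P e (w' + (-(P w')) • e) = 1 := by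
      rw [polar_add_right, polar_smul_r', polar_self', he', h1]; ring
    obtain ⟨g, hg, -⟩ := hpair e _ he' h2 h3
    exact ⟨g, hg⟩
  let φ : orthGroup P → S := fun g => ⟨(g.1 e₀, g.1 f₀), by simp [hPdef, he₀, plusPlane_apply, apply_quad],
    by simp [hPdef, hf₀, plusPlane_apply, apply_quad], by
      rw [polar_isom]; simp [hPdef, he₀, hf₀, plusPlane_polar]⟩
  have := Fintype.ofFinite S
  rw [← Nat.card_congr (Equiv.sigmaFiberEquiv φ), Nat.card_sigma]
  have hfib : ∀ s : S, Nat.card {g : orthGroup P // φ g = s} = Nat.card (orthGroup Q) := by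
    intro s
    obtain ⟨g₀, hg₀e, hg₀f⟩ := hpair s.1.1 s.1.2 s.2.1 s.2.2.1 s.2.2.2
    let lift : orthGroup Q → orthGroup P := fun k => ⟨k.1.prodCongr (LinearEquiv.refl F (F × F)), fun x => by
      change P (k.1 x.1, x.2) = P x
      simp [hPdef, plusPlane_apply, apply_quad]⟩
    have hfix : ∀ k, (lift k).1 e₀ = e₀ ∧ (lift k).1 f₀ = f₀ := fun k =>
      ⟨by simp [lift, he₀], by simp [lift, hf₀]⟩
    let F' : orthGroup Q → {g : orthGroup P // φ g = s} := fun k => ⟨g₀ * lift k, Subtype.ext (Prod.ext
      (by change g₀.1 ((lift k).1 e₀) = _; rw [(hfix k).1, hg₀e])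
      (by change g₀.1 ((lift k).1 f₀) = _; rw [(hfix k).2, hg₀f]))⟩
    refine (Nat.card_eq_of_bijective F' ⟨fun a b hab => ?_, fun g => ?_⟩).symm
    · have h1 : lift a = lift b := mul_left_cancel (congrArg Subtype.val hab)
      refine Subtype.ext (LinearEquiv.ext fun v => ?_)
      exact congrArg Prod.fst (congrArg (fun k : orthGroup P => k.1 (v, (0 : F × F))) h1)
    · set h := g₀⁻¹ * g.1 with hh
      have hge : g.1.1 e₀ = s.1.1 := congrArg (fun t : S => t.1.1) g.2
      have hgf : g.1.1 f₀ = s.1.2 := congrArg (fun t : S => t.1.2) g.2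
      have he : h.1 e₀ = e₀ := by
        change g₀.1.symm (g.1.1 e₀) = e₀
        rw [hge, LinearEquiv.symm_apply_eq, hg₀e]
      have hf : h.1 f₀ = f₀ := by
        change g₀.1.symm (g.1.1 f₀) = f₀
        rw [hgf, LinearEquiv.symm_apply_eq, hg₀f]
      have hsnd : ∀ v : V, (h.1 (v, 0)).2 = 0 := fun v => by
        have h1 := polar_isom h (v, (0 : F × F)) f₀
        have h2 := polar_isom h (v, (0 : F × F)) e₀
        rw [hf] at h1
        rw [he] at h2
        simp [hPdef, hf₀, he₀, plusPlane_polar] at h1 h2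
        exact Prod.ext h1 h2
      let L : V →ₗ[F] V := (LinearMap.fst F V (F × F)).comp
        ((h.1 : (V × (F × F)) →ₗ[F] V × (F × F)).comp (LinearMap.inl F V (F × F)))
      obtain ⟨k, hk⟩ := exists_of_preserving hQ L fun v => by
        have e := apply_quad h (v, 0)
        simp only [hPdef, plusPlane_apply, hsnd] at e
        simpa [L] using e
      refine ⟨k, Subtype.ext ?_⟩
      change g₀ * lift k = g.1
      rw [← eq_inv_mul_iff_mul_eq, ← hh]
      refine Subtype.ext (LinearEquiv.ext fun x => ?_)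
      have hx : x = (x.1, (0 : F × F)) + x.2.1 • e₀ + x.2.2 • f₀ := by
        simp [he₀, hf₀]
      rw [hx, map_add, map_add, map_add, map_add, map_smul, map_smul, map_smul, map_smul, he, hf, (hfix k).1, (hfix k).2]
      congr 2
      refine Prod.ext ?_ (hsnd x.1).symm
      change k.1 x.1 = _
      rw [hk]
      rfl
  rw [Finset.sum_congr rfl fun s _ => hfib s, Finset.sum_const, Finset.card_univ, smul_eq_mul]
  congr 1
  let E := {e : V × (F × F) // e ≠ 0 ∧ P e = 0}
  have := Fintype.ofFinite E
  let ψ : S → E := fun s => ⟨s.1.1, fun e => by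
    have := s.2.2.2
    rw [e, polar_zero_left] at this
    exact zero_ne_one this, s.2.1⟩
  have hψ : ∀ e : E, Nat.card {s : S // ψ s = e} = Nat.card V := by
    intro e
    obtain ⟨g, hg⟩ := hsingle e.1 e.2.1 e.2.2
    let F' : V → {s : S // ψ s = e} := fun v => ⟨⟨(e.1, g.1 (v, (-(Q v), 1))), e.2.2,
      by rw [apply_quad, hPdef, plusPlane_apply]; simp, by
        rw [← hg, polar_isom]
        simp [hPdef, he₀, plusPlane_polar]⟩, rfl⟩
    refine (Nat.card_eq_of_bijective F' ⟨fun a b hab => ?_, fun s => ?_⟩).symm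
    · exact congrArg Prod.fst (g.1.injective (congrArg (fun s : {s : S // ψ s = e} => s.1.1.2) hab))
    · obtain ⟨⟨⟨x, y⟩, hx, hy, hxy⟩, hs⟩ := s
      obtain rfl : x = e.1 := congrArg Subtype.val hs
      obtain ⟨⟨v, a, b⟩, rfl⟩ := g.1.surjective y
      simp only at hy hxy
      rw [← hg, polar_isom] at hxy
      rw [apply_quad, hPdef, plusPlane_apply] at hy
      simp [hPdef, he₀, plusPlane_polar] at hxy
      simp only [hxy, mul_one] at hy
      refine ⟨v, Subtype.ext (Subtype.ext (Prod.ext rfl ?_))⟩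
      change g.1 (v, (-(Q v), 1)) = g.1 (v, a, b)
      rw [hxy, eq_neg_of_add_eq_zero_right hy]
  rw [← Nat.card_eq_fintype_card, ← Nat.card_congr (Equiv.sigmaFiberEquiv ψ), Nat.card_sigma,
    Finset.sum_congr rfl fun e _ => hψ e, Finset.sum_const, Finset.card_univ, smul_eq_mul,
    ← Nat.card_eq_fintype_card, zeroCount]
  congr 1
  change Nat.card {e : V × (F × F) | e ≠ 0 ∧ P e = 0} = Nat.card {v : V × (F × F) | P v = 0} - 1
  rw [Nat.card_coe_set_eq, Nat.card_coe_set_eq,
    show {e : V × (F × F) | e ≠ 0 ∧ P e = 0} = {v : V × (F × F) | P v = 0} \ {0} by ext; simp [and_comm],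
    Set.ncard_diff_singleton_of_mem (by simp)]

end Count

section Standard

/-- One step down in the plus form. -/
def plusStep (m : ℕ) : (Fin (m + 1) ⊕ Fin (m + 1) → F) ≃ₗ[F] (Fin m ⊕ Fin m → F) × (F × F) where
  toFun v := (fun i => v (i.map Fin.succ Fin.succ), (v (.inl 0), v (.inr 0)))
  invFun p := Sum.elim (Fin.cons p.2.1 fun i => p.1 (.inl i)) (Fin.cons p.2.2 fun i => p.1 (.inr i))
  map_add' _ _ := rfl
  map_smul' _ _ := rfl
  left_inv v := by
    funext i
    rcases i with i | i <;> induction i using Fin.cases <;> simp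
  right_inv p := by
    refine Prod.ext (funext fun i => ?_) (Prod.ext ?_ ?_)
    · rcases i with i | i <;> simp
    · simp
    · simp

theorem plusStep_spec (m : ℕ) (v : Fin (m + 1) ⊕ Fin (m + 1) → F) :
    plusPlane (plusForm F m) (plusStep m v) = plusForm F (m + 1) v := by
  rw [plusPlane_apply, ← plusForm_apply, ← plusForm_apply]
  simp [Cfsg.quadFormPlus, plusStep, Fin.sum_univ_succ, add_comm]

/-- One step down in the odd form. -/
def oddStep (m : ℕ) : (Unit ⊕ (Fin (m + 1) ⊕ Fin (m + 1)) → F) ≃ₗ[F]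
    (Unit ⊕ (Fin m ⊕ Fin m) → F) × (F × F) where
  toFun v := (fun i => v (i.map id (Sum.map Fin.succ Fin.succ)), (v (.inr (.inl 0)), v (.inr (.inr 0))))
  invFun p := Sum.elim (fun u => p.1 (.inl u))
    (Sum.elim (Fin.cons p.2.1 fun i => p.1 (.inr (.inl i))) (Fin.cons p.2.2 fun i => p.1 (.inr (.inr i))))
  map_add' _ _ := rfl
  map_smul' _ _ := rfl
  left_inv v := by
    funext i
    rcases i with u | i | i
    · simp
    · induction i using Fin.cases <;> simp
    · induction i using Fin.cases <;> simp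
  right_inv p := by
    refine Prod.ext (funext fun i => ?_) (Prod.ext ?_ ?_)
    · rcases i with u | i | i <;> simp
    · simp
    · simp

theorem oddStep_spec (m : ℕ) (v : Unit ⊕ (Fin (m + 1) ⊕ Fin (m + 1)) → F) :
    plusPlane (oddForm F m) (oddStep m v) = oddForm F (m + 1) v := by
  rw [plusPlane_apply, ← oddForm_apply, ← oddForm_apply]
  simp [Cfsg.quadFormOdd, oddStep, Fin.sum_univ_succ]
  ring

/-- One step down in the minus form. -/
def minusStep (m : ℕ) : ((Fin (m + 1) ⊕ Fin (m + 1)) ⊕ Fin 2 → F) ≃ₗ[F]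
    ((Fin m ⊕ Fin m) ⊕ Fin 2 → F) × (F × F) where
  toFun v := (fun i => v (i.map (Sum.map Fin.succ Fin.succ) id), (v (.inl (.inl 0)), v (.inl (.inr 0))))
  invFun p := Sum.elim
    (Sum.elim (Fin.cons p.2.1 fun i => p.1 (.inl (.inl i))) (Fin.cons p.2.2 fun i => p.1 (.inl (.inr i))))
    (fun u => p.1 (.inr u))
  map_add' _ _ := rfl
  map_smul' _ _ := rfl
  left_inv v := by
    funext i
    rcases i with (i | i) | u
    · induction i using Fin.cases <;> simp
    · induction i using Fin.cases <;> simp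
    · simp
  right_inv p := by
    refine Prod.ext (funext fun i => ?_) (Prod.ext ?_ ?_)
    · rcases i with (i | i) | u <;> simp
    · simp
    · simp

theorem minusStep_spec (m : ℕ) (a b : F) (v : (Fin (m + 1) ⊕ Fin (m + 1)) ⊕ Fin 2 → F) :
    plusPlane (minusForm F m a b) (minusStep m v) = minusForm F (m + 1) a b v := by
  rw [plusPlane_apply, ← minusForm_apply, ← minusForm_apply]
  simp [Cfsg.quadFormMinus, minusStep, Fin.sum_univ_succ]
  ring

variable [Fintype F] {q : ℕ}

theorem card_pi_sum (hF : Fintype.card F = q) (α : Type*) [Fintype α] :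
    Nat.card (α → F) = q ^ Fintype.card α := by
  classical
  rw [Nat.card_eq_fintype_card, Fintype.card_fun, hF]

theorem zeroCount_plus (hF : Fintype.card F = q) : ∀ m : ℕ,
    (q : ℤ) * zeroCount (plusForm F m) = (q : ℤ) ^ (2 * m) + ((q : ℤ) - 1) * (q : ℤ) ^ m := by
  intro m
  induction m with
  | zero =>
    have : zeroCount (plusForm F 0) = 1 := Nat.card_eq_one_iff_unique.2
      ⟨⟨fun a b => Subtype.ext (Subsingleton.elim _ _)⟩, ⟨⟨0, by simp⟩⟩⟩
    simp [this]
  | succ m ih =>
    rw [zeroCount_congr (plusStep m) (plusStep_spec m), zeroCount_plusPlane, card_pi_sum hF, hF]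
    push_cast [Nat.cast_sub (show 1 ≤ q by have := Fintype.one_lt_card (α := F); omega)]
    simp only [Fintype.card_sum, Fintype.card_fin]
    linear_combination (q : ℤ) * ih

theorem zeroCount_odd (hF : Fintype.card F = q) : ∀ m : ℕ, zeroCount (oddForm F m) = q ^ (2 * m) := by
  intro m
  induction m with
  | zero =>
    refine Nat.card_eq_one_iff_unique.2 ⟨⟨fun a b => Subtype.ext (funext fun i => ?_)⟩, ⟨⟨0, by simp⟩⟩⟩
    have h : ∀ x : {v : Unit ⊕ (Fin 0 ⊕ Fin 0) → F // oddForm F 0 v = 0}, x.1 (.inl ()) = 0 := fun x => by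
      have := x.2
      rw [← oddForm_apply] at this
      simpa [Cfsg.quadFormOdd] using this
    rcases i with u | i | i
    · rw [h a, h b]
    · exact i.elim0
    · exact i.elim0
  | succ m ih =>
    rw [zeroCount_congr (oddStep m) (oddStep_spec m), zeroCount_plusPlane, card_pi_sum hF, hF, ih]
    simp only [Fintype.card_sum, Fintype.card_fin, Fintype.card_unit]
    obtain ⟨r, rfl⟩ : ∃ r, q = r + 1 := ⟨q - 1, by have := Fintype.one_lt_card (α := F); omega⟩
    simp only [Nat.add_sub_cancel]
    ring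

theorem zeroCount_minus (hF : Fintype.card F = q) (a b : F)
    (hab : ∀ z₁ z₂ : F, z₁ ^ 2 + a * z₁ * z₂ + b * z₂ ^ 2 = 0 → z₁ = 0 ∧ z₂ = 0) : ∀ k : ℕ,
    (zeroCount (minusForm F k a b) : ℤ) = (q : ℤ) ^ (2 * k + 1) + (q : ℤ) ^ k - (q : ℤ) ^ (k + 1) := by
  intro k
  induction k with
  | zero =>
    have : zeroCount (minusForm F 0 a b) = 1 := by
      refine Nat.card_eq_one_iff_unique.2 ⟨⟨fun x y => Subtype.ext (funext fun i => ?_)⟩, ⟨⟨0, by simp⟩⟩⟩
      have h : ∀ x : {v : (Fin 0 ⊕ Fin 0) ⊕ Fin 2 → F // minusForm F 0 a b v = 0},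
          x.1 (.inr 0) = 0 ∧ x.1 (.inr 1) = 0 := fun x => by
        have := x.2
        rw [← minusForm_apply] at this
        exact hab _ _ (by simpa [Cfsg.quadFormMinus] using this)
      rcases i with (i | i) | i
      · exact i.elim0
      · exact i.elim0
      · obtain ⟨h1, h2⟩ := h x
        obtain ⟨h3, h4⟩ := h y
        fin_cases i
        · exact h1.trans h3.symm
        · exact h2.trans h4.symm
    simp [this]
  | succ k ih =>
    rw [zeroCount_congr (minusStep k) (minusStep_spec k a b), zeroCount_plusPlane, card_pi_sum hF, hF]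
    push_cast [Nat.cast_sub (show 1 ≤ q by have := Fintype.one_lt_card (α := F); omega)]
    simp only [Fintype.card_sum, Fintype.card_fin]
    linear_combination (q : ℤ) * ih

theorem card_orth_plus (hF : Fintype.card F = q) : ∀ m : ℕ, Nat.card (orthGroup (plusForm F (m + 1))) =
    2 * q ^ ((m + 1) * m) * (q ^ (m + 1) - 1) * ∏ i ∈ Finset.range m, (q ^ (2 * (i + 1)) - 1) := by
  intro m
  have hq : 2 ≤ q := hF ▸ Fintype.one_lt_card
  induction m with
  | zero =>
    rw [Nat.card_congr (orthGroupCongr (plusStep 0) (plusStep_spec 0)).toEquiv,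
      card_orth_plusPlane (plusForm_nondeg 0), ← zeroCount_congr (plusStep 0) (plusStep_spec 0)]
    have h1 : Nat.card (orthGroup (plusForm F 0)) = 1 := Nat.card_eq_one_iff_unique.2
      ⟨⟨fun a b => Subtype.ext (LinearEquiv.ext fun v => Subsingleton.elim _ _)⟩, ⟨1⟩⟩
    have h2 : zeroCount (plusForm F 1) = 2 * q - 1 := by
      have h := zeroCount_plus hF 1
      have h3 : (zeroCount (plusForm F 1) : ℤ) = 2 * q - 1 :=
        mul_left_cancel₀ (show (q : ℤ) ≠ 0 by omega) (by linear_combination h)
      omega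
    rw [h1, h2, card_pi_sum hF]
    simp only [Fintype.card_sum, Fintype.card_fin, Finset.prod_range_zero, zero_add, mul_one, one_mul, add_zero,
      pow_zero, mul_zero, pow_one]
    omega
  | succ m ih =>
    rw [Nat.card_congr (orthGroupCongr (plusStep (m + 1)) (plusStep_spec (m + 1))).toEquiv,
      card_orth_plusPlane (plusForm_nondeg (m + 1)), ← zeroCount_congr (plusStep (m + 1)) (plusStep_spec (m + 1)),
      ih, card_pi_sum hF, Finset.prod_range_succ]
    have h2 : (zeroCount (plusForm F (m + 1 + 1)) - 1) * (q ^ (m + 1) - 1) =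
        (q ^ (m + 1 + 1) - 1) * (q ^ (2 * (m + 1)) - 1) := by
      have h := zeroCount_plus hF (m + 1 + 1)
      have h1 : 1 ≤ zeroCount (plusForm F (m + 1 + 1)) :=
        Nat.one_le_iff_ne_zero.2 (Nat.card_ne_zero.2 ⟨⟨⟨0, by simp⟩⟩, inferInstance⟩)
      refine Int.natCast_inj.1 (mul_left_cancel₀ (show (q : ℤ) ≠ 0 by omega) ?_)
      push_cast [Nat.cast_sub h1, Nat.cast_sub (Nat.one_le_pow (m + 1) q (by omega)),
        Nat.cast_sub (Nat.one_le_pow (m + 1 + 1) q (by omega)),
        Nat.cast_sub (Nat.one_le_pow (2 * (m + 1)) q (by omega))]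
      linear_combination ((q : ℤ) ^ (m + 1) - 1) * h
    simp only [Fintype.card_sum, Fintype.card_fin]
    calc _ = 2 * (q ^ (m + 1 + (m + 1)) * q ^ ((m + 1) * m)) *
          ((zeroCount (plusForm F (m + 1 + 1)) - 1) * (q ^ (m + 1) - 1)) *
          ∏ i ∈ Finset.range m, (q ^ (2 * (i + 1)) - 1) := by ring
      _ = _ := by rw [h2, ← pow_add]; ring

theorem card_orth_odd (hF : Fintype.card F = q) (h2 : (2 : F) ≠ 0) : ∀ m : ℕ,
    Nat.card (orthGroup (oddForm F m)) = 2 * q ^ (m ^ 2) * ∏ i ∈ Finset.range m, (q ^ (2 * (i + 1)) - 1) := by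
  intro m
  induction m with
  | zero =>
    have hone : (1 : F) ≠ -1 := fun e => h2 (by linear_combination e)
    let χ : orthGroup (oddForm F 0) → F := fun g =>
      g.1 (Pi.single (Sum.inl () : Unit ⊕ (Fin 0 ⊕ Fin 0)) 1) (Sum.inl ())
    have hbasis : ∀ v : Unit ⊕ (Fin 0 ⊕ Fin 0) → F, v = v (.inl ()) • Pi.single (.inl ()) (1 : F) := fun v => by
      funext i
      rcases i with u | i | i
      · simp
      · exact i.elim0
      · exact i.elim0
    have hinj : Function.Injective χ := fun g g' e => by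
      refine Subtype.ext (LinearEquiv.ext fun v => ?_)
      rw [hbasis v, map_smul, map_smul, hbasis (g.1 _), hbasis (g'.1 (Pi.single _ _))]
      exact congrArg (fun t : F => v (.inl ()) • t • Pi.single (Sum.inl () : Unit ⊕ (Fin 0 ⊕ Fin 0)) (1 : F)) e
    have hsq : ∀ g, χ g = 1 ∨ χ g = -1 := fun g => by
      have h := apply_quad g (Pi.single (.inl ()) 1)
      rw [← oddForm_apply, ← oddForm_apply] at h
      exact sq_eq_one_iff.1 (by simpa [Cfsg.quadFormOdd] using h)
    let neg : orthGroup (oddForm F 0) := ⟨LinearEquiv.neg F, fun v => QuadraticMap.map_neg _ v⟩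
    rw [Finset.prod_range_zero, mul_one, show q ^ (0 ^ 2) = 1 by simp, mul_one]
    refine le_antisymm ?_ ?_
    · calc _ ≤ Nat.card ({1, -1} : Set F) := Nat.card_le_card_of_injective (fun g => ⟨χ g, hsq g⟩)
            fun a b e => hinj (congrArg Subtype.val e)
        _ = 2 := by rw [Nat.card_coe_set_eq, Set.ncard_pair hone]
    · refine Finite.one_lt_card_iff_nontrivial.2 ⟨1, neg, fun e => hone ?_⟩
      have := congrArg χ e
      simpa [χ, neg] using this
  | succ m ih =>
    rw [Nat.card_congr (orthGroupCongr (oddStep m) (oddStep_spec m)).toEquiv,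
      card_orth_plusPlane (oddForm_nondeg m h2), ← zeroCount_congr (oddStep m) (oddStep_spec m),
      ih, zeroCount_odd hF, card_pi_sum hF, Finset.prod_range_succ]
    simp only [Fintype.card_sum, Fintype.card_fin, Fintype.card_unit]
    ring

theorem card_orth_minus_zero (hF : Fintype.card F = q) (a b : F)
    (hab : ∀ z₁ z₂ : F, z₁ ^ 2 + a * z₁ * z₂ + b * z₂ ^ 2 = 0 → z₁ = 0 ∧ z₂ = 0) :
    Nat.card (orthGroup (minusForm F 0 a b)) = 2 * (q + 1) := by
  classical
  set Q := minusForm F 0 a b with hQdef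
  have hQ := minusForm_nondeg 0 a b hab
  have hQ' : ∀ v, Q v = v (.inr 0) ^ 2 + a * v (.inr 0) * v (.inr 1) + b * v (.inr 1) ^ 2 := fun v => by
    rw [hQdef, ← minusForm_apply]; simp [Cfsg.quadFormMinus]
  have hd : finrank F ((Fin 0 ⊕ Fin 0) ⊕ Fin 2 → F) = 2 := by simp
  have hzero : ∀ v, Q v = 0 → v = 0 := fun v hv => by
    obtain ⟨h1, h2⟩ := hab _ _ ((hQ' v).symm.trans hv)
    funext i
    rcases i with (i | i) | i
    · exact i.elim0
    · exact i.elim0
    · fin_cases i <;> assumption
  -- all non-zero values are taken equally often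
  have hN : ∀ c : F, c ≠ 0 → Nat.card {v // Q v = c} = Nat.card {v // Q v = 1} := by
    intro c hc
    obtain ⟨u, hu⟩ := exists_value_top hQ hd.ge c
    let T : ((Fin 0 ⊕ Fin 0) ⊕ Fin 2 → F) →ₗ[F] ((Fin 0 ⊕ Fin 0) ⊕ Fin 2 → F) :=
      { toFun := fun v => Sum.elim 0 ![u (.inr 0) * v (.inr 0) - b * (u (.inr 1) * v (.inr 1)),
          u (.inr 0) * v (.inr 1) + u (.inr 1) * v (.inr 0) + a * (u (.inr 1) * v (.inr 1))]
        map_add' := fun x y => by
          funext i; rcases i with (i | i) | i
          · exact i.elim0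
          · exact i.elim0
          · fin_cases i <;> simp <;> ring
        map_smul' := fun r x => by
          funext i; rcases i with (i | i) | i
          · exact i.elim0
          · exact i.elim0
          · fin_cases i <;> simp <;> ring }
    have hT : ∀ v, Q (T v) = c * Q v := fun v => by
      rw [← hu, hQ', hQ', hQ']
      simp [T]
      ring
    have hTi : Function.Injective T := (injective_iff_map_eq_zero T).2 fun v hv => hzero v (by
      have := hT v
      rw [hv, map_zero] at this
      exact (mul_eq_zero.1 this.symm).resolve_left hc)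
    refine (Nat.card_congr ((LinearEquiv.ofInjectiveEndo T hTi).toEquiv.subtypeEquiv fun v => ?_)).symm
    change Q v = 1 ↔ Q (T v) = c
    rw [hT]
    exact ⟨fun e => by rw [e, mul_one], fun e => mul_left_cancel₀ hc (e.trans (mul_one c).symm)⟩
  have hq : 2 ≤ q := hF ▸ Fintype.one_lt_card
  have hcount : Nat.card {v // Q v = 1} = q + 1 := by
    have h1 : Nat.card ((Fin 0 ⊕ Fin 0) ⊕ Fin 2 → F) = q ^ 2 := by
      rw [card_pi_sum hF]; simp
    rw [← Nat.card_congr (Equiv.sigmaFiberEquiv (fun v => Q v)), Nat.card_sigma,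
      ← Finset.add_sum_erase Finset.univ _ (Finset.mem_univ (0 : F)),
      Finset.sum_congr rfl fun c hc => hN c (Finset.ne_of_mem_erase hc), Finset.sum_const, smul_eq_mul,
      Finset.card_erase_of_mem (Finset.mem_univ _), Finset.card_univ, hF,
      show Nat.card {v // Q v = 0} = 1 from Nat.card_eq_one_iff_unique.2
        ⟨⟨fun x y => Subtype.ext ((hzero _ x.2).trans (hzero _ y.2).symm)⟩, ⟨⟨0, by simp⟩⟩⟩] at h1
    refine Nat.eq_of_mul_eq_mul_left (show 0 < q - 1 by omega) ?_
    obtain ⟨r, rfl⟩ : ∃ r, q = r + 1 := ⟨q - 1, by omega⟩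
    rw [Nat.add_sub_cancel] at h1 ⊢
    linear_combination h1
  obtain ⟨v₀, hv₀⟩ := exists_value_top hQ hd.ge (1 : F)
  have hv₀0 : v₀ ≠ 0 := fun e => by simp [e] at hv₀
  let φ : orthGroup Q → {v // Q v = 1} := fun g => ⟨g.1 v₀, (apply_quad g v₀).trans hv₀⟩
  have := Fintype.ofFinite {v // Q v = 1}
  -- the orthogonal line of `v₀`
  obtain ⟨c, hcv, hc0⟩ : ∃ c, polar Q v₀ c = 0 ∧ c ≠ 0 := by
    let f : ((Fin 0 ⊕ Fin 0) ⊕ Fin 2 → F) →ₗ[F] F := QuadraticMap.polarBilin Q v₀
    have h1 := f.finrank_range_add_finrank_ker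
    have h3 := (Submodule.finrank_le (LinearMap.range f)).trans (Module.finrank_self F).le
    rw [hd] at h1
    obtain ⟨c, hc, hc0⟩ := (Submodule.ne_bot_iff (LinearMap.ker f)).1 fun e => by
      rw [e, finrank_bot] at h1; omega
    exact ⟨c, hc, hc0⟩
  have hQc : Q c ≠ 0 := fun e => hc0 (hzero c e)
  obtain ⟨w, hw⟩ : ∃ w, polar Q c w ≠ 0 := by
    by_contra! hall
    exact hc0 (hQ.1 c hall)
  have hli : LinearIndependent F ![v₀, w] := by
    rw [LinearIndependent.pair_iff' hv₀0]
    intro t ht
    exact hw (by rw [← ht, polar_smul_r', polar_comm, hcv, mul_zero])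
  have hli' : ∀ d, polar Q v₀ d = 0 → ∃ t : F, d = t • c := by
    intro d hd'
    by_contra! hno
    have hdc : LinearIndependent F ![c, d] := by
      rw [LinearIndependent.pair_iff' hc0]
      exact fun t ht => hno t ht.symm
    have hsp := hdc.span_eq_top_of_card_eq_finrank (by rw [hd]; rfl)
    refine hv₀0 (hQ.1 v₀ fun y => ?_)
    have hy : y ∈ Submodule.span F (Set.range ![c, d]) := hsp ▸ trivial
    rw [show Set.range ![c, d] = {c, d} by simp [Matrix.range_cons, Matrix.range_empty, Set.pair_comm]] at hy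
    obtain ⟨s, t, rfl⟩ := Submodule.mem_span_pair.1 hy
    change polar Q v₀ (s • c + t • d) = 0
    rw [polar_add_right, polar_smul_r', polar_smul_r', hcv, hd', mul_zero, mul_zero, add_zero]
  have hstab : ∀ k : orthGroup Q, k.1 v₀ = v₀ → k = 1 ∨ k = refl Q c := by
    intro k hk
    obtain ⟨t, ht⟩ := hli' (k.1 w - w) (by
      have := polar_isom k v₀ w
      rw [hk] at this
      rw [sub_eq_add_neg, polar_add_right, polar_neg_right, this, add_neg_cancel])
    have hkw : k.1 w = w + t • c := by rw [← ht]; abel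
    have h1 := apply_quad k w
    rw [hkw, quad_add', quad_smul', polar_smul_r'] at h1
    have h2 : t * (t * Q c + polar Q w c) = 0 := by linear_combination h1
    have hsp := hli.span_eq_top_of_card_eq_finrank (by rw [hd]; rfl)
    have hext : ∀ g : orthGroup Q, g.1 v₀ = v₀ → g.1 w = k.1 w → k = g := fun g hg1 hg2 => by
      refine Subtype.ext (LinearEquiv.toLinearMap_injective (LinearMap.ext_on hsp ?_))
      rintro _ ⟨i, rfl⟩
      fin_cases i
      · exact hk.trans hg1.symm
      · exact hg2.symm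
    rcases mul_eq_zero.1 h2 with h3 | h3
    · exact Or.inl (hext 1 rfl (by rw [hkw, h3, zero_smul, add_zero]; rfl))
    · refine Or.inr (hext _ (refl_fix Q (by rw [polar_comm, hcv])) ?_)
      rw [hkw, refl_apply, polar_comm _ c w, sub_eq_add_neg, ← neg_smul]
      congr 2
      field_simp
      linear_combination -h3
  have hfib : ∀ u : {v // Q v = 1}, Nat.card {g : orthGroup Q // φ g = u} = 2 := by
    intro u
    have hu0 : u.1 ≠ 0 := fun e => by
      have := u.2; rw [e, map_zero] at this; exact zero_ne_one this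
    let ψ := (LinearEquiv.toSpanNonzeroSingleton F _ v₀ hv₀0).symm.trans (LinearEquiv.toSpanNonzeroSingleton F _ u.1 hu0)
    obtain ⟨g, hg, hgx⟩ := witt_extension hQ _ _ ψ (fun x => by
      obtain ⟨t, rfl⟩ := (LinearEquiv.toSpanNonzeroSingleton F _ v₀ hv₀0).surjective x
      rw [LinearEquiv.trans_apply, LinearEquiv.symm_apply_apply]
      simp [quad_smul', hv₀]
      rw [show (minusForm F 0 a b) u.1 = 1 from u.2, mul_one])
    have hgv : g v₀ = u.1 := by
      have e1 := hgx (LinearEquiv.toSpanNonzeroSingleton F _ v₀ hv₀0 1)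
      rw [LinearEquiv.trans_apply, LinearEquiv.symm_apply_apply] at e1
      simpa using e1
    set g₀ : orthGroup Q := ⟨g, hg⟩
    have hr : (refl Q c).1 v₀ = v₀ := refl_fix Q (by rw [polar_comm, hcv])
    have hne : (1 : orthGroup Q) ≠ refl Q c := fun e => by
      have := congrArg (fun k : orthGroup Q => k.1 w) e
      change w = (refl Q c).1 w at this
      rw [refl_apply, eq_comm, sub_eq_self, smul_eq_zero] at this
      exact this.elim (mul_ne_zero (inv_ne_zero hQc) hw) hc0
    change Nat.card {g : orthGroup Q | φ g = u} = 2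
    rw [Nat.card_coe_set_eq, show {g : orthGroup Q | φ g = u} = {g₀, g₀ * refl Q c} from Set.ext fun k =>
      ⟨fun hk => (hstab (g₀⁻¹ * k) (by
        change g₀.1.symm (k.1 v₀) = v₀
        rw [show k.1 v₀ = u.1 from congrArg Subtype.val hk, LinearEquiv.symm_apply_eq]
        exact hgv.symm)).imp (fun e => (inv_mul_eq_one.1 e).symm) (fun e => inv_mul_eq_iff_eq_mul.1 e), by
        rintro (rfl | rfl)
        · exact Subtype.ext hgv
        · refine Subtype.ext ?_
          change g ((refl Q c).1 v₀) = _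
          rw [hr, hgv]⟩, Set.ncard_pair fun e => hne (mul_left_cancel ((mul_one g₀).trans e))]
  rw [← Nat.card_congr (Equiv.sigmaFiberEquiv φ), Nat.card_sigma, Finset.sum_congr rfl fun u _ => hfib u,
    Finset.sum_const, Finset.card_univ, smul_eq_mul, ← Nat.card_eq_fintype_card, hcount]
  ring

theorem card_orth_minus (hF : Fintype.card F = q) (a b : F)
    (hab : ∀ z₁ z₂ : F, z₁ ^ 2 + a * z₁ * z₂ + b * z₂ ^ 2 = 0 → z₁ = 0 ∧ z₂ = 0) : ∀ m : ℕ,
    Nat.card (orthGroup (minusForm F m a b)) =
      2 * q ^ ((m + 1) * m) * (q ^ (m + 1) + 1) * ∏ i ∈ Finset.range m, (q ^ (2 * (i + 1)) - 1) := by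
  intro m
  have hq : 2 ≤ q := hF ▸ Fintype.one_lt_card
  induction m with
  | zero => simp [card_orth_minus_zero hF a b hab]
  | succ m ih =>
    rw [Nat.card_congr (orthGroupCongr (minusStep m) (minusStep_spec m a b)).toEquiv,
      card_orth_plusPlane (minusForm_nondeg m a b hab), ← zeroCount_congr (minusStep m) (minusStep_spec m a b),
      ih, card_pi_sum hF, Finset.prod_range_succ]
    have h2 : (zeroCount (minusForm F (m + 1) a b) - 1) * (q ^ (m + 1) + 1) =
        (q ^ (m + 1 + 1) + 1) * (q ^ (2 * (m + 1)) - 1) := by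
      have h := zeroCount_minus hF a b hab (m + 1)
      have h1 : 1 ≤ zeroCount (minusForm F (m + 1) a b) :=
        Nat.one_le_iff_ne_zero.2 (Nat.card_ne_zero.2 ⟨⟨⟨0, by simp⟩⟩, inferInstance⟩)
      refine Int.natCast_inj.1 ?_
      push_cast [Nat.cast_sub h1, Nat.cast_sub (Nat.one_le_pow (2 * (m + 1)) q (by omega))]
      linear_combination ((q : ℤ) ^ (m + 1) + 1) * h
    simp only [Fintype.card_sum, Fintype.card_fin]
    calc _ = 2 * (q ^ (m + m + 2) * q ^ ((m + 1) * m)) *
          ((zeroCount (minusForm F (m + 1) a b) - 1) * (q ^ (m + 1) + 1)) *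
          ∏ i ∈ Finset.range m, (q ^ (2 * (i + 1)) - 1) := by ring
      _ = _ := by rw [h2, ← pow_add]; ring

end Standard

end CfsgLib.Classical
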