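import Cfsg.Agent.Lib.Classical.OrthApps
import Cfsg.Agent.Lib.Orth.Isometry
import Cfsg.Agent.Lib.Orth.Parity
import Cfsg.Agent.Lib.KnownC.OrthTools

/-!
# Further applications: Witt index, `-1` in the commutator subgroup, Lagrangian subspaces
-/

set_option autoImplicit false
set_option linter.unusedSectionVars false

open QuadraticMap Module
open CfsgLib.Orth

namespace CfsgLib.Classical

variable {F V : Type*} [Field F] [AddCommGroup V] [Module F V] [FiniteDimensional F V]
  {Q : QuadraticForm F V} (hQ : (QuadraticMap.polarBilin Q).Nondegenerate)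

include hQ

theorem ts_finrank_le {W : Submodule F V} (h : ∀ w ∈ W, Q w = 0) : 2 * finrank F W ≤ finrank F V := by
  have hle : W ≤ LinearMap.BilinForm.orthogonal (QuadraticMap.polarBilin Q) W := fun w hw u hu => by
    show polar Q u w = 0
    simp [polar, h _ (W.add_mem hu hw), h u hu, h w hw]
  have h1 := Submodule.finrank_mono hle
  have h2 := LinearMap.BilinForm.finrank_orthogonal hQ W
  have h3 := W.finrank_le
  omega

/-- Maximal totally singular subspaces have the same dimension. -/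
theorem max_ts_le {W₁ W₂ : Submodule F V} (h₁ : ∀ w ∈ W₁, Q w = 0) (h₂ : ∀ w ∈ W₂, Q w = 0)
    (hmax₁ : ∀ W : Submodule F V, W₁ ≤ W → (∀ w ∈ W, Q w = 0) → W = W₁) :
    finrank F W₂ ≤ finrank F W₁ := by
  by_contra! hlt
  let f : Fin (finrank F W₁) → W₂ := fun i => (Module.finBasis F W₂) (Fin.castLE hlt.le i)
  have hf : LinearIndependent F (fun i => ((f i : W₂) : V)) :=
    ((Module.finBasis F W₂).linearIndependent.comp _ (Fin.castLE_injective _)).map' W₂.subtype W₂.ker_subtype
  let b := Basis.span hf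
  let X := Submodule.span F (Set.range fun i => ((f i : W₂) : V))
  have hX : X ≤ W₂ := Submodule.span_le.2 (by rintro _ ⟨i, rfl⟩; exact (f i).2)
  let φ : X ≃ₗ[F] W₁ := b.equiv (Module.finBasis F W₁) (Equiv.refl _)
  obtain ⟨g, hg, hgX⟩ := witt_extension hQ X W₁ φ fun x => by rw [h₁ _ (φ x).2, h₂ _ (hX x.2)]
  have hW : W₁ ≤ W₂.map (g : V →ₗ[F] V) := fun w hw => by
    refine ⟨(φ.symm ⟨w, hw⟩ : V), hX (φ.symm _).2, ?_⟩
    change g _ = w
    rw [hgX, LinearEquiv.apply_symm_apply]
  have := hmax₁ _ hW (by rintro _ ⟨w, hw, rfl⟩; exact (hg w).trans (h₂ w hw))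
  have h := congrArg (fun S : Submodule F V => finrank F S) this
  simp only [LinearEquiv.finrank_map_eq] at h
  omega

omit hQ in
theorem exists_max_ts_ge (U : Submodule F V) (hU : ∀ u ∈ U, Q u = 0) :
    ∃ M : Submodule F V, U ≤ M ∧ (∀ u ∈ M, Q u = 0) ∧ ∀ W, M ≤ W → (∀ w ∈ W, Q w = 0) → W = M := by
  obtain ⟨M, ⟨hUM, hM⟩, hmax⟩ := (inferInstance : WellFoundedGT (Submodule F V)).wf.has_min
    {M | U ≤ M ∧ ∀ u ∈ M, Q u = 0} ⟨U, le_rfl, hU⟩
  refine ⟨M, hUM, hM, fun W hMW hW => ?_⟩
  by_contra hne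
  exact hmax W ⟨hUM.trans hMW, hW⟩ (lt_of_le_of_ne hMW (Ne.symm hne))

/-! ### Lagrangian subspaces -/

omit hQ in
theorem lag_finrank_le {U W : Submodule F V} : finrank F ↥(U ⊓ W) ≤ finrank F U :=
  Submodule.finrank_mono inf_le_left

theorem lag_even_sum (U : Submodule F V) (hU : IsLagrangian Q U) :
    ∀ d, ∀ W X : Submodule F V, IsLagrangian Q W → IsLagrangian Q X → lagDist W X = d →
      Even (lagDist U W + lagDist U X + lagDist W X) := by
  intro d
  induction d using Nat.strong_induction_on with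
  | _ d ih =>
  intro W X hW hX hd
  have eW := finrank_of_isLagrangian hQ hW
  have eX := finrank_of_isLagrangian hQ hX
  by_cases hWX : W ≤ X
  · obtain rfl : W = X := Submodule.eq_of_le_of_finrank_eq hWX (by omega)
    rw [lagDist_self]
    exact ⟨lagDist U W, by ring⟩
  obtain ⟨w, hw, hwX⟩ := SetLike.not_le_iff_exists.1 hWX
  obtain ⟨x, hx, hwx⟩ : ∃ x ∈ X, polar Q w x ≠ 0 := by
    by_contra! hall
    apply hwX
    rw [← hX.2]
    intro x hx
    show polar Q x w = 0
    rw [polar_comm]; exact hall x hx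
  have hQa : Q (w + x) = polar Q w x := by rw [quad_add', hW.1 w hw, hX.1 x hx]; ring
  have hmap : (refl Q (w + x)).1 x = -w := by
    rw [refl_apply, hQa, polar_add_left, polar_self', hX.1 x hx, mul_zero, add_zero, inv_mul_cancel₀ hwx, one_smul]
    abel
  set X' := X.map ((refl Q (w + x)).1 : V →ₗ[F] V)
  have hX' : IsLagrangian Q X' := isLagrangian_map hX _
  have hle : W ⊓ X ⊔ Submodule.span F {w} ≤ W ⊓ X' := by
    refine sup_le (fun v hv => ⟨hv.1, ⟨v, hv.2, ?_⟩⟩) ((Submodule.span_singleton_le_iff_mem _ _).2 ⟨hw, ?_⟩)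
    · refine refl_fix Q ?_
      have e1 : polar Q w v = 0 := by simp [polar, hW.1 _ (W.add_mem hw hv.1), hW.1 w hw, hW.1 v hv.1]
      have e2 : polar Q x v = 0 := by simp [polar, hX.1 _ (X.add_mem hx hv.2), hX.1 x hx, hX.1 v hv.2]
      rw [polar_add_left, e1, e2, add_zero]
    · refine ⟨-x, X.neg_mem hx, ?_⟩
      change (refl Q (w + x)).1 (-x) = w
      rw [map_neg, hmap, neg_neg]
  have hlt : finrank F ↥(W ⊓ X) < finrank F ↥(W ⊓ X') :=
    Submodule.finrank_lt_finrank_of_lt (lt_of_lt_of_le (lt_of_le_of_ne le_sup_left (fun e =>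
      hwX ((e.symm ▸ Submodule.mem_sup_right (Submodule.mem_span_singleton_self w) : w ∈ W ⊓ X)).2)) hle)
  have hsmall : lagDist W X' < d := by
    have := lag_finrank_le (U := W) (W := X')
    unfold lagDist at hd ⊢
    omega
  obtain ⟨k₁, hk₁⟩ := ih _ hsmall W X' hW hX' rfl
  obtain ⟨k₂, hk₂⟩ := (lagDist_refl hQ hU hX (a := w + x) (by rw [hQa]; exact hwx)).2
  obtain ⟨k₃, hk₃⟩ := (lagDist_refl hQ hW hX (a := w + x) (by rw [hQa]; exact hwx)).2
  rw [Nat.even_iff]
  change _ + lagDist U X' = _ at hk₂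
  change _ + lagDist W X' = _ at hk₃
  omega

/-- A hyperplane of a Lagrangian lies in exactly two Lagrangians. -/
theorem lag_through_two {L : Submodule F V} (hL : IsLagrangian Q L) {U : Submodule F V} (hU : U ≤ L)
    (hd : finrank F U + 1 = finrank F L) :
    Nat.card {W : Submodule F V // IsLagrangian Q W ∧ U ≤ W} = 2 := by
  have eL := finrank_of_isLagrangian hQ hL
  obtain ⟨a, haU, ha⟩ : ∃ a ∈ LinearMap.BilinForm.orthogonal (QuadraticMap.polarBilin Q) U, Q a ≠ 0 := by
    by_contra! hall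
    have h1 := ts_finrank_le hQ hall
    rw [LinearMap.BilinForm.finrank_orthogonal hQ] at h1
    omega
  set L' := L.map ((refl Q a).1 : V →ₗ[F] V)
  have hL' : IsLagrangian Q L' := isLagrangian_map hL _
  have hUL' : U ≤ L' := fun u hu => ⟨u, hU hu, refl_fix Q ((polar_comm _ _ _).trans (haU u hu))⟩
  have hdist : ∀ {X Y : Submodule F V}, IsLagrangian Q X → IsLagrangian Q Y → U ≤ X → U ≤ Y → X ≠ Y →
      lagDist X Y = 1 := by
    intro X Y hX hY hUX hUY hne
    have h1 := Submodule.finrank_mono (le_inf hUX hUY)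
    have eX := finrank_of_isLagrangian hQ hX
    have eY := finrank_of_isLagrangian hQ hY
    have h2 : finrank F ↥(X ⊓ Y) < finrank F X := Submodule.finrank_lt_finrank_of_lt
      (lt_of_le_of_ne inf_le_left fun e => hne (Submodule.eq_of_le_of_finrank_eq (inf_eq_left.1 e) (by omega)))
    unfold lagDist
    omega
  have hne : L ≠ L' := fun e => by
    obtain ⟨k, hk⟩ := (lagDist_refl hQ hL hL ha).2
    change lagDist L L + lagDist L L' = _ at hk
    rw [← e, lagDist_self] at hk
    omega
  rw [Nat.card_eq_two_iff]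
  refine ⟨⟨L, hL, hU⟩, ⟨L', hL', hUL'⟩, fun e => hne (congrArg Subtype.val e), ?_⟩
  ext ⟨X, hX, hUX⟩
  simp only [Set.mem_insert_iff, Set.mem_singleton_iff, Subtype.mk.injEq, Set.mem_univ, iff_true]
  by_contra! h
  obtain ⟨k, hk⟩ := lag_even_sum hQ L hL _ L' X hL' hX rfl
  rw [hdist hL hL' hU hUL' hne, hdist hL hX hU hUX h.1.symm, hdist hL' hX hUL' hUX h.2.symm] at hk
  omega

/-! ### The negation -/

omit hQ in
/-- `-1` as an element of the orthogonal group. -/
def negEl (Q : QuadraticForm F V) : orthGroup Q :=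
  ⟨LinearEquiv.neg F, fun v => QuadraticMap.map_neg Q v⟩

omit hQ in
theorem negEl_apply (v : V) : (negEl Q).1 v = -v := rfl

omit hQ in
theorem prod_refl_basis {n : ℕ} (b : Fin n → V) (hb : ∀ i, Q (b i) ≠ 0)
    (ho : ∀ i j, i ≠ j → polar Q (b i) (b j) = 0) :
    ∀ l : List (Fin n), l.Nodup → ∀ j,
      ((l.map b).map (refl Q)).prod.1 (b j) = (if j ∈ l then (-1 : F) else 1) • b j := by
  intro l
  induction l with
  | nil => intro _ j; simp
  | cons i l ih =>
    intro hnd j
    rw [List.nodup_cons] at hnd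
    show (refl Q (b i)).1 (((l.map b).map (refl Q)).prod.1 (b j)) = _
    rw [ih hnd.2, map_smul]
    rcases eq_or_ne i j with rfl | hij
    · rw [if_neg hnd.1, one_smul, refl_self Q (hb i), if_pos (List.mem_cons_self), neg_one_smul]
    · rw [refl_fix Q (ho i j hij)]
      simp [List.mem_cons, hij.symm]

theorem negEl_mem_of_unit_basis [Fintype F] [Finite V] (h2 : (2 : F) ≠ 0) {n : ℕ} (hn : Even n)
    (b : Basis (Fin n) F V) (hb : ∀ i, Q (b i) = 1) (ho : ∀ i j, i ≠ j → polar Q (b i) (b j) = 0) :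
    negEl Q ∈ commutator (orthGroup Q) := by
  have hb0 : ∀ i, Q (b i) ≠ 0 := fun i => by rw [hb]; exact one_ne_zero
  have e : (((List.finRange n).map b).map (refl Q)).prod = negEl Q := by
    refine Subtype.ext (b.ext' fun j => ?_)
    rw [prod_refl_basis b hb0 ho _ (List.nodup_finRange n), if_pos (List.mem_finRange j), neg_one_smul]
    rfl
  rw [← e, prod_refl_mem_commutator_iff hQ h2 _ (by
    intro a ha
    obtain ⟨i, -, rfl⟩ := List.mem_map.1 ha
    exact hb0 i)]
  refine ⟨by simpa using hn, ?_⟩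
  rw [List.prod_eq_one]
  · exact IsSquare.one
  · intro x hx
    simp only [List.map_map, List.mem_map, Function.comp_apply] at hx
    obtain ⟨i, -, rfl⟩ := hx
    exact hb i

end CfsgLib.Classical

namespace CfsgLib.Classical

open CfsgLib.KnownC.OrthTools

variable {F : Type*} [Field F] [Fintype F]

theorem negEl_plus_iff (h2 : (2 : F) ≠ 0) (m : ℕ) :
    negEl (plusForm F m) ∈ commutator (orthGroup (plusForm F m)) ↔ IsSquare ((-1 : F) ^ m) := by
  classical
  obtain ⟨L, hL, hlen, hprod, hneg, -⟩ := exists_negPairs (Q := plusForm F m)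
    (fun j : Fin m => (Pi.single (Sum.inl j) 1 : Fin m ⊕ Fin m → F))
    (fun j : Fin m => (Pi.single (Sum.inr j) 1 : Fin m ⊕ Fin m → F))
    (fun j => by simp [← plusForm_apply, Cfsg.quadFormPlus, Pi.single_apply])
    (fun j => by simp [← plusForm_apply, Cfsg.quadFormPlus, Pi.single_apply])
    (fun j k => by simp [plusForm_polar, Pi.single_apply, eq_comm])
    (fun j k _ => by simp [plusForm_polar, Pi.single_apply])
    (fun j k _ => by simp [plusForm_polar, Pi.single_apply])
  have e : (L.map (refl (plusForm F m))).prod = negEl (plusForm F m) := by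
    refine Subtype.ext ((Pi.basisFun F (Fin m ⊕ Fin m)).ext' fun k => ?_)
    rw [Pi.basisFun_apply]
    rcases k with j | j
    · exact (hneg j).1
    · exact (hneg j).2
  rw [← e, prod_refl_mem_commutator_iff (plusForm_nondeg m) h2 L hL, hprod, hlen]
  exact ⟨fun h => h.2, fun h => ⟨even_two_mul m, h⟩⟩

theorem negEl_minus_iff (h2 : (2 : F) ≠ 0) (k : ℕ) (a b : F)
    (hab : ∀ z₁ z₂ : F, z₁ ^ 2 + a * z₁ * z₂ + b * z₂ ^ 2 = 0 → z₁ = 0 ∧ z₂ = 0) :
    negEl (minusForm F k a b) ∈ commutator (orthGroup (minusForm F k a b)) ↔ ¬ IsSquare ((-1 : F) ^ (k + 1)) := by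
  classical
  set Q := minusForm F k a b with hQdef
  obtain ⟨L, hL, hlen, hprod, hneg, hfix⟩ := exists_negPairs (Q := Q)
    (fun j : Fin k => (Pi.single (Sum.inl (Sum.inl j)) 1 : (Fin k ⊕ Fin k) ⊕ Fin 2 → F))
    (fun j : Fin k => (Pi.single (Sum.inl (Sum.inr j)) 1 : (Fin k ⊕ Fin k) ⊕ Fin 2 → F))
    (fun j => by simp [Q, ← minusForm_apply, Cfsg.quadFormMinus, Pi.single_apply])
    (fun j => by simp [Q, ← minusForm_apply, Cfsg.quadFormMinus, Pi.single_apply])
    (fun j k => by simp [Q, minusForm_polar, Pi.single_apply, eq_comm])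
    (fun j k _ => by simp [Q, minusForm_polar, Pi.single_apply])
    (fun j k _ => by simp [Q, minusForm_polar, Pi.single_apply])
  set x : (Fin k ⊕ Fin k) ⊕ Fin 2 → F := Pi.single (Sum.inr 0) 1 with hx
  set z : (Fin k ⊕ Fin k) ⊕ Fin 2 → F := Pi.single (Sum.inr 1) 1 with hz
  set y : (Fin k ⊕ Fin k) ⊕ Fin 2 → F := a • x - (2 : F) • z with hy
  have hQx : Q x = 1 := by simp [Q, x, ← minusForm_apply, Cfsg.quadFormMinus, Pi.single_apply]
  have hQy : Q y = 4 * b - a ^ 2 := by
    simp [Q, x, z, y, ← minusForm_apply, Cfsg.quadFormMinus, Pi.single_apply]; ring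
  have hxy : polar Q x y = 0 := by
    rw [hy, polar_sub_right, polar_smul_r', polar_smul_r', polar_self', hQx]
    simp [Q, x, z, minusForm_polar, Pi.single_apply]
    ring
  have hns : ¬ IsSquare (a ^ 2 - 4 * b) := by
    rintro ⟨d, hd⟩
    have h := hab ((d - a) / 2) 1 (by field_simp; linear_combination -hd)
    exact one_ne_zero h.2
  have hQy0 : Q y ≠ 0 := fun h => hns ⟨0, by rw [hQy] at h; linear_combination -h⟩
  have hxfix : (L.map (refl Q)).prod.1 x = x := hfix x fun j => by
    simp [Q, x, minusForm_polar, Pi.single_apply]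
  have hyfix : (L.map (refl Q)).prod.1 y = y := hfix y fun j => by
    simp [Q, x, y, z, minusForm_polar, Pi.single_apply]
  have happly : ∀ v, ((L ++ [x, y]).map (refl Q)).prod.1 v =
      (L.map (refl Q)).prod.1 ((refl Q x).1 ((refl Q y).1 v)) := fun v => by
    rw [List.map_append, List.prod_append]
    simp only [List.map_cons, List.map_nil, List.prod_cons, List.prod_nil, mul_one]
    rfl
  have ex : ((L ++ [x, y]).map (refl Q)).prod.1 x = -x := by
    rw [happly, refl_fix Q ((polar_comm _ _ _).trans hxy), refl_self Q (by rw [hQx]; exact one_ne_zero), map_neg, hxfix]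
  have ey : ((L ++ [x, y]).map (refl Q)).prod.1 y = -y := by
    rw [happly, refl_self Q hQy0, map_neg, refl_fix Q hxy, map_neg, hyfix]
  have e : ((L ++ [x, y]).map (refl Q)).prod = negEl Q := by
    refine Subtype.ext ((Pi.basisFun F ((Fin k ⊕ Fin k) ⊕ Fin 2)).ext' fun i => ?_)
    rw [Pi.basisFun_apply]
    rcases i with (j | j) | u
    · rw [happly, refl_fix Q (a := y), refl_fix Q (a := x), (hneg j).1]
      · rfl
      · simp [Q, x, minusForm_polar, Pi.single_apply]
      · simp [Q, x, y, z, minusForm_polar, Pi.single_apply]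
    · rw [happly, refl_fix Q (a := y), refl_fix Q (a := x), (hneg j).2]
      · rfl
      · simp [Q, x, minusForm_polar, Pi.single_apply]
      · simp [Q, x, y, z, minusForm_polar, Pi.single_apply]
    · fin_cases u
      · exact ex
      · show _ = -z
        have hz' : z = (2 : F)⁻¹ • (a • x - y) := by rw [hy, sub_sub_cancel, smul_smul, inv_mul_cancel₀ h2, one_smul]
        show ((L ++ [x, y]).map (refl Q)).prod.1 z = -z
        rw [hz', map_smul, map_sub, map_smul, ex, ey]
        module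
  rw [← e, prod_refl_mem_commutator_iff (minusForm_nondeg k a b hab) h2 _ (by
    intro v hv
    rcases List.mem_append.1 hv with h | h
    · exact hL v h
    · rcases List.mem_pair.1 h with rfl | rfl
      · rw [hQx]; exact one_ne_zero
      · exact hQy0)]
  have hp : ((L ++ [x, y]).map fun v => Q v).prod = (-1) ^ (k + 1) * (a ^ 2 - 4 * b) := by
    simp [hprod, hQx, hQy, pow_succ]; ring
  rw [hp]
  have hd0 : a ^ 2 - 4 * b ≠ 0 := fun h => hns ⟨0, by linear_combination h⟩
  have hc0 : ((-1 : F) ^ (k + 1)) ≠ 0 := pow_ne_zero _ (neg_ne_zero.2 one_ne_zero)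
  have hev : Even (L ++ [x, y]).length := by
    rw [List.length_append, hlen]
    exact (even_two_mul k).add (by simp)
  simp only [hev, true_and]
  rw [← quadraticChar_one_iff_isSquare hc0, ← quadraticChar_one_iff_isSquare (mul_ne_zero hc0 hd0), map_mul,
    quadraticChar_neg_one_iff_not_isSquare.2 hns]
  rcases quadraticChar_dichotomy hc0 with h | h <;> rw [h] <;> norm_num

end CfsgLib.Classical
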