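import Cfsg.Agent.Lib.Classical.OrthCount
import Cfsg.Agent.Lib.Classical.OrthApps2
import Cfsg.Agent.Lib.Orth.Similitude

/-!
# The centre of `Ω(Q)` and the orders of `PΩ(Q)`
-/

set_option autoImplicit false
set_option linter.unusedSectionVars false

open Module QuadraticMap CfsgLib.Orth

namespace CfsgLib.Classical

variable {F V : Type*} [Field F] [AddCommGroup V] [Module F V] [FiniteDimensional F V]

/-- Two orthogonal hyperbolic pairs. -/
structure HypPairs (Q : QuadraticForm F V) where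
  e₀ : V
  f₀ : V
  e₁ : V
  f₁ : V
  he₀ : Q e₀ = 0
  hf₀ : Q f₀ = 0
  he₁ : Q e₁ = 0
  hf₁ : Q f₁ = 0
  h00 : polar Q e₀ f₀ = 1
  h11 : polar Q e₁ f₁ = 1
  hee : polar Q e₀ e₁ = 0
  hef : polar Q e₀ f₁ = 0
  hfe : polar Q f₀ e₁ = 0
  hff : polar Q f₀ f₁ = 0

variable {Q : QuadraticForm F V}

theorem HypPairs.two_le_finrank (hp : HypPairs Q) : 2 ≤ finrank F V := by
  have hli : LinearIndependent F ![hp.e₀, hp.e₁] := by
    rw [LinearIndependent.pair_iff]
    intro s t h
    have h1 := congrArg (polar Q hp.f₀) h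
    have h2 := congrArg (polar Q hp.f₁) h
    simp only [polar_add_right, polar_smul_r', polar_zero_right, polar_comm _ hp.f₀ hp.e₀, polar_comm _ hp.f₁ hp.e₀,
      polar_comm _ hp.f₁ hp.e₁, hp.h00, hp.h11, hp.hfe, hp.hef, mul_one, mul_zero, add_zero, zero_add] at h1 h2
    exact ⟨h1, h2⟩
  simpa using hli.fintype_card_le_finrank

theorem HypPairs.span_anisotropic (hp : HypPairs Q) : Submodule.span F {v : V | Q v ≠ 0} = ⊤ := by
  set S := Submodule.span F {v : V | Q v ≠ 0}
  have mem : ∀ {v}, Q v = 1 → v ∈ S := fun {v} h => Submodule.subset_span (by simp [h])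
  have hyp : ∀ {e f x : V}, Q e = 0 → Q f = 0 → polar Q e f = 1 → Q x = 0 → polar Q e x = 0 → polar Q f x = 0 →
      x ∈ S := by
    intro e f x he hf hef hx hex hfx
    have h1 : e + f ∈ S := mem (by rw [quad_add', he, hf, hef]; ring)
    have h2 : (e + f) + x ∈ S := mem (by rw [quad_add', quad_add', polar_add_left, he, hf, hef, hx, hex, hfx]; ring)
    simpa using S.sub_mem h2 h1
  have cfe : polar Q hp.e₁ hp.f₀ = 0 := by rw [polar_comm]; exact hp.hfe
  have e1 := hyp hp.he₀ hp.hf₀ hp.h00 hp.he₁ hp.hee hp.hfe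
  have f1 := hyp hp.he₀ hp.hf₀ hp.h00 hp.hf₁ hp.hef hp.hff
  have e0 := hyp hp.he₁ hp.hf₁ hp.h11 hp.he₀ (by rw [polar_comm]; exact hp.hee) (by rw [polar_comm]; exact hp.hef)
  have f0 := hyp hp.he₁ hp.hf₁ hp.h11 hp.hf₀ cfe (by rw [polar_comm]; exact hp.hff)
  refine Submodule.eq_top_iff'.2 fun v => ?_
  set z := v - polar Q hp.f₀ v • hp.e₀ - polar Q hp.e₀ v • hp.f₀ with hz
  have hzS : z ∈ S := by
    by_cases h : Q z = 0
    · refine hyp hp.he₀ hp.hf₀ hp.h00 h ?_ ?_
      · simp only [hz, polar_sub_right, polar_smul_r', polar_self', hp.he₀, hp.h00]; ring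
      · simp only [hz, polar_sub_right, polar_smul_r', polar_self', hp.hf₀, polar_comm _ hp.f₀ hp.e₀, hp.h00]; ring
    · exact Submodule.subset_span h
  have hv : v = z + polar Q hp.f₀ v • hp.e₀ + polar Q hp.e₀ v • hp.f₀ := by rw [hz]; abel
  rw [hv]
  exact S.add_mem (S.add_mem hzS (S.smul_mem _ e0)) (S.smul_mem _ f0)

theorem negEl_comm (g : orthGroup Q) : g * negEl Q = negEl Q * g :=
  Subtype.ext (LinearEquiv.ext fun v => by simp [negEl])

theorem negEl_ne_one [Nontrivial V] (h2 : (2 : F) ≠ 0) : negEl Q ≠ 1 := by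
  intro h
  obtain ⟨v, hv⟩ := exists_ne (0 : V)
  have e : -v = v := LinearEquiv.congr_fun (congrArg Subtype.val h) v
  have : (2 : F) • v = 0 := by rw [two_smul]; nth_rewrite 1 [← e]; exact neg_add_cancel v
  exact hv ((smul_eq_zero.1 this).resolve_left h2)

variable (hQ : (QuadraticMap.polarBilin Q).Nondegenerate)
include hQ

theorem eq_one_or_negEl_of_commute (h2 : (2 : F) ≠ 0) (hp : HypPairs Q) (g : orthGroup Q)
    (hg : ∀ c ∈ commutator (orthGroup Q), g * c = c * g) : g = 1 ∨ g = negEl Q := by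
  obtain ⟨c, hc⟩ := scalar_of_commute hQ h2 hp.he₀ hp.hf₀ hp.he₁ hp.hf₁ hp.h00 hp.h11 hp.hee hp.hef hp.hfe hp.hff
    (g.1 : V →ₗ[F] V) (fun h v => LinearEquiv.congr_fun
      (congrArg Subtype.val (hg _ (sq_mem_commutator hQ (good_of_two_ne h2) (h * h)))) v)
  have hne : Q (hp.e₀ + hp.f₀) = 1 := by rw [quad_add', hp.he₀, hp.hf₀, hp.h00]; ring
  have hcc : c * c = 1 := by
    have h : Q (g.1 (hp.e₀ + hp.f₀)) = Q (hp.e₀ + hp.f₀) := apply_quad g _
    rw [show g.1 (hp.e₀ + hp.f₀) = c • (hp.e₀ + hp.f₀) from hc _, quad_smul', hne, mul_one] at h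
    exact h
  rcases mul_self_eq_one_iff.1 hcc with rfl | rfl
  · exact Or.inl (Subtype.ext (LinearEquiv.ext fun v => (hc v).trans (one_smul F v)))
  · exact Or.inr (Subtype.ext (LinearEquiv.ext fun v => (hc v).trans (neg_one_smul F v)))

theorem eq_one_of_commute_two [Fintype F] [CharP F 2] (h4 : Good F V) (hn : 3 ≤ finrank F V) (hp : HypPairs Q)
    (g : orthGroup Q) (hg : ∀ c ∈ commutator (orthGroup Q), g * c = c * g) : g = 1 := by
  classical
  obtain ⟨κ, hκ⟩ := exists_dickson Q hQ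
  have hrr : ∀ a b, Q a ≠ 0 → Q b ≠ 0 → refl Q a * refl Q b ∈ commutator (orthGroup Q) := fun a b ha hb => by
    rw [mem_commutator_two hQ h4 κ hκ, map_mul, hκ a ha, hκ b hb, ← ofAdd_add, CharTwo.add_self_eq_zero, ofAdd_zero]
  -- the image of an anisotropic vector lies in every plane through it
  have hplane : ∀ a b, Q a ≠ 0 → Q b ≠ 0 → a ∉ F ∙ b → g.1 a ∈ Submodule.span F {a, b} := by
    intro a b ha hb hab
    obtain ⟨z, hz0, hz1⟩ := exists_polar_one hQ hab
    have hzb : polar Q b z = 0 := by rw [polar_comm]; exact hz0 b (Submodule.mem_span_singleton_self b)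
    have hv : (refl Q a).1 ((refl Q b).1 (Q a • z)) = Q a • z - a := by
      rw [map_smul, map_smul, refl_fix Q hzb, refl_apply, polar_comm, hz1, mul_one, smul_sub, smul_smul,
        mul_inv_cancel₀ ha, one_smul]
    have hc : g.1 ((refl Q a).1 ((refl Q b).1 (Q a • z))) = (refl Q a).1 ((refl Q b).1 (g.1 (Q a • z))) :=
      LinearEquiv.congr_fun (congrArg Subtype.val (hg _ (hrr a b ha hb))) (Q a • z)
    rw [hv, map_sub] at hc
    have e : g.1 a = g.1 (Q a • z) - (refl Q a).1 ((refl Q b).1 (g.1 (Q a • z))) := by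
      rw [← hc]; abel
    rw [e, refl_apply, refl_apply]
    generalize g.1 (Q a • z) = w
    have key : ∀ s t : F, w - (w - s • b - t • a) ∈ Submodule.span F {a, b} := fun s t => by
      rw [show w - (w - s • b - t • a) = s • b + t • a by abel]
      exact add_mem (Submodule.smul_mem _ _ (Submodule.subset_span (by simp)))
        (Submodule.smul_mem _ _ (Submodule.subset_span (by simp)))
    exact key _ _
  -- the image of an anisotropic vector is a multiple of it
  have hfix : ∀ a, Q a ≠ 0 → g.1 a = a := by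
    intro a ha
    have hout : ∀ W : Submodule F V, W ≠ ⊤ → ∃ b, Q b ≠ 0 ∧ b ∉ W := fun W hW => by
      by_contra! h
      exact hW (top_le_iff.1 (hp.span_anisotropic ▸ Submodule.span_le.2 h))
    obtain ⟨b, hb, hba⟩ := hout (F ∙ a) (fun h => by
      have h1 := finrank_span_singleton (K := F) (v := a) (fun h' => ha (by simp [h']))
      rw [h, finrank_top] at h1
      omega)
    obtain ⟨c, hc, hcab⟩ := hout (Submodule.span F {a, b}) (fun h => by
      have h1 : (({a, b} : Finset V).card) ≤ 2 := Finset.card_le_two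
      have h3 := finrank_span_finset_le_card (R := F) ({a, b} : Finset V)
      rw [Finset.coe_pair, Set.finrank, h, finrank_top] at h3
      omega)
    have hab : a ∉ F ∙ b := fun h => by
      obtain ⟨s, rfl⟩ := Submodule.mem_span_singleton.1 h
      have hs : s ≠ 0 := fun h' => ha (by simp [h'])
      exact hba (Submodule.mem_span_singleton.2 ⟨s⁻¹, by rw [smul_smul, inv_mul_cancel₀ hs, one_smul]⟩)
    have hac : a ∉ F ∙ c := fun h => by
      obtain ⟨s, rfl⟩ := Submodule.mem_span_singleton.1 h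
      have hs : s ≠ 0 := fun h' => ha (by simp [h'])
      refine hcab ?_
      exact (Submodule.smul_mem_iff (Submodule.span F {s • c, b}) hs).1 (Submodule.subset_span (by simp))
    obtain ⟨x, y, hxy⟩ := Submodule.mem_span_pair.1 (hplane a b ha hb hab)
    obtain ⟨x', y', hxy'⟩ := Submodule.mem_span_pair.1 (hplane a c ha hc hac)
    have hy' : y' = 0 := by
      by_contra hne
      refine hcab (Submodule.mem_span_pair.2 ⟨y'⁻¹ * (x - x'), y'⁻¹ * y, ?_⟩)
      have h3 : (x - x') • a + y • b = y' • c := by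
        rw [sub_smul, sub_add_eq_add_sub, hxy, ← hxy', add_sub_cancel_left]
      rw [mul_smul, mul_smul, ← smul_add, h3, smul_smul, inv_mul_cancel₀ hne, one_smul]
    rw [hy', zero_smul, add_zero] at hxy'
    have hq := apply_quad g a
    rw [← hxy', quad_smul'] at hq
    have hxx : x' * x' = 1 := mul_right_cancel₀ ha (by rw [hq, one_mul])
    rw [← hxy']
    rcases mul_self_eq_one_iff.1 hxx with h | h
    · rw [h, one_smul]
    · rw [h, CharTwo.neg_eq, one_smul]
  refine Subtype.ext (LinearEquiv.ext fun v => ?_)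
  exact LinearMap.congr_fun (LinearMap.ext_on hp.span_anisotropic (f := (g.1 : V →ₗ[F] V)) (g := LinearMap.id)
    (fun a ha => hfix a ha)) v

omit hQ in
theorem central_commutes (z : ↥(commutator (orthGroup Q)))
    (hz : z ∈ Subgroup.center ↥(commutator (orthGroup Q))) :
    ∀ c ∈ commutator (orthGroup Q), z.1 * c = c * z.1 :=
  fun c hc => (congrArg Subtype.val (Subgroup.mem_center_iff.1 hz ⟨c, hc⟩)).symm

theorem card_center_odd_neg (h2 : (2 : F) ≠ 0) (hp : HypPairs Q) (hm : negEl Q ∈ commutator (orthGroup Q)) :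
    Nat.card (Subgroup.center ↥(commutator (orthGroup Q))) = 2 := by
  haveI : Nontrivial V := nontrivial_of_ne hp.e₀ 0 (fun h => by simpa [h] using hp.h00)
  have hc : (⟨negEl Q, hm⟩ : ↥(commutator (orthGroup Q))) ∈ Subgroup.center _ :=
    Subgroup.mem_center_iff.2 fun c => Subtype.ext (negEl_comm c.1)
  rw [Nat.card_eq_two_iff]
  refine ⟨1, ⟨_, hc⟩, fun h => negEl_ne_one (Q := Q) h2 (congrArg (fun x => x.1.1) h).symm, ?_⟩
  refine Set.eq_univ_of_forall fun z => ?_
  rcases eq_one_or_negEl_of_commute hQ h2 hp z.1.1 (central_commutes z.1 z.2) with h | h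
  · exact Or.inl (Subtype.ext (Subtype.ext h))
  · exact Or.inr (Subtype.ext (Subtype.ext h))

theorem card_center_odd_not (h2 : (2 : F) ≠ 0) (hp : HypPairs Q) (hm : negEl Q ∉ commutator (orthGroup Q)) :
    Nat.card (Subgroup.center ↥(commutator (orthGroup Q))) = 1 := by
  rw [Nat.card_eq_one_iff_unique]
  refine ⟨⟨fun a b => ?_⟩, inferInstance⟩
  have h : ∀ z : ↥(Subgroup.center ↥(commutator (orthGroup Q))), z.1.1 = 1 := fun z =>
    (eq_one_or_negEl_of_commute hQ h2 hp z.1.1 (central_commutes z.1 z.2)).resolve_right fun h => hm (h ▸ z.1.2)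
  exact Subtype.ext (Subtype.ext ((h a).trans (h b).symm))

theorem card_center_two [Fintype F] [CharP F 2] (h4 : Good F V) (hn : 3 ≤ finrank F V) (hp : HypPairs Q) :
    Nat.card (Subgroup.center ↥(commutator (orthGroup Q))) = 1 := by
  rw [Nat.card_eq_one_iff_unique]
  refine ⟨⟨fun a b => ?_⟩, inferInstance⟩
  have h : ∀ z : ↥(Subgroup.center ↥(commutator (orthGroup Q))), z.1.1 = 1 := fun z =>
    eq_one_of_commute_two hQ h4 hn hp z.1.1 (central_commutes z.1 z.2)
  exact Subtype.ext (Subtype.ext ((h a).trans (h b).symm))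

end CfsgLib.Classical

namespace CfsgLib.Classical

variable {F : Type*} [Field F] {ι : Type} [Fintype ι] [DecidableEq ι] {Qf : (ι → F) → F}
  (Q : QuadraticForm F (ι → F)) (hQf : ∀ v, Qf v = Q v)

/-- `Ω` of the prelude is the commutator subgroup of the orthogonal group. -/
noncomputable def omegaEquiv : ↥(Cfsg.Omega F Qf) ≃* ↥(commutator (orthGroup Q)) where
  toFun x := ⟨toOrth Q hQf x.1, (mem_Omega_iff Q hQf x.1).1 x.2⟩
  invFun y := ⟨(toOrth Q hQf).symm y.1,
    (mem_Omega_iff Q hQf _).2 (by rw [MulEquiv.apply_symm_apply]; exact y.2)⟩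
  left_inv x := Subtype.ext ((toOrth Q hQf).symm_apply_apply x.1)
  right_inv y := Subtype.ext ((toOrth Q hQf).apply_symm_apply y.1)
  map_mul' x y := Subtype.ext (map_mul (toOrth Q hQf) x.1 y.1)

theorem card_pomega_mul (hQf : ∀ v, Qf v = Q v) :
    Nat.card (Cfsg.POmega F Qf) * Nat.card (Subgroup.center ↥(commutator (orthGroup Q))) *
      (commutator (orthGroup Q)).index = Nat.card (orthGroup Q) := by
  rw [← Nat.card_congr (Subgroup.centerCongr (omegaEquiv Q hQf)).toEquiv,
    ← Subgroup.card_eq_card_quotient_mul_card_subgroup, Nat.card_congr (omegaEquiv Q hQf).toEquiv,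
    Subgroup.card_mul_index]

end CfsgLib.Classical

namespace CfsgLib.Classical

variable {F : Type*} [Field F]

/-- The first two coordinate pairs of `plusForm`. -/
def hypPairs_plus (m : ℕ) (hm : 2 ≤ m) : HypPairs (plusForm F m) where
  e₀ := Pi.single (Sum.inl ⟨0, by omega⟩) 1
  f₀ := Pi.single (Sum.inr ⟨0, by omega⟩) 1
  e₁ := Pi.single (Sum.inl ⟨1, by omega⟩) 1
  f₁ := Pi.single (Sum.inr ⟨1, by omega⟩) 1
  he₀ := by simp [← plusForm_apply, Cfsg.quadFormPlus, Pi.single_apply]
  hf₀ := by simp [← plusForm_apply, Cfsg.quadFormPlus, Pi.single_apply]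
  he₁ := by simp [← plusForm_apply, Cfsg.quadFormPlus, Pi.single_apply]
  hf₁ := by simp [← plusForm_apply, Cfsg.quadFormPlus, Pi.single_apply]
  h00 := by simp [plusForm_polar, Pi.single_apply]
  h11 := by simp [plusForm_polar, Pi.single_apply]
  hee := by simp [plusForm_polar, Pi.single_apply]
  hef := by simp [plusForm_polar, Pi.single_apply]
  hfe := by simp [plusForm_polar, Pi.single_apply]
  hff := by simp [plusForm_polar, Pi.single_apply]

/-- The first two coordinate pairs of `oddForm`. -/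
def hypPairs_odd (m : ℕ) (hm : 2 ≤ m) : HypPairs (oddForm F m) where
  e₀ := Pi.single (Sum.inr (Sum.inl ⟨0, by omega⟩)) 1
  f₀ := Pi.single (Sum.inr (Sum.inr ⟨0, by omega⟩)) 1
  e₁ := Pi.single (Sum.inr (Sum.inl ⟨1, by omega⟩)) 1
  f₁ := Pi.single (Sum.inr (Sum.inr ⟨1, by omega⟩)) 1
  he₀ := by simp [← oddForm_apply, Cfsg.quadFormOdd, Pi.single_apply]
  hf₀ := by simp [← oddForm_apply, Cfsg.quadFormOdd, Pi.single_apply]
  he₁ := by simp [← oddForm_apply, Cfsg.quadFormOdd, Pi.single_apply]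
  hf₁ := by simp [← oddForm_apply, Cfsg.quadFormOdd, Pi.single_apply]
  h00 := by simp [oddForm_polar, Pi.single_apply]
  h11 := by simp [oddForm_polar, Pi.single_apply]
  hee := by simp [oddForm_polar, Pi.single_apply]
  hef := by simp [oddForm_polar, Pi.single_apply]
  hfe := by simp [oddForm_polar, Pi.single_apply]
  hff := by simp [oddForm_polar, Pi.single_apply]

/-- The first two coordinate pairs of `minusForm`. -/
def hypPairs_minus (k : ℕ) (hk : 2 ≤ k) (a b : F) : HypPairs (minusForm F k a b) where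
  e₀ := Pi.single (Sum.inl (Sum.inl ⟨0, by omega⟩)) 1
  f₀ := Pi.single (Sum.inl (Sum.inr ⟨0, by omega⟩)) 1
  e₁ := Pi.single (Sum.inl (Sum.inl ⟨1, by omega⟩)) 1
  f₁ := Pi.single (Sum.inl (Sum.inr ⟨1, by omega⟩)) 1
  he₀ := by simp [← minusForm_apply, Cfsg.quadFormMinus, Pi.single_apply]
  hf₀ := by simp [← minusForm_apply, Cfsg.quadFormMinus, Pi.single_apply]
  he₁ := by simp [← minusForm_apply, Cfsg.quadFormMinus, Pi.single_apply]
  hf₁ := by simp [← minusForm_apply, Cfsg.quadFormMinus, Pi.single_apply]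
  h00 := by simp [minusForm_polar, Pi.single_apply]
  h11 := by simp [minusForm_polar, Pi.single_apply]
  hee := by simp [minusForm_polar, Pi.single_apply]
  hef := by simp [minusForm_polar, Pi.single_apply]
  hfe := by simp [minusForm_polar, Pi.single_apply]
  hff := by simp [minusForm_polar, Pi.single_apply]

theorem isSquare_neg_one_pow [Fintype F] (hodd : Odd (Fintype.card F)) (m : ℕ) :
    IsSquare ((-1 : F) ^ m) ↔ Fintype.card F ^ m % 4 = 1 := by
  obtain ⟨r, hr⟩ := hodd
  have h4 : Fintype.card F % 4 = 1 ∨ Fintype.card F % 4 = 3 := by omega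
  rcases Nat.even_or_odd m with ⟨k, hk⟩ | ⟨k, hk⟩
  · refine iff_of_true (by rw [hk, ← two_mul, pow_mul]; simp) ?_
    rw [hk, ← two_mul, pow_mul, Nat.pow_mod]
    rcases h4 with h | h <;> simp [Nat.pow_mod, h]
  · have h1 : (-1 : F) ^ m = -1 := Odd.neg_one_pow ⟨k, hk⟩
    rw [h1, FiniteField.isSquare_neg_one_iff, hk, pow_succ, pow_mul]
    rcases h4 with h | h <;> simp [Nat.mul_mod, Nat.pow_mod, h]

theorem pow_card_mod_four [Fintype F] (hodd : Odd (Fintype.card F)) (m : ℕ) :
    Fintype.card F ^ m % 4 = 1 ∨ Fintype.card F ^ m % 4 = 3 := by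
  obtain ⟨r, hr⟩ := hodd.pow (n := m)
  omega

end CfsgLib.Classical
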