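import Cfsg.Agent.Lib.Classical.PermModel

/-!
# The models over two and three elements
-/

set_option autoImplicit false
set_option linter.unusedSectionVars false

open Matrix

namespace CfsgLib.Classical.PermModel

instance : Fact (Nat.Prime 2) := ⟨Nat.prime_two⟩
instance : Fact (Nat.Prime 3) := ⟨Nat.prime_three⟩

/-- Whether the number of ones is two modulo four. -/
def halfWeight {n : ℕ} (x : Fin n → ZMod 2) : ZMod 2 :=
  if (Finset.univ.filter fun i => x i = 1).card % 4 = 2 then 1 else 0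

theorem halfWeight_perm {n : ℕ} (σ : Equiv.Perm (Fin n)) (x : Fin n → ZMod 2) : halfWeight (x ∘ σ) = halfWeight x := by
  unfold halfWeight
  rw [show (Finset.univ.filter fun i => (x ∘ σ) i = 1).card = (Finset.univ.filter fun i => x i = 1).card from
    Finset.card_equiv σ (by simp)]

def indPlus : Fin 3 ⊕ Fin 3 → Fin 6 := Sum.elim (Fin.castAdd 3) (Fin.natAdd 3)

def eightS : Matrix (Fin 8) (Fin 6) (ZMod 2) :=
  !![0,0,0,0,0,0; 0,0,1,0,0,1; 0,1,0,0,1,1; 0,1,1,1,1,0; 1,0,0,1,1,1; 1,0,1,1,0,0; 1,1,0,1,0,1; 1,1,1,0,1,0]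

def eightPi : Matrix (Fin 6) (Fin 8) (ZMod 2) :=
  !![0,0,0,1,1,1,1,0; 0,0,1,1,1,0,0,1; 0,1,1,0,1,0,1,0; 0,0,0,0,1,1,1,1; 0,0,1,1,0,0,1,1; 0,1,0,1,0,1,0,1]

/-- Eight letters and the hyperbolic form in dimension six. -/
def eightModel : Model 8 (Cfsg.quadFormPlus 3 (ZMod 2)) where
  π := eightPi.submatrix indPlus id
  s := eightS.submatrix id indPlus
  R := halfWeight
  ε := 1
  R_perm := halfWeight_perm
  R_ε := fun _ x => by simp
  sum_s := by decide +kernel
  π_s := by decide +kernel
  π_one := by decide +kernel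
  s_π := by decide +kernel
  form := by unfold halfWeight Cfsg.quadFormPlus; decide +kernel

def indMinus : (Fin 1 ⊕ Fin 1) ⊕ Fin 2 → Fin 4 :=
  Sum.elim (Sum.elim (fun _ => 0) (fun _ => 1)) (Fin.natAdd 2)

def fiveS : Matrix (Fin 5) (Fin 4) (ZMod 2) := !![0,1,0,0; 1,0,0,0; 1,1,0,1; 1,1,1,0; 1,1,1,1]

def fivePi : Matrix (Fin 4) (Fin 5) (ZMod 2) := !![1,0,1,1,1; 0,1,1,1,1; 0,0,1,0,1; 0,0,0,1,1]

/-- Five letters and the elliptic form in dimension four. -/
def fiveModel : Model 5 (Cfsg.quadFormMinus 1 (ZMod 2) 1 1) where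
  π := fivePi.submatrix indMinus id
  s := fiveS.submatrix id indMinus
  R := halfWeight
  ε := 1
  R_perm := halfWeight_perm
  R_ε := fun _ x => by simp
  sum_s := by decide +kernel
  π_s := by decide +kernel
  π_one := by decide +kernel
  s_π := by decide +kernel
  form := by unfold halfWeight Cfsg.quadFormMinus; decide +kernel

def indOdd : Unit ⊕ (Fin 1 ⊕ Fin 1) → Fin 3 := Sum.elim (fun _ => 0) (Sum.elim (fun _ => 1) (fun _ => 2))

def fourS : Matrix (Fin 4) (Fin 3) (ZMod 3) := !![0,0,2; 0,1,0; 1,1,2; 2,1,2]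

def fourPi : Matrix (Fin 3) (Fin 4) (ZMod 3) := !![0,0,2,1; 2,0,2,2; 0,1,1,1]

/-- The sign of a permutation modulo three. -/
def signThree : Equiv.Perm (Fin 4) →* ZMod 3 :=
  ((Int.castRingHom (ZMod 3)).toMonoidHom.comp (Units.coeHom ℤ)).comp Equiv.Perm.sign

/-- Four letters and the form in three variables. -/
def fourModel : Model 4 (Cfsg.quadFormOdd 1 (ZMod 3)) where
  π := fourPi.submatrix indOdd id
  s := fourS.submatrix id indOdd
  R := fun x => 2 * ∑ i, x i ^ 2
  ε := signThree
  R_perm := fun σ x => by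
    simp only [Function.comp_apply]
    rw [Equiv.sum_comp σ (fun i => x i ^ 2)]
  R_ε := fun σ x => by
    have h : signThree σ ^ 2 = 1 := by
      rcases Int.units_eq_one_or (Equiv.Perm.sign σ) with h | h <;> simp [signThree, h]
    simp [mul_pow, h]
  sum_s := by decide +kernel
  π_s := by decide +kernel
  π_one := by decide +kernel
  s_π := by decide +kernel
  form := by unfold Cfsg.quadFormOdd; decide +kernel

theorem det_fourModel : ∀ σ : Equiv.Perm (Fin 4), (mat fourModel σ).det = 1 := by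
  intro σ
  have hmul : ∀ a b, (mat fourModel (a * b)).det = (mat fourModel a).det * (mat fourModel b).det := fun a b => by
    rw [mat_mul, Matrix.det_mul]
  induction σ using Equiv.Perm.swap_induction_on with
  | one => rw [mat_one, Matrix.det_one]
  | swap_mul f x y hxy ih =>
    rw [hmul, ih, mul_one]
    revert hxy
    revert x y
    decide +kernel

end CfsgLib.Classical.PermModel
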