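import Mathlib
import Cfsg.Prelude.Def_ClassicalGeometry

set_option autoImplicit false
set_option linter.unusedSectionVars false

open Matrix

/-! Elementary facts on quadratic forms on `ι → F`: polar vector, reflections, Siegel maps, determinants. -/

namespace CfsgLib.Classical

variable {F : Type*} [Field F] {ι : Type} [Fintype ι] [DecidableEq ι]

theorem polarVec_dotProduct (Q : QuadraticForm F (ι → F)) (v x : ι → F) :
    Cfsg.polarVec ⇑Q v ⬝ᵥ x = QuadraticMap.polar ⇑Q v x := by
  have hx : x = ∑ j, x j • Pi.single j (1 : F) := by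
    ext i
    simp [Finset.sum_apply, Pi.single_apply]
  conv_rhs => rw [← QuadraticMap.polarBilin_apply_apply, hx, map_sum]
  simp only [map_smul, QuadraticMap.polarBilin_apply_apply, smul_eq_mul]
  simp [Cfsg.polarVec, dotProduct, mul_comm]

theorem vecMulVec_mulVec' (u v w : ι → F) : vecMulVec u v *ᵥ w = (v ⬝ᵥ w) • u := by
  rw [Matrix.vecMulVec_mulVec, op_smul_eq_smul]

theorem reflectionMatrix_mulVec (Q : QuadraticForm F (ι → F)) (v x : ι → F) :
    Cfsg.reflectionMatrix ⇑Q v *ᵥ x = x - ((Q v)⁻¹ * QuadraticMap.polar ⇑Q v x) • v := by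
  rw [Cfsg.reflectionMatrix, sub_mulVec, one_mulVec, smul_mulVec, vecMulVec_mulVec',
    polarVec_dotProduct, smul_smul]

theorem quad_add (Q : QuadraticForm F (ι → F)) (x y : ι → F) :
    Q (x + y) = Q x + Q y + QuadraticMap.polar ⇑Q x y := by
  simp only [QuadraticMap.polar]
  ring

theorem quad_smul (Q : QuadraticForm F (ι → F)) (a : F) (x : ι → F) : Q (a • x) = a * a * Q x := by
  rw [QuadraticMap.map_smul, smul_eq_mul]

theorem polar_smul_r (Q : QuadraticForm F (ι → F)) (a : F) (x y : ι → F) :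
    QuadraticMap.polar ⇑Q x (a • y) = a * QuadraticMap.polar ⇑Q x y := by
  rw [QuadraticMap.polar_smul_right, smul_eq_mul]

theorem polar_smul_l (Q : QuadraticForm F (ι → F)) (a : F) (x y : ι → F) :
    QuadraticMap.polar ⇑Q (a • x) y = a * QuadraticMap.polar ⇑Q x y := by
  rw [QuadraticMap.polar_smul_left, smul_eq_mul]

theorem polar_self_field (Q : QuadraticForm F (ι → F)) (v : ι → F) :
    QuadraticMap.polar ⇑Q v v = 2 * Q v := by
  rw [QuadraticMap.polar_self, nsmul_eq_mul, Nat.cast_ofNat]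

theorem reflection_preserves (Q : QuadraticForm F (ι → F)) (v : ι → F) (hv : Q v ≠ 0) (x : ι → F) :
    Q (Cfsg.reflectionMatrix ⇑Q v *ᵥ x) = Q x := by
  rw [reflectionMatrix_mulVec, sub_eq_add_neg, ← neg_smul, quad_add, quad_smul, polar_smul_r,
    QuadraticMap.polar_comm _ x v]
  field_simp
  ring

theorem reflection_self (Q : QuadraticForm F (ι → F)) (v : ι → F) (hv : Q v ≠ 0) :
    Cfsg.reflectionMatrix ⇑Q v *ᵥ v = -v := by
  rw [reflectionMatrix_mulVec, polar_self_field, show (Q v)⁻¹ * (2 * Q v) = 2 by field_simp, two_smul]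
  abel

theorem det_reflection (Q : QuadraticForm F (ι → F)) (v : ι → F) (hv : Q v ≠ 0) :
    (Cfsg.reflectionMatrix ⇑Q v).det = -1 := by
  have h : Cfsg.reflectionMatrix ⇑Q v =
      1 + replicateCol Unit (-(Q v)⁻¹ • v) * replicateRow Unit (Cfsg.polarVec ⇑Q v) := by
    rw [← vecMulVec_eq, Cfsg.reflectionMatrix, smul_vecMulVec, neg_smul, sub_eq_add_neg]
  rw [h, det_one_add_replicateCol_mul_replicateRow, dotProduct_smul, polarVec_dotProduct, polar_self_field,
    smul_eq_mul]
  field_simp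
  ring

theorem siegelMatrix_mulVec (Q : QuadraticForm F (ι → F)) (u v x : ι → F) (c : F) :
    Cfsg.siegelMatrix ⇑Q u v c *ᵥ x =
      x + ((c * QuadraticMap.polar ⇑Q u x) • v + (-(c * QuadraticMap.polar ⇑Q v x)) • u) := by
  rw [Cfsg.siegelMatrix, add_mulVec, one_mulVec, smul_mulVec, sub_mulVec, vecMulVec_mulVec',
    vecMulVec_mulVec', polarVec_dotProduct, polarVec_dotProduct, smul_sub, smul_smul, smul_smul,
    neg_smul, sub_eq_add_neg]

theorem mem_isometryGroup_iff (Q : (ι → F) → F) (g : GL ι F) :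
    g ∈ Cfsg.isometryGroup F Q ↔ ∀ x, Q ((g : Matrix ι ι F) *ᵥ x) = Q x :=
  ⟨fun h x => h x x, fun h x _ => h x⟩

end CfsgLib.Classical
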