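import Cfsg.Agent.Lib.Classical.OrthSiegel
import Cfsg.Agent.Lib.Classical.SympSimple
import Cfsg.Agent.Lib.Orth.WittIndex
import Cfsg.Agent.Lib.Classical.QuadBasic

/-!
# Primitivity on singular points and simplicity of `PΩ(Q)`
-/

set_option autoImplicit false
set_option linter.unusedSectionVars false

open Module QuadraticMap MulAction CfsgLib.Orth
open scoped LinearAlgebra.Projectivization Pointwise commutatorElement

namespace CfsgLib.Classical

variable {F V : Type*} [Field F] [AddCommGroup V] [Module F V] {Q : QuadraticForm F V}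

theorem sing_rep {v : V} (hv : v ≠ 0) : Q (Projectivization.mk F v hv).rep = 0 ↔ Q v = 0 := by
  obtain ⟨a, ha⟩ := Projectivization.exists_smul_eq_mk_rep F v hv
  rw [← ha, Units.smul_def, quad_smul']
  simp

/-- The singular points of a quadratic form. -/
abbrev SingPts (Q : QuadraticForm F V) : Type _ := {p : ℙ F V // Q p.rep = 0}

theorem orth_smul_mk (g : orthGroup Q) {v : V} (hv : v ≠ 0) :
    g • Projectivization.mk F v hv = Projectivization.mk F (g.1 v) (by simpa using hv) := rfl

theorem smul_sing (g : orthGroup Q) {p : ℙ F V} (hp : Q p.rep = 0) : Q (g • p).rep = 0 := by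
  induction p using Projectivization.ind with | h v hv => ?_
  rw [orth_smul_mk, sing_rep]
  rw [sing_rep] at hp
  exact (apply_quad g v).trans hp

noncomputable instance singPtsAction : MulAction (orthGroup Q) (SingPts Q) where
  smul g p := ⟨g • p.1, smul_sing g p.2⟩
  one_smul p := Subtype.ext (one_smul _ p.1)
  mul_smul g k p := Subtype.ext (mul_smul g k p.1)

/-- The singular point of a vector. -/
def singPt (Q : QuadraticForm F V) {v : V} (hv : v ≠ 0) (h0 : Q v = 0) : SingPts Q :=
  ⟨Projectivization.mk F v hv, (sing_rep hv).2 h0⟩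

theorem smul_singPt_eq (g : orthGroup Q) {v w : V} (hv : v ≠ 0) (h0 : Q v = 0) (hw : w ≠ 0) (hw0 : Q w = 0) {a : F}
    (h : g.1 v = a • w) : g • singPt Q hv h0 = singPt Q hw hw0 := by
  refine Subtype.ext ?_
  change g • Projectivization.mk F v hv = Projectivization.mk F w hw
  rw [orth_smul_mk, Projectivization.mk_eq_mk_iff']
  exact ⟨a, h.symm⟩

theorem singPt_surjective (p : SingPts Q) : ∃ (v : V) (hv : v ≠ 0) (h0 : Q v = 0), p = singPt Q hv h0 :=
  ⟨p.1.rep, p.1.rep_nonzero, p.2, Subtype.ext (Projectivization.mk_rep p.1).symm⟩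

variable [FiniteDimensional F V] (hQ : (QuadraticMap.polarBilin Q).Nondegenerate)
include hQ

theorem exists_common (hn : 5 ≤ finrank F V) {d x y : V} (hd : Q d = 0) (hx : Q x = 0) (hy : Q y = 0)
    (hdx : polar Q d x = 0) (hdy : polar Q d y = 0) (hxd : x ∉ F ∙ d) (hyd : y ∉ F ∙ d) :
    ∃ r, Q r = 0 ∧ polar Q d r = 0 ∧ polar Q x r ≠ 0 ∧ polar Q y r ≠ 0 := by
  classical
  by_cases hxy : polar Q x y = 0
  · obtain ⟨a, ha, ha1⟩ := exists_polar_one hQ hxd
    obtain ⟨b, hb, hb1⟩ := exists_polar_one hQ hyd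
    have ha' : polar Q d a = 0 := by rw [polar_comm]; exact ha d (Submodule.mem_span_singleton_self d)
    have hb' : polar Q d b = 0 := by rw [polar_comm]; exact hb d (Submodule.mem_span_singleton_self d)
    rw [polar_comm] at ha1 hb1
    obtain ⟨z, hz0, hz1, hz2⟩ : ∃ z, polar Q d z = 0 ∧ polar Q x z ≠ 0 ∧ polar Q y z ≠ 0 := by
      by_cases h1 : polar Q y a = 0
      · by_cases h2 : polar Q x b = 0
        · exact ⟨a + b, by rw [polar_add_right, ha', hb', add_zero], by simp [polar_add_right, ha1, h2],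
            by simp [polar_add_right, hb1, h1]⟩
        · exact ⟨b, hb', h2, by rw [hb1]; exact one_ne_zero⟩
      · exact ⟨a, ha', by rw [ha1]; exact one_ne_zero, h1⟩
    refine ⟨z + (-(Q z / polar Q x z)) • x, ?_, ?_, ?_, ?_⟩
    · rw [quad_add', quad_smul', polar_smul_r', hx, polar_comm _ z x]
      field_simp
      ring
    · rw [polar_add_right, polar_smul_r', hz0, hdx]; ring
    · rw [polar_add_right, polar_smul_r', polar_self', hx]; simpa using hz1
    · rw [polar_add_right, polar_smul_r', polar_comm _ y x, hxy]; simpa using hz2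
  · obtain ⟨w, hwd, hwx, hwy, hw⟩ : ∃ w, polar Q d w = 0 ∧ polar Q x w = 0 ∧ polar Q y w = 0 ∧ Q w ≠ 0 := by
      by_contra! hall
      set φ := (QuadraticMap.polarBilin Q d).prod ((QuadraticMap.polarBilin Q x).prod (QuadraticMap.polarBilin Q y))
        with hφ
      have hker : ∀ w ∈ φ.ker, polar Q d w = 0 ∧ polar Q x w = 0 ∧ polar Q y w = 0 := fun w hw => by
        simp only [LinearMap.mem_ker, hφ, LinearMap.prod_apply, Function.prod, Prod.mk_eq_zero] at hw
        exact hw
      have hts : ∀ v ∈ φ.ker ⊔ (F ∙ x), Q v = 0 := by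
        intro v hv
        obtain ⟨w, hw, x', hx', rfl⟩ := Submodule.mem_sup.1 hv
        obtain ⟨t, rfl⟩ := Submodule.mem_span_singleton.1 hx'
        obtain ⟨h1, h2, h3⟩ := hker w hw
        rw [quad_add', quad_smul', polar_smul_r', hx, hall w h1 h2 h3, polar_comm _ w x, h2]
        ring
      have hxk : x ∉ φ.ker := fun h => hxy (by rw [polar_comm]; exact (hker x h).2.2)
      have hlt : φ.ker < φ.ker ⊔ (F ∙ x) := lt_of_le_of_ne le_sup_left fun h =>
        hxk (h ▸ Submodule.mem_sup_right (Submodule.mem_span_singleton_self x))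
      have h1 := Submodule.finrank_lt_finrank_of_lt hlt
      have h2 := singular_finrank_le hQ _ hts
      have h3 := LinearMap.finrank_range_add_finrank_ker φ
      have h5 := φ.range.finrank_le
      rw [finrank_prod, finrank_prod, finrank_self] at h5
      omega
    refine ⟨x + (-(Q w / polar Q x y)) • y + w, ?_, ?_, ?_, ?_⟩
    · simp only [quad_add', quad_smul', polar_add_left, polar_smul_l', polar_smul_r', hx, hy, hwx, hwy]
      field_simp
      ring
    · simp only [polar_add_right, polar_smul_r', hdx, hdy, hwd]; ring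
    · simp only [polar_add_right, polar_smul_r', polar_self', hx, hwx]
      field_simp
      simpa using hw
    · simp only [polar_add_right, polar_smul_r', polar_self', hy, hwy, polar_comm _ y x]
      simpa using hxy

/-- A Siegel transformation moving one singular vector to another, fixing a common non-orthogonal one. -/
theorem exists_move (h4 : Good F V) (hp : HypPairs Q) (hn : 5 ≤ finrank F V) {r x y : V} (hr : Q r = 0) (hx : Q x = 0)
    (hy : Q y = 0) (hrx : polar Q r x ≠ 0) (hry : polar Q r y ≠ 0) :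
    ∃ g ∈ commutator (orthGroup Q), g.1 r = r ∧ g.1 x = (polar Q r x / polar Q r y) • y ∧
      ∀ z, polar Q r z = 0 → polar Q x z = 0 → polar Q y z = 0 → g.1 z = z := by
  set a := (polar Q r x)⁻¹
  set b := (polar Q r y)⁻¹
  have hu : polar Q r (b • y - a • x) = 0 := by
    rw [polar_sub_right, polar_smul_r', polar_smul_r', inv_mul_cancel₀ hrx, inv_mul_cancel₀ hry, sub_self]
  obtain ⟨g, hg⟩ := exists_isSiegel hQ hr hu
  have hq : Q (b • y - a • x) = -(a * b * polar Q x y) := by
    rw [sub_eq_add_neg, quad_add', QuadraticMap.map_neg, polar_neg_right, quad_smul', quad_smul', polar_smul_l',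
      polar_smul_r', hx, hy, polar_comm _ y x]
    ring
  refine ⟨g, hg.mem_commutator hQ h4 hp hn, ?_, ?_, fun z h1 h2 h3 => ?_⟩
  · rw [hg.2.2, polar_self', hr, polar_comm _ (b • y - a • x) r, hu]; simp
  · rw [hg.2.2, hq, polar_sub_left, polar_smul_l', polar_smul_l', polar_self', hx, polar_comm _ y x]
    simp only [a, b]
    match_scalars <;> field_simp <;> ring
  · rw [hg.2.2, polar_sub_left, polar_smul_l', polar_smul_l', h1, h2, h3]; simp

variable (h4 : Good F V) (hp : HypPairs Q) (hn : 5 ≤ finrank F V)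
include h4 hp hn

theorem singPts_pretransitive : IsPretransitive ↥(commutator (orthGroup Q)) (SingPts Q) := by
  constructor
  intro p q
  obtain ⟨v, hv, hv0, rfl⟩ := singPt_surjective p
  obtain ⟨w, hw, hw0, rfl⟩ := singPt_surjective q
  obtain ⟨r, hr, -, h1, h2⟩ := exists_common hQ hn (d := 0) (map_zero Q) hv0 hw0 (by rw [polar_zero_left]) (by rw [polar_zero_left])
    (by simpa using hv) (by simpa using hw)
  obtain ⟨g, hg, -, hgv, -⟩ := exists_move hQ h4 hp hn hr hv0 hw0 (by rw [polar_comm]; exact h1)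
    (by rw [polar_comm]; exact h2)
  exact ⟨⟨g, hg⟩, smul_singPt_eq g hv hv0 hw hw0 hgv⟩

theorem singPts_isPreprimitive : IsPreprimitive ↥(commutator (orthGroup Q)) (SingPts Q) := by
  have : IsPretransitive ↥(commutator (orthGroup Q)) (SingPts Q) := singPts_pretransitive hQ h4 hp hn
  refine ⟨fun {S} hS => ?_⟩
  by_cases hsub : S.Subsingleton
  · exact Or.inl hsub
  right
  -- a point of the block moves a second one along
  have step : ∀ {u w z : V} (hu : u ≠ 0) (hw : w ≠ 0) (hz : z ≠ 0) (hu0 : Q u = 0) (hw0 : Q w = 0) (hz0 : Q z = 0),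
      singPt Q hu hu0 ∈ S → singPt Q hw hw0 ∈ S →
      (∃ g ∈ commutator (orthGroup Q), g.1 u = u ∧ ∃ b : F, g.1 w = b • z) → singPt Q hz hz0 ∈ S := by
    rintro u w z hu hw hz hu0 hw0 hz0 huS hwS ⟨g, hg, ha, b, hb⟩
    have hgu : (⟨g, hg⟩ : ↥(commutator (orthGroup Q))) • singPt Q hu hu0 = singPt Q hu hu0 :=
      smul_singPt_eq g hu hu0 hu hu0 (a := 1) (by rw [one_smul, ha])
    have hgS : (⟨g, hg⟩ : ↥(commutator (orthGroup Q))) • S = S :=
      hS.smul_eq_of_nonempty ⟨_, ⟨_, huS, hgu⟩, huS⟩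
    rw [← hgS]
    exact ⟨_, hwS, smul_singPt_eq g hw hw0 hz hz0 hb⟩
  have notmem : ∀ {u z : V} (hu : u ≠ 0) (hz : z ≠ 0) (hu0 : Q u = 0) (hz0 : Q z = 0),
      singPt Q hu hu0 ≠ singPt Q hz hz0 → z ∉ F ∙ u := fun {u z} hu hz hu0 hz0 hne h => by
    obtain ⟨a, ha⟩ := Submodule.mem_span_singleton.1 h
    exact hne (Subtype.ext ((Projectivization.mk_eq_mk_iff' _ _ _ hz hu).2 ⟨a, ha⟩).symm)
  have nonorth : ∀ {u w z : V} (hu : u ≠ 0) (hw : w ≠ 0) (hz : z ≠ 0) (hu0 : Q u = 0) (hw0 : Q w = 0) (hz0 : Q z = 0),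
      singPt Q hu hu0 ∈ S → singPt Q hw hw0 ∈ S → polar Q u w ≠ 0 → polar Q u z ≠ 0 → singPt Q hz hz0 ∈ S := by
    intro u w z hu hw hz hu0 hw0 hz0 huS hwS huw huz
    obtain ⟨g, hg, h1, h2, -⟩ := exists_move hQ h4 hp hn hu0 hw0 hz0 huw huz
    exact step hu hw hz hu0 hw0 hz0 huS hwS ⟨g, hg, h1, _, h2⟩
  have orth : ∀ {u w z : V} (hu : u ≠ 0) (hw : w ≠ 0) (hz : z ≠ 0) (hu0 : Q u = 0) (hw0 : Q w = 0) (hz0 : Q z = 0),
      singPt Q hu hu0 ∈ S → singPt Q hw hw0 ∈ S → polar Q u w = 0 → polar Q u z = 0 → w ∉ F ∙ u → z ∉ F ∙ u →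
      singPt Q hz hz0 ∈ S := by
    intro u w z hu hw hz hu0 hw0 hz0 huS hwS huw huz hwu hzu
    obtain ⟨r, hr, hur, hwr, hzr⟩ := exists_common hQ hn hu0 hw0 hz0 huw huz hwu hzu
    obtain ⟨g, hg, -, h2, h3⟩ := exists_move hQ h4 hp hn hr hw0 hz0 (by rw [polar_comm]; exact hwr)
      (by rw [polar_comm]; exact hzr)
    exact step hu hw hz hu0 hw0 hz0 huS hwS ⟨g, hg, h3 u (by rw [polar_comm]; exact hur)
      (by rw [polar_comm]; exact huw) (by rw [polar_comm]; exact huz), _, h2⟩
  obtain ⟨p, hp', q, hq, hpq⟩ := Set.not_subsingleton_iff.1 hsub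
  obtain ⟨u, hu, hu0, rfl⟩ := singPt_surjective p
  obtain ⟨w, hw, hw0, rfl⟩ := singPt_surjective q
  refine Set.eq_univ_iff_forall.2 fun r => ?_
  obtain ⟨z, hz, hz0, rfl⟩ := singPt_surjective r
  by_cases hrp : singPt Q hz hz0 = singPt Q hu hu0
  · exact hrp ▸ hp'
  have hwu := notmem hu hw hu0 hw0 hpq
  have hzu := notmem hu hz hu0 hz0 (Ne.symm hrp)
  by_cases huw : polar Q u w = 0
  · by_cases huz : polar Q u z = 0
    · exact orth hu hw hz hu0 hw0 hz0 hp' hq huw huz hwu hzu
    have hzu' : polar Q z u ≠ 0 := by rwa [polar_comm]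
    set y := w + (-(polar Q z w / polar Q z u)) • u with hy
    have huy : polar Q u y = 0 := by simp only [hy, polar_add_right, polar_smul_r', huw, polar_self', hu0]; ring
    have hzy : polar Q z y = 0 := by simp only [hy, polar_add_right, polar_smul_r']; field_simp; ring
    have hy0 : Q y = 0 := by
      simp only [hy, quad_add', quad_smul', polar_smul_r', hw0, hu0, polar_comm _ w u, huw]; ring
    have hyu : y ∉ F ∙ u := fun h => hwu (by
      have := add_mem h (Submodule.smul_mem (F ∙ u) (polar Q z w / polar Q z u) (Submodule.mem_span_singleton_self u))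
      simpa [hy, add_assoc] using this)
    have hyne : y ≠ 0 := fun h => hyu (h ▸ Submodule.zero_mem _)
    have hyS := orth hu hw hyne hu0 hw0 hy0 hp' hq huw huy hwu hyu
    have huy' : u ∉ F ∙ y := fun h => by
      obtain ⟨a, ha⟩ := Submodule.mem_span_singleton.1 h
      exact hzu' (by rw [← ha, polar_smul_r', hzy, mul_zero])
    have hzy' : z ∉ F ∙ y := fun h => by
      obtain ⟨a, ha⟩ := Submodule.mem_span_singleton.1 h
      exact huz (by rw [← ha, polar_smul_r', huy, mul_zero])
    exact orth hyne hu hz hy0 hu0 hz0 hyS hp' (by rw [polar_comm]; exact huy) (by rw [polar_comm]; exact hzy) huy' hzy'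
  · by_cases huz : polar Q u z = 0
    · obtain ⟨y, hy0, -, hy1, hy2⟩ := exists_common hQ hn (d := 0) (map_zero Q) hu0 hz0 (by rw [polar_zero_left])
        (by rw [polar_zero_left]) (by simpa using hu) (by simpa using hz)
      have hyne : y ≠ 0 := fun h => hy1 (by rw [h, polar_zero_right])
      exact nonorth hyne hu hz hy0 hu0 hz0 (nonorth hu hw hyne hu0 hw0 hy0 hp' hq huw hy1) hp'
        (by rw [polar_comm]; exact hy1) (by rw [polar_comm]; exact hy2)
    · exact nonorth hu hw hz hu0 hw0 hz0 hp' hq huw huz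

omit h4 hp hn in
/-- The Siegel transformations at a point inside `Ω(Q)`. -/
def siegelPoint (Q : QuadraticForm F V) (p : SingPts Q) : Subgroup ↥(commutator (orthGroup Q)) where
  carrier := {g | ∃ u, IsSiegel g.1 p.1.rep u}
  one_mem' := ⟨0, isSiegel_one p.2⟩
  mul_mem' := by
    rintro a b ⟨u, hu⟩ ⟨w, hw⟩
    exact ⟨u + w, hu.mul hw⟩
  inv_mem' := by
    rintro a ⟨u, hu⟩
    refine ⟨-u, p.2, by rw [polar_neg_right, hu.2.1, neg_zero], fun v => ?_⟩
    show a.1.1.symm v = _
    rw [LinearEquiv.symm_apply_eq, hu.2.2]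
    simp only [polar_add_right, polar_smul_r', polar_neg_left, polar_neg_right, polar_self', QuadraticMap.map_neg,
      p.2, hu.2.1, polar_comm _ u p.1.rep]
    match_scalars <;> ring

/-- The Siegel groups form an Iwasawa structure. -/
noncomputable def orthIwasawa : IwasawaStructure ↥(commutator (orthGroup Q)) (SingPts Q) where
  T p := siegelPoint Q p
  is_comm p := ⟨⟨by
    rintro ⟨a, u, hu⟩ ⟨b, w, hw⟩
    refine Subtype.ext (Subtype.ext ?_)
    show a.1 * b.1 = b.1 * a.1
    exact (hu.mul hw).unique (add_comm w u ▸ hw.mul hu)⟩⟩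
  is_conj g p := by
    have key : ∀ (g : ↥(commutator (orthGroup Q))) (p : SingPts Q) (k : ↥(commutator (orthGroup Q))),
        k ∈ siegelPoint Q p → g * k * g⁻¹ ∈ siegelPoint Q (g • p) := by
      rintro g p k ⟨u, hu⟩
      have h0 : g.1.1 p.1.rep ≠ 0 := by simpa using p.1.rep_nonzero
      obtain ⟨a, ha⟩ := Projectivization.exists_smul_eq_mk_rep F (g.1.1 p.1.rep) h0
      have e : (g • p).1 = Projectivization.mk F (g.1.1 p.1.rep) h0 := by
        show g.1 • p.1 = _
        conv_lhs => rw [← Projectivization.mk_rep p.1]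
        rw [orth_smul_mk]
      have h1 := hu.conj g.1
      rw [show g.1.1 p.1.rep = (a⁻¹ : Fˣ) • (g • p).1.rep by rw [e, ← ha, inv_smul_smul], Units.smul_def] at h1
      exact ⟨_, h1.of_smul (Units.ne_zero _)⟩
    ext k
    constructor
    · intro hk
      refine ⟨g⁻¹ * k * g, ?_, by simp [MulAut.conj_apply]; group⟩
      have := key g⁻¹ (g • p) k hk
      simpa using this
    · rintro ⟨k', hk', rfl⟩
      exact key g p k' hk'
  is_generator := by
    rw [eq_top_iff]
    rintro ⟨g, hg⟩ -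
    have hle : siegelGroup Q ≤ (⨆ p : SingPts Q, siegelPoint Q p).map (commutator (orthGroup Q)).subtype := by
      refine (Subgroup.closure_le _).2 ?_
      rintro x ⟨d, u, hx⟩
      refine ⟨⟨x, hx.mem_commutator hQ h4 hp hn⟩, ?_, rfl⟩
      by_cases hd : d = 0
      · have : x = 1 := Subtype.ext (LinearEquiv.ext fun y => by rw [hx.2.2, hd]; show _ = y; simp)
        subst this
        exact one_mem _
      obtain ⟨a, ha⟩ := Projectivization.exists_smul_eq_mk_rep F d hd
      refine Subgroup.mem_iSup_of_mem (singPt Q hd hx.1) ⟨((a⁻¹ : Fˣ) : F) • u, IsSiegel.of_smul (Units.ne_zero _) ?_⟩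
      show IsSiegel x (((a⁻¹ : Fˣ) : F) • (Projectivization.mk F d hd).rep) u
      rwa [← ha, ← Units.smul_def, inv_smul_smul]
    obtain ⟨y, hy, e⟩ := hle (commutator_eq_siegelGroup hQ h4 hp hn ▸ hg : g ∈ siegelGroup Q)
    exact (Subtype.ext e : y = ⟨g, hg⟩) ▸ hy

omit h4 in
theorem mem_center_of_fix_singPts {k : ↥(commutator (orthGroup Q))} (hk : ∀ p : SingPts Q, k • p = p) :
    k ∈ Subgroup.center ↥(commutator (orthGroup Q)) := by
  have hline : ∀ v : V, Q v = 0 → ∃ l : F, k.1.1 v = l • v := by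
    intro v h0
    by_cases hv : v = 0
    · exact ⟨1, by simp [hv]⟩
    have := congrArg Subtype.val (hk (singPt Q hv h0))
    change k.1 • Projectivization.mk F v hv = _ at this
    rw [orth_smul_mk] at this
    obtain ⟨l, hl⟩ := (Projectivization.mk_eq_mk_iff' _ _ _ _ _).1 this
    exact ⟨l, hl.symm⟩
  have prod : ∀ {v w : V} {l m : F}, k.1.1 v = l • v → k.1.1 w = m • w → polar Q v w ≠ 0 → l * m = 1 := by
    intro v w l m hl hm hne
    have e := polar_isom k.1 v w
    rw [hl, hm, polar_smul_l', polar_smul_r', ← mul_assoc] at e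
    exact mul_right_cancel₀ hne (by rw [e, one_mul])
  have same : ∀ {v w x : V} {l m : F}, k.1.1 v = l • v → k.1.1 w = m • w → Q v = 0 → Q w = 0 → polar Q v w = 0 →
      polar Q x v = 1 → polar Q x w = 0 → w ≠ 0 → m = l := by
    intro v w x l m hl hm hv hw hvw hxv hxw hw0
    obtain ⟨s, hs⟩ := hline (v + w) (by rw [quad_add', hv, hw, hvw]; ring)
    rw [map_add, hl, hm] at hs
    have e := congrArg (polar Q x) hs
    simp only [polar_add_right, polar_smul_r', hxv, hxw, mul_one, mul_zero, add_zero] at e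
    subst e
    rw [smul_add, add_right_inj] at hs
    exact smul_left_injective F hw0 hs
  obtain ⟨l, hl⟩ := hline hp.e₀ hp.he₀
  obtain ⟨l₀, hl₀⟩ := hline hp.f₀ hp.hf₀
  obtain ⟨l₁, hl₁⟩ := hline hp.e₁ hp.he₁
  obtain ⟨l₂, hl₂⟩ := hline hp.f₁ hp.hf₁
  have ne1 : hp.e₁ ≠ 0 := fun h => by simpa [h] using hp.h11
  have nf1 : hp.f₁ ≠ 0 := fun h => by simpa [h] using hp.h11
  have q1 : l₁ = l := same hl hl₁ hp.he₀ hp.he₁ hp.hee hp.c00 hp.hfe ne1
  have q2 : l₂ = l := same hl hl₂ hp.he₀ hp.hf₁ hp.hef hp.c00 hp.hff nf1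
  have hll : l * l = 1 := by
    have := prod hl₁ hl₂ (by rw [hp.h11]; exact one_ne_zero)
    rwa [q1, q2] at this
  have q0 : l₀ = l := by
    have h1 := prod hl hl₀ (by rw [hp.h00]; exact one_ne_zero)
    calc l₀ = (l * l) * l₀ := by rw [hll, one_mul]
      _ = l := by rw [mul_assoc, h1, mul_one]
  have hsing : ∀ v, Q v = 0 → k.1.1 v = l • v := by
    intro v hv
    by_cases hv0 : v = 0
    · simp [hv0]
    obtain ⟨m, hm⟩ := hline v hv
    rw [hm]
    congr 1
    by_cases h : polar Q hp.e₀ v = 0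
    · by_cases h' : polar Q hp.f₀ v = 0
      · exact same hl hm hp.he₀ hv h hp.c00 h' hv0
      · have := prod hl₀ hm h'
        rw [q0] at this
        calc m = (l * l) * m := by rw [hll, one_mul]
          _ = l := by rw [mul_assoc, this, mul_one]
    · have := prod hl hm h
      calc m = (l * l) * m := by rw [hll, one_mul]
        _ = l := by rw [mul_assoc, this, mul_one]
  have hall : ∀ v, k.1.1 v = l • v := by
    intro v
    set z := v - polar Q hp.f₀ v • hp.e₀ - polar Q hp.e₀ v • hp.f₀ with hz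
    have z0 : polar Q hp.e₀ z = 0 := by
      simp only [hz, polar_sub_right, polar_smul_r', polar_self', hp.he₀, hp.h00]; ring
    have z0' : polar Q hp.f₀ z = 0 := by
      simp only [hz, polar_sub_right, polar_smul_r', polar_self', hp.hf₀, hp.c00]; ring
    set s := z + hp.e₀ + (-Q z) • hp.f₀ with hs
    have hs0 : Q s = 0 := by
      simp only [hs, quad_add', quad_smul', polar_add_left, polar_smul_r', hp.he₀, hp.hf₀, hp.h00,
        polar_comm _ z hp.e₀, polar_comm _ z hp.f₀, z0, z0']
      ring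
    have hv : v = s + (polar Q hp.f₀ v - 1) • hp.e₀ + (polar Q hp.e₀ v + Q z) • hp.f₀ := by rw [hs, hz]; module
    rw [hv, map_add, map_add, map_smul, map_smul, hsing s hs0, hl, hl₀, q0]
    module
  exact Subgroup.mem_center_iff.2 fun g => Subtype.ext (Subtype.ext (LinearEquiv.ext fun v => by
    show g.1.1 (k.1.1 v) = k.1.1 (g.1.1 v)
    rw [hall, hall, map_smul]))

theorem commutator_quotient_simple :
    IsSimpleGroup (↥(commutator (orthGroup Q)) ⧸ Subgroup.center ↥(commutator (orthGroup Q))) := by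
  have : Nontrivial ↥(commutator (orthGroup Q)) := by
    obtain ⟨g, hg⟩ := exists_isSiegel hQ hp.he₀ hp.hee
    refine ⟨⟨⟨g, hg.mem_commutator hQ h4 hp hn⟩, 1, fun e => ?_⟩⟩
    have h := LinearEquiv.congr_fun (congrArg (fun k : ↥(commutator (orthGroup Q)) => k.1.1) e) hp.f₀
    change g.1 hp.f₀ = hp.f₀ at h
    rw [hg.2.2, hp.h00, hp.cfe, hp.he₁] at h
    simp at h
    exact absurd hp.h11 (by simp [h])
  have hperf : commutator ↥(commutator (orthGroup Q)) = ⊤ := by
    apply Subgroup.map_injective (commutator (orthGroup Q)).subtype_injective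
    rw [Subgroup.map_subtype_commutator, ← MonoidHom.range_eq_map, Subgroup.range_subtype]
    exact le_antisymm (Subgroup.commutator_le.2 fun a _ b _ => Subgroup.commutator_mem_commutator trivial trivial)
      (commutator_perfect hQ h4 hp hn)
  refine quotient_center_isSimpleGroup hperf fun N hNn => ?_
  have : IsPreprimitive ↥(commutator (orthGroup Q)) (SingPts Q) := singPts_isPreprimitive hQ h4 hp hn
  by_cases hfix : fixedPoints N (SingPts Q) = Set.univ
  · left
    intro g hg
    exact mem_center_of_fix_singPts hQ hp hn fun p =>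
      (hfix ▸ Set.mem_univ p : p ∈ fixedPoints N (SingPts Q)) ⟨g, hg⟩
  · right
    exact top_le_iff.1 (hperf ▸ (orthIwasawa hQ h4 hp hn).commutator_le N hfix)

end CfsgLib.Classical

namespace CfsgLib.Classical

variable {F : Type*} [Field F] {ι : Type} [Fintype ι] [DecidableEq ι] {Qf : (ι → F) → F}

theorem pomega_simple (Q : QuadraticForm F (ι → F)) (hQf : ∀ v, Qf v = Q v)
    (hQ : (QuadraticMap.polarBilin Q).Nondegenerate) (h4 : Good F (ι → F)) (hp : HypPairs Q)
    (hn : 5 ≤ finrank F (ι → F)) : IsSimpleGroup (Cfsg.POmega F Qf) := by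
  have := commutator_quotient_simple hQ h4 hp hn
  refine (QuotientGroup.congr (Subgroup.center ↥(Cfsg.Omega F Qf))
    (Subgroup.center ↥(commutator (orthGroup Q))) (omegaEquiv Q hQf) (Subgroup.ext fun x => ?_)).isSimpleGroup
  refine Subgroup.mem_map_equiv.trans ?_
  rw [Subgroup.mem_center_iff, Subgroup.mem_center_iff]
  exact ⟨fun hy g => (omegaEquiv Q hQf).symm.injective (by simpa using hy ((omegaEquiv Q hQf).symm g)),
    fun hx g => (omegaEquiv Q hQf).injective (by simpa using hx (omegaEquiv Q hQf g))⟩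

end CfsgLib.Classical

namespace CfsgLib.Classical

variable {F V : Type*} [Field F] [AddCommGroup V] [Module F V] [FiniteDimensional F V] {Q : QuadraticForm F V}

/-- Hyperbolic pairs transported along a form-preserving linear map. -/
def HypPairs.ofPreserving {W : Type*} [AddCommGroup W] [Module F W] {R : QuadraticForm F W} (hp : HypPairs R)
    (T : W →ₗ[F] V) (hT : ∀ w, Q (T w) = R w) : HypPairs Q where
  e₀ := T hp.e₀
  f₀ := T hp.f₀
  e₁ := T hp.e₁
  f₁ := T hp.f₁
  he₀ := (hT _).trans hp.he₀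
  hf₀ := (hT _).trans hp.hf₀
  he₁ := (hT _).trans hp.he₁
  hf₁ := (hT _).trans hp.hf₁
  h00 := (polar_of_preserving T hT _ _).trans hp.h00
  h11 := (polar_of_preserving T hT _ _).trans hp.h11
  hee := (polar_of_preserving T hT _ _).trans hp.hee
  hef := (polar_of_preserving T hT _ _).trans hp.hef
  hfe := (polar_of_preserving T hT _ _).trans hp.hfe
  hff := (polar_of_preserving T hT _ _).trans hp.hff

theorem exists_hypPairs [Fintype F] (hQ : (QuadraticMap.polarBilin Q).Nondegenerate) (hn : 5 ≤ finrank F V) :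
    Nonempty (HypPairs Q) := by
  obtain ⟨m, A, T, hT, -, hdim, hA, -, -⟩ := exists_decomposition hQ
  exact ⟨(hypPairs_plus m (by omega)).ofPreserving T hT⟩

end CfsgLib.Classical

namespace CfsgLib.Classical

variable {F : Type*} [Field F] {n : ℕ}

theorem isSiegel_siegelMatrix (Q : QuadraticForm F (Fin n → F)) {u v : Fin n → F} (hu : Q u = 0) (hv : Q v = 0)
    (huv : polar Q u v = 0) (c : F) (g : ↥(Cfsg.isometryGroup F ⇑Q))
    (hg : ((g : GL (Fin n) F) : Matrix (Fin n) (Fin n) F) = Cfsg.siegelMatrix ⇑Q u v c) :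
    IsSiegel (toOrth Q (fun _ => rfl) g) u (c • v) := by
  refine ⟨hu, by rw [polar_smul_r', huv, mul_zero], fun x => ?_⟩
  rw [toOrth_apply, hg, siegelMatrix_mulVec, polar_smul_l', quad_smul', hv, mul_zero, zero_mul, sub_zero]
  module

theorem siegelMatrix_of_isSiegel (Q : QuadraticForm F (Fin n → F)) {u w : Fin n → F} (hw : Q w = 0)
    (g : ↥(Cfsg.isometryGroup F ⇑Q)) (hg : IsSiegel (toOrth Q (fun _ => rfl) g) u w) :
    ((g : GL (Fin n) F) : Matrix (Fin n) (Fin n) F) = Cfsg.siegelMatrix ⇑Q u w 1 := by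
  apply Matrix.toLin'.injective
  refine LinearMap.ext fun x => ?_
  rw [Matrix.toLin'_apply, Matrix.toLin'_apply, siegelMatrix_mulVec, ← toOrth_apply Q (fun _ => rfl) g x, hg.2.2, hw,
    zero_mul, sub_zero]
  module

end CfsgLib.Classical
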