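import Cfsg.Prelude.Def_GeometricClasses
import Cfsg.Agent.Lib.Classical.GSpMax
import Cfsg.Agent.Lib.Classical.HermCount

/-!
# Stabilisers of decompositions into tiny subspaces over tiny fields are not maximal in `SL`
-/

set_option autoImplicit false
set_option linter.unusedSectionVars false

open Module Matrix

namespace CfsgLib.Classical.DecompNonMax

variable {F : Type*} [Field F] {n t m : ℕ} {D : Fin t → Submodule F (Fin n → F)}

/-- A basis adapted to the decomposition. -/
theorem exists_adapted (hD : Cfsg.Geo.IsMDecomposition m D) :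
    ∃ E : (Fin n → F) ≃ₗ[F] (Fin t × Fin m → F),
      (∀ i a, E.symm (Pi.single (i, a) 1) ∈ D i) ∧ ∀ i, ∀ x ∈ D i, ∀ j a, j ≠ i → E x (j, a) = 0 := by
  classical
  have hint := DirectSum.isInternal_submodule_of_iSupIndep_of_iSup_eq_top hD.indep hD.iSup_eq_top
  let b := fun i => Module.finBasisOfFinrankEq F (D i) (hD.finrank_eq i)
  let B := (hint.collectedBasis b).reindex (Equiv.sigmaEquivProd (Fin t) (Fin m))
  have hB : ∀ i a, B (i, a) = (b i a : Fin n → F) := fun i a => by
    simp only [B, Basis.reindex_apply, DirectSum.IsInternal.collectedBasis_coe]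
    rfl
  refine ⟨B.equivFun, fun i a => ?_, fun i x hx j a hji => ?_⟩
  · have e : B.equivFun.symm (Pi.single (i, a) 1) = B (i, a) := by
      rw [LinearEquiv.symm_apply_eq]
      funext p
      rw [B.equivFun_self]
      simp [Pi.single_apply, eq_comm]
    rw [e, hB]
    exact (b i a).2
  · have hx' : x = ∑ c, (b i).repr ⟨x, hx⟩ c • B (i, c) := by
      have e := congrArg Subtype.val ((b i).sum_repr ⟨x, hx⟩)
      simp only [Submodule.coe_sum, Submodule.coe_smul] at e
      simp only [hB]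
      exact e.symm
    rw [hx', map_sum, Finset.sum_apply]
    refine Finset.sum_eq_zero fun c _ => ?_
    rw [map_smul, Pi.smul_apply, B.equivFun_self, if_neg (fun h => hji (congrArg Prod.fst h).symm), smul_zero]

/-- The indicator of being non-zero, summed over the blocks. -/
noncomputable def weight [DecidableEq F] (E : (Fin n → F) ≃ₗ[F] (Fin t × Fin m → F)) (v : Fin n → F) : F :=
  ∑ i, if (fun a => E v (i, a)) = 0 then 0 else 1

/-- The elements of `GL` preserving a function. -/
def fixFun (Φ : (Fin n → F) → F) : Subgroup (GL (Fin n) F) where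
  carrier := {g | ∀ v, Φ ((g : Matrix (Fin n) (Fin n) F) *ᵥ v) = Φ v}
  one_mem' := fun v => by simp
  mul_mem' {a b} ha hb := fun v => by
    rw [Units.val_mul, ← Matrix.mulVec_mulVec, ha, hb]
  inv_mem' {a} ha := fun v => by
    have := ha ((a⁻¹ : GL (Fin n) F).1 *ᵥ v)
    rw [Matrix.mulVec_mulVec, ← Units.val_mul, mul_inv_cancel, Units.val_one, Matrix.one_mulVec] at this
    exact this.symm

variable [DecidableEq F]

theorem decomp_le_fixFun (hD : Cfsg.Geo.IsMDecomposition m D) (E : (Fin n → F) ≃ₗ[F] (Fin t × Fin m → F))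
    (hE1 : ∀ i a, E.symm (Pi.single (i, a) 1) ∈ D i) (hE2 : ∀ i, ∀ x ∈ D i, ∀ j a, j ≠ i → E x (j, a) = 0) :
    Cfsg.Geo.decompositionStabilizer D ≤ fixFun (weight E) := by
  intro g hg v
  obtain ⟨σ, hσ⟩ := hg
  let part : Fin t → (Fin n → F) := fun i => ∑ a, E v (i, a) • E.symm (Pi.single (i, a) 1)
  have hpart : ∀ i, part i ∈ D i := fun i => Submodule.sum_mem _ fun a _ => Submodule.smul_mem _ _ (hE1 i a)
  have hv : v = ∑ i, part i := by
    apply E.injective
    simp only [part, map_sum, map_smul, LinearEquiv.apply_symm_apply]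
    funext p
    simp [Fintype.sum_prod_type, Pi.single_apply, Prod.ext_iff, ite_and]
  have hg' : ∀ i, (g : Matrix (Fin n) (Fin n) F) *ᵥ part i ∈ D (σ i) := fun i => by
    rw [← hσ i]
    exact ⟨part i, hpart i, Matrix.toLin'_apply _ _⟩
  have hblock : ∀ i a, E ((g : Matrix (Fin n) (Fin n) F) *ᵥ v) (σ i, a) =
      E ((g : Matrix (Fin n) (Fin n) F) *ᵥ part i) (σ i, a) := fun i a => by
    conv_lhs => rw [hv, ← Matrix.toLin'_apply, map_sum, map_sum, Finset.sum_apply]
    rw [Finset.sum_eq_single i (fun j _ hji => by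
      rw [Matrix.toLin'_apply]; exact hE2 _ _ (hg' j) _ a fun e => hji (σ.injective e).symm) (by simp),
      Matrix.toLin'_apply]
  have hiff : ∀ i, (fun a => E ((g : Matrix (Fin n) (Fin n) F) *ᵥ v) (σ i, a)) = 0 ↔
      (fun a => E v (i, a)) = 0 := fun i => by
    constructor
    · intro h
      have h0 : (g : Matrix (Fin n) (Fin n) F) *ᵥ part i = 0 := by
        apply E.injective
        rw [map_zero]
        funext p
        obtain ⟨j, a⟩ := p
        by_cases hj : j = σ i
        · subst hj; rw [← hblock]; exact congrFun h a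
        · exact hE2 _ _ (hg' i) j a hj
      have h1 : part i = 0 := by
        have := congrArg (fun x => (g⁻¹ : GL (Fin n) F).1 *ᵥ x) h0
        simpa [Matrix.mulVec_mulVec, ← Units.val_mul] using this
      funext a
      have h2 := congrFun (congrArg E h1) (i, a)
      simpa [part, Pi.single_apply, map_sum, Finset.sum_apply] using h2
    · intro h
      funext a
      rw [hblock, show part i = 0 from Finset.sum_eq_zero fun a _ => by rw [show E v (i, a) = 0 from congrFun h a, zero_smul]]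
      simp
  simp only [weight]
  rw [← Equiv.sum_comp σ]
  exact Finset.sum_congr rfl fun i _ => by rw [if_congr (hiff i) rfl rfl]

/-- An invertible matrix conjugate to a linear map of determinant one. -/
theorem exists_conj (E : (Fin n → F) ≃ₗ[F] (Fin t × Fin m → F))
    (f : (Fin t × Fin m → F) →ₗ[F] (Fin t × Fin m → F)) (hf : LinearMap.det f = 1) :
    ∃ g ∈ Cfsg.Geo.specialLinear (Fin n) F, ∀ v, E ((g : Matrix (Fin n) (Fin n) F) *ᵥ v) = f (E v) := by
  set f' := (E.symm : (Fin t × Fin m → F) →ₗ[F] (Fin n → F)) ∘ₗ f ∘ₗ (E : (Fin n → F) →ₗ[F] _)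
  have hd : LinearMap.det f' = 1 := by
    rw [← hf, ← LinearMap.det_conj f E.symm]
    rfl
  have hu : IsUnit f' := (LinearMap.isUnit_iff_isUnit_det f').2 (by rw [hd]; exact isUnit_one)
  obtain ⟨u, hu'⟩ := hu
  refine ⟨linToGL (LinearMap.GeneralLinearGroup.toLinearEquiv u), ?_, fun v => ?_⟩
  · refine MonoidHom.mem_ker.2 (Units.ext ?_)
    show Matrix.det (LinearMap.toMatrix' (LinearMap.GeneralLinearGroup.toLinearEquiv u).toLinearMap) = 1
    rw [LinearMap.det_toMatrix', ← hd, ← hu']
    rfl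
  · rw [linToGL_mulVec]
    show E ((u : (Fin n → F) →ₗ[F] (Fin n → F)) v) = _
    rw [hu']
    simp [f']

theorem not_maximal (hD : Cfsg.Geo.IsMDecomposition m D) (E : (Fin n → F) ≃ₗ[F] (Fin t × Fin m → F))
    (hE1 : ∀ i a, E.symm (Pi.single (i, a) 1) ∈ D i) (hE2 : ∀ i, ∀ x ∈ D i, ∀ j a, j ≠ i → E x (j, a) = 0)
    (hm : 0 < m) (ht : 2 ≤ t) {f : (Fin t × Fin m → F) →ₗ[F] (Fin t × Fin m → F)} (hf : LinearMap.det f = 1)
    (hfix : ∀ x, (∑ i, if (fun a => f x (i, a)) = 0 then (0 : F) else 1) =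
      ∑ i, if (fun a => x (i, a)) = 0 then (0 : F) else 1)
    {p : Fin t × Fin m} {j j' : Fin t} {a a' : Fin m} (hjj : j ≠ j') (h1 : f (Pi.single p 1) (j, a) ≠ 0)
    (h2 : f (Pi.single p 1) (j', a') ≠ 0) :
    ∃ K : Subgroup (GL (Fin n) F), Cfsg.Geo.decompositionStabilizer D ⊓ Cfsg.Geo.specialLinear (Fin n) F < K ∧
      K < Cfsg.Geo.specialLinear (Fin n) F := by
  classical
  refine ⟨fixFun (weight E) ⊓ Cfsg.Geo.specialLinear (Fin n) F,
    lt_of_le_not_ge (inf_le_inf_right _ (decomp_le_fixFun hD E hE1 hE2)) fun hle => ?_,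
    lt_of_le_not_ge inf_le_right fun hle => ?_⟩
  · obtain ⟨g, hg, hgE⟩ := exists_conj E f hf
    obtain ⟨σ, hσ⟩ := (hle ⟨fun v => by simp only [weight, hgE]; exact hfix _, hg⟩).1
    have hmem : (g : Matrix (Fin n) (Fin n) F) *ᵥ E.symm (Pi.single p 1) ∈ D (σ p.1) := by
      rw [← hσ p.1]
      exact ⟨_, hE1 p.1 p.2, Matrix.toLin'_apply _ _⟩
    rcases eq_or_ne j (σ p.1) with h | h
    · refine h2 ?_
      have := hE2 _ _ hmem j' a' fun e => hjj (h.trans e.symm)
      rwa [hgE, LinearEquiv.apply_symm_apply] at this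
    · refine h1 ?_
      have := hE2 _ _ hmem j a h
      rwa [hgE, LinearEquiv.apply_symm_apply] at this
  · let i₀ : Fin t := ⟨0, by omega⟩
    let i₁ : Fin t := ⟨1, by omega⟩
    let a₀ : Fin m := ⟨0, hm⟩
    have hne : i₀ ≠ i₁ := by simp [i₀, i₁, Fin.ext_iff]
    have hval : (LinearMap.proj (i₁, a₀) : (Fin t × Fin m → F) →ₗ[F] F) (Pi.single (i₀, a₀) 1) = 0 := by
      simp [hne]
    obtain ⟨g, hg, hgE⟩ := exists_conj E
      (LinearMap.transvection (LinearMap.proj (i₁, a₀) : (Fin t × Fin m → F) →ₗ[F] F) (Pi.single (i₀, a₀) 1))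
      (by rw [LinearMap.transvection.det, hval, add_zero])
    let x₁ : Fin t × Fin m → F := Pi.single (i₁, a₀) 1
    let x₀ : Fin t × Fin m → F := Pi.single (i₀, a₀) 1
    have ef : LinearMap.transvection (LinearMap.proj (i₁, a₀) : (Fin t × Fin m → F) →ₗ[F] F) x₀ x₁ = x₁ + x₀ := by
      rw [LinearMap.transvection.apply]
      simp [x₁]
    have hfix' := (hle hg).1 (E.symm x₁)
    simp only [weight, hgE, LinearEquiv.apply_symm_apply, x₀] at hfix'
    rw [ef] at hfix'
    have e1 : ∀ i, ((fun a => x₁ (i, a)) = 0) ↔ i ≠ i₁ := fun i => by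
      constructor
      · rintro h rfl; simpa [x₁] using congrFun h a₀
      · intro h; funext a; simp [x₁, h]
    have e2 : ∀ i, ((fun a => (x₁ + x₀) (i, a)) = 0) ↔ (i ≠ i₁ ∧ i ≠ i₀) := fun i => by
      constructor
      · intro h
        refine ⟨?_, ?_⟩
        · rintro rfl; simpa [x₁, x₀, hne.symm] using congrFun h a₀
        · rintro rfl; simpa [x₁, x₀, hne] using congrFun h a₀
      · rintro ⟨h, h'⟩; funext a; simp [x₁, x₀, h, h']
    simp only [e1, e2] at hfix'
    rw [Finset.sum_eq_single i₁ (f := fun i => if i ≠ i₁ then (0 : F) else 1) (fun b _ hb => by simp [hb]) (by simp),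
      Fintype.sum_eq_add i₁ i₀ hne.symm (fun x hx => by simp [hx.1, hx.2])] at hfix'
    simp at hfix'

end CfsgLib.Classical.DecompNonMax
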