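import Cfsg.Agent.Lib.Classical.TensorSmall

/-!
# The criterion for a tensor stabiliser not to be maximal
-/

set_option autoImplicit false
set_option linter.unusedSectionVars false

open Matrix Module

namespace CfsgLib.Classical.TensorNonMax

variable {F : Type*} [Field F] {ι : Type} [Fintype ι] [DecidableEq ι] {k n' : ℕ}
  {L : (Fin k → F) →ₗ[F] (Fin n' → F) →ₗ[F] (ι → F)} {v : Fin k → Fin k → F}

theorem tmap_swap {n₁ n₂ : ℕ} (e : ι ≃ Fin n₁ × Fin n₂) (P : GL ι F) (u : Fin n₂ → F) (w : Fin n₁ → F) :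
    tmap (e.trans (Equiv.prodComm _ _)) P u w = tmap e P w u := by
  rw [tmap_apply, tmap_apply]
  congr 1
  funext i
  simp [mul_comm]

/-- The hypotheses on the tensor map of a form with an orthogonal basis of the first factor. -/
structure IsData (L : (Fin k → F) →ₗ[F] (Fin n' → F) →ₗ[F] (ι → F)) (f : (ι → F) → (ι → F) → F)
    (g : (Fin k → F) → (Fin k → F) → F) (g' : (Fin n' → F) → (Fin n' → F) → F)
    (v : Fin k → Fin k → F) (c D : F) : Prop where
  c_ne : c ≠ 0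
  D_ne : D ≠ 0
  form : ∀ u u' w w', f (L u w) (L u' w') = c * (g u u' * g' w w')
  orth : ∀ i j, g (v i) (v j) = if i = j then D else 0
  indep : ∀ w : Fin k → Fin n' → F, ∑ i, L (v i) (w i) = 0 → ∀ i, w i = 0
  li : LinearIndependent F v

variable {f : (ι → F) → (ι → F) → F} {g : (Fin k → F) → (Fin k → F) → F}
  {g' : (Fin n' → F) → (Fin n' → F) → F} {c D : F}

theorem IsData.off (h : IsData L f g g' v c D) {i j : Fin k} (hij : i ≠ j) (w w' : Fin n' → F) :
    f (L (v i) w) (L (v j) w') = 0 := by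
  rw [h.form, h.orth, if_neg hij, zero_mul, mul_zero]

theorem IsData.on (h : IsData L f g g' v c D) (i : Fin k) (w w' : Fin n' → F) :
    f (L (v i) w) (L (v i) w') = c * D * g' w w' := by
  rw [h.form, h.orth, if_pos rfl, mul_assoc]

theorem IsData.injective (h : IsData L f g g' v c D) (i : Fin k) : Function.Injective (L (v i)) := by
  classical
  intro w w' he
  have := h.indep (Pi.single i (w - w')) (by
    rw [Finset.sum_eq_single i (fun j _ hj => by rw [Pi.single_eq_of_ne hj, map_zero]) (by simp),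
      Pi.single_eq_same, map_sub, he, sub_self]) i
  rwa [Pi.single_eq_same, sub_eq_zero] at this

theorem IsData.out (h : IsData L f g g' v c D) {i₀ i₁ : Fin k} (hne : i₁ ≠ i₀) {y z : Fin n' → F} (hy : y ≠ 0)
    (hz : z ≠ 0) (j : Fin k) : L (v i₀) y + L (v i₁) z ∉ block L v j := by
  classical
  rintro ⟨w, hw⟩
  have key : ∀ i, (Pi.single i₀ y + Pi.single i₁ z + Pi.single j (-w) : Fin k → Fin n' → F) i = 0 := by
    refine h.indep _ ?_
    simp only [Pi.add_apply, map_add, Finset.sum_add_distrib]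
    rw [Finset.sum_eq_single i₀ (fun l _ hl => by rw [Pi.single_eq_of_ne hl, map_zero]) (by simp),
      Finset.sum_eq_single i₁ (fun l _ hl => by rw [Pi.single_eq_of_ne hl, map_zero]) (by simp),
      Finset.sum_eq_single j (fun l _ hl => by rw [Pi.single_eq_of_ne hl, map_zero]) (by simp)]
    simp only [Pi.single_eq_same, map_neg]
    rw [hw]
    abel
  by_cases hj : j = i₀
  · have := key i₁
    simp [Pi.single_eq_of_ne hne, Pi.single_eq_of_ne (hj ▸ hne : i₁ ≠ j)] at this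
    exact hz this
  · have := key i₀
    simp [Pi.single_eq_of_ne (Ne.symm hne), Pi.single_eq_of_ne (Ne.symm hj)] at this
    exact hy this

theorem IsData.exists_between (hd : IsData L f g g' v c D) (hg' : ∃ w w', g' w w' ≠ 0) {G H : Subgroup (GL ι F)}
    (hG : ∀ h ∈ G, ∀ x y, f ((h : Matrix ι ι F) *ᵥ x) ((h : Matrix ι ι F) *ᵥ y) = f x y)
    (hmul : ∀ h ∈ H, ∃ (a : GL (Fin k) F) (b : GL (Fin n') F), ∀ u w, (h : Matrix ι ι F) *ᵥ L u w =
      L ((a : Matrix _ _ F) *ᵥ u) ((b : Matrix _ _ F) *ᵥ w))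
    (hmono : ∀ (a : Matrix (Fin k) (Fin k) F) (μ : F), μ ≠ 0 → (∀ x y, g (a *ᵥ x) (a *ᵥ y) = μ * g x y) →
      ∀ i, ∃ j α, a *ᵥ v i = (α : F) • v j)
    {g₁ : GL ι F} (hg₁ : g₁ ∈ G) {i₀ i₁ : Fin k} (hne : i₁ ≠ i₀)
    (hfix : ∀ i, i ≠ i₀ → ∀ w, (g₁ : Matrix ι ι F) *ᵥ L (v i) w = L (v i) w)
    (hin : ∀ w, ∃ w', (g₁ : Matrix ι ι F) *ᵥ L (v i₀) w = L (v i₀) w')
    (hmove : ∃ w, (g₁ : Matrix ι ι F) *ᵥ L (v i₀) w ≠ L (v i₀) w)
    (hfixed : ∃ w, w ≠ 0 ∧ (g₁ : Matrix ι ι F) *ᵥ L (v i₀) w = L (v i₀) w)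
    {g₂ : GL ι F} (hg₂ : g₂ ∈ G)
    (hout : ∃ x y z, y ≠ 0 ∧ z ≠ 0 ∧ (g₂ : Matrix ι ι F) *ᵥ L (v i₁) x = L (v i₀) y + L (v i₁) z) :
    ∃ K : Subgroup (GL ι F), H ⊓ G < K ∧ K < G := by
  refine TensorNonMax.exists_between hd.indep (fun h hh => ?_) hg₁ hne hfix hin hmove hfixed hg₂ ?_
  · obtain ⟨a, b, hab⟩ := hmul h hh.1
    refine ⟨a, Matrix.toLin' (b : Matrix _ _ F), hab, isMono_of hd.li hd.indep a (Matrix.toLin' (b : Matrix _ _ F))
      ?_ hab ?_⟩
    · intro w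
      refine ⟨((b⁻¹ : GL (Fin n') F) : Matrix _ _ F) *ᵥ w, ?_⟩
      rw [Matrix.toLin'_apply, Matrix.mulVec_mulVec, ← Units.val_mul, mul_inv_cancel, Units.val_one, Matrix.one_mulVec]
    obtain ⟨w, w', hw⟩ := hg'
    have key : ∀ u u', g ((a : Matrix _ _ F) *ᵥ u) ((a : Matrix _ _ F) *ᵥ u') *
        g' ((b : Matrix _ _ F) *ᵥ w) ((b : Matrix _ _ F) *ᵥ w') = g u u' * g' w w' := fun u u' => by
      have := hG h hh.2 (L u w) (L u' w')
      rw [hab, hab, hd.form, hd.form] at this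
      exact mul_left_cancel₀ hd.c_ne this
    have hbw : g' ((b : Matrix _ _ F) *ᵥ w) ((b : Matrix _ _ F) *ᵥ w') ≠ 0 := fun e => by
      have := key (v i₀) (v i₀)
      rw [e, mul_zero, hd.orth, if_pos rfl] at this
      exact mul_ne_zero hd.D_ne hw this.symm
    refine hmono a (g' w w' / g' ((b : Matrix _ _ F) *ᵥ w) ((b : Matrix _ _ F) *ᵥ w')) (div_ne_zero hw hbw) fun x y => ?_
    field_simp
    linear_combination key x y
  · obtain ⟨x, y, z, hy, hz, he⟩ := hout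
    exact ⟨i₁, L (v i₁) x, ⟨x, rfl⟩, fun j => by rw [he]; exact hd.out hne hy hz j⟩

end CfsgLib.Classical.TensorNonMax
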