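import Cfsg.Agent.Lib.Classical.FormBasic

/-!
# Alternating forms: transvections, generation of the isometry group, symplectic bases
-/

set_option autoImplicit false
set_option linter.unusedSectionVars false

open Module

namespace CfsgLib.Classical

variable {F : Type*} [Field F] {V : Type*} [AddCommGroup V] [Module F V]
  {B : V →ₗ[F] V →ₗ[F] F}

theorem alt_swap (hA : B.IsAlt) (x y : V) : B x y = -B y x := (LinearMap.IsAlt.neg hA y x).symm

/-- The map `x ↦ x + c B(x, v) v`. -/
def tvFun (B : V →ₗ[F] V →ₗ[F] F) (v : V) (c : F) : V →ₗ[F] V :=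
  LinearMap.id + (c • B.flip v).smulRight v

theorem tvFun_apply (v : V) (c : F) (x : V) : tvFun B v c x = x + (c * B x v) • v := by
  simp [tvFun]

theorem tvFun_comp (hA : B.IsAlt) (v : V) (c d : F) (x : V) :
    tvFun B v c (tvFun B v d x) = tvFun B v (c + d) x := by
  simp only [tvFun_apply, map_add, map_smul, LinearMap.add_apply, LinearMap.smul_apply, hA v,
    smul_eq_mul, mul_zero, zero_smul, add_zero]
  rw [add_assoc, ← add_smul]
  congr 2
  ring

/-- The symplectic transvection in the isometry group. -/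
def tv (hA : B.IsAlt) (v : V) (c : F) : isomGroup B :=
  ⟨LinearEquiv.ofLinearMap (tvFun B v c) (tvFun B v (-c))
    (LinearMap.ext fun x => by
      rw [LinearMap.comp_apply, tvFun_comp hA, add_neg_cancel]; simp [tvFun_apply])
    (LinearMap.ext fun x => by
      rw [LinearMap.comp_apply, tvFun_comp hA, neg_add_cancel]; simp [tvFun_apply]),
   fun x y => by
    simp only [LinearEquiv.coe_ofLinearMap, tvFun_apply, map_add, map_smul, LinearMap.add_apply,
      LinearMap.smul_apply, smul_eq_mul, hA v, mul_zero, add_zero]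
    rw [alt_swap hA v y]
    ring⟩

@[simp] theorem tv_apply (hA : B.IsAlt) (v : V) (c : F) (x : V) :
    (tv hA v c).1 x = x + (c * B x v) • v := tvFun_apply v c x

theorem tv_mul (hA : B.IsAlt) (v : V) (c d : F) : tv hA v c * tv hA v d = tv hA v (c + d) :=
  Subtype.ext <| LinearEquiv.ext fun x => tvFun_comp hA v c d x

theorem tv_zero (hA : B.IsAlt) (v : V) : tv hA v 0 = 1 :=
  Subtype.ext <| LinearEquiv.ext fun x => by simp

theorem conj_tv (hA : B.IsAlt) (g : isomGroup B) (v : V) (c : F) :
    g * tv hA v c * g⁻¹ = tv hA (g.1 v) c := by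
  rw [mul_inv_eq_iff_eq_mul]
  refine Subtype.ext <| LinearEquiv.ext fun x => ?_
  simp [map_add, map_smul]

theorem tv_smul (hA : B.IsAlt) (v : V) (a c : F) : tv hA (a • v) c = tv hA v (a * a * c) :=
  Subtype.ext <| LinearEquiv.ext fun x => by
    simp only [tv_apply, map_smul, smul_eq_mul, smul_smul]
    congr 2
    ring

/-- The subgroup generated by all transvections. -/
def tvGroup (hA : B.IsAlt) : Subgroup (isomGroup B) :=
  Subgroup.closure {g | ∃ v c, g = tv hA v c}

theorem tv_mem_tvGroup (hA : B.IsAlt) (v : V) (c : F) : tv hA v c ∈ tvGroup hA :=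
  Subgroup.subset_closure ⟨v, c, rfl⟩

theorem alt_exists_partner (hN : B.SeparatingLeft) {u : V} (hu : u ≠ 0) : ∃ v, B u v = 1 := by
  obtain ⟨v, hv⟩ : ∃ v, B u v ≠ 0 := by
    by_contra h
    push Not at h
    exact hu (hN u h)
  exact ⟨(B u v)⁻¹ • v, by simp [hv]⟩

theorem tv_move (hA : B.IsAlt) (u u' : V) (h : B u u' ≠ 0) :
    (tv hA (u' - u) (B u u')⁻¹).1 u = u' := by
  simp [map_sub, hA u, h]

/-- Transvections move any non-zero vector to any other. -/
theorem tv_transitive (hA : B.IsAlt) (hN : B.SeparatingLeft) {u u' : V} (hu : u ≠ 0)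
    (hu' : u' ≠ 0) : ∃ g ∈ tvGroup hA, g.1 u = u' := by
  by_cases h : B u u' = 0
  · obtain ⟨w, hw, hw'⟩ : ∃ w, B u w ≠ 0 ∧ B w u' ≠ 0 := by
      obtain ⟨w₁, h₁⟩ := alt_exists_partner hN hu
      obtain ⟨w₂, h₂⟩ := alt_exists_partner hN hu'
      by_cases h₁' : B w₁ u' = 0
      · by_cases h₂' : B u w₂ = 0
        · refine ⟨w₁ + w₂, ?_, ?_⟩ <;> simp [h₁, h₂', h₁', alt_swap hA w₂ u', h₂]
        · exact ⟨w₂, h₂', by simp [alt_swap hA w₂ u', h₂]⟩
      · exact ⟨w₁, by simp [h₁], h₁'⟩
    refine ⟨_ * _, mul_mem (tv_mem_tvGroup hA (u' - w) (B w u')⁻¹)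
      (tv_mem_tvGroup hA (w - u) (B u w)⁻¹), ?_⟩
    rw [Subgroup.coe_mul, LinearEquiv.mul_apply, tv_move hA u w hw, tv_move hA w u' hw']
  · exact ⟨_, tv_mem_tvGroup hA _ _, tv_move hA u u' h⟩

/-- Transvections move any hyperbolic pair to any other. -/
theorem tv_transitive_pairs (hA : B.IsAlt) (hN : B.SeparatingLeft) {u v u' v' : V}
    (h : B u v = 1) (h' : B u' v' = 1) : ∃ g ∈ tvGroup hA, g.1 u = u' ∧ g.1 v = v' := by
  have hu : u ≠ 0 := by rintro rfl; simp at h
  have hu' : u' ≠ 0 := by rintro rfl; simp at h'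
  obtain ⟨g, hg, rfl⟩ := tv_transitive hA hN hu hu'
  have hgv : B (g.1 u) (g.1 v) = 1 := by rw [g.2, h]
  suffices H : ∀ a b : V, B (g.1 u) a = 1 → B (g.1 u) b = 1 → B a b ≠ 0 →
      ∃ t ∈ tvGroup hA, t.1 (g.1 u) = g.1 u ∧ t.1 a = b by
    by_cases hvv : B (g.1 v) v' = 0
    · obtain ⟨t, ht, ht1, ht2⟩ := H (g.1 v) (g.1 v + g.1 u) hgv
        (by rw [map_add, hgv, hA (g.1 u), add_zero])
        (by rw [map_add, hA (g.1 v), zero_add, alt_swap hA, hgv]; simp)
      obtain ⟨s, hs, hs1, hs2⟩ := H (g.1 v + g.1 u) v'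
        (by rw [map_add, hgv, hA (g.1 u), add_zero]) h'
        (by rw [map_add, LinearMap.add_apply, hvv, h', zero_add]; exact one_ne_zero)
      refine ⟨s * (t * g), mul_mem hs (mul_mem ht hg), ?_, ?_⟩
      · simp only [Subgroup.coe_mul, LinearEquiv.mul_apply, ht1, hs1]
      · simp only [Subgroup.coe_mul, LinearEquiv.mul_apply, ht2, hs2]
    · obtain ⟨t, ht, ht1, ht2⟩ := H _ _ hgv h' hvv
      exact ⟨t * g, mul_mem ht hg, by simp [ht1], by simp [ht2]⟩
  intro a b ha hb hab
  exact ⟨_, tv_mem_tvGroup hA _ _, by simp [map_sub, ha, hb], tv_move hA a b hab⟩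

theorem nondegOn_pair (hA : B.IsAlt) {u v : V} (h : B u v = 1) :
    NondegOn B (Submodule.span F {u, v}) := by
  rw [nondegOn_iff]
  intro x hx hx'
  obtain ⟨a, b, rfl⟩ := Submodule.mem_span_pair.1 hx
  have h1 := hx' u (Submodule.subset_span (Set.mem_insert _ _))
  have h2 := hx' v (Submodule.subset_span (Set.mem_insert_of_mem _ rfl))
  simp [h, hA u] at h1
  simp [alt_swap hA v u, h, hA v] at h2
  simp [h1, h2]

theorem linearIndependent_pair (hA : B.IsAlt) {u v : V} (h : B u v = 1) :
    LinearIndependent F ![u, v] := by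
  rw [LinearIndependent.pair_iff]
  intro a b hab
  have h1 := congrArg (B u) hab
  have h2 := congrArg (B v) hab
  simp [h, hA u] at h1
  simp [alt_swap hA v u, h, hA v] at h2
  exact ⟨h2, h1⟩

theorem finrank_pair (hA : B.IsAlt) {u v : V} (h : B u v = 1) :
    finrank F (Submodule.span F ({u, v} : Set V)) = 2 := by
  have := finrank_span_eq_card (linearIndependent_pair hA h)
  rwa [Matrix.range_cons_cons_empty, Fintype.card_fin] at this

theorem restrictForm_isAlt (hA : B.IsAlt) (W : Submodule F V) : (restrictForm B W).IsAlt :=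
  fun x => hA x

section Generation

variable [FiniteDimensional F V]

theorem finrank_perp_pair_lt (hA : B.IsAlt) {u v : V} (h : B u v = 1) :
    finrank F (perp B (Submodule.span F ({u, v} : Set V))) + 2 = finrank F V := by
  rw [← (nondegOn_pair hA h).finrank_perp, finrank_pair hA h, add_comm]

/-- Embedding of the isometry group of a non-degenerate summand. -/
noncomputable def perpIncl (hA : B.IsAlt) {W : Submodule F V} (h : NondegOn B W) :
    isomGroup (restrictForm B (perp B W)) →* isomGroup B :=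
  (isomStab B W).subtype.comp ((isomStabEquiv hA.isRefl h).toMonoidHom.comp
    (MonoidHom.inr _ _))

theorem perpIncl_apply_left (hA : B.IsAlt) {W : Submodule F V} (h : NondegOn B W)
    (g : isomGroup (restrictForm B (perp B W))) (w : W) :
    (perpIncl hA h g).1 (w : V) = w := by
  change sumEquiv h.isCompl (1 : W ≃ₗ[F] W) g.1 (w : V) = w
  rw [sumEquiv_apply_left]
  rfl

theorem perpIncl_apply_right (hA : B.IsAlt) {W : Submodule F V} (h : NondegOn B W)
    (g : isomGroup (restrictForm B (perp B W))) (u : perp B W) :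
    (perpIncl hA h g).1 (u : V) = g.1 u :=
  sumEquiv_apply_right h.isCompl (1 : W ≃ₗ[F] W) g.1 u

theorem perpIncl_injective (hA : B.IsAlt) {W : Submodule F V} (h : NondegOn B W) :
    Function.Injective (perpIncl hA h) := fun a b e => by
  refine Subtype.ext (LinearEquiv.ext fun u => Subtype.ext ?_)
  rw [← perpIncl_apply_right hA h a, ← perpIncl_apply_right hA h b, e]

/-- An isometry fixing `W` pointwise comes from the isometry group of the perpendicular space. -/
theorem mem_range_perpIncl (hA : B.IsAlt) {W : Submodule F V} (h : NondegOn B W)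
    (g : isomGroup B) : g ∈ (perpIncl hA h).range ↔ ∀ w ∈ W, g.1 w = w := by
  constructor
  · rintro ⟨k, rfl⟩ w hw
    exact perpIncl_apply_left hA h k ⟨w, hw⟩
  · intro hg
    have hW : W.map (g.1 : V →ₗ[F] V) = W := by
      ext x
      exact ⟨fun ⟨w, hw, e⟩ => e ▸ by rw [LinearEquiv.coe_coe, hg w hw]; exact hw,
        fun hx => ⟨x, hx, hg x hx⟩⟩
    have hP : (perp B W).map (g.1 : V →ₗ[F] V) = perp B W := by rw [map_perp g.2, hW]
    refine ⟨⟨(g.1.submoduleMap _).trans (LinearEquiv.ofEq _ _ hP), fun x y => g.2 _ _⟩,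
      Subtype.ext (LinearEquiv.ext fun x => ?_)⟩
    obtain ⟨w, u, rfl⟩ := exists_add_eq h.isCompl x
    rw [map_add, map_add, perpIncl_apply_left, perpIncl_apply_right, hg w w.2]
    rfl

theorem perpIncl_tv (hA : B.IsAlt) {W : Submodule F V} (h : NondegOn B W) (v : perp B W) (c : F) :
    perpIncl hA h (tv (restrictForm_isAlt hA _) v c) = tv hA (v : V) c := by
  refine Subtype.ext (LinearEquiv.ext fun x => ?_)
  obtain ⟨w, u, rfl⟩ := exists_add_eq h.isCompl x
  have : B (w : V) (v : V) = 0 := mem_perp.1 v.2 _ w.2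
  simp only [map_add, perpIncl_apply_left, perpIncl_apply_right, tv_apply, LinearMap.add_apply,
    this, zero_add, Submodule.coe_add, Submodule.coe_smul, restrictForm_apply]
  simp [this]

end Generation

/-- The isometry group of a non-degenerate alternating form is generated by transvections. -/
theorem tvGroup_eq_top [FiniteDimensional F V] (hA : B.IsAlt) (hN : B.Nondegenerate) :
    tvGroup hA = ⊤ := by
  induction hd : finrank F V using Nat.strong_induction_on generalizing V with
  | _ d ih =>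
    refine eq_top_iff.2 fun g _ => ?_
    by_cases hV : ∀ x : V, x = 0
    · convert one_mem (tvGroup hA)
      exact Subtype.ext (LinearEquiv.ext fun x => by rw [hV x]; simp)
    push Not at hV
    obtain ⟨u, hu⟩ := hV
    obtain ⟨v, huv⟩ := alt_exists_partner hN.1 hu
    obtain ⟨t, ht, ht1, ht2⟩ := tv_transitive_pairs hA hN.1 huv
      (show B (g.1 u) (g.1 v) = 1 by rw [g.2, huv])
    suffices H : t⁻¹ * g ∈ tvGroup hA by simpa using mul_mem ht H
    have hW := nondegOn_pair hA huv
    set W : Submodule F V := Submodule.span F {u, v}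
    have hd' : finrank F (perp B W) + 2 = d := (finrank_perp_pair_lt hA huv).trans hd
    have hfix : ∀ w ∈ W, (t⁻¹ * g).1 w = w := by
      intro w hw
      obtain ⟨a, b, rfl⟩ := Submodule.mem_span_pair.1 hw
      have e1 : (t⁻¹ * g).1 u = u := by
        change t.1.symm (g.1 u) = u
        rw [← ht1, LinearEquiv.symm_apply_apply]
      have e2 : (t⁻¹ * g).1 v = v := by
        change t.1.symm (g.1 v) = v
        rw [← ht2, LinearEquiv.symm_apply_apply]
      simp only [map_add, map_smul, e1, e2]
    obtain ⟨k, hk⟩ := (mem_range_perpIncl hA hW _).2 hfix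
    have hk' := ih (finrank F (perp B W)) (by omega) (restrictForm_isAlt hA (perp B W))
      (restrictForm_nondegenerate hA.isRefl (nondegOn_perp hN.2 hW)) rfl
    have : tvGroup (restrictForm_isAlt hA (perp B W)) ≤ (tvGroup hA).comap (perpIncl hA hW) := by
      refine (Subgroup.closure_le _).2 ?_
      rintro _ ⟨w, c, rfl⟩
      change perpIncl hA hW _ ∈ tvGroup hA
      rw [perpIncl_tv]
      exact tv_mem_tvGroup hA _ _
    rw [hk'] at this
    rw [← hk]
    exact this (Subgroup.mem_top k)

/-- A vector family forming a symplectic basis. -/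
def IsSympFamily (B : V →ₗ[F] V →ₗ[F] F) {ι : Type*} [DecidableEq ι] (b : ι ⊕ ι → V) : Prop :=
  (∀ i j, B (b (.inl i)) (b (.inr j)) = if i = j then 1 else 0) ∧
    (∀ i j, B (b (.inl i)) (b (.inl j)) = 0) ∧ ∀ i j, B (b (.inr i)) (b (.inr j)) = 0

theorem IsSympFamily.linearIndependent (hA : B.IsAlt) {ι : Type*} [DecidableEq ι] [Fintype ι]
    {b : ι ⊕ ι → V} (hb : IsSympFamily B b) : LinearIndependent F b := by
  rw [Fintype.linearIndependent_iff]
  intro g hg
  rintro (i | i)
  · have := congrArg (fun x => B x (b (.inr i))) hg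
    simpa [Fintype.sum_sum_type, LinearMap.sum_apply, hb.1, hb.2.2, Finset.sum_ite_eq'] using this
  · have := congrArg (B (b (.inl i))) hg
    simpa [Fintype.sum_sum_type, hb.1, hb.2.1, Finset.sum_ite_eq] using this

/-- A non-degenerate alternating form has a symplectic basis. -/
theorem exists_sympBasis [FiniteDimensional F V] (hA : B.IsAlt) (hN : B.Nondegenerate) :
    ∃ (m : ℕ) (b : Module.Basis (Fin m ⊕ Fin m) F V), IsSympFamily B b := by
  suffices H : ∃ (m : ℕ) (b : Fin m ⊕ Fin m → V), IsSympFamily B b ∧ finrank F V = 2 * m by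
    obtain ⟨m, b, hb, hd⟩ := H
    rcases Nat.eq_zero_or_pos m with rfl | hm
    · have : Subsingleton V := Module.finrank_zero_iff.1 (by simpa using hd)
      exact ⟨0, Module.Basis.empty V, ⟨fun i => i.elim0, fun i => i.elim0, fun i => i.elim0⟩⟩
    · have : Nonempty (Fin m ⊕ Fin m) := ⟨.inl ⟨0, hm⟩⟩
      refine ⟨m, basisOfLinearIndependentOfCardEqFinrank (hb.linearIndependent hA)
        (by simp [hd, two_mul]), ?_⟩
      rwa [coe_basisOfLinearIndependentOfCardEqFinrank]
  induction hd : finrank F V using Nat.strong_induction_on generalizing V with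
  | _ d ih =>
    by_cases hV : ∀ x : V, x = 0
    · have : Subsingleton V := ⟨fun x y => (hV x).trans (hV y).symm⟩
      refine ⟨0, fun i => i.elim Fin.elim0 Fin.elim0,
        ⟨fun i => i.elim0, fun i => i.elim0, fun i => i.elim0⟩, ?_⟩
      rw [← hd, Module.finrank_zero_of_subsingleton]
    push Not at hV
    obtain ⟨u, hu⟩ := hV
    obtain ⟨v, huv⟩ := alt_exists_partner hN.1 hu
    have hW := nondegOn_pair hA huv
    set W : Submodule F V := Submodule.span F {u, v}
    have hd' : finrank F (perp B W) + 2 = d := (finrank_perp_pair_lt hA huv).trans hd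
    obtain ⟨m, b, hb, hm⟩ := ih (finrank F (perp B W)) (by omega)
      (restrictForm_isAlt hA (perp B W))
      (restrictForm_nondegenerate hA.isRefl (nondegOn_perp hN.2 hW)) rfl
    have hu' : ∀ x : perp B W, B u (x : V) = 0 := fun x =>
      mem_perp.1 x.2 u (Submodule.subset_span (Set.mem_insert _ _))
    have hv' : ∀ x : perp B W, B v (x : V) = 0 := fun x =>
      mem_perp.1 x.2 v (Submodule.subset_span (Set.mem_insert_of_mem _ rfl))
    have hu'' : ∀ x : perp B W, B (x : V) u = 0 := fun x => hA.isRefl _ _ (hu' x)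
    have hv'' : ∀ x : perp B W, B (x : V) v = 0 := fun x => hA.isRefl _ _ (hv' x)
    obtain ⟨h1, h2, h3⟩ := hb
    simp only [restrictForm_apply] at h1 h2 h3
    refine ⟨m + 1, Sum.elim (Fin.cons u fun i => (b (.inl i) : V))
      (Fin.cons v fun i => (b (.inr i) : V)), ⟨?_, ?_, ?_⟩, by omega⟩
    · intro i j
      cases i using Fin.cases <;> cases j using Fin.cases <;>
        simp [huv, hu', hv'', h1, Fin.succ_ne_zero, (Fin.succ_ne_zero _).symm]
    · intro i j
      cases i using Fin.cases <;> cases j using Fin.cases <;> simp [hA u, hu', hu'', h2]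
    · intro i j
      cases i using Fin.cases <;> cases j using Fin.cases <;> simp [hA v, hv', hv'', h3]

/-- Two symplectic bases are related by an isometry. -/
theorem IsSympFamily.basisEquiv_mem (hA : B.IsAlt) {V' : Type*} [AddCommGroup V'] [Module F V']
    {B' : V' →ₗ[F] V' →ₗ[F] F} (hA' : B'.IsAlt) {ι : Type*} [DecidableEq ι]
    (b : Module.Basis (ι ⊕ ι) F V) (b' : Module.Basis (ι ⊕ ι) F V') (hb : IsSympFamily B b)
    (hb' : IsSympFamily B' b') (x y : V) :
    B' (b.equiv b' (Equiv.refl _) x) (b.equiv b' (Equiv.refl _) y) = B x y := by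
  have : B'.compl₁₂ (b.equiv b' (Equiv.refl _) : V →ₗ[F] V')
      (b.equiv b' (Equiv.refl _) : V →ₗ[F] V') = B := by
    refine LinearMap.ext_basis b b fun i j => ?_
    simp only [LinearMap.compl₁₂_apply, LinearEquiv.coe_coe, Module.Basis.equiv_apply,
      Equiv.refl_apply]
    rcases i with i | i <;> rcases j with j | j
    · rw [hb.2.1, hb'.2.1]
    · rw [hb.1, hb'.1]
    · rw [alt_swap hA, alt_swap hA', hb.1, hb'.1]
    · rw [hb.2.2, hb'.2.2]
  exact LinearMap.congr_fun₂ this x y

/-- Every isometry with scalar-like behaviour: central isometries are `±1`. -/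
theorem center_isom_apply (hA : B.IsAlt) (hN : B.SeparatingLeft) {g : isomGroup B}
    (hg : g ∈ Subgroup.center (isomGroup B)) :
    (∀ x, g.1 x = x) ∨ ∀ x, g.1 x = -x := by
  have key : ∀ v : V, ∃ a : F, g.1 v = a • v := by
    intro v
    by_cases hv : v = 0
    · exact ⟨0, by simp [hv]⟩
    have h := conj_tv hA g v 1
    rw [← Subgroup.mem_center_iff.1 hg, mul_inv_cancel_right] at h
    obtain ⟨w, hw⟩ := alt_exists_partner hN (show g.1 v ≠ 0 by simpa using hv)
    have hw' := congrArg (fun t : isomGroup B => t.1 w) h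
    simp only [tv_apply, one_mul, alt_swap hA w, hw, add_right_inj] at hw'
    exact ⟨B v w, by simpa using hw'.symm⟩
  obtain ⟨a, ha⟩ := LinearMap.exists_eq_smul_id_of_forall_notLinearIndependent
    (f := (g.1 : V →ₗ[F] V)) fun v => by
      obtain ⟨a, ha⟩ := key v
      rw [LinearIndependent.pair_iff]
      push Not
      exact ⟨-a, 1, by simp [ha], by simp⟩
  have hga : ∀ x, g.1 x = a • x := fun x => by
    simpa using LinearMap.congr_fun ha x
  by_cases hV : ∀ x : V, x = 0
  · exact Or.inl fun x => by rw [hV x]; simp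
  push Not at hV
  obtain ⟨u, hu⟩ := hV
  obtain ⟨v, huv⟩ := alt_exists_partner hN hu
  have h := g.2 u v
  rw [hga, hga] at h
  simp [huv] at h
  rcases mul_self_eq_one_iff.1 h with rfl | rfl
  · exact Or.inl fun x => by simp [hga]
  · exact Or.inr fun x => by simp [hga]

end CfsgLib.Classical
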