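import Cfsg.Agent.Lib.Classical.TensorNonMax
import Mathlib.LinearAlgebra.QuadraticForm.Basic

/-!
# Small tensor factors with monomial isometry groups
-/

set_option autoImplicit false
set_option linter.unusedSectionVars false

open Matrix Module

namespace CfsgLib.Classical.TensorNonMax

variable {F : Type*} [Field F]

theorem three_cases [Fintype F] (hq : Fintype.card F = 3) (x : F) :
    (x = 0 ∨ x = 1 ∨ x = -1) ∧ (3 : F) = 0 ∧ (2 : F) ≠ 0 := by
  classical
  have h3 : (3 : F) = 0 := by
    have := Nat.cast_card_eq_zero F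
    rwa [hq] at this
  have h2 : (2 : F) ≠ 0 := fun h => one_ne_zero (show (1 : F) = 0 by linear_combination h3 - h)
  refine ⟨?_, h3, h2⟩
  have hne : (-1 : F) ≠ 1 := fun h => h2 (by linear_combination -h)
  by_contra hx
  push Not at hx
  have h4 : ({0, 1, -1, x} : Finset F).card = 4 := by
    rw [Finset.card_insert_of_notMem, Finset.card_insert_of_notMem, Finset.card_insert_of_notMem,
      Finset.card_singleton]
    · simpa using Ne.symm hx.2.2
    · simp only [Finset.mem_insert, Finset.mem_singleton, not_or]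
      exact ⟨hne.symm, Ne.symm hx.2.1⟩
    · simp only [Finset.mem_insert, Finset.mem_singleton, not_or]
      exact ⟨zero_ne_one, (neg_ne_zero.2 one_ne_zero).symm, Ne.symm hx.1⟩
  have := Finset.card_le_univ ({0, 1, -1, x} : Finset F)
  omega

/-- The pairings of two vectors in a bilinear form. -/
theorem bilin_exists {n : ℕ} {g : (Fin n → F) → (Fin n → F) → F} (hg : Cfsg.Geo.IsBilinearForm g) :
    ∃ B : LinearMap.BilinForm F (Fin n → F), ∀ x y, B x y = g x y :=
  ⟨LinearMap.mk₂ F g hg.add_left hg.smul_left hg.add_right hg.smul_right, fun _ _ => rfl⟩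

theorem orth_li {k : ℕ} {g : (Fin k → F) → (Fin k → F) → F} {τ : F → F}
    (haddl : ∀ x y v, g (x + y) v = g x v + g y v) (hsmull : ∀ (c : F) x v, g (c • x) v = c * g x v)
    {v : Fin k → Fin k → F} {d : F} (hd : d ≠ 0) (hv : ∀ i j, g (v i) (v j) = if i = j then d else 0) :
    LinearIndependent F v := by
  rw [Fintype.linearIndependent_iff]
  intro c hc j
  let A : (Fin k → F) →+ F := AddMonoidHom.mk' (fun x => g x (v j)) fun a b => haddl a b (v j)
  have h := congrArg A hc
  rw [map_sum, map_zero, Finset.sum_eq_single j (fun i _ hi => by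
    show g (c i • v i) (v j) = 0
    rw [hsmull, hv, if_neg hi, mul_zero]) (by simp)] at h
  change g (c j • v j) (v j) = 0 at h
  rw [hsmull, hv, if_pos rfl] at h
  exact (mul_eq_zero.1 h).resolve_right hd

/-- An orthogonal basis of constant norm over the field of three elements. -/
theorem exists_orth3 [Fintype F] (hq : Fintype.card F = 3) {g : (Fin 3 → F) → (Fin 3 → F) → F}
    (hg : Cfsg.Geo.IsSymmetricForm g) :
    ∃ (v : Fin 3 → Fin 3 → F) (d : F), d ≠ 0 ∧ ∀ i j, g (v i) (v j) = if i = j then d else 0 := by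
  obtain ⟨-, h3, h2⟩ := three_cases hq (0 : F)
  haveI : Invertible (2 : F) := invertibleOfNonzero h2
  obtain ⟨B, hB⟩ := bilin_exists hg.bilinear
  obtain ⟨b, hb⟩ := LinearMap.BilinForm.exists_orthogonal_basis
    (B := B) ⟨fun x y => by rw [RingHom.id_apply, hB, hB, hg.symm]⟩
  have hfr : finrank F (Fin 3 → F) = 3 := Module.finrank_fin_fun F
  let v : Fin 3 → Fin 3 → F := fun i => b (Fin.cast hfr.symm i)
  have hoff : ∀ i j, i ≠ j → g (v i) (v j) = 0 := fun i j hij => by
    rw [← hB]; exact hb (fun e => hij (Fin.cast_injective _ e))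
  have hne : ∀ i, g (v i) (v i) ≠ 0 := by
    intro i h0
    obtain ⟨⟨x, hx⟩, -⟩ := hg.nondegenerate (v i) (b.ne_zero _)
    apply hx
    rw [← hB]
    refine LinearMap.congr_fun (show (B.flip (v i)) = 0 from b.ext fun j => ?_) x
    rw [LinearMap.zero_apply]
    show B (b j) (v i) = 0
    rw [hB]
    by_cases hj : j = Fin.cast hfr.symm i
    · rw [hj]; exact h0
    · rw [show b j = v (Fin.cast hfr j) by simp [v]]
      exact hoff _ _ fun e => hj (by rw [← e]; simp)
  have hval : ∀ i, g (v i) (v i) = 1 ∨ g (v i) (v i) = -1 := fun i =>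
    (three_cases hq _).1.resolve_left (hne i)
  have hnl : ∀ x y, g (-x) y = -g x y := fun x y => by
    rw [← neg_one_smul F x, hg.bilinear.smul_left, neg_one_mul]
  have hnr : ∀ x y, g x (-y) = -g x y := fun x y => by
    rw [← neg_one_smul F y, hg.bilinear.smul_right, neg_one_mul]
  -- flip a pair of equal norms
  have flip : ∀ i j l : Fin 3, i ≠ j → i ≠ l → j ≠ l → g (v j) (v j) = g (v i) (v i) →
      g (v l) (v l) = -g (v i) (v i) → ∃ (v : Fin 3 → Fin 3 → F) (d : F), d ≠ 0 ∧
        ∀ i j, g (v i) (v j) = if i = j then d else 0 := by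
    intro i j l hij hil hjl ej el
    refine ⟨![v l, v i + v j, v i + (-1 : F) • v j], g (v l) (v l), hne l, fun p q => ?_⟩
    have := hoff i j hij; have := hoff j i hij.symm; have := hoff i l hil; have := hoff l i hil.symm
    have := hoff j l hjl; have := hoff l j hjl.symm
    fin_cases p <;> fin_cases q <;>
      simp [hg.bilinear.add_left, hg.bilinear.add_right, hg.bilinear.smul_left, hg.bilinear.smul_right, hnl, hnr, *,
        ← two_mul] <;>
      linear_combination (g (v i) (v i)) * h3
  have hother : ∀ a b, g (v a) (v a) ≠ g (v b) (v b) → g (v a) (v a) = -g (v b) (v b) := fun a b hab => by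
    rcases hval a with e | e <;> rcases hval b with e' | e' <;>
      first | exact absurd (e.trans e'.symm) hab | (rw [e, e', neg_neg]) | (rw [e, e'])
  by_cases e1 : g (v 1) (v 1) = g (v 0) (v 0) <;> by_cases e2 : g (v 2) (v 2) = g (v 0) (v 0)
  · refine ⟨v, g (v 0) (v 0), hne 0, fun i j => ?_⟩
    split_ifs with hij
    · subst hij; fin_cases i <;> simp [e1, e2]
    · exact hoff i j hij
  · exact flip 0 1 2 (by decide) (by decide) (by decide) e1 (hother 2 0 e2)
  · exact flip 0 2 1 (by decide) (by decide) (by decide) e2 (hother 1 0 e1)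
  · exact flip 1 2 0 (by decide) (by decide) (by decide) (by rw [hother 2 0 e2, hother 1 0 e1])
      (by rw [hother 1 0 e1, neg_neg])

/-- Similitudes of the three-dimensional form over three elements are monomial. -/
theorem mono3 [Fintype F] (hq : Fintype.card F = 3) {g : (Fin 3 → F) → (Fin 3 → F) → F}
    (hg : Cfsg.Geo.IsSymmetricForm g) {v : Fin 3 → Fin 3 → F} {d : F} (hd : d ≠ 0)
    (hv : ∀ i j, g (v i) (v j) = if i = j then d else 0) {a : Matrix (Fin 3) (Fin 3) F} {μ : F} (hμ : μ ≠ 0)
    (ha : ∀ x y, g (a *ᵥ x) (a *ᵥ y) = μ * g x y) : ∀ i, ∃ j α, a *ᵥ v i = (α : F) • v j := by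
  classical
  have hli := orth_li (τ := id) hg.bilinear.add_left hg.bilinear.smul_left hd hv
  obtain ⟨-, h3, h2⟩ := three_cases hq (0 : F)
  have hspan := hli.span_eq_top_of_card_eq_finrank (by simp)
  have hex : ∀ i, ∃ c : Fin 3 → F, ∑ j, c j • v j = a *ᵥ v i := fun i =>
    (Submodule.mem_span_range_iff_exists_fun F).1 (hspan ▸ Submodule.mem_top)
  choose c hc using hex
  let A : Matrix (Fin 3) (Fin 3) F := Matrix.of c
  have hAA : A * Aᵀ = μ • (1 : Matrix (Fin 3) (Fin 3) F) := by
    ext i l
    have h := ha (v i) (v l)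
    rw [← hc, ← hc, hv] at h
    simp only [Fin.sum_univ_three, hg.bilinear.add_left, hg.bilinear.add_right, hg.bilinear.smul_left,
      hg.bilinear.smul_right, hv] at h
    rw [Matrix.mul_apply]
    simp only [Fin.sum_univ_three, Matrix.transpose_apply, A, Matrix.of_apply, Matrix.smul_apply, smul_eq_mul,
      Matrix.one_apply]
    refine mul_right_cancel₀ hd ?_
    simp at h
    split_ifs with hil
    · rw [if_pos hil] at h; linear_combination h
    · rw [if_neg hil] at h; linear_combination h
  have hμ1 : μ = 1 := by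
    have h := congrArg Matrix.det hAA
    rw [det_mul, det_transpose, det_smul, det_one, Fintype.card_fin] at h
    rcases (three_cases hq μ).1 with e | e | e
    · exact absurd e hμ
    · exact e
    · rcases (three_cases hq A.det).1 with e' | e' | e' <;> rw [e, e'] at h <;> exfalso
      · exact one_ne_zero (show (1 : F) = 0 by linear_combination h)
      all_goals exact h2 (by linear_combination h)
  intro i
  have h := congrFun (congrFun hAA i) i
  rw [Matrix.mul_apply] at h
  simp only [Fin.sum_univ_three, Matrix.transpose_apply, A, Matrix.of_apply, Matrix.smul_apply, smul_eq_mul,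
    Matrix.one_apply_eq, mul_one, hμ1] at h
  rw [← hc, Fin.sum_univ_three]
  have hsq : ∀ x : F, x = 0 ∨ x * x = 1 := fun x => by
    rcases (three_cases hq x).1 with e | e | e <;> simp [e]
  rcases hsq (c i 0) with e0 | e0 <;> rcases hsq (c i 1) with e1 | e1 <;> rcases hsq (c i 2) with e2 | e2
  all_goals first
    | (refine ⟨0, c i 0, ?_⟩; simp [e1, e2]; done)
    | (refine ⟨1, c i 1, ?_⟩; simp [e0, e2]; done)
    | (refine ⟨2, c i 2, ?_⟩; simp [e0, e1]; done)
    | (exfalso; simp only [e0, e1, e2, mul_zero, zero_add, add_zero] at h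
       first
         | exact zero_ne_one h
         | exact one_ne_zero (show (1 : F) = 0 by linear_combination h)
         | exact one_ne_zero (show (1 : F) = 0 by linear_combination h3 - h)
         | exact h2 (by linear_combination h + h3))

/-- An orthonormal basis of a two-dimensional unitary space over four elements. -/
theorem exists_orth2 [Fintype F] (hq : Fintype.card F = 4) {g : (Fin 2 → F) → (Fin 2 → F) → F}
    (hg : Cfsg.Geo.IsUnitaryFormPow 2 g) :
    (∀ x : F, x = 0 ∨ x * x ^ 2 = 1) ∧ (∀ x v w, g x (v + w) = g x v + g x w) ∧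
      (∀ (c : F) v x, g v (c • x) = c ^ 2 * g v x) ∧
      ∃ v : Fin 2 → Fin 2 → F, ∀ i j, g (v i) (v j) = if i = j then 1 else 0 := by
  classical
  haveI : CharP F 2 := by
    obtain ⟨p, hp⟩ := CharP.exists F
    obtain ⟨n, hn, hc⟩ := FiniteField.card F p
    have : p = 2 := by
      have h1 : p ∣ 2 ^ 2 := by rw [show (2 : ℕ) ^ 2 = Fintype.card F by rw [hq]; norm_num, hc]; exact dvd_pow_self p n.ne_zero
      exact (Nat.prime_dvd_prime_iff_eq hn Nat.prime_two).1 (hn.dvd_of_dvd_pow h1)
    exact this ▸ hp
  have hN : ∀ x : F, x = 0 ∨ x * x ^ 2 = 1 := fun x => by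
    refine or_iff_not_imp_left.2 fun hx => ?_
    have := FiniteField.pow_card_sub_one_eq_one x hx
    rw [hq] at this
    linear_combination this
  have haddr : ∀ x v w, g x (v + w) = g x v + g x w := fun x v w => by
    rw [hg.herm x (v + w), hg.add_left, add_pow_char, ← hg.herm, ← hg.herm]
  have hsmulr : ∀ (c : F) v x, g v (c • x) = c ^ 2 * g v x := fun c v x => by
    rw [hg.herm v (c • x), hg.smul_left, mul_pow, ← hg.herm]
  refine ⟨hN, haddr, hsmulr, ?_⟩
  have hfix : ∀ v, g v v = 0 ∨ g v v = 1 := fun v => by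
    have h := hg.herm v v
    have : g v v * (g v v - 1) = 0 := by linear_combination -h
    exact (mul_eq_zero.1 this).imp_right sub_eq_zero.1
  obtain ⟨v, hv⟩ : ∃ v, g v v = 1 := by
    by_contra hc
    push Not at hc
    have h0 : ∀ v, g v v = 0 := fun v => (hfix v).resolve_right (hc v)
    obtain ⟨l, hl⟩ : ∃ l : F, l ^ 2 ≠ l := by
      by_contra hall
      push Not at hall
      have hcard : Fintype.card F ≤ ({0, 1} : Finset F).card := Finset.card_le_card (s := Finset.univ) fun x _ => by
        have h := hall x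
        have : x * (x - 1) = 0 := by linear_combination h
        rcases mul_eq_zero.1 this with e | e
        · simp [e]
        · simp [sub_eq_zero.1 e]
      have := Finset.card_le_two (a := (0 : F)) (b := 1)
      omega
    obtain ⟨⟨x, hx⟩, -⟩ := hg.nondegenerate (Pi.single 0 1) (by simp)
    have key : ∀ (l : F) (x y : Fin 2 → F), l * g x y + l ^ 2 * (g x y) ^ 2 = 0 := fun l x y => by
      have h := h0 (l • x + y)
      rw [hg.add_left, haddr, haddr, hsmulr, hg.smul_left, hg.smul_left, hsmulr, h0, h0, hg.herm y x] at h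
      linear_combination h
    have a := key 1 x (Pi.single 0 1)
    have b := key l x (Pi.single 0 1)
    have : (l - l ^ 2) * g x (Pi.single 0 1) = 0 := by linear_combination b - l ^ 2 * a
    exact hx ((mul_eq_zero.1 this).resolve_left (sub_ne_zero.2 (Ne.symm hl)))
  obtain ⟨u, hu⟩ : ∃ u, u ∉ F ∙ v := by
    by_contra hc
    push Not at hc
    have h1 : finrank F (⊤ : Submodule F (Fin 2 → F)) ≤ finrank F (F ∙ v) :=
      Submodule.finrank_mono fun x _ => hc x
    rw [finrank_top, Module.finrank_fin_fun] at h1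
    have h4 := finrank_span_le_card (R := F) ({v} : Set (Fin 2 → F))
    simp at h4
    omega
  set w := u + (-(g u v)) • v with hw
  have hwv : g w v = 0 := by rw [hw, hg.add_left, hg.smul_left, hv]; ring
  have hvw : g v w = 0 := by rw [hg.herm, hwv]; ring
  have hw1 : g w w = 1 := (hfix w).resolve_left fun h0 => by
    obtain ⟨⟨x, hx⟩, -⟩ := hg.nondegenerate w (fun e => hu (Submodule.mem_span_singleton.2 ⟨g u v, by
      rw [hw, neg_smul, ← sub_eq_add_neg, sub_eq_zero] at e; exact e.symm⟩))
    apply hx
    have hxs : x ∈ Submodule.span F (Set.range ![v, w]) := by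
      rw [(show LinearIndependent F ![v, w] from ?_).span_eq_top_of_card_eq_finrank (by simp)]
      · exact Submodule.mem_top
      rw [LinearIndependent.pair_iff]
      intro s t hst
      have ht : t = 0 := by
        by_contra ht
        refine hu (Submodule.mem_span_singleton.2 ⟨g u v - s / t, ?_⟩)
        have e : t⁻¹ • (s • v + t • w) = 0 := by rw [hst, smul_zero]
        rw [smul_add, smul_smul, inv_smul_smul₀ ht, hw] at e
        rw [div_eq_inv_mul]
        linear_combination (norm := module) -e
      rw [ht, zero_smul, add_zero] at hst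
      exact ⟨(smul_eq_zero.1 hst).resolve_right fun e => by
        rw [show v = (0 : F) • v by rw [zero_smul]; exact e, hg.smul_left, zero_mul] at hv
        exact zero_ne_one hv, ht⟩
    obtain ⟨c, hc⟩ := (Submodule.mem_span_range_iff_exists_fun F).1 hxs
    rw [← hc, Fin.sum_univ_two]
    simp [hg.add_left, hg.smul_left, hvw, h0]
  refine ⟨![v, w], fun i j => ?_⟩
  fin_cases i <;> fin_cases j <;> simp [hv, hw1, hwv, hvw]

/-- Isometries of the two-dimensional unitary space over four elements are monomial. -/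
theorem mono2 {g : (Fin 2 → F) → (Fin 2 → F) → F} (hadd : ∀ x y v, g (x + y) v = g x v + g y v)
    (hsmul : ∀ (c : F) x v, g (c • x) v = c * g x v) (haddr : ∀ x v w, g x (v + w) = g x v + g x w)
    (hsmulr : ∀ (c : F) v x, g v (c • x) = c ^ 2 * g v x) (hN : ∀ x : F, x = 0 ∨ x * x ^ 2 = 1)
    (h2 : (2 : F) = 0) {v : Fin 2 → Fin 2 → F} (hv : ∀ i j, g (v i) (v j) = if i = j then 1 else 0)
    {a : Matrix (Fin 2) (Fin 2) F} {μ : F} (hμ : μ ≠ 0) (ha : ∀ x y, g (a *ᵥ x) (a *ᵥ y) = μ * g x y) :
    ∀ i, ∃ j α, a *ᵥ v i = (α : F) • v j := by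
  intro i
  have hli := orth_li (τ := id) hadd hsmul one_ne_zero hv
  obtain ⟨c, hc⟩ := (Submodule.mem_span_range_iff_exists_fun F).1
    (hli.span_eq_top_of_card_eq_finrank (by simp) ▸ Submodule.mem_top : a *ᵥ v i ∈ Submodule.span F (Set.range v))
  have h := ha (v i) (v i)
  rw [← hc, hv, if_pos rfl, mul_one] at h
  simp only [Fin.sum_univ_two, hadd, haddr, hsmul, hsmulr, hv] at h
  simp at h
  rw [← hc, Fin.sum_univ_two]
  rcases hN (c 0) with e0 | e0
  · exact ⟨1, c 1, by simp [e0]⟩
  rcases hN (c 1) with e1 | e1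
  · exact ⟨0, c 0, by simp [e1]⟩
  exact absurd (show μ = 0 by linear_combination -h + e0 + e1 + h2) hμ

end CfsgLib.Classical.TensorNonMax
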