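import Cfsg.Agent.Lib.Classical.HermMatrixSimple
import Cfsg.Agent.Lib.Perm.Sharp2
import Cfsg.Agent.Lib.FrobRealize.Quaternion

/-!
# `PSU₃(2)` is `3² : Q₈`
-/

set_option autoImplicit false
set_option linter.unusedSectionVars false

open Module MulAction Matrix

namespace CfsgLib.Classical

variable {F : Type*} [Field F] {σ : F →+* F}

namespace IsHermitian

variable {V : Type*} [AddCommGroup V] [Module F V] [Finite F] [FiniteDimensional F V]
  {B : V →ₛₗ[σ] V →ₗ[F] F} (h : IsHermitian B)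
include h

theorem exists_perp_line (hN : B.SeparatingRight) (hV : finrank F V = 3) {r s : V} (hr : B r r = 0)
    (hrs : B r s = 1) : ∃ z, B r z = 0 ∧ B s z = 0 ∧ B z z ≠ 0 ∧
      ∀ x, ∃ a b c : F, x = a • r + b • s + c • z := by
  have hP := h.nondegOn_hyp hr hrs
  set P := Submodule.span F {r, s} with hPdef
  have hW := nondegOn_perp hN hP
  have hp := hP.finrank_perp
  rw [h.finrank_hyp hr hrs, hV] at hp
  obtain ⟨z, hz0, hz⟩ := finrank_eq_one_iff'.1 (show finrank F (perp B P) = 1 by omega)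
  refine ⟨z, mem_perp.1 z.2 r (Submodule.subset_span (by simp)), mem_perp.1 z.2 s (Submodule.subset_span (by simp)),
    fun e => hz0 ?_, fun x => ?_⟩
  · refine Subtype.ext (nondegOn_iff.1 hW z z.2 fun w hw => ?_)
    obtain ⟨c, hc⟩ := hz ⟨w, hw⟩
    rw [show w = c • (z : V) from (congrArg Subtype.val hc).symm, map_smulₛₗ, LinearMap.smul_apply, e, smul_zero]
  · obtain ⟨p, hp', w, hw, rfl⟩ := Submodule.mem_sup.1
      (hP.isCompl.sup_eq_top.symm ▸ Submodule.mem_top : x ∈ P ⊔ perp B P)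
    obtain ⟨a, b, rfl⟩ := Submodule.mem_span_pair.1 hp'
    obtain ⟨c, hc⟩ := hz ⟨w, hw⟩
    exact ⟨a, b, c, by rw [show w = c • (z : V) from (congrArg Subtype.val hc).symm]⟩

theorem not_orth (hN : B.SeparatingRight) (hV : finrank F V = 3) {u w : V} (hu : B u u = 0) (hw : B w w = 0)
    (hw0 : w ≠ 0) (hmem : u ∉ Submodule.span F {w}) : B u w ≠ 0 := by
  intro huw
  obtain ⟨u', hu', huu', hwu'⟩ := h.exists_partner_orth hN hu huw hmem
  obtain ⟨z, hz1, hz2, hz, hsp⟩ := h.exists_perp_line hN hV hu huu'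
  obtain ⟨a, b, c, e⟩ := hsp w
  have hu'u : B u' u = 1 := by rw [← h.symm, huu', map_one]
  have hb : b = 0 := by
    have := congrArg (B u) e
    simpa [hu, huu', hz1, huw] using this.symm
  have ha : a = 0 := by
    have := congrArg (B u') e
    simpa [hu', hu'u, hz2, h.isRefl _ _ hwu'] using this.symm
  rw [ha, hb, zero_smul, zero_smul, zero_add, zero_add] at e
  rw [e, h.smul_self] at hw
  rcases mul_eq_zero.1 hw with hc | hc
  · rcases mul_eq_zero.1 hc with hc | hc
    · exact hw0 (by rw [e, hc, zero_smul])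
    · exact hw0 (by rw [e, ← h.conj.invol c, hc, map_zero, zero_smul])
  · exact hz hc

/-- An isometry of determinant one fixing two isotropic points is scalar. -/
theorem scalar_of_two_fixed (hN : B.SeparatingRight) (hV : finrank F V = 3)
    (hsm : ∀ a : F, a ≠ 0 → a * σ a = 1) (h3 : ∀ a : F, a ≠ 0 → a * a * a = 1)
    {g : isomGroup B} (hg : idet B g = 1) {r s : V} (hr : B r r = 0) (hs : B s s = 0) (hrs : B r s = 1)
    {a b : F} (ha : g.1 r = a • r) (hb : g.1 s = b • s) : ∀ x, g.1 x = a • x := by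
  obtain ⟨z, hz1, hz2, hz, hsp⟩ := h.exists_perp_line hN hV hr hrs
  have hr0 : r ≠ 0 := fun e => by simp [e] at hrs
  have hab : σ a * b = 1 := by
    have := g.2 r s
    simp only [ha, hb, map_smulₛₗ, LinearMap.smul_apply, smul_eq_mul, hrs, mul_one, RingHom.id_apply] at this
    linear_combination this
  have ha0 : a ≠ 0 := fun e => by simp [e] at hab
  have hba : b = a := by
    have := hsm a ha0
    linear_combination a * hab - b * this
  have hinv : σ (a⁻¹) = a := by
    rw [map_inv₀, inv_eq_of_mul_eq_one_left (hsm a ha0)]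
  obtain ⟨t, ht1, ht2, ht3, htd⟩ := h.exists_torus hN hr hs hrs (l := a⁻¹) (inv_ne_zero ha0)
  obtain ⟨c, hc⟩ : ∃ c, g.1 z = c • z := by
    obtain ⟨x, y, c, e⟩ := hsp (g.1 z)
    have hsr : B s r = 1 := by rw [← h.symm, hrs, map_one]
    have e1 := congrArg (B (g.1 r)) e
    have e2 := congrArg (B (g.1 s)) e
    rw [g.2, ha] at e1
    rw [g.2, hb] at e2
    simp [hr, hrs, hz1, map_smulₛₗ, ha0, (map_ne_zero σ).2 ha0] at e1
    simp [hs, hsr, hz2, map_smulₛₗ, hba, ha0, (map_ne_zero σ).2 ha0] at e2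
    have hy0 : y = 0 := by first | exact e1 | exact e1.symm
    have hx0 : x = 0 := by first | exact e2 | exact e2.symm
    exact ⟨c, by rw [e, hx0, hy0, zero_smul, zero_smul, zero_add, zero_add]⟩
  have hcn : c * σ c = 1 := by
    have := g.2 z z
    rw [hc, h.smul_self] at this
    exact mul_right_cancel₀ hz (by linear_combination this)
  obtain ⟨k, hk, hkd⟩ := h.exists_qr hN hz hcn
  have htg : t * g = k := Subtype.ext (LinearEquiv.ext fun x => by
    obtain ⟨p, q, w, rfl⟩ := hsp x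
    have hzr : B z r = 0 := h.isRefl _ _ hz1
    have hzs : B z s = 0 := h.isRefl _ _ hz2
    change t.1 (g.1 (p • r + q • s + w • z)) = _
    rw [hinv] at ht2
    rw [hk]
    simp only [map_add, map_smul, ha, hb, hc, hba, ht1, ht2, ht3 z hz1 hz2, hinv, hzr, hzs, smul_eq_mul]
    match_scalars <;> field_simp <;> ring)
  have hd := congrArg (idet B) htg
  rw [map_mul, htd, hkd, hg, mul_one, hinv] at hd
  have hca : c = a := by
    have h1 := h3 a ha0
    rw [← hd]
    field_simp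
    linear_combination -h1
  intro x
  obtain ⟨p, q, w, rfl⟩ := hsp x
  simp only [map_add, map_smul, ha, hb, hc, hba, hca]
  module

/-- The stabiliser of an isotropic point has exponent four modulo scalars. -/
theorem pow_36_eq_one (hN : B.SeparatingRight) (hV : finrank F V = 3) (h2 : (2 : F) = 0)
    (hsm : ∀ a : F, a ≠ 0 → a * σ a = 1) (h3 : ∀ a : F, a ≠ 0 → a * a * a = 1)
    (g : isomGroup B) {r : V} (hr0 : r ≠ 0) (hr : B r r = 0) {a : F} (ha : g.1 r = a • r) : g ^ 36 = 1 := by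
  obtain ⟨s, -, hs, hrs⟩ := h.exists_partner (nondegOn_iff.2 fun y _ hy => hN y fun w => hy w trivial :
    NondegOn B (⊤ : Submodule F V)) trivial hr0 hr
  obtain ⟨z, hz1, hz2, hz, hsp⟩ := h.exists_perp_line hN hV hr hrs
  have ha0 : a ≠ 0 := fun e => hr0 (g.1.injective (by rw [ha, e, zero_smul, map_zero]))
  have hu : ∃ u : isomGroup B, u = g ^ 3 ∧ u.1 r = r := ⟨g ^ 3, rfl, by
    rw [pow_three]
    change g.1 (g.1 (g.1 r)) = r
    rw [ha, map_smul, ha, map_smul, map_smul, ha, smul_smul, smul_smul, h3 a ha0, one_smul]⟩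
  obtain ⟨u, hug, hur⟩ := hu
  have hbr : ∀ x, B r (u.1 x) = B r x := fun x => by
    conv_lhs => rw [← hur, u.2]
  obtain ⟨d, b, c, hc⟩ := hsp (u.1 z)
  have hb : b = 0 := by
    have := congrArg (B r) hc
    rw [hbr] at this
    simpa [hr, hrs, hz1] using this.symm
  rw [hb, zero_smul, add_zero] at hc
  have hc0 : c ≠ 0 := fun e => hz (by
    rw [← u.2 z z, hc, e]; simp [hr, map_smulₛₗ])
  have hu3z : ∃ d' : F, (u ^ 3).1 z = d' • r + z := by
    refine ⟨d + c * d + c * c * d, ?_⟩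
    rw [pow_three]
    change u.1 (u.1 (u.1 z)) = _
    simp only [hc, map_add, map_smul, hur, smul_add, smul_smul]
    rw [h3 c hc0, one_smul]
    module
  have hvr : (u ^ 3).1 r = r := by
    rw [pow_three]
    change u.1 (u.1 (u.1 r)) = r
    rw [hur, hur, hur]
  obtain ⟨d', hd'⟩ := hu3z
  set v := u ^ 3 with hv
  obtain ⟨f, b', e, he⟩ := hsp (v.1 s)
  have hb' : b' = 1 := by
    have := congrArg (B r) he
    conv_lhs at this => rw [← hvr, v.2]
    simpa [hr, hrs, hz1] using this.symm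
  rw [hb', one_smul] at he
  have h4 : v ^ 4 = 1 := Subtype.ext (LinearEquiv.ext fun x => by
    obtain ⟨p, q, w, rfl⟩ := hsp x
    rw [show v ^ 4 = v * v * (v * v) from (pow_mul v 2 2).trans (by rw [pow_two, pow_two])]
    change v.1 (v.1 (v.1 (v.1 _))) = p • r + q • s + w • z
    simp only [map_add, map_smul, hvr, hd', he, smul_add, smul_smul]
    match_scalars
    · linear_combination (2 * q * f + 3 * q * e * d' + 2 * w * d') * h2
    · ring
    · linear_combination (2 * q * e) * h2)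
  rw [hv, hug, ← pow_mul, ← pow_mul] at h4
  exact h4

end IsHermitian

theorem psu32_structure {F : Type*} [Field F] [Fintype F] (hF : Fintype.card F = 4) :
    Nat.card (Cfsg.PSU 3 F 2) = 72 ∧ Group.IsSolvable (Cfsg.PSU 3 F 2) ∧
    ∃ (N : Subgroup (Cfsg.PSU 3 F 2)) (_ : N.Normal), Nat.card N = 9 ∧ (∀ x ∈ N, x ^ 3 = 1) ∧
      Nonempty (Cfsg.PSU 3 F 2 ⧸ N ≃* QuaternionGroup 2) := by
  classical
  have hF' : Fintype.card F = 2 ^ 2 := hF
  obtain ⟨σ, hσ, hc⟩ := exists_frob hF'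
  set B := stdHerm σ 3 with hBdef
  have h := stdHerm_isHermitian hc 3
  have hN := stdHerm_sepRight (σ := σ) 3
  have hV : finrank F (Fin 3 → F) = 3 := Module.finrank_fin_fun F
  have h3 : ∀ a : F, a ≠ 0 → a * a * a = 1 := fun a ha => by
    have h := FiniteField.pow_card_sub_one_eq_one a ha
    rw [hF] at h
    linear_combination h
  have hsm : ∀ a : F, a ≠ 0 → a * σ a = 1 := fun a ha => by
    rw [hσ]; linear_combination h3 a ha
  have hchar : (2 : F) = 0 := by
    have h4 : (Fintype.card F : F) = 0 := Nat.cast_card_eq_zero F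
    rw [hF] at h4
    exact pow_eq_zero_iff two_ne_zero |>.1 (show (2 : F) ^ 2 = 0 by rw [← h4]; norm_num)
  -- the action
  let φ : Cfsg.SU 3 F 2 →* Equiv.Perm (IsoPts B) :=
    (MulAction.toPermHom (sIsom B) (IsoPts B)).comp (suEquiv hσ).toMonoidHom
  have hφ : ∀ A p, φ A p = suEquiv hσ A • p := fun A p => rfl
  have hdist : ∀ {u w : Fin 3 → F} {hu : u ≠ 0} {hw : w ≠ 0} {hu0 : B u u = 0} {hw0 : B w w = 0},
      isoPt B hu hu0 ≠ isoPt B hw hw0 → B u w ≠ 0 := by
    intro u w hu hw hu0 hw0 hne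
    refine h.not_orth hN hV hu0 hw0 hw fun hm => hne (Subtype.ext ?_)
    obtain ⟨a, ha⟩ := Submodule.mem_span_singleton.1 hm
    exact (Projectivization.mk_eq_mk_iff' F u w hu hw).2 ⟨a, ha⟩
  have hline : ∀ {A : Cfsg.SU 3 F 2} {u : Fin 3 → F} {hu : u ≠ 0} {hu0 : B u u = 0},
      φ A (isoPt B hu hu0) = isoPt B hu hu0 → ∃ l : F, (suEquiv hσ A).1.1 u = l • u := by
    intro A u hu hu0 e
    have := congrArg Subtype.val ((hφ A _).symm.trans e)
    change suEquiv hσ A • Projectivization.mk F u hu = Projectivization.mk F u hu at this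
    rw [sIsom_smul_mk] at this
    obtain ⟨l, hl⟩ := (Projectivization.mk_eq_mk_iff' _ _ _ _ _).1 this
    exact ⟨l, hl.symm⟩
  have hfree : ∀ (A : Cfsg.SU 3 F 2) (p p' : IsoPts B), p ≠ p' → φ A p = p → φ A p' = p' →
      ∃ a : F, a ≠ 0 ∧ ∀ x, (suEquiv hσ A).1.1 x = a • x := by
    intro A p p' hne hp hp'
    obtain ⟨u, hu, hu0, rfl⟩ := isoPt_surjective p
    obtain ⟨w, hw, hw0, rfl⟩ := isoPt_surjective p'
    have huw := hdist hne
    obtain ⟨a, ha⟩ := hline hp
    obtain ⟨b, hb⟩ := hline hp'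
    have hs : B ((B u w)⁻¹ • w) ((B u w)⁻¹ • w) = 0 := by rw [h.smul_self, hw0, mul_zero]
    have hus : B u ((B u w)⁻¹ • w) = 1 := by rw [map_smul, smul_eq_mul, inv_mul_cancel₀ huw]
    refine ⟨a, fun e => hu ((suEquiv hσ A).1.1.injective (by rw [ha, e, zero_smul, map_zero])),
      h.scalar_of_two_fixed hN hV hsm h3 (MonoidHom.mem_ker.1 (suEquiv hσ A).2) hu0 hs hus ha
      (b := b) ?_⟩
    rw [map_smul, hb, smul_comm]
  have hscal : ∀ (A : Cfsg.SU 3 F 2) (a : F), a ≠ 0 → (∀ x, (suEquiv hσ A).1.1 x = a • x) → φ A = 1 := by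
    intro A a ha hx
    refine Equiv.ext fun p => ?_
    obtain ⟨u, hu, hu0, rfl⟩ := isoPt_surjective p
    rw [hφ, smul_isoPt_eq _ hu hu0 hu hu0 (hx u)]
    rfl
  -- two points
  obtain ⟨r, hr0, hr⟩ : ∃ r : Fin 3 → F, r ≠ 0 ∧ B r r = 0 :=
    ⟨![1, 1, 0], fun e => one_ne_zero (congrFun e 0), by
      rw [hBdef, stdHerm_apply, Fin.sum_univ_three]; simp [hchar, one_add_one_eq_two]⟩
  obtain ⟨s, -, hs, hrs⟩ := h.exists_partner (nondegOn_iff.2 fun y _ hy => hN y fun w => hy w trivial :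
    NondegOn B (⊤ : Submodule F (Fin 3 → F))) trivial hr0 hr
  have hs0 : s ≠ 0 := fun e => by simp [e] at hrs
  have hrs' : isoPt B hr0 hr ≠ isoPt B hs0 hs := fun e => by
    obtain ⟨a, ha⟩ := (Projectivization.mk_eq_mk_iff' F r s hr0 hs0).1 (congrArg Subtype.val e)
    have := congrArg (B r) ha
    rw [map_smul, hrs, hr, smul_eq_mul, mul_one] at this
    rw [this, zero_smul] at ha
    exact hr0 ha.symm
  -- the kernel is the centre
  have hcen : Nat.card (Subgroup.center (Cfsg.SU 3 F 2)) = 3 := card_center_SU hF' (by norm_num)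
  have hker : φ.ker = Subgroup.center (Cfsg.SU 3 F 2) := by
    refine Subgroup.eq_of_le_of_card_ge (fun A hA => ?_) ?_
    · obtain ⟨a, -, ha⟩ := hfree A _ _ hrs' (by rw [MonoidHom.mem_ker.1 hA]; rfl)
        (by rw [MonoidHom.mem_ker.1 hA]; rfl)
      refine Subgroup.mem_center_iff.2 fun C => (suEquiv hσ).injective (Subtype.ext (Subtype.ext
        (LinearEquiv.ext fun x => ?_)))
      rw [map_mul, map_mul]
      change (suEquiv hσ C).1.1 ((suEquiv hσ A).1.1 x) = (suEquiv hσ A).1.1 ((suEquiv hσ C).1.1 x)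
      rw [ha, ha, map_smul]
    · rw [hcen]
      let f : Fˣ → φ.ker := fun a => ⟨⟨⟨(a : F) • (1 : Matrix (Fin 3) (Fin 3) F), by
          rw [det_smul, det_one, Fintype.card_fin, mul_one]; linear_combination h3 a a.ne_zero⟩, fun u v => by
            change Cfsg.hermForm 3 F 2 (((a : F) • (1 : Matrix (Fin 3) (Fin 3) F)) *ᵥ u) _ = _
            rw [hermForm_eq_stdHerm hσ, hermForm_eq_stdHerm hσ]
            change B (((a : F) • (1 : Matrix (Fin 3) (Fin 3) F)) *ᵥ v) (((a : F) • (1 : Matrix (Fin 3) (Fin 3) F)) *ᵥ u) = _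
            simp only [smul_mulVec, one_mulVec, map_smul, map_smulₛₗ, LinearMap.smul_apply, smul_eq_mul]
            linear_combination (B v u) * hsm a a.ne_zero⟩,
        MonoidHom.mem_ker.2 (hscal _ a a.ne_zero fun x => by
          rw [suEquiv_apply]; change ((a : F) • (1 : Matrix (Fin 3) (Fin 3) F)) *ᵥ x = _
          rw [smul_mulVec, one_mulVec])⟩
      have hf : Function.Injective f := fun a b e => by
        have := congrArg (fun A : φ.ker => (A.1.1 : Matrix (Fin 3) (Fin 3) F) 0 0) e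
        exact Units.ext (by simpa [f] using this)
      calc 3 = Nat.card Fˣ := by rw [Nat.card_units, Nat.card_eq_fintype_card, hF]
        _ ≤ _ := Nat.card_le_card_of_injective f hf
  let e : Cfsg.PSU 3 F 2 ≃* φ.range :=
    (QuotientGroup.quotientMulEquivOfEq hker.symm).trans (QuotientGroup.quotientKerEquivRange φ)
  set G := φ.range with hG
  have hG72 : Nat.card G = 72 := by
    have h1 := Subgroup.card_eq_card_quotient_mul_card_subgroup φ.ker
    rw [Nat.card_congr (QuotientGroup.quotientKerEquivRange φ).toEquiv, hker, hcen] at h1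
    have h2 := card_SU_mul (F := F) hF' (show 1 ≤ 3 by norm_num)
    rw [card_GU hF' 3] at h2
    simp [Finset.prod_range_succ, Nat.even_iff] at h2
    change Nat.card φ.range = 72
    rw [Nat.card_eq_fintype_card (α := Cfsg.SU 3 F 2)] at h1
    omega
  -- doubly transitive, sharply
  have h2t : IsMultiplyPretransitive G (IsoPts B) 2 := by
    rw [is_two_pretransitive_iff]
    intro p p' q q' hp hq
    obtain ⟨u, hu, hu0, rfl⟩ := isoPt_surjective q
    have := h.isoPts_pretransitive hN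
    obtain ⟨g, hg⟩ := exists_smul_eq (sIsom B) p (isoPt B hu hu0)
    have hne : g • p' ≠ isoPt B hu hu0 := fun e => hp ((smul_left_cancel g (hg.trans e.symm)))
    obtain ⟨w, hw, hw0, hwe⟩ := isoPt_surjective (g • p')
    obtain ⟨z, hz, hz0, rfl⟩ := isoPt_surjective q'
    obtain ⟨k, a, b, hk1, hk2⟩ := h.move_nonorth hN hu0 hw0 hz0 (hdist (by rw [← hwe]; exact hne.symm))
      (hdist hq)
    refine ⟨⟨φ ((suEquiv hσ).symm (k * g)), ⟨_, rfl⟩⟩, ?_, ?_⟩
    · change φ _ p = _
      rw [hφ, MulEquiv.apply_symm_apply, mul_smul, hg, smul_isoPt_eq k hu hu0 hu hu0 hk1]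
    · change φ _ p' = _
      rw [hφ, MulEquiv.apply_symm_apply, mul_smul, hwe, smul_isoPt_eq k hw hw0 hz hz0 hk2]
  have hG1 : ∀ (g : G) (a b : IsoPts B), a ≠ b → g • a = a → g • b = b → g = 1 := by
    rintro ⟨_, A, rfl⟩ a b hab ha hb
    obtain ⟨l, hl0, hl⟩ := hfree A a b hab ha hb
    exact Subtype.ext (hscal A l hl0 hl)
  have : Nontrivial (IsoPts B) := ⟨⟨_, _, hrs'⟩⟩
  have : Finite (IsoPts B) := inferInstance
  obtain ⟨p, j, K, hp, hj, hn, hK, hKc, hKp, hKt, hKs, hKiff, hKcard, hGcard⟩ :=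
    CfsgLib.Perm.Sharp2.structure_thm h2t hG1 Finite.one_lt_card
  have hn9 : Nat.card (IsoPts B) = 9 := by
    rw [hG72] at hGcard
    have : Nat.card (IsoPts B) ≤ 72 := Nat.le_of_dvd (by norm_num) (hGcard ▸ Dvd.intro _ rfl)
    generalize Nat.card (IsoPts B) = n at hGcard this ⊢
    interval_cases n <;> omega
  rw [hn9] at hn hKcard
  obtain rfl : p = 3 := by
    have h1 : p ∣ 3 ^ 2 := by rw [show (3 : ℕ) ^ 2 = 9 by norm_num, hn]; exact dvd_pow_self p (by omega)
    exact (Nat.prime_dvd_prime_iff_eq hp Nat.prime_three).1 (hp.dvd_of_dvd_pow h1)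
  -- the point stabiliser
  set p₀ := isoPt B hr0 hr
  set P := MulAction.stabilizer G p₀ with hP
  have hdisj : K ⊓ P = ⊥ := by
    rw [eq_bot_iff]
    intro x hx
    obtain ⟨hxK, hxP⟩ := Subgroup.mem_inf.1 hx
    have : (⟨x, hxK⟩ : K) ∈ stabilizer K p₀ := hxP
    rw [hKs, Subgroup.mem_bot] at this
    exact congrArg Subtype.val this
  have hP8 : Nat.card P = 8 := by
    have := isPretransitive_of_is_two_pretransitive (h2 := h2t)
    have h1 := P.card_mul_index
    rw [hP] at h1 ⊢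
    rw [index_stabilizer_of_transitive, hn9, hG72] at h1
    omega
  -- unique involution
  have hinv : ∀ x ∈ P, x * x = 1 → x ≠ 1 → ∀ k ∈ K, x * k * x⁻¹ = k⁻¹ := by
    intro x hxP hx2 hx1 k hk
    have hm : k * (x * k * x⁻¹) ∈ K := K.mul_mem hk (hK.conj_mem k hk x)
    have hxi : x⁻¹ = x := inv_eq_of_mul_eq_one_right hx2
    have hcomm : x * (k * (x * k * x⁻¹)) * x⁻¹ = k * (x * k * x⁻¹) := by
      have e := congrArg Subtype.val (hKc.is_comm.comm (⟨_, hk⟩ : K) ⟨_, hK.conj_mem k hk x⟩)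
      change k * (x * k * x⁻¹) = x * k * x⁻¹ * k at e
      calc x * (k * (x * k * x⁻¹)) * x⁻¹ = x * k * x⁻¹ * (x * x * k * (x * x)⁻¹) := by group
        _ = x * k * x⁻¹ * k := by rw [hx2, one_mul, inv_one, mul_one]
        _ = _ := e.symm
    have hfix : (k * (x * k * x⁻¹)) • p₀ = p₀ := by
      by_contra hne
      refine hx1 (hG1 x p₀ _ (Ne.symm hne) hxP ?_)
      have hxp : x⁻¹ • p₀ = p₀ := inv_smul_eq_iff.2 (show p₀ = x • p₀ from hxP.symm)
      calc x • (k * (x * k * x⁻¹)) • p₀ = x • (k * (x * k * x⁻¹)) • x⁻¹ • p₀ := by rw [hxp]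
        _ = _ := by rw [smul_smul, smul_smul, hcomm]
    have h1 : k * (x * k * x⁻¹) ∈ K ⊓ P := Subgroup.mem_inf.2 ⟨hm, hfix⟩
    rw [hdisj, Subgroup.mem_bot] at h1
    exact (eq_inv_of_mul_eq_one_right h1)
  have huniq : ∀ x y : P, x ^ 2 = 1 → y ^ 2 = 1 → x ≠ 1 → y ≠ 1 → x = y := by
    intro x y hx hy hx1 hy1
    have ex := hinv x.1 x.2 (by rw [← pow_two]; exact congrArg Subtype.val hx) (fun e => hx1 (Subtype.ext e))
    have ey := hinv y.1 y.2 (by rw [← pow_two]; exact congrArg Subtype.val hy) (fun e => hy1 (Subtype.ext e))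
    by_contra hne
    have : Nontrivial K := Finite.one_lt_card_iff_nontrivial.1 (by omega)
    obtain ⟨k, hk1⟩ := exists_ne (1 : K)
    have hcomm : (x.1 * y.1) * k.1 * (x.1 * y.1)⁻¹ = k.1 := by
      calc _ = x.1 * (y.1 * k.1 * y.1⁻¹) * x.1⁻¹ := by group
        _ = k.1 := by rw [ey _ k.2, ex _ (K.inv_mem k.2), inv_inv]
    have hxy : (x * y : P) ≠ 1 := fun e => hne (by
      have := eq_inv_of_mul_eq_one_left e
      rw [this]
      exact inv_eq_of_mul_eq_one_right (by rwa [← pow_two]))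
    refine hxy (Subtype.ext (hG1 (x.1 * y.1) p₀ (k.1 • p₀) (fun e => hk1 ?_) (P.mul_mem x.2 y.2) ?_))
    · exact Subtype.ext ((Subgroup.mem_bot).1 (hdisj ▸ Subgroup.mem_inf.2 ⟨k.2, e.symm⟩))
    · have hz : (x.1 * y.1)⁻¹ • p₀ = p₀ := inv_smul_eq_iff.2 (show p₀ = _ • p₀ from (P.mul_mem x.2 y.2).symm)
      conv_rhs => rw [← hcomm, mul_smul, hz]
      rw [mul_smul (x.1 * y.1) k.1]
  have hfew : Nat.card {x : P // x ^ 2 = 1} ≤ 2 := by
    by_cases hex : ∃ t : P, t ^ 2 = 1 ∧ t ≠ 1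
    · obtain ⟨t, ht, ht1⟩ := hex
      change Nat.card {x : P | x ^ 2 = 1} ≤ 2
      rw [Nat.card_coe_set_eq]
      refine le_trans (Set.ncard_le_ncard (t := {1, t}) fun x hx => ?_) (Set.ncard_pair ht1.symm).le
      by_cases hx1 : x = 1
      · exact Or.inl hx1
      · exact Or.inr (huniq x t hx ht hx1 ht1)
    · push_neg at hex
      have : Subsingleton {x : P // x ^ 2 = 1} := ⟨fun a b => Subtype.ext ((hex a a.2).trans (hex b b.2).symm)⟩
      exact (Finite.card_le_one_iff_subsingleton.2 this).trans (by norm_num)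
  have hexp : ∀ x : P, x ^ 4 = 1 := by
    intro x
    obtain ⟨A, hA⟩ := x.1.2
    have hfixA : φ A p₀ = p₀ := by rw [hA]; exact x.2
    obtain ⟨a, ha⟩ := hline hfixA
    have h36 := h.pow_36_eq_one hN hV hchar hsm h3 _ hr0 hr ha
    have h36' : A ^ 36 = 1 := (suEquiv hσ).injective (Subtype.ext (by rw [map_pow, map_one]; exact h36))
    have hx36 : x ^ 36 = 1 := Subtype.ext (Subtype.ext (by
      change (x.1.1) ^ 36 = 1
      rw [← hA, ← map_pow, h36', map_one]))
    have h8 : x ^ 8 = 1 := hP8 ▸ pow_card_eq_one'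
    calc x ^ 4 = x ^ 36 * ((x ^ 8) ^ 4)⁻¹ := by group
      _ = 1 := by rw [hx36, h8, one_pow, inv_one, mul_one]
  have hPp : IsPGroup 2 P := IsPGroup.of_card (n := 3) (by rw [hP8]; norm_num)
  have : Fact (Nat.Prime 2) := ⟨Nat.prime_two⟩
  have hQ : Nonempty (P ≃* QuaternionGroup 2) := by
    rcases CfsgLib.FrobRealize.Quaternion.cyclic_or_quaternion hPp hfew with hcyc | ⟨-, n, ⟨eq⟩⟩
    · obtain ⟨g, hg⟩ := IsCyclic.exists_ofOrder_eq_natCard (α := P)
      rw [hP8] at hg
      have := Nat.le_of_dvd (by norm_num) (orderOf_dvd_of_pow_eq_one (hexp g))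
      omega
    · have hc := Nat.card_congr eq.toEquiv
      rw [hP8, Nat.card_eq_fintype_card, QuaternionGroup.card] at hc
      have h2n : (2 : ℕ) ^ n = 2 := by omega
      rw [h2n] at eq
      exact ⟨eq⟩
  -- the quotient
  let ψ : P →* G ⧸ K := (QuotientGroup.mk' K).comp P.subtype
  have hψ : Function.Bijective ψ := by
    have hinj : Function.Injective ψ := (injective_iff_map_eq_one ψ).2 fun x hx =>
      Subtype.ext ((Subgroup.mem_bot).1 (hdisj ▸ Subgroup.mem_inf.2 ⟨(QuotientGroup.eq_one_iff x.1).1 hx, x.2⟩))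
    refine (Nat.bijective_iff_injective_and_card ψ).2 ⟨hinj, ?_⟩
    have h1 := K.card_mul_index
    rw [hKcard, hG72] at h1
    rw [hP8, ← Subgroup.index_eq_card]
    omega
  obtain ⟨eQ⟩ := hQ
  let eG : G ⧸ K ≃* QuaternionGroup 2 := (MulEquiv.ofBijective ψ hψ).symm.trans eQ
  refine ⟨by rw [Nat.card_congr e.toEquiv, hG72], ?_, K.comap e.toMonoidHom, inferInstance, ?_, ?_, ?_⟩
  · have hKsol : Group.IsSolvable K := by
      have := hKc
      exact Group.isSolvable_of_comm fun a b => this.is_comm.comm a b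
    have hQsol : Group.IsSolvable (G ⧸ K) := by
      have : Group.IsNilpotent (G ⧸ K) := (hPp.of_equiv (MulEquiv.ofBijective ψ hψ)).isNilpotent
      infer_instance
    have hGsol : Group.IsSolvable G := Group.isSolvable_of_ker_le_range K.subtype (QuotientGroup.mk' K)
      (by rw [QuotientGroup.ker_mk', Subgroup.range_subtype])
    exact Group.isSolvable_of_surjective (f := e.symm.toMonoidHom) e.symm.surjective
  · exact (Nat.card_congr (e.toEquiv.subtypeEquiv fun _ => Iff.rfl)).trans hKcard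
  · intro x hx
    exact e.injective (by rw [map_pow, map_one]; exact hKp _ hx)
  · refine ⟨(QuotientGroup.congr _ _ e ?_).trans eG⟩
    exact Subgroup.map_comap_eq_self_of_surjective e.surjective K

end CfsgLib.Classical
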