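import Cfsg.Agent.Lib.Classical.SympBasic

/-!
# The order of the isometry group of a non-degenerate alternating form over a finite field
-/

set_option autoImplicit false
set_option linter.unusedSectionVars false

open Module

namespace CfsgLib.Classical

variable {F : Type*} [Field F] [Fintype F] {V : Type*} [AddCommGroup V] [Module F V]
  [FiniteDimensional F V] {B : V →ₗ[F] V →ₗ[F] F}

theorem card_linearMap_fibre (f : V →ₗ[F] F) (hf : f ≠ 0) (a : F) :
    Nat.card {v : V // f v = a} = Fintype.card F ^ (finrank F V - 1) := by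
  obtain ⟨v₀, hv₀⟩ : ∃ v, f v ≠ 0 := by
    by_contra h
    push Not at h
    exact hf (LinearMap.ext h)
  let v₁ : V := (a / f v₀) • v₀
  have hv₁ : f v₁ = a := by simp [v₁, hv₀]
  have e : {v : V // f v = a} ≃ LinearMap.ker f :=
    { toFun := fun v => ⟨v.1 - v₁, by simp [v.2, hv₁]⟩
      invFun := fun k => ⟨k.1 + v₁, by simp [hv₁]⟩
      left_inv := fun v => by simp
      right_inv := fun k => by simp }
  rw [Nat.card_congr e, Module.natCard_eq_pow_finrank (K := F), Nat.card_eq_fintype_card]
  congr 1
  have h := LinearMap.finrank_range_add_finrank_ker f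
  have hr : LinearMap.range f = ⊤ := by
    rw [LinearMap.range_eq_top]
    exact LinearMap.surjective hf
  rw [hr, finrank_top, Module.finrank_self] at h
  omega

theorem card_hypPairs (hN : B.SeparatingLeft) :
    Nat.card {p : V × V // B p.1 p.2 = 1} =
      (Fintype.card F ^ finrank F V - 1) * Fintype.card F ^ (finrank F V - 1) := by
  have : Finite V := Module.finite_of_finite F
  classical
  have : Fintype V := Fintype.ofFinite V
  let e : {p : V × V // B p.1 p.2 = 1} ≃ Σ u : {u : V // u ≠ 0}, {v : V // B u.1 v = 1} :=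
    { toFun := fun p => ⟨⟨p.1.1, fun h => by simpa [h] using p.2⟩, ⟨p.1.2, p.2⟩⟩
      invFun := fun s => ⟨(s.1.1, s.2.1), s.2.2⟩
      left_inv := fun _ => rfl
      right_inv := fun _ => rfl }
  rw [Nat.card_congr e, Nat.card_sigma]
  have h1 : ∀ u : {u : V // u ≠ 0}, Nat.card {v : V // B u.1 v = 1} =
      Fintype.card F ^ (finrank F V - 1) := fun u =>
    card_linearMap_fibre (B u.1) (fun h => u.2 (hN _ (fun w => by rw [h]; rfl))) 1
  rw [Finset.sum_congr rfl fun u _ => h1 u, Finset.sum_const, smul_eq_mul, Finset.card_univ]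
  congr 1
  rw [← Module.card_eq_pow_finrank (K := F) (V := V), Fintype.card_subtype_compl]
  simp

/-- The action of the isometry group on pairs. -/
theorem card_isom_step (hA : B.IsAlt) (hN : B.Nondegenerate) {u v : V} (h : B u v = 1) :
    Nat.card (isomGroup B) = (Fintype.card F ^ finrank F V - 1) *
      Fintype.card F ^ (finrank F V - 1) *
      Nat.card (isomGroup (restrictForm B (perp B (Submodule.span F ({u, v} : Set V))))) := by
  have : Finite V := Module.finite_of_finite F
  have hW := nondegOn_pair hA h
  set R := (perpIncl hA hW).range with hR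
  have hfix : ∀ g : isomGroup B, g ∈ R ↔ g.1 u = u ∧ g.1 v = v := by
    intro g
    rw [hR, mem_range_perpIncl hA hW]
    refine ⟨fun hg => ⟨hg _ (Submodule.subset_span (Set.mem_insert _ _)),
      hg _ (Submodule.subset_span (Set.mem_insert_of_mem _ rfl))⟩, fun hg w hw => ?_⟩
    obtain ⟨a, b, rfl⟩ := Submodule.mem_span_pair.1 hw
    simp only [map_add, map_smul, hg.1, hg.2]
  let f : isomGroup B ⧸ R → {p : V × V // B p.1 p.2 = 1} :=
    Quotient.lift (fun g : isomGroup B => ⟨(g.1 u, g.1 v), by rw [g.2, h]⟩) fun a b hab => by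
      have hab' : a⁻¹ * b ∈ R := QuotientGroup.leftRel_apply.1 hab
      obtain ⟨h1, h2⟩ := (hfix _).1 hab'
      have e : ∀ x, a.1 ((a⁻¹ * b).1 x) = b.1 x := fun x => a.1.apply_symm_apply (b.1 x)
      apply Subtype.ext
      rw [Prod.mk.injEq, ← e u, h1, ← e v, h2]
      exact ⟨rfl, rfl⟩
  have hf : Function.Bijective f := by
    constructor
    · intro x y
      induction x using QuotientGroup.induction_on with | H a => ?_
      induction y using QuotientGroup.induction_on with | H b => ?_
      intro hab
      have hu := congrArg (fun p : {p : V × V // B p.1 p.2 = 1} => p.1.1) hab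
      have hv := congrArg (fun p : {p : V × V // B p.1 p.2 = 1} => p.1.2) hab
      rw [QuotientGroup.eq, hfix]
      constructor
      · change a.1.symm (b.1 u) = u
        rw [show b.1 u = a.1 u from hu.symm, LinearEquiv.symm_apply_apply]
      · change a.1.symm (b.1 v) = v
        rw [show b.1 v = a.1 v from hv.symm, LinearEquiv.symm_apply_apply]
    · rintro ⟨⟨u', v'⟩, hp⟩
      obtain ⟨t, _, h1, h2⟩ := tv_transitive_pairs hA hN.1 h hp
      exact ⟨QuotientGroup.mk t, Subtype.ext (Prod.ext h1 h2)⟩
  rw [Subgroup.card_eq_card_quotient_mul_card_subgroup R, Nat.card_congr (Equiv.ofBijective f hf),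
    card_hypPairs hN.1, hR, ← Nat.card_congr (MonoidHom.ofInjective (perpIncl_injective hA hW)).toEquiv]

/-- `|Sp_{2m}(q)| = q^{m²} ∏ (q^{2i} - 1)`. -/
theorem card_isom_alt (hA : B.IsAlt) (hN : B.Nondegenerate) (m : ℕ) (hm : finrank F V = 2 * m) :
    Nat.card (isomGroup B) =
      Fintype.card F ^ (m ^ 2) * ∏ i ∈ Finset.range m, (Fintype.card F ^ (2 * (i + 1)) - 1) := by
  induction m generalizing V with
  | zero =>
    have : Subsingleton V := Module.finrank_zero_iff.1 (by simpa using hm)
    have : Subsingleton (isomGroup B) :=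
      ⟨fun a b => Subtype.ext (LinearEquiv.ext fun x => Subsingleton.elim _ _)⟩
    simp [Nat.card_unique]
  | succ m ih =>
    obtain ⟨u, hu⟩ : ∃ u : V, u ≠ 0 := by
      by_contra h
      push Not at h
      have : Subsingleton V := ⟨fun x y => (h x).trans (h y).symm⟩
      rw [Module.finrank_zero_of_subsingleton] at hm
      omega
    obtain ⟨v, huv⟩ := alt_exists_partner hN.1 hu
    have hW := nondegOn_pair hA huv
    have hd := finrank_perp_pair_lt hA huv
    rw [card_isom_step hA hN huv, ih (restrictForm_isAlt hA _)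
      (restrictForm_nondegenerate hA.isRefl (nondegOn_perp hN.2 hW)) (by omega), hm,
      Finset.prod_range_succ, show 2 * (m + 1) - 1 = 2 * m + 1 by omega,
      show (m + 1) ^ 2 = m ^ 2 + (2 * m + 1) by ring, pow_add]
    ring

end CfsgLib.Classical
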