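import Cfsg.Prelude.Def_ClassicalGeometry
import Cfsg.Agent.Lib.Classical.SympCount

/-!
# The bridge between Mathlib's symplectic group, `Cfsg.spGL` and isometry groups of alternating forms
-/

set_option autoImplicit false
set_option linter.unusedSectionVars false

open Module Matrix

namespace CfsgLib.Classical

variable {F : Type*} [Field F] (m : ℕ)

variable (F) in
/-- `sympForm` as a bilinear map. -/
noncomputable def sympBil : (Fin m ⊕ Fin m → F) →ₗ[F] (Fin m ⊕ Fin m → F) →ₗ[F] F :=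
  Matrix.toLinearMap₂' F (Matrix.J (Fin m) F)

theorem sympBil_apply (u v : Fin m ⊕ Fin m → F) : sympBil F m u v = Cfsg.sympForm m F u v :=
  Matrix.toLinearMap₂'_apply' _ _ _

theorem sympForm_eq (u v : Fin m ⊕ Fin m → F) :
    Cfsg.sympForm m F u v =
      ∑ i, (u (.inr i) * v (.inl i) - u (.inl i) * v (.inr i)) := by
  simp [Cfsg.sympForm, Matrix.J, Matrix.fromBlocks_mulVec, dotProduct, Fintype.sum_sum_type,
    Matrix.neg_mulVec, Finset.sum_sub_distrib]
  ring

theorem sympBil_isAlt : (sympBil F m).IsAlt := fun v => by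
  rw [sympBil_apply, sympForm_eq]
  exact Finset.sum_eq_zero fun i _ => by ring

theorem sympForm_self (v : Fin m ⊕ Fin m → F) : Cfsg.sympForm m F v v = 0 := by
  rw [← sympBil_apply]; exact sympBil_isAlt m v

theorem sympBil_nondegenerate : (sympBil F m).Nondegenerate := by
  have h : (sympBil F m).SeparatingLeft := by
    intro x hx
    funext i
    rcases i with i | i
    · have := hx (Pi.single (.inr i) 1)
      rw [sympBil_apply, sympForm_eq] at this
      simpa [Pi.single_apply] using this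
    · have := hx (Pi.single (.inl i) 1)
      rw [sympBil_apply, sympForm_eq] at this
      simpa [Pi.single_apply] using this
  exact ⟨h, fun x hx => h x fun y => (sympBil_isAlt m).isRefl _ _ (hx y)⟩

theorem mem_symplecticGroup_iff_preserves {A : Matrix (Fin m ⊕ Fin m) (Fin m ⊕ Fin m) F} :
    A ∈ symplecticGroup (Fin m) F ↔
      ∀ u v, Cfsg.sympForm m F (A *ᵥ u) (A *ᵥ v) = Cfsg.sympForm m F u v := by
  rw [SymplecticGroup.mem_iff']
  have key : ∀ u v, Cfsg.sympForm m F (A *ᵥ u) (A *ᵥ v) =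
      u ⬝ᵥ (Aᵀ * Matrix.J (Fin m) F * A) *ᵥ v := fun u v => by
    rw [Cfsg.sympForm, ← Matrix.mulVec_mulVec, ← Matrix.mulVec_mulVec,
      Matrix.dotProduct_mulVec u Aᵀ, Matrix.vecMul_transpose]
  simp only [key]
  simp only [Cfsg.sympForm]
  refine ⟨fun h u v => by rw [h], fun h => ?_⟩
  ext i j
  simpa [Matrix.mulVec_single, dotProduct, Pi.single_apply] using h (Pi.single i 1) (Pi.single j 1)

theorem toMatrix'_mem_symplectic (g : isomGroup (sympBil F m)) :
    LinearMap.toMatrix' g.1.toLinearMap ∈ symplecticGroup (Fin m) F :=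
  (mem_symplecticGroup_iff_preserves m).2 fun u v => by
    rw [LinearMap.toMatrix'_mulVec, LinearMap.toMatrix'_mulVec, ← sympBil_apply, ← sympBil_apply]
    exact g.2 u v

theorem sp_mul_inv (A : symplecticGroup (Fin m) F) :
    A.1 * (A⁻¹ : symplecticGroup (Fin m) F).1 = 1 := congrArg Subtype.val (mul_inv_cancel A)

theorem sp_inv_mul (A : symplecticGroup (Fin m) F) :
    (A⁻¹ : symplecticGroup (Fin m) F).1 * A.1 = 1 := congrArg Subtype.val (inv_mul_cancel A)

/-- The linear equivalence of a symplectic matrix. -/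
noncomputable def spLin (A : symplecticGroup (Fin m) F) :
    (Fin m ⊕ Fin m → F) ≃ₗ[F] (Fin m ⊕ Fin m → F) :=
  LinearEquiv.ofLinearMap (Matrix.toLin' A.1) (Matrix.toLin' (A⁻¹ : symplecticGroup (Fin m) F).1)
    (by rw [← Matrix.toLin'_mul, sp_mul_inv, Matrix.toLin'_one])
    (by rw [← Matrix.toLin'_mul, sp_inv_mul, Matrix.toLin'_one])

theorem spLin_apply (A : symplecticGroup (Fin m) F) (x : Fin m ⊕ Fin m → F) :
    spLin m A x = A.1 *ᵥ x := Matrix.toLin'_apply _ _

/-- Mathlib's symplectic group is the isometry group of `sympForm`. -/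
noncomputable def spEquiv : symplecticGroup (Fin m) F ≃* isomGroup (sympBil F m) where
  toFun A := ⟨spLin m A, fun u v => by
    rw [sympBil_apply, sympBil_apply, spLin_apply, spLin_apply]
    exact (mem_symplecticGroup_iff_preserves m).1 A.2 u v⟩
  invFun g := ⟨LinearMap.toMatrix' g.1.toLinearMap, toMatrix'_mem_symplectic m g⟩
  left_inv A := by
    apply Subtype.ext
    refine Matrix.ext_of_mulVec_single fun i => ?_
    simp [LinearMap.toMatrix'_mulVec, spLin_apply, -Matrix.mulVec_single]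
  right_inv g := by
    refine Subtype.ext (LinearEquiv.ext fun x => ?_)
    simp [LinearMap.toMatrix'_mulVec, spLin_apply]
  map_mul' A B := by
    refine Subtype.ext (LinearEquiv.ext fun x => ?_)
    simp [Matrix.mulVec_mulVec, spLin_apply]

@[simp] theorem spEquiv_apply (A : symplecticGroup (Fin m) F) (x : Fin m ⊕ Fin m → F) :
    (spEquiv m A).1 x = A.1 *ᵥ x := spLin_apply m A x

theorem sympTransvection_mulVec (v : Fin m ⊕ Fin m → F) (c : F) (x : Fin m ⊕ Fin m → F) :
    Cfsg.sympTransvection m v c *ᵥ x = (tv (sympBil_isAlt m) v c).1 x := by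
  rw [tv_apply, sympBil_apply, Cfsg.sympTransvection, Matrix.add_mulVec, Matrix.one_mulVec,
    Matrix.smul_mulVec, Matrix.vecMulVec_mulVec, Cfsg.sympForm, dotProduct_comm x]
  simp [smul_smul]

theorem sympTransvection_eq (v : Fin m ⊕ Fin m → F) (c : F) :
    Cfsg.sympTransvection m v c = ((spEquiv m).symm (tv (sympBil_isAlt m) v c)).1 := by
  refine Matrix.ext_of_mulVec_single fun i => ?_
  rw [sympTransvection_mulVec, ← spEquiv_apply, MulEquiv.apply_symm_apply]

theorem sympTransvection_mem (v : Fin m ⊕ Fin m → F) (c : F) :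
    Cfsg.sympTransvection m v c ∈ symplecticGroup (Fin m) F := by
  rw [sympTransvection_eq]; exact Subtype.prop _

variable (F) in
/-- The symplectic transvections generate. -/
theorem closure_sympTransvection :
    Subgroup.closure {A : symplecticGroup (Fin m) F | ∃ (w : Fin m ⊕ Fin m → F) (c : F),
      (A : Matrix (Fin m ⊕ Fin m) (Fin m ⊕ Fin m) F) = Cfsg.sympTransvection m w c} = ⊤ := by
  rw [eq_top_iff]
  intro A _
  have h : spEquiv m A ∈ (tvGroup (sympBil_isAlt (F := F) m)) := by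
    rw [tvGroup_eq_top _ (sympBil_nondegenerate m)]; exact Subgroup.mem_top _
  have h2 := Subgroup.mem_map_of_mem ((spEquiv (F := F) m).symm.toMonoidHom) h
  rw [tvGroup, MonoidHom.map_closure] at h2
  simp only [MulEquiv.coe_toMonoidHom, MulEquiv.symm_apply_apply] at h2
  refine Subgroup.closure_mono ?_ h2
  rintro _ ⟨_, ⟨v, c, rfl⟩, rfl⟩
  exact ⟨v, c, (sympTransvection_eq m v c).symm⟩

/-- `|Sp_{2m}(q)|`. -/
theorem card_symplecticGroup [Fintype F] :
    Nat.card (symplecticGroup (Fin m) F) =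
      Fintype.card F ^ (m ^ 2) * ∏ i ∈ Finset.range m, (Fintype.card F ^ (2 * (i + 1)) - 1) := by
  rw [Nat.card_congr (spEquiv m).toEquiv]
  exact card_isom_alt (sympBil_isAlt m) (sympBil_nondegenerate m) m (by simp [two_mul])

theorem mem_spGL_iff {g : GL (Fin m ⊕ Fin m) F} :
    g ∈ Cfsg.spGL m F ↔ (g : Matrix (Fin m ⊕ Fin m) (Fin m ⊕ Fin m) F) ∈ symplecticGroup (Fin m) F :=
  (mem_symplecticGroup_iff_preserves m).symm

/-- `spGL` is Mathlib's symplectic group. -/
noncomputable def spGLEquiv : symplecticGroup (Fin m) F ≃* Cfsg.spGL m F where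
  toFun A := ⟨⟨A.1, (A⁻¹ : symplecticGroup (Fin m) F).1, congrArg Subtype.val (mul_inv_cancel A),
    congrArg Subtype.val (inv_mul_cancel A)⟩, (mem_spGL_iff m).2 A.2⟩
  invFun g := ⟨(g.1 : Matrix (Fin m ⊕ Fin m) (Fin m ⊕ Fin m) F), (mem_spGL_iff m).1 g.2⟩
  left_inv A := rfl
  right_inv g := Subtype.ext (Units.ext rfl)
  map_mul' A B := Subtype.ext (Units.ext rfl)

@[simp] theorem spGLEquiv_coe (A : symplecticGroup (Fin m) F) :
    ((spGLEquiv m A).1 : Matrix (Fin m ⊕ Fin m) (Fin m ⊕ Fin m) F) = A.1 := rfl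

theorem spGL_exists_pair {u v u' v' : Fin m ⊕ Fin m → F} (h : Cfsg.sympForm m F u v = 1)
    (h' : Cfsg.sympForm m F u' v' = 1) :
    ∃ A ∈ Subgroup.closure {A : symplecticGroup (Fin m) F | ∃ (w : Fin m ⊕ Fin m → F) (c : F),
      (A : Matrix (Fin m ⊕ Fin m) (Fin m ⊕ Fin m) F) = Cfsg.sympTransvection m w c},
      A.1 *ᵥ u = u' ∧ A.1 *ᵥ v = v' := by
  rw [← sympBil_apply] at h h'
  obtain ⟨g, _, h1, h2⟩ := tv_transitive_pairs (sympBil_isAlt m) (sympBil_nondegenerate m).1 h h'
  refine ⟨(spEquiv m).symm g, by rw [closure_sympTransvection]; exact Subgroup.mem_top _, ?_, ?_⟩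
  · rw [← spEquiv_apply, MulEquiv.apply_symm_apply, h1]
  · rw [← spEquiv_apply, MulEquiv.apply_symm_apply, h2]

theorem sp_transitive {u u' : Fin m ⊕ Fin m → F} (hu : u ≠ 0) (hu' : u' ≠ 0) :
    ∃ A : symplecticGroup (Fin m) F, A.1 *ᵥ u = u' := by
  obtain ⟨g, _, h1⟩ := tv_transitive (sympBil_isAlt m) (sympBil_nondegenerate m).1 hu hu'
  exact ⟨(spEquiv m).symm g, by rw [← spEquiv_apply, MulEquiv.apply_symm_apply, h1]⟩

theorem sp_center_eq {A : symplecticGroup (Fin m) F}
    (hA : A ∈ Subgroup.center (symplecticGroup (Fin m) F)) : A.1 = 1 ∨ A.1 = -1 := by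
  have hc : spEquiv m A ∈ Subgroup.center (isomGroup (sympBil F m)) :=
    Subgroup.mem_center_iff.2 fun g => by
      obtain ⟨B, rfl⟩ := (spEquiv m).surjective g
      rw [← map_mul, ← map_mul, Subgroup.mem_center_iff.1 hA B]
  rcases center_isom_apply (sympBil_isAlt m) (sympBil_nondegenerate m).1 hc with h | h
  · exact Or.inl <| Matrix.ext_of_mulVec_single fun i => by
      rw [← spEquiv_apply, h, Matrix.one_mulVec]
  · exact Or.inr <| Matrix.ext_of_mulVec_single fun i => by
      rw [← spEquiv_apply, h, Matrix.neg_mulVec, Matrix.one_mulVec]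

end CfsgLib.Classical
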