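import Cfsg.Prelude.Def_GeometricClasses
import Cfsg.Agent.Lib.Classical.OrthSimple

/-!
# The classical geometric classes for orthogonal groups: translation, and non-maximal stabilisers
-/

set_option autoImplicit false
set_option linter.unusedSectionVars false

open Module QuadraticMap CfsgLib.Orth Matrix

namespace CfsgLib.Classical

section Bridge

variable {F : Type*} [Field F] {ι : Type} [Fintype ι] [DecidableEq ι] {Qf : (ι → F) → F}

theorem exists_quadOf (hQ : Cfsg.Geo.IsNondegenerateQuadraticForm Qf) :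
    ∃ Q : QuadraticForm F (ι → F), (∀ v, Qf v = Q v) ∧ (QuadraticMap.polarBilin Q).Nondegenerate := by
  let Q : QuadraticForm F (ι → F) := QuadraticMap.ofPolar Qf (fun a x => by rw [hQ.smul]; simp [pow_two])
    hQ.polar_bilinear.add_left (fun a x y => by rw [hQ.polar_bilinear.smul_left]; rfl)
  refine ⟨Q, fun v => rfl, nondegenerate_of_left fun v hv => ?_⟩
  by_contra h
  obtain ⟨-, x, hx⟩ := hQ.nondegenerate v h
  exact hx (hv x)

variable (Q : QuadraticForm F (ι → F)) (hQf : ∀ v, Qf v = Q v)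

/-- The orthogonal group inside the matrix group. -/
noncomputable def orthToGL : orthGroup Q →* GL ι F :=
  (Cfsg.isometryGroup F Qf).subtype.comp (toOrth Q hQf).symm.toMonoidHom

theorem orthToGL_injective : Function.Injective (orthToGL Q hQf) :=
  (Cfsg.isometryGroup F Qf).subtype_injective.comp (toOrth Q hQf).symm.injective

theorem omegaGL_eq : Cfsg.Geo.omegaGL Qf = (commutator (orthGroup Q)).map (orthToGL Q hQf) := by
  ext g
  constructor
  · rintro ⟨x, hx, rfl⟩
    exact ⟨toOrth Q hQf x, (mem_Omega_iff Q hQf x).1 hx, by simp [orthToGL]⟩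
  · rintro ⟨y, hy, rfl⟩
    exact ⟨(toOrth Q hQf).symm y, (mem_Omega_iff Q hQf _).2 (by rw [MulEquiv.apply_symm_apply]; exact hy), rfl⟩

theorem toLin'_orthToGL (g : orthGroup Q) :
    Matrix.toLin' ((orthToGL Q hQf g : GL ι F) : Matrix ι ι F) = (g.1 : (ι → F) →ₗ[F] (ι → F)) :=
  LinearMap.ext fun v => by rw [Matrix.toLin'_apply]; exact matOf_mulVec Q g v

theorem orthToGL_mem_stab (W : Submodule F (ι → F)) (g : orthGroup Q) :
    orthToGL Q hQf g ∈ Cfsg.Geo.subspaceStabilizer W ↔ g ∈ stab (Q := Q) W := by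
  constructor
  · intro h
    refine mem_stab_of_le fun u hu => ?_
    rw [← matOf_mulVec Q g u]
    exact (h u).1 hu
  · intro h v
    show v ∈ W ↔ matOf Q g *ᵥ v ∈ W
    rw [matOf_mulVec]
    refine ⟨fun hv => (show W.map _ = W from h) ▸ ⟨v, hv, rfl⟩, fun hv => ?_⟩
    obtain ⟨x, hx, e⟩ := (show g.1 v ∈ W.map (g.1 : (ι → F) →ₗ[F] (ι → F)) from (show W.map _ = W from h).symm ▸ hv)
    exact g.1.injective e ▸ hx

theorem stab_inf_omegaGL (W : Submodule F (ι → F)) :
    Cfsg.Geo.subspaceStabilizer W ⊓ Cfsg.Geo.omegaGL Qf =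
      (stab (Q := Q) W ⊓ commutator (orthGroup Q)).map (orthToGL Q hQf) := by
  rw [omegaGL_eq Q hQf]
  ext g
  constructor
  · rintro ⟨h1, y, hy, rfl⟩
    exact ⟨y, ⟨(orthToGL_mem_stab Q hQf W y).1 h1, hy⟩, rfl⟩
  · rintro ⟨y, ⟨h1, h2⟩, rfl⟩
    exact ⟨(orthToGL_mem_stab Q hQf W y).2 h1, y, h2, rfl⟩

include hQf in
theorem exists_between_of {H' : Subgroup (GL ι F)} {H K : Subgroup (orthGroup Q)}
    (hH : H' = H.map (orthToGL Q hQf)) (h1 : H < K) (h2 : K < commutator (orthGroup Q)) :
    ∃ K' : Subgroup (GL ι F), H' < K' ∧ K' < Cfsg.Geo.omegaGL Qf := by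
  refine ⟨K.map (orthToGL Q hQf), ?_, ?_⟩
  · rw [hH]; exact Subgroup.map_lt_map_iff_of_injective (orthToGL_injective Q hQf) |>.2 h1
  · rw [omegaGL_eq Q hQf]; exact Subgroup.map_lt_map_iff_of_injective (orthToGL_injective Q hQf) |>.2 h2

end Bridge

section Lemmas

variable {F V : Type*} [Field F] [AddCommGroup V] [Module F V] [FiniteDimensional F V]
  {Q : QuadraticForm F V} (hQ : (QuadraticMap.polarBilin Q).Nondegenerate)

/-- A subgroup strictly between a stabiliser and `Ω`. -/
theorem stab_between {H : Subgroup (orthGroup Q)} {U : Submodule F V}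
    (hH : H ≤ stab (Q := Q) U ⊓ commutator (orthGroup Q)) {g k : orthGroup Q} (hg : g ∈ commutator (orthGroup Q))
    (hgU : g ∈ stab (Q := Q) U) (hgH : g ∉ H) (hk : k ∈ commutator (orthGroup Q)) {u : V} (hu : u ∈ U)
    (hku : k.1 u ∉ U) : ∃ K, H < K ∧ K < commutator (orthGroup Q) :=
  ⟨stab (Q := Q) U ⊓ commutator (orthGroup Q), lt_of_le_of_ne hH (fun e => hgH (e ▸ ⟨hgU, hg⟩)),
    lt_of_le_of_ne inf_le_right fun e => hku (by
      have : k ∈ stab (Q := Q) U := (e.symm ▸ hk : k ∈ stab (Q := Q) U ⊓ commutator (orthGroup Q)).1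
      rw [← (show U.map (k.1 : V →ₗ[F] V) = U from this)]
      exact ⟨u, hu, rfl⟩)⟩

include hQ

theorem lag_even_dist {L : Submodule F V} (hL : IsLagrangian Q L) {g : orthGroup Q}
    (hg : g ∈ commutator (orthGroup Q)) : Even (lagDist L (L.map (g.1 : V →ₗ[F] V))) := by
  have hinv : ∀ (x : orthGroup Q) (A B : Submodule F V),
      lagDist (A.map (x.1 : V →ₗ[F] V)) (B.map (x.1 : V →ₗ[F] V)) = lagDist A B := fun x A B => by
    unfold lagDist
    rw [← Submodule.map_inf _ x.1.injective, LinearEquiv.finrank_map_eq, LinearEquiv.finrank_map_eq]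
  let θ : orthGroup Q →* Multiplicative (ZMod 2) :=
    MonoidHom.mk' (fun x => Multiplicative.ofAdd ((lagDist L (L.map (x.1 : V →ₗ[F] V)) : ℕ) : ZMod 2)) (by
      intro x y
      rw [← ofAdd_add]
      congr 1
      have e : L.map ((x * y).1 : V →ₗ[F] V) = (L.map (y.1 : V →ₗ[F] V)).map (x.1 : V →ₗ[F] V) := by
        rw [← Submodule.map_comp]; rfl
      have h := lag_even_sum hQ L hL _ _ _ (isLagrangian_map hL x) (isLagrangian_map hL (x * y)) rfl
      rw [e, hinv, ← e] at h
      have h0 : ((_ : ℕ) : ZMod 2) = 0 := (ZMod.natCast_eq_zero_iff_even).2 h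
      push_cast at h0
      linear_combination h0 - ((lagDist L (L.map (x.1 : V →ₗ[F] V)) : ℕ) : ZMod 2) * (by decide : (2 : ZMod 2) = 0)
        - ((lagDist L (L.map (y.1 : V →ₗ[F] V)) : ℕ) : ZMod 2) * (by decide : (2 : ZMod 2) = 0))
  have h := MonoidHom.mem_ker.1 (Abelianization.commutator_subset_ker θ hg)
  exact (ZMod.natCast_eq_zero_iff_even).1 (congrArg Multiplicative.toAdd h)

variable (h4 : Good F V) (hp : HypPairs Q) (hn : 5 ≤ finrank F V)
include h4 hp hn

/-- A Siegel transformation sending `v` out of a subspace avoiding `d`. -/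
theorem exists_push {d v u : V} (hd : Q d = 0) (hdv : polar Q d v = 0) (hdu : polar Q d u = 0)
    (huv : polar Q u v ≠ 0) :
    ∃ g ∈ commutator (orthGroup Q),
      (∀ W : Submodule F V, v ∈ W → d ∉ W → g.1 v ∉ W) ∧
      (∀ U : Submodule F V, d ∈ U → (∀ x ∈ U, polar Q d x = 0) → g ∈ stab (Q := Q) U) ∧
      ∀ x, polar Q d x = 0 → polar Q u x = 0 → g.1 x = x := by
  obtain ⟨g, hg⟩ := exists_isSiegel hQ hd hdu
  refine ⟨g, hg.mem_commutator hQ h4 hp hn, fun W hv hdW h => hdW ?_, fun U hdU hU => mem_stab_of_le fun x hx => ?_,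
    fun x h1 h2 => by rw [hg.2.2, h1, h2]; simp⟩
  · rw [hg.2.2, hdv] at h
    have h' := W.sub_mem h hv
    simp only [zero_smul, add_zero, mul_zero, sub_zero, add_sub_cancel_left] at h'
    exact (W.smul_mem_iff (neg_ne_zero.2 huv)).1 h'
  · rw [hg.2.2, hU x hx]
    simp only [zero_smul, add_zero]
    exact U.add_mem hx (U.smul_mem _ hdU)

omit hn in
theorem exists_singular_perp_pair {e f : V} (he : Q e = 0) (hef : polar Q e f = 1) :
    ∃ d, d ≠ 0 ∧ Q d = 0 ∧ polar Q e d = 0 ∧ polar Q f d = 0 := by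
  obtain ⟨hp', rfl⟩ := hp.exists_at hQ he (fun h => by rw [h, polar_zero_left] at hef; exact zero_ne_one hef)
  have hfe : polar Q f hp'.e₀ = 1 := by rw [polar_comm]; exact hef
  refine ⟨hp'.e₁ + (-(polar Q f hp'.e₁)) • hp'.e₀, fun h => ?_, ?_, ?_, ?_⟩
  · have := congrArg (polar Q hp'.f₁) h
    simp [polar_smul_r', hp'.c11, hp'.cef] at this
  · simp only [quad_add', quad_smul', polar_smul_r', hp'.he₁, hp'.he₀, hp'.cee]; ring
  · simp only [polar_add_right, polar_smul_r', polar_self', hp'.he₀, hp'.hee]; ring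
  · simp only [polar_add_right, polar_smul_r', hfe]; ring

theorem exists_moving {U : Submodule F V} {v : V} (hv : v ∈ U) (hv0 : v ≠ 0) (hvQ : Q v = 0)
    (hU : ∀ x ∈ U, Q x = 0) : ∃ k ∈ commutator (orthGroup Q), k.1 v ∉ U := by
  obtain ⟨hp', rfl⟩ := hp.exists_at hQ hvQ hv0
  obtain ⟨d, hd0, hd, hdU⟩ : ∃ d, d ∉ U ∧ Q d = 0 ∧ polar Q d hp'.e₀ = 0 := by
    by_cases h : hp'.e₁ ∈ U
    · refine ⟨hp'.f₁, fun h' => ?_, hp'.hf₁, hp'.cef⟩
      have e := hU _ (U.add_mem h h')
      rw [quad_add', hp'.he₁, hp'.hf₁, hp'.h11] at e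
      simp at e
    · exact ⟨hp'.e₁, h, hp'.he₁, hp'.cee⟩
  have hv' : hp'.e₀ ∉ F ∙ d := fun h => by
    obtain ⟨t, ht⟩ := Submodule.mem_span_singleton.1 h
    have ht0 : t ≠ 0 := fun h' => hv0 (by rw [← ht, h', zero_smul])
    exact hd0 ((U.smul_mem_iff ht0).1 (by rw [ht]; exact hv))
  obtain ⟨u, hu, huv⟩ := exists_polar_one hQ hv'
  obtain ⟨k, hk, hpush, -⟩ := exists_push hQ h4 hp hn hd hdU
    (by rw [polar_comm]; exact hu d (Submodule.mem_span_singleton_self d)) (by rw [huv]; exact one_ne_zero)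
  exact ⟨k, hk, hpush U hv hd0⟩

/-- A totally singular hyperplane of a Lagrangian: its stabiliser in `Ω` is not maximal. -/
theorem sub_lag_not_maximal {U₀ : Submodule F V} (hU₀ : IsLagrangian Q U₀) {W : Submodule F V}
    (hW : ∀ w ∈ W, Q w = 0) (hdim : finrank F W + 1 = finrank F U₀) :
    ∃ K, stab (Q := Q) W ⊓ commutator (orthGroup Q) < K ∧ K < commutator (orthGroup Q) := by
  have e0 := finrank_of_isLagrangian hQ hU₀
  obtain ⟨L, hL, hWL⟩ : ∃ L, IsLagrangian Q L ∧ W ≤ L := by
    let b := Module.finBasis F U₀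
    set W' := Submodule.span F (Set.range fun i : Fin (finrank F W) => ((b (Fin.castLE (by omega) i)) : V))
    have hW'le : W' ≤ U₀ := Submodule.span_le.2 (by rintro _ ⟨i, rfl⟩; exact (b _).2)
    have hW'd : finrank F W' = finrank F W :=
      (finrank_span_eq_card ((b.linearIndependent.map' U₀.subtype U₀.ker_subtype).comp _
        (Fin.castLE_injective _))).trans (Fintype.card_fin _)
    obtain ⟨g, hg⟩ := exists_map_eq_submodule hQ h4 (LinearEquiv.ofFinrankEq W' W hW'd) fun u => by
      rw [hU₀.1 _ (hW'le u.2), hW _ (LinearEquiv.ofFinrankEq W' W hW'd u).2]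
    exact ⟨_, isLagrangian_map hU₀ g, hg ▸ Submodule.map_mono hW'le⟩
  have hdL : finrank F W + 1 = finrank F L := by have := finrank_of_isLagrangian hQ hL; omega
  have hle : stab (Q := Q) W ⊓ commutator (orthGroup Q) ≤ stab (Q := Q) L ⊓ commutator (orthGroup Q) := by
    rintro g ⟨hgW, hgC⟩
    refine ⟨?_, hgC⟩
    have heven := lag_even_dist hQ hL hgC
    set L' := L.map (g.1 : V →ₗ[F] V) with hL'
    have hWL' : W ≤ L' := (show W.map (g.1 : V →ₗ[F] V) = W from hgW) ▸ Submodule.map_mono hWL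
    have h1 : finrank F W ≤ finrank F ↥(L ⊓ L') := Submodule.finrank_mono (le_inf hWL hWL')
    have h2 := lag_finrank_le (U := L) (W := L')
    obtain ⟨r, hr⟩ := heven
    unfold lagDist at hr
    have h3 : L ⊓ L' = L := Submodule.eq_of_le_of_finrank_eq inf_le_left (by omega)
    exact (Submodule.eq_of_le_of_finrank_eq (inf_eq_left.1 h3) (LinearEquiv.finrank_map_eq g.1 L).symm).symm
  obtain ⟨w, hw, hw0⟩ := Submodule.exists_mem_ne_zero_of_ne_bot (p := W) (by
    rintro rfl; rw [finrank_bot] at hdim; omega)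
  obtain ⟨d, hdL', hdW⟩ : ∃ d ∈ L, d ∉ W := by
    by_contra! h
    have := Submodule.finrank_mono (show L ≤ W from h)
    omega
  have hperp : ∀ x ∈ L, polar Q d x = 0 := fun x hx => by
    simp [polar, hL.1 _ (L.add_mem hdL' hx), hL.1 d hdL', hL.1 x hx]
  have hwd : w ∉ F ∙ d := fun h => by
    obtain ⟨t, ht⟩ := Submodule.mem_span_singleton.1 h
    have ht0 : t ≠ 0 := fun h' => hw0 (by rw [← ht, h', zero_smul])
    exact hdW ((W.smul_mem_iff ht0).1 (by rw [ht]; exact hw))
  obtain ⟨u, hu, huw⟩ := exists_polar_one hQ hwd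
  obtain ⟨g, hg, hpush, hfix, -⟩ := exists_push hQ h4 hp hn (hL.1 d hdL') (hperp w (hWL hw))
    (by rw [polar_comm]; exact hu d (Submodule.mem_span_singleton_self d)) (by rw [huw]; exact one_ne_zero)
  obtain ⟨k, hk, hku⟩ := exists_moving hQ h4 hp hn (hWL hw) hw0 (hW w hw) hL.1
  exact stab_between hle hg (hfix L hdL' hperp) (fun h => hpush W hw hdW (by
    rw [← (show W.map (g.1 : V →ₗ[F] V) = W from h.1)]; exact ⟨w, hw, rfl⟩)) hk (hWL hw) hku

/-- Two complementary Lagrangians in odd half-dimension: the stabiliser of the pair in `Ω` is not maximal. -/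
theorem lag_pair_not_maximal {A B : Submodule F V} (hA : IsLagrangian Q A) (hB : ∀ x ∈ B, Q x = 0)
    (hAB : A ⊓ B = ⊥) (hk : Odd (finrank F A)) (hBd : finrank F B = finrank F A)
    {H : Subgroup (orthGroup Q)} (hHC : H ≤ commutator (orthGroup Q))
    (hHA : ∀ g ∈ H, A.map (g.1 : V →ₗ[F] V) = A ∨ A.map (g.1 : V →ₗ[F] V) = B)
    (hHB : ∀ g ∈ H, g ∈ stab (Q := Q) A → g ∈ stab (Q := Q) B) :
    ∃ K, H < K ∧ K < commutator (orthGroup Q) := by
  have e0 := finrank_of_isLagrangian hQ hA
  have hle : H ≤ stab (Q := Q) A ⊓ commutator (orthGroup Q) := fun g hg => by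
    refine ⟨(hHA g hg).resolve_right fun e => ?_, hHC hg⟩
    have heven := lag_even_dist hQ hA (hHC hg)
    rw [e] at heven
    unfold lagDist at heven
    rw [hAB, finrank_bot, Nat.sub_zero] at heven
    exact Nat.not_even_iff_odd.2 hk heven
  obtain ⟨d, hdA, hd0⟩ := Submodule.exists_mem_ne_zero_of_ne_bot (p := A) (by
    rintro rfl; rw [finrank_bot] at hk; exact absurd hk (by decide))
  have hdB : d ∉ B := fun h => hd0 ((Submodule.eq_bot_iff _).1 hAB d ⟨hdA, h⟩)
  obtain ⟨v, hvB, hv0, hdv⟩ : ∃ v ∈ B, v ≠ 0 ∧ polar Q d v = 0 := by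
    obtain ⟨x, hx, hx0⟩ := Submodule.exists_mem_ne_zero_of_ne_bot
      (p := B ⊓ (QuadraticMap.polarBilin Q d).ker) (fun e => by
        have h1 := Submodule.finrank_sup_add_finrank_inf_eq B (QuadraticMap.polarBilin Q d).ker
        have h2 := Submodule.finrank_le (B ⊔ (QuadraticMap.polarBilin Q d).ker)
        have h3 := LinearMap.finrank_range_add_finrank_ker (QuadraticMap.polarBilin Q d)
        have h5 := (QuadraticMap.polarBilin Q d).range.finrank_le
        rw [e, finrank_bot] at h1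
        rw [finrank_self] at h5
        omega)
    exact ⟨x, hx.1, hx0, hx.2⟩
  have hvd : v ∉ F ∙ d := fun h => by
    obtain ⟨t, ht⟩ := Submodule.mem_span_singleton.1 h
    have ht0 : t ≠ 0 := fun h' => hv0 (by rw [← ht, h', zero_smul])
    exact hdB ((B.smul_mem_iff ht0).1 (by rw [ht]; exact hvB))
  obtain ⟨u, hu, huv⟩ := exists_polar_one hQ hvd
  obtain ⟨g, hg, hpush, hfix, -⟩ := exists_push hQ h4 hp hn (hA.1 d hdA) hdv
    (by rw [polar_comm]; exact hu d (Submodule.mem_span_singleton_self d)) (by rw [huv]; exact one_ne_zero)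
  have hgA : g ∈ stab (Q := Q) A := hfix A hdA fun x hx => by
    simp [polar, hA.1 _ (A.add_mem hdA hx), hA.1 d hdA, hA.1 x hx]
  obtain ⟨k, hk', hku⟩ := exists_moving hQ h4 hp hn hdA hd0 (hA.1 d hdA) hA.1
  exact stab_between hle hg hgA (fun h => hpush B hvB hdB (by
    rw [← (show B.map (g.1 : V →ₗ[F] V) = B from hHB g h hgA)]; exact ⟨v, hvB, rfl⟩)) hk' hdA hku

/-- A hyperbolic plane over a field with at most three elements: the stabiliser in `Ω` is not maximal. -/
theorem plane_not_maximal [Fintype F] (hq : Fintype.card F ≤ 3) {W : Submodule F V} {e : V} (he : e ∈ W) (he0 : Q e = 0)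
    (hdim : finrank F W = 2) {z : V} (hz : z ∈ W) (hez : polar Q e z ≠ 0) :
    ∃ K, stab (Q := Q) W ⊓ commutator (orthGroup Q) < K ∧ K < commutator (orthGroup Q) := by
  classical
  set f := (polar Q e z)⁻¹ • (z + (-(Q z / polar Q e z)) • e) with hf
  have hfW : f ∈ W := W.smul_mem _ (W.add_mem hz (W.smul_mem _ he))
  have hef : polar Q e f = 1 := by
    simp only [hf, polar_smul_r', polar_add_right, polar_self', he0]; field_simp; ring
  have hfe : polar Q f e = 1 := by rw [polar_comm]; exact hef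
  have hf0 : Q f = 0 := by
    simp only [hf, quad_smul', quad_add', polar_smul_r', he0, polar_comm _ z e]; field_simp; ring
  have hli : LinearIndependent F ![e, f] := by
    rw [LinearIndependent.pair_iff]
    intro s t h
    have h1 := congrArg (polar Q e) h
    have h2 := congrArg (polar Q f) h
    simp [polar_smul_r', polar_self', he0, hef, hfe, hf0] at h1 h2
    exact ⟨h2, h1⟩
  have hspan : Submodule.span F ({e, f} : Set V) = W := by
    refine Submodule.eq_of_le_of_finrank_eq (Submodule.span_le.2 (Set.insert_subset_iff.2 ⟨he, by simpa using hfW⟩)) ?_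
    have h := finrank_span_eq_card hli
    rw [Matrix.range_cons_cons_empty] at h
    simpa [hdim] using h
  have hinv : ∀ a : F, a ≠ 0 → a⁻¹ = a := by
    intro a ha
    have hc := FiniteField.pow_card_sub_one_eq_one a ha
    have hq2 : 2 ≤ Fintype.card F := Fintype.one_lt_card
    interval_cases h : Fintype.card F
    · rw [show a = 1 by simpa using hc, inv_one]
    · exact inv_eq_of_mul_eq_one_right (by simpa [pow_two] using hc)
  set U := F ∙ (e + f)
  have hle : stab (Q := Q) W ⊓ commutator (orthGroup Q) ≤ stab (Q := Q) U ⊓ commutator (orthGroup Q) := by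
    rintro g ⟨hgW, hgC⟩
    refine ⟨mem_stab_of_le fun x hx => ?_, hgC⟩
    obtain ⟨t, rfl⟩ := Submodule.mem_span_singleton.1 hx
    rw [map_smul]
    refine U.smul_mem _ ?_
    have hmem : ∀ w ∈ W, g.1 w ∈ Submodule.span F ({e, f} : Set V) := fun w hw => by
      rw [hspan, ← (show W.map (g.1 : V →ₗ[F] V) = W from hgW)]; exact ⟨w, hw, rfl⟩
    obtain ⟨a, b, hab⟩ := Submodule.mem_span_pair.1 (hmem e he)
    obtain ⟨c, d, hcd⟩ := Submodule.mem_span_pair.1 (hmem f hfW)
    have q1 := apply_quad g e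
    have q2 := apply_quad g f
    have q3 := polar_isom g e f
    rw [← hab] at q1 q3
    rw [← hcd] at q2 q3
    simp only [quad_add', quad_smul', polar_add_left, polar_add_right, polar_smul_l', polar_smul_r', polar_self', he0,
      hf0, hef, hfe, mul_zero, zero_add, add_zero, mul_one] at q1 q2 q3
    rw [map_add, ← hab, ← hcd]
    rcases mul_eq_zero.1 q1 with hb | ha
    · have had : a * d = 1 := by rw [hb] at q3; linear_combination q3
      have hc : c = 0 := (mul_eq_zero.1 q2).resolve_left fun h => by rw [h, mul_zero] at had; exact zero_ne_one had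
      have hda : a = d := by
        rw [← inv_eq_of_mul_eq_one_right had, hinv a fun h => by rw [h, zero_mul] at had; exact zero_ne_one had]
      rw [hb, hc, hda, zero_smul, zero_smul, zero_add, add_zero, ← smul_add]
      exact U.smul_mem _ (Submodule.mem_span_singleton_self _)
    · have hcb : b * c = 1 := by rw [ha] at q3; linear_combination q3
      have hd : d = 0 := (mul_eq_zero.1 q2).resolve_right fun h => by rw [h, mul_zero] at hcb; exact zero_ne_one hcb
      have hbc : b = c := by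
        rw [← inv_eq_of_mul_eq_one_right hcb, hinv b fun h => by rw [h, zero_mul] at hcb; exact zero_ne_one hcb]
      rw [ha, hd, hbc, zero_smul, zero_smul, zero_add, add_zero, add_comm, ← smul_add]
      exact U.smul_mem _ (Submodule.mem_span_singleton_self _)
  obtain ⟨d, hd0, hd, hed, hfd⟩ := exists_singular_perp_pair hQ h4 hp he0 hef
  have hdW : d ∉ W := fun h => by
    rw [← hspan] at h
    obtain ⟨a, b, hab⟩ := Submodule.mem_span_pair.1 h
    rw [← hab] at hed hfd
    simp [polar_smul_r', polar_self', he0, hf0, hef, hfe] at hed hfd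
    exact hd0 (by rw [← hab, hed, hfd]; simp)
  have hde : polar Q d e = 0 := by rw [polar_comm]; exact hed
  have hdf : polar Q d f = 0 := by rw [polar_comm]; exact hfd
  obtain ⟨g, hg, hpush, -, hfixv⟩ := exists_push hQ h4 hp hn hd hde (u := e - f)
    (by rw [polar_sub_right, hde, hdf, sub_zero])
    (by rw [polar_sub_left, polar_self', he0, hfe]; simp)
  have hge : g.1 (e + f) = e + f := hfixv _ (by rw [polar_add_right, hde, hdf, add_zero])
    (by simp only [polar_sub_left, polar_add_right, polar_self', he0, hf0, hef, hfe]; ring)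
  obtain ⟨k, hk, hpush', -⟩ := exists_push hQ h4 hp hn hd (v := e + f) (by rw [polar_add_right, hde, hdf, add_zero])
    (u := f) hdf (by rw [polar_add_right, hfe, polar_self', hf0]; simp)
  refine stab_between hle hg (mem_stab_of_le fun x hx => ?_) (fun h => hpush W he hdW (by
    rw [← (show W.map (g.1 : V →ₗ[F] V) = W from h.1)]; exact ⟨e, he, rfl⟩)) hk
    (Submodule.mem_span_singleton_self (e + f))
    (hpush' U (Submodule.mem_span_singleton_self _) fun h => hdW (by
      obtain ⟨t, ht⟩ := Submodule.mem_span_singleton.1 h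
      rw [← ht]; exact W.smul_mem _ (W.add_mem he hfW)))
  obtain ⟨t, rfl⟩ := Submodule.mem_span_singleton.1 hx
  rw [map_smul, hge]
  exact U.smul_mem _ (Submodule.mem_span_singleton_self _)

end Lemmas

end CfsgLib.Classical
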