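import Cfsg.Agent.Lib.Classical.OrthMaxND

/-!
# Maximality of the stabiliser of a pair of complementary totally singular subspaces in `Ω(Q)`
-/

set_option autoImplicit false
set_option linter.unusedSectionVars false

open Module QuadraticMap CfsgLib.Orth

namespace CfsgLib.Classical

variable {F V : Type*} [Field F] [AddCommGroup V] [Module F V] [FiniteDimensional F V] [Fintype F]
  {Q : QuadraticForm F V}

theorem polar_of_ts {U : Submodule F V} (hU : ∀ x ∈ U, Q x = 0) {x y : V} (hx : x ∈ U) (hy : y ∈ U) :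
    polar Q x y = 0 := by simp [polar, hU _ (U.add_mem hx hy), hU x hx, hU y hy]

theorem stab_map_mem {U : Submodule F V} {k : orthGroup Q} (hk : k ∈ stab (Q := Q) U) {x : V} (hx : x ∈ U) :
    k.1 x ∈ U := (show U.map (k.1 : V →ₗ[F] V) = U from hk) ▸ ⟨x, hx, rfl⟩

/-- Two complementary totally singular subspaces. -/
structure LagPair (Q : QuadraticForm F V) (U W : Submodule F V) : Prop where
  left : ∀ x ∈ U, Q x = 0
  right : ∀ x ∈ W, Q x = 0
  sup : U ⊔ W = ⊤
  inf : U ⊓ W = ⊥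

theorem LagPair.symm {U W : Submodule F V} (h : LagPair Q U W) : LagPair Q W U :=
  ⟨h.right, h.left, by rw [sup_comm]; exact h.sup, by rw [inf_comm]; exact h.inf⟩

theorem LagPair.decomp {U W : Submodule F V} (h : LagPair Q U W) (v : V) : ∃ u ∈ U, ∃ w ∈ W, u + w = v :=
  Submodule.mem_sup.1 (h.sup ▸ Submodule.mem_top (x := v))

theorem LagPair.dim {U W : Submodule F V} (h : LagPair Q U W) : finrank F U + finrank F W = finrank F V := by
  have := Submodule.finrank_sup_add_finrank_inf_eq U W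
  rw [h.sup, h.inf, finrank_top, finrank_bot] at this
  omega

variable (hQ : (QuadraticMap.polarBilin Q).Nondegenerate)
include hQ

theorem LagPair.dim_eq {U W : Submodule F V} (h : LagPair Q U W) : finrank F U = finrank F W := by
  have := h.dim
  have := singular_finrank_le hQ U h.left
  have := singular_finrank_le hQ W h.right
  omega

/-- A functional on `U` killing a subspace is realised by a vector of `W`. -/
theorem LagPair.exists_partner {U W S : Submodule F V} (h : LagPair Q U W) (hS : S ≤ U) {x : V} (hxU : x ∈ U)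
    (hx : x ∉ S) : ∃ y ∈ W, (∀ s ∈ S, polar Q y s = 0) ∧ polar Q y x = 1 := by
  obtain ⟨z, hz, hzx⟩ := exists_polar_one hQ hx
  obtain ⟨u, hu, w, hw, rfl⟩ := h.decomp z
  refine ⟨w, hw, fun s hs => ?_, ?_⟩
  · have := hz s hs
    rwa [polar_add_left, polar_of_ts h.left hu (hS hs), zero_add] at this
  · rwa [polar_add_left, polar_of_ts h.left hu hxU, zero_add] at hzx

variable (h4 : Good F V) (hn : 5 ≤ finrank F V)
include h4 hn

theorem LagPair.siegelIn {U W : Submodule F V} (h : LagPair Q U W) {M : Subgroup (orthGroup Q)}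
    (hM : stab (Q := Q) U ⊓ stab (Q := Q) W ⊓ commutator (orthGroup Q) ≤ M) {d y : V} (hd : d ∈ U) (hy : y ∈ W) :
    SiegelIn M d y := fun g hg => by
  obtain ⟨hp⟩ := exists_hypPairs hQ hn
  refine hM ⟨⟨mem_stab_of_le fun x hx => ?_, mem_stab_of_le fun x hx => ?_⟩, hg.mem_commutator hQ h4 hp hn⟩
  · rw [hg.2.2, polar_of_ts h.left hd hx]
    simp only [zero_smul, add_zero]
    exact U.add_mem hx (U.smul_mem _ hd)
  · rw [hg.2.2, polar_of_ts h.right hy hx, h.right y hy]
    simp only [zero_mul, neg_zero, sub_zero, zero_smul, add_zero]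
    exact W.add_mem hx (W.smul_mem _ hy)

/-- The transvections of `U` inside the stabiliser of the pair. -/
theorem LagPair.exists_tv {U W : Submodule F V} (h : LagPair Q U W) {M : Subgroup (orthGroup Q)}
    (hM : stab (Q := Q) U ⊓ stab (Q := Q) W ⊓ commutator (orthGroup Q) ≤ M) {d y : V} (hd : d ∈ U) (hy : y ∈ W)
    (hdy : polar Q d y = 0) : ∃ k ∈ M, ∀ x ∈ U, k.1 x = x + (-(polar Q y x)) • d := by
  obtain ⟨g, hg⟩ := exists_isSiegel hQ (h.left d hd) hdy
  refine ⟨g, h.siegelIn hQ h4 hn hM hd hy g hg, fun x hx => ?_⟩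
  rw [hg.2.2, polar_of_ts h.left hd hx]
  simp

/-- One radical element gives every axis in `U`. -/
theorem LagPair.ax_of_seed {U W : Submodule F V} (h : LagPair Q U W) {M : Subgroup (orthGroup Q)}
    (hM : stab (Q := Q) U ⊓ stab (Q := Q) W ⊓ commutator (orthGroup Q) ≤ M) (hk : 3 ≤ finrank F U) {d₀ u₀ : V}
    (hd₀ : d₀ ∈ U) (hu₀ : u₀ ∈ U) (hd₀0 : d₀ ≠ 0) (hne : u₀ ∉ F ∙ d₀) (hseed : SiegelIn M d₀ u₀) {d : V}
    (hd : d ∈ U) : AxIn M d := by
  classical
  have hp : ∀ {x y}, x ∈ U → y ∈ U → polar Q x y = 0 := fun hx hy => polar_of_ts h.left hx hy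
  -- the full radical at `d₀`
  have hall : ∀ u ∈ U, SiegelIn M d₀ u := by
    have hker : ∀ y ∈ W, polar Q y d₀ = 0 → polar Q y u₀ = 1 → ∀ x ∈ U, polar Q y x = 0 → SiegelIn M d₀ x := by
      intro y hy h0 h1 x hx hyx
      obtain ⟨k, hk', hkf⟩ := h.exists_tv hQ h4 hn hM (U.neg_mem hx) hy
        (by rw [polar_neg_left, polar_comm, hyx, neg_zero])
      have hs := SiegelIn.conj hseed hk'
      rw [hkf _ hd₀, hkf _ hu₀, h0, h1, neg_zero, zero_smul, add_zero] at hs
      have := SiegelIn.add hQ (h.left _ hd₀) (hp hd₀ (U.add_mem hu₀ (U.smul_mem _ (U.neg_mem hx))))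
        (by rw [polar_neg_right, hp hd₀ hu₀, neg_zero]) hs (SiegelIn.neg hQ (h.left _ hd₀) (hp hd₀ hu₀) hseed)
      simpa using this
    intro u hu
    have hS : (F ∙ d₀) ≤ U := (Submodule.span_singleton_le_iff_mem _ _).2 hd₀
    obtain ⟨y, hy, hy0, hy1⟩ := h.exists_partner hQ hS hu₀ hne
    have hy0' := hy0 d₀ (Submodule.mem_span_singleton_self _)
    -- a second functional
    obtain ⟨z, hzU, hz⟩ : ∃ z ∈ U, z ∉ Submodule.span F {d₀, u₀} := by
      by_contra! hall
      have h1 := Submodule.finrank_mono (show U ≤ Submodule.span F {d₀, u₀} from hall)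
      have h2 := finrank_span_finset_le_card (R := F) ({d₀, u₀} : Finset V)
      have h3 := Finset.card_le_two (a := d₀) (b := u₀)
      rw [Finset.coe_pair, Set.finrank] at h2
      omega
    obtain ⟨y', hy', hy'0, hy'1⟩ := h.exists_partner hQ
      (show Submodule.span F {d₀, u₀} ≤ U from Submodule.span_le.2 (by simp [Set.insert_subset_iff, hd₀, hu₀]))
      hzU hz
    set z₀ := z + (-(polar Q y z)) • u₀
    have hz₀ : z₀ ∈ U := U.add_mem hzU (U.smul_mem _ hu₀)
    have hyz₀ : polar Q y z₀ = 0 := by simp only [z₀, polar_add_right, polar_smul_r', hy1]; ring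
    have hy'z₀ : polar Q y' z₀ = 1 := by
      simp only [z₀, polar_add_right, polar_smul_r', hy'1, hy'0 u₀ (Submodule.subset_span (by simp))]; ring
    set w := y + y'
    have hu₁ : polar Q w u₀ = 1 := by
      simp only [w, polar_add_left, hy1, hy'0 u₀ (Submodule.subset_span (by simp))]; ring
    have hu₂ : polar Q w d₀ = 0 := by
      simp only [w, polar_add_left, hy0', hy'0 d₀ (Submodule.subset_span (by simp))]; ring
    set t := polar Q y u
    set A := u + (-t) • u₀ + t • z₀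
    have hA : A ∈ U := U.add_mem (U.add_mem hu (U.smul_mem _ hu₀)) (U.smul_mem _ hz₀)
    have hyA : polar Q y A = 0 := by simp only [A, t, polar_add_right, polar_smul_r', hy1, hyz₀]; ring
    have hB : (t • (u₀ + (-1 : F) • z₀)) ∈ U := U.smul_mem _ (U.add_mem hu₀ (U.smul_mem _ hz₀))
    have hwB : polar Q w (t • (u₀ + (-1 : F) • z₀)) = 0 := by
      simp only [polar_smul_r', polar_add_right, hu₁]
      simp only [w, polar_add_left, hyz₀, hy'z₀]
      ring
    have := SiegelIn.add hQ (h.left _ hd₀) (hp hd₀ hA) (hp hd₀ hB) (hker y hy hy0' hy1 A hA hyA)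
      (hker w (W.add_mem hy hy') hu₂ hu₁ _ hB hwB)
    convert this using 1
    simp only [A]
    module
  -- transport to every vector of `U`
  have hmove : ∀ x ∈ U, ∀ x' ∈ U, x' ∉ F ∙ x → x ≠ 0 →
      ∃ k ∈ M, k ∈ stab (Q := Q) U ∧ k.1 x = x' := by
    intro x hx x' hx' hne hx0
    have hsub : x ∉ F ∙ (x' - x) := fun hmem => by
      obtain ⟨t, ht⟩ := Submodule.mem_span_singleton.1 hmem
      have ht0 : t ≠ 0 := fun h0 => hx0 (by rw [← ht, h0, zero_smul])
      refine hne (Submodule.mem_span_singleton.2 ⟨t⁻¹ + 1, ?_⟩)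
      have e : t⁻¹ • x = x' - x := by
        conv_lhs => rw [← ht]
        rw [smul_smul, inv_mul_cancel₀ ht0, one_smul]
      rw [add_smul, one_smul, e]
      abel
    obtain ⟨y, hy, hy0, hy1⟩ := h.exists_partner hQ
      ((Submodule.span_singleton_le_iff_mem _ _).2 (U.sub_mem hx' hx)) hx hsub
    have hdy : polar Q (-(x' - x)) y = 0 := by
      rw [polar_neg_left, polar_comm, hy0 _ (Submodule.mem_span_singleton_self _), neg_zero]
    obtain ⟨k, hk', hkf⟩ := h.exists_tv hQ h4 hn hM (U.neg_mem (U.sub_mem hx' hx)) hy hdy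
    refine ⟨k, hk', mem_stab_of_le fun v hv => ?_, ?_⟩
    · rw [hkf v hv]; exact U.add_mem hv (U.smul_mem _ (U.neg_mem (U.sub_mem hx' hx)))
    · rw [hkf x hx, hy1]; module
  have hrad : ∀ x ∈ U, x ≠ 0 → ∀ u ∈ U, SiegelIn M x u := by
    have step : ∀ x ∈ U, ∀ x' ∈ U, x' ∉ F ∙ x → x ≠ 0 → (∀ u ∈ U, SiegelIn M x u) → ∀ u ∈ U, SiegelIn M x' u := by
      intro x hx x' hx' hne hx0 hs u hu
      obtain ⟨k, hk', hkU, hkx⟩ := hmove x hx x' hx' hne hx0
      obtain ⟨u', hu', rfl⟩ := (show u ∈ U.map (k.1 : V →ₗ[F] V) from (show U.map _ = U from hkU).symm ▸ hu)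
      rw [← hkx]
      exact SiegelIn.conj (hs u' hu') hk'
    intro x hx hx0
    by_cases hxd : x ∈ F ∙ d₀
    · have hu0 : u₀ ≠ 0 := fun h0 => hne (h0 ▸ Submodule.zero_mem _)
      refine step u₀ hu₀ x hx (fun hxu => ?_) hu0 (step d₀ hd₀ u₀ hu₀ hne hd₀0 hall)
      obtain ⟨a, rfl⟩ := Submodule.mem_span_singleton.1 hxu
      have ha : a ≠ 0 := fun h0 => hx0 (by rw [h0, zero_smul])
      exact hne ((Submodule.smul_mem_iff _ ha).1 hxd)
    · exact step d₀ hd₀ x hx hxd hd₀0 hall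
  by_cases hd0 : d = 0
  · rw [hd0]; exact AxIn.zero M
  intro v g hg
  obtain ⟨vu, hvu, vw, hvw, rfl⟩ := h.decomp v
  have hdw : polar Q d vw = 0 := by
    have := hg.2.1
    rwa [polar_add_right, hp hd hvu, zero_add] at this
  exact SiegelIn.add hQ (h.left d hd) (hp hd hvu) hdw (hrad d hd hd0 vu hvu) (h.siegelIn hQ h4 hn hM hd hvw) g hg

/-- The commutator step producing a radical element. -/
theorem LagPair.exists_radical {U W : Submodule F V} (h : LagPair Q U W) {M : Subgroup (orthGroup Q)}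
    (hM : stab (Q := Q) U ⊓ stab (Q := Q) W ⊓ commutator (orthGroup Q) ≤ M) (hk : 5 ≤ finrank F U) {aU aW bU bW : V}
    (haU : aU ∈ U) (haW : aW ∈ W) (hbU : bU ∈ U) (hbW : bW ∈ W) (ha : Q (aU + aW) = 0)
    (hab : polar Q (aU + aW) (bU + bW) = 0) (ha0 : aU ≠ 0) (hne : bU ∉ F ∙ aU)
    (hs : SiegelIn M (aU + aW) (bU + bW)) :
    ∃ d ∈ U, ∃ u ∈ U, d ≠ 0 ∧ u ∉ F ∙ d ∧ SiegelIn M d u := by
  classical
  obtain ⟨d, ⟨hdU, hda, hdb⟩, hdS⟩ : ∃ d, (d ∈ U ∧ polar Q aW d = 0 ∧ polar Q bW d = 0) ∧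
      d ∉ Submodule.span F {aU, bU} := by
    by_contra! hall
    set φ := (QuadraticMap.polarBilin Q aW).prod (QuadraticMap.polarBilin Q bW)
    have hle : U ⊓ φ.ker ≤ Submodule.span F {aU, bU} := fun x hx => by
      have h2 : φ x = 0 := hx.2
      simp only [φ, LinearMap.prod_apply, Function.prod, Prod.mk_eq_zero] at h2
      exact hall x ⟨hx.1, h2.1, h2.2⟩
    have h1 := Submodule.finrank_mono hle
    have h2 := LinearMap.finrank_range_add_finrank_ker φ
    have h3 := φ.range.finrank_le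
    have h5 := Submodule.finrank_sup_add_finrank_inf_eq U φ.ker
    have h6 := (U ⊔ φ.ker).finrank_le
    have h7 := finrank_span_finset_le_card (R := F) ({aU, bU} : Finset V)
    have h8 := Finset.card_le_two (a := aU) (b := bU)
    rw [Finset.coe_pair, Set.finrank] at h7
    rw [finrank_prod, finrank_self] at h3
    omega
  have hd0 : d ≠ 0 := fun h0 => hdS (h0 ▸ Submodule.zero_mem _)
  have haUd : aU ∉ F ∙ d := fun h' => by
    obtain ⟨t, ht⟩ := Submodule.mem_span_singleton.1 h'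
    have ht0 : t ≠ 0 := fun e => ha0 (by rw [← ht, e, zero_smul])
    exact hdS ((Submodule.smul_mem_iff _ ht0).1 (ht.symm ▸ Submodule.subset_span (by simp)))
  have hbUd : bU ∉ Submodule.span F {aU, d} := fun h' => by
    obtain ⟨p, q, e⟩ := Submodule.mem_span_pair.1 h'
    by_cases hq : q = 0
    · exact hne (Submodule.mem_span_singleton.2 ⟨p, by simpa [hq] using e⟩)
    · refine hdS (Submodule.mem_span_pair.2 ⟨-(p / q), q⁻¹, ?_⟩)
      rw [← e]
      match_scalars <;> field_simp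
      ring
  obtain ⟨y, hy, hy0, hy1⟩ := h.exists_partner hQ
    (show Submodule.span F {aU, d} ≤ U from Submodule.span_le.2 (by simp [Set.insert_subset_iff, haU, hdU])) hbU hbUd
  have hdy : polar Q d y = 0 := by rw [polar_comm]; exact hy0 d (Submodule.subset_span (by simp))
  obtain ⟨k, hk'⟩ := exists_isSiegel hQ (h.left d hdU) hdy
  have hdA : polar Q d (aU + aW) = 0 := by
    rw [polar_add_right, polar_of_ts h.left hdU haU, polar_comm, hda, zero_add]
  have hdB : polar Q d (bU + bW) = 0 := by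
    rw [polar_add_right, polar_of_ts h.left hdU hbU, polar_comm, hdb, zero_add]
  have hyA : polar Q y (aU + aW) = 0 := by
    rw [polar_add_right, hy0 aU (Submodule.subset_span (by simp)), polar_of_ts h.right hy haW, zero_add]
  have hyB : polar Q y (bU + bW) = 1 := by rw [polar_add_right, hy1, polar_of_ts h.right hy hbW, add_zero]
  have hka : k.1 (aU + aW) = aU + aW := hk'.fix hdA hyA
  have hkb : k.1 (bU + bW) = bU + bW + (-1 : F) • d := by
    rw [hk'.2.2, hdB, hyB]; simp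
  have h1 := SiegelIn.conj hs (h.siegelIn hQ h4 hn hM hdU hy k hk')
  rw [hka, hkb] at h1
  have hAd : polar Q (aU + aW) ((-1 : F) • d) = 0 := by rw [polar_smul_r', polar_comm, hdA, mul_zero]
  have h2 : SiegelIn M (aU + aW) ((-1 : F) • d) := by
    have := SiegelIn.add hQ ha (by rw [polar_add_right, hab, hAd, add_zero]) (by rw [polar_neg_right, hab, neg_zero])
      h1 (SiegelIn.neg hQ ha hab hs)
    convert this using 1
    module
  have h3 : SiegelIn M d (aU + aW) := fun g hg => h2 g (by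
    have h0 := hg.swap ha
    rwa [← neg_one_smul F d] at h0)
  have hdu : polar Q d aU = 0 := polar_of_ts h.left hdU haU
  have hdw : polar Q d aW = 0 := by rw [polar_comm]; exact hda
  refine ⟨d, hdU, aU, haU, hd0, haUd, ?_⟩
  have := SiegelIn.add hQ (h.left d hdU) hdA (by rw [polar_neg_right, hdw, neg_zero]) h3
    (SiegelIn.neg hQ (h.left d hdU) hdw (h.siegelIn hQ h4 hn hM hdU haW))
  convert this using 1
  module

/-- A vector with mixed image produces a radical element on one of the two sides. -/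
theorem LagPair.exists_radical_of_mixed {U W : Submodule F V} (h : LagPair Q U W) {M : Subgroup (orthGroup Q)}
    (hM : stab (Q := Q) U ⊓ stab (Q := Q) W ⊓ commutator (orthGroup Q) ≤ M) (hk : 5 ≤ finrank F U) {g : orthGroup Q}
    (hg : g ∈ M) {d : V} (hd : d ∈ U) (h1 : g.1 d ∉ U) (h2 : g.1 d ∉ W) :
    (∃ d ∈ U, ∃ u ∈ U, d ≠ 0 ∧ u ∉ F ∙ d ∧ SiegelIn M d u) ∨
      (∃ d ∈ W, ∃ u ∈ W, d ≠ 0 ∧ u ∉ F ∙ d ∧ SiegelIn M d u) := by
  obtain ⟨aU, haU, aW, haW, ha⟩ := h.decomp (g.1 d)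
  have ha0 : aU ≠ 0 := fun e => h2 (by rw [← ha, e, zero_add]; exact haW)
  have ha0' : aW ≠ 0 := fun e => h1 (by rw [← ha, e, add_zero]; exact haU)
  have hd0 : d ≠ 0 := fun e => h1 (by rw [e, map_zero]; exact U.zero_mem)
  have hk' : 5 ≤ finrank F W := h.dim_eq hQ ▸ hk
  obtain ⟨y, hy, hdy, hout⟩ : ∃ y ∈ W, polar Q d y = 0 ∧ g.1 y ∉ (F ∙ aU) ⊔ (F ∙ aW) := by
    by_contra! hall
    set K := W ⊓ qperp Q (F ∙ d)
    have h1 : K.map (g.1 : V →ₗ[F] V) ≤ (F ∙ aU) ⊔ (F ∙ aW) := by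
      rintro _ ⟨y, hy, rfl⟩
      exact hall y hy.1 (hy.2 d (Submodule.mem_span_singleton_self d))
    have h2 := Submodule.finrank_mono h1
    have h3 := Submodule.finrank_add_le_finrank_add_finrank (F ∙ aU) (F ∙ aW)
    rw [LinearEquiv.finrank_map_eq] at h2
    rw [finrank_span_singleton ha0, finrank_span_singleton ha0'] at h3
    have h5 := Submodule.finrank_sup_add_finrank_inf_eq W (qperp Q (F ∙ d))
    have h6 := (W ⊔ qperp Q (F ∙ d)).finrank_le
    have h7 := finrank_qperp hQ (F ∙ d)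
    rw [finrank_span_singleton hd0] at h7
    change _ + finrank F K = _ at h5
    omega
  obtain ⟨bU, hbU, bW, hbW, hb⟩ := h.decomp (g.1 y)
  have hQa : Q (aU + aW) = 0 := by rw [ha]; exact (apply_quad g d).trans (h.left d hd)
  have hab : polar Q (aU + aW) (bU + bW) = 0 := by rw [ha, hb, polar_isom]; exact hdy
  have hs : SiegelIn M (aU + aW) (bU + bW) := by
    rw [ha, hb]; exact SiegelIn.conj (h.siegelIn hQ h4 hn hM hd hy) hg
  by_cases hbu : bU ∈ F ∙ aU
  · right
    have hbw : bW ∉ F ∙ aW := fun hbw => hout (hb ▸ Submodule.add_mem_sup hbu hbw)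
    exact h.symm.exists_radical hQ h4 hn (by rw [inf_comm (stab (Q := Q) W)]; exact hM) hk' haW haU hbW hbU
      (by rw [add_comm]; exact hQa) (by rw [add_comm aW, add_comm bW]; exact hab) ha0' hbw
      (by rw [add_comm aW, add_comm bW]; exact hs)
  · exact Or.inl (h.exists_radical hQ h4 hn hM hk haU haW hbU hbW hQa hab ha0 hbu hs)

/-- An element of `Ω` interchanging the two subspaces, when their dimension is even. -/
theorem LagPair.exists_swap {U W : Submodule F V} (h : LagPair Q U W) (hev : Even (finrank F U)) :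
    ∃ t ∈ commutator (orthGroup Q), U.map (t.1 : V →ₗ[F] V) = W ∧ W.map (t.1 : V →ₗ[F] V) = U := by
  classical
  let b := Module.finBasis F U
  have hc : ∀ i, ∃ y ∈ W, ∀ j, polar Q (b j : V) y = if i = j then 1 else 0 := by
    intro i
    have hx : (b i : V) ∉ Submodule.span F ((fun j => (b j : V)) '' {j | j ≠ i}) :=
      (b.linearIndependent.map' U.subtype U.ker_subtype).notMem_span_image (by simp)
    obtain ⟨y, hy, hy0, hy1⟩ := h.exists_partner hQ (Submodule.span_le.2 (by rintro _ ⟨j, -, rfl⟩; exact (b j).2))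
      (b i).2 hx
    refine ⟨y, hy, fun j => ?_⟩
    rw [polar_comm]
    by_cases hij : i = j
    · subst hij; rw [if_pos rfl, hy1]
    · rw [if_neg hij]; exact hy0 _ (Submodule.subset_span ⟨j, Ne.symm hij, rfl⟩)
  choose c hc hbc using hc
  set v := fun i => (b i : V) - c i
  have hqb : ∀ i, Q (b i : V) = 0 := fun i => h.left _ (b i).2
  have hqv : ∀ i, Q (v i) = -1 := fun i => by
    simp only [v, sub_eq_add_neg, quad_add', QuadraticMap.map_neg, hqb, h.right _ (hc i), polar_neg_right, hbc,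
      if_true]
    ring
  have hvb : ∀ i j, polar Q (v i) (b j : V) = -(if i = j then (1 : F) else 0) := fun i j => by
    simp only [v, polar_sub_left, polar_of_ts h.left (b i).2 (b j).2, polar_comm _ (c i), hbc, zero_sub]
  have hvc : ∀ i j, polar Q (v i) (c j) = if i = j then (1 : F) else 0 := fun i j => by
    simp only [v, polar_sub_left, polar_of_ts h.right (hc i) (hc j), hbc, sub_zero]
    simp [eq_comm]
  have key : ∀ l : List (Fin (finrank F U)), l.Nodup → ∃ t : orthGroup Q,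
      (∀ j, t.1 (b j : V) = if j ∈ l then c j else (b j : V)) ∧ (∀ j, t.1 (c j) = if j ∈ l then (b j : V) else c j) ∧
      ∀ w, Q w = -1 → Abelianization.of t = Abelianization.of (refl Q w) ^ l.length := by
    intro l hl
    induction l with
    | nil => exact ⟨1, fun j => rfl, fun j => rfl, fun w _ => by simp⟩
    | cons i l ih =>
      obtain ⟨hil, hl'⟩ := List.nodup_cons.1 hl
      obtain ⟨t, ht1, ht2, ht3⟩ := ih hl'
      have hfixb : ∀ j, i ≠ j → (refl Q (v i)).1 (b j : V) = (b j : V) := fun j hij =>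
        refl_fix Q (by rw [hvb, if_neg hij, neg_zero])
      have hfixc : ∀ j, i ≠ j → (refl Q (v i)).1 (c j) = c j := fun j hij =>
        refl_fix Q (by rw [hvc, if_neg hij])
      have hswb : (refl Q (v i)).1 (b i : V) = c i := by
        rw [refl_apply, hqv, hvb, if_pos rfl]; simp [v]
      have hswc : (refl Q (v i)).1 (c i) = (b i : V) := by
        rw [refl_apply, hqv, hvc, if_pos rfl]; simp [v]
      refine ⟨refl Q (v i) * t, fun j => ?_, fun j => ?_, fun w hw => ?_⟩
      · show (refl Q (v i)).1 (t.1 (b j : V)) = _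
        by_cases hij : i = j
        · subst hij; rw [ht1, if_neg hil, if_pos (List.mem_cons_self ..)]; exact hswb
        · simp only [ht1, List.mem_cons, show ¬ j = i from Ne.symm hij, false_or]
          by_cases hjl : j ∈ l
          · rw [if_pos hjl]; exact hfixc j hij
          · rw [if_neg hjl]; exact hfixb j hij
      · show (refl Q (v i)).1 (t.1 (c j)) = _
        by_cases hij : i = j
        · subst hij; rw [ht2, if_neg hil, if_pos (List.mem_cons_self ..)]; exact hswc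
        · simp only [ht2, List.mem_cons, show ¬ j = i from Ne.symm hij, false_or]
          by_cases hjl : j ∈ l
          · rw [if_pos hjl]; exact hfixb j hij
          · rw [if_neg hjl]; exact hfixc j hij
      · rw [map_mul, ht3 w hw, ab_refl_eq hQ h4 (a := v i) (b := w) (by rw [hqv]; simp) (by rw [hw]; simp)
          (by rw [hqv, hw]; exact ⟨1, by ring⟩), List.length_cons, pow_succ']
  obtain ⟨t, ht1, ht2, ht3⟩ := key _ (List.nodup_finRange (finrank F U))
  simp only [List.mem_finRange, if_true] at ht1 ht2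
  obtain ⟨r, hr⟩ := hev
  have i₀ : Fin (finrank F U) := ⟨0, by have := h.dim; have := h.dim_eq hQ; omega⟩
  refine ⟨t, ?_, ?_⟩
  · rw [Orth.mem_commutator_iff, ht3 (v i₀) (hqv i₀), List.length_finRange, hr, pow_add, ← mul_pow, ab_refl_sq,
      one_pow]
  have hU : Submodule.span F (Set.range fun i => (b i : V)) = U := by
    rw [show (fun i => (b i : V)) = U.subtype ∘ b from rfl, Set.range_comp, Submodule.span_image, b.span_eq,
      Submodule.map_top, Submodule.range_subtype]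
  have hUW : U.map (t.1 : V →ₗ[F] V) = W := by
    refine Submodule.eq_of_le_of_finrank_eq ?_ (by rw [LinearEquiv.finrank_map_eq, h.dim_eq hQ])
    conv_lhs => rw [← hU]
    rw [Submodule.map_span_le]
    rintro _ ⟨i, rfl⟩
    show t.1 (b i : V) ∈ W
    rw [ht1]; exact hc i
  refine ⟨hUW, (Submodule.eq_of_le_of_finrank_eq ?_ (by rw [LinearEquiv.finrank_map_eq, h.dim_eq hQ])).symm⟩
  conv_lhs => rw [← hU]
  rw [Submodule.span_le]
  rintro _ ⟨i, rfl⟩
  exact ⟨c i, hc i, ht2 i⟩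

/-- The stabiliser of a pair of complementary Lagrangians of even dimension is maximal. -/
theorem LagPair.top {U W : Submodule F V} (h : LagPair Q U W) (hev : Even (finrank F U)) (hk : 5 ≤ finrank F U)
    {M : Subgroup (orthGroup Q)}
    (hM : ∀ g ∈ commutator (orthGroup Q), (U.map (g.1 : V →ₗ[F] V) = U ∧ W.map (g.1 : V →ₗ[F] V) = W) ∨
      (U.map (g.1 : V →ₗ[F] V) = W ∧ W.map (g.1 : V →ₗ[F] V) = U) → g ∈ M)
    {g : orthGroup Q} (hg : g ∈ M) (hgΩ : g ∈ commutator (orthGroup Q))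
    (hgU : ¬ ((U.map (g.1 : V →ₗ[F] V) = U ∧ W.map (g.1 : V →ₗ[F] V) = W) ∨
      (U.map (g.1 : V →ₗ[F] V) = W ∧ W.map (g.1 : V →ₗ[F] V) = U))) : commutator (orthGroup Q) ≤ M := by
  obtain ⟨hp⟩ := exists_hypPairs hQ hn
  have hM' : stab (Q := Q) U ⊓ stab (Q := Q) W ⊓ commutator (orthGroup Q) ≤ M := fun x hx =>
    hM x hx.2 (Or.inl hx.1)
  have hk' : 5 ≤ finrank F W := h.dim_eq hQ ▸ hk
  obtain ⟨t, htΩ, htU, htW⟩ := h.exists_swap hQ h4 hn hev
  have htM : t ∈ M := hM t htΩ (Or.inr ⟨htU, htW⟩)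
  have pure : ∀ (A : Submodule F V), finrank F A = finrank F U →
      (∀ d ∈ A, g.1 d ∈ U ∨ g.1 d ∈ W) → A.map (g.1 : V →ₗ[F] V) = U ∨ A.map (g.1 : V →ₗ[F] V) = W := by
    intro A hA hp
    by_cases hc : A.map (g.1 : V →ₗ[F] V) ≤ U
    · exact Or.inl (Submodule.eq_of_le_of_finrank_eq hc (by rw [LinearEquiv.finrank_map_eq, hA]))
    refine Or.inr (Submodule.eq_of_le_of_finrank_eq ?_ (by rw [LinearEquiv.finrank_map_eq, hA, h.dim_eq hQ]))
    obtain ⟨_, ⟨x, hx, rfl⟩, hxU⟩ := SetLike.not_le_iff_exists.1 hc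
    rintro _ ⟨y, hy, rfl⟩
    rcases hp y hy with h1 | h1
    swap
    · exact h1
    have h2 := (hp x hx).resolve_left hxU
    rcases hp (x + y) (A.add_mem hx hy) with h3 | h3
    · exact absurd (by rw [map_add] at h3; simpa using U.sub_mem h3 h1) hxU
    · rw [map_add] at h3; simpa using W.sub_mem h3 h2
  have hrad : (∃ d ∈ U, ∃ u ∈ U, d ≠ 0 ∧ u ∉ F ∙ d ∧ SiegelIn M d u) ∨
      (∃ d ∈ W, ∃ u ∈ W, d ≠ 0 ∧ u ∉ F ∙ d ∧ SiegelIn M d u) := by
    by_contra hnone
    have hA : ∀ d ∈ U, g.1 d ∈ U ∨ g.1 d ∈ W := fun d hd => by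
      by_contra hc
      push Not at hc
      exact hnone (h.exists_radical_of_mixed hQ h4 hn hM' hk hg hd hc.1 hc.2)
    have hB : ∀ d ∈ W, g.1 d ∈ U ∨ g.1 d ∈ W := fun d hd => by
      by_contra hc
      push Not at hc
      exact hnone (Or.symm (h.symm.exists_radical_of_mixed hQ h4 hn
        (by rw [inf_comm (stab (Q := Q) W)]; exact hM') hk' hg hd hc.2 hc.1))
    have hinj : U.map (g.1 : V →ₗ[F] V) ≠ W.map (g.1 : V →ₗ[F] V) := fun e => by
      have e' : U = W := Submodule.map_injective_of_injective g.1.injective e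
      have := h.inf
      rw [← e', inf_idem] at this
      rw [this, finrank_bot] at hk
      omega
    rcases pure U rfl hA with h1 | h1 <;> rcases pure W (h.dim_eq hQ).symm hB with h2 | h2
    · exact hinj (h1.trans h2.symm)
    · exact hgU (Or.inl ⟨h1, h2⟩)
    · exact hgU (Or.inr ⟨h1, h2⟩)
    · exact hinj (h1.trans h2.symm)
  have haxU : ∀ d ∈ U, AxIn M d := by
    rcases hrad with ⟨d, hd, u, hu, hd0, hne, hs⟩ | ⟨d, hd, u, hu, hd0, hne, hs⟩
    · exact fun x hx => h.ax_of_seed hQ h4 hn hM' (by omega) hd hu hd0 hne hs hx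
    · intro x hx
      obtain ⟨w, hw, rfl⟩ := (show x ∈ W.map (t.1 : V →ₗ[F] V) from htW.symm ▸ hx)
      exact (h.symm.ax_of_seed hQ h4 hn (by rw [inf_comm (stab (Q := Q) W)]; exact hM') (by omega) hd hu hd0 hne hs
        hw).map htM
  have haxW : ∀ d ∈ W, AxIn M d := fun x hx => by
    obtain ⟨u, hu, rfl⟩ := (show x ∈ U.map (t.1 : V →ₗ[F] V) from htU.symm ▸ hx)
    exact (haxU u hu).map htM
  rw [commutator_eq_siegelGroup hQ h4 hp hn]
  refine siegelGroup_le_of_ax fun v hv => ?_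
  obtain ⟨vu, hvu, vw, hvw, rfl⟩ := h.decomp v
  by_cases hw0 : vw = 0
  · rw [hw0, add_zero]; exact haxU vu hvu
  obtain ⟨y, hy, -, hy1⟩ := h.symm.exists_partner hQ (S := ⊥) bot_le hvw (by simpa using hw0)
  refine ax_move hQ (haxU y hy) (h.left y hy) (h.right vw hvw) hv (by rw [hy1]; exact one_ne_zero) ?_ (haxW vw hvw)
  rw [polar_add_right, polar_of_ts h.left hy hvu, hy1, zero_add]
  exact one_ne_zero

end CfsgLib.Classical

namespace CfsgLib.Classical

variable {F : Type*} [Field F] [Fintype F] {ι : Type} [Fintype ι] [DecidableEq ι] {Qf : (ι → F) → F}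

/-- Maximality in `Ω` of the trace of a subgroup of the linear group. -/
theorem omega_isMaximalIn_inf (Q : QuadraticForm F (ι → F)) (hQf : ∀ v, Qf v = Q v) (H' : Subgroup (GL ι F))
    (hex : ∃ k ∈ commutator (orthGroup Q), orthToGL Q hQf k ∉ H')
    (hmax : ∀ M : Subgroup (orthGroup Q), (∀ y ∈ commutator (orthGroup Q), orthToGL Q hQf y ∈ H' → y ∈ M) →
      ∀ g ∈ M, g ∈ commutator (orthGroup Q) → orthToGL Q hQf g ∉ H' → commutator (orthGroup Q) ≤ M) :
    Cfsg.Geo.IsMaximalIn (Cfsg.Geo.omegaGL Qf) (H' ⊓ Cfsg.Geo.omegaGL Qf) := by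
  refine ⟨lt_of_le_not_ge inf_le_right fun hle => ?_, fun M hM hMK => ?_⟩
  · obtain ⟨k, hk, hkH⟩ := hex
    rw [omegaGL_eq Q hQf] at hle
    exact hkH (hle ⟨k, hk, rfl⟩).1
  · by_cases hMH : M ≤ H'
    · exact Or.inl (le_antisymm (le_inf hMH hMK) hM)
    obtain ⟨t, ht, htH⟩ := SetLike.not_le_iff_exists.1 hMH
    obtain ⟨g, hg, rfl⟩ := (omegaGL_eq Q hQf ▸ hMK ht :
      t ∈ (commutator (orthGroup Q)).map (orthToGL Q hQf))
    refine Or.inr (le_antisymm hMK ?_)
    have h := hmax (M.comap (orthToGL Q hQf)) (fun y hy hyH => hM ⟨hyH, by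
      rw [omegaGL_eq Q hQf]; exact ⟨y, hy, rfl⟩⟩) g ht hg htH
    rw [omegaGL_eq Q hQf]
    rintro _ ⟨y, hy, rfl⟩
    exact h hy

theorem orthToGL_mem_decomp (Q : QuadraticForm F (ι → F)) (hQf : ∀ v, Qf v = Q v) {t : ℕ}
    (D : Fin t → Submodule F (ι → F)) (g : orthGroup Q) :
    orthToGL Q hQf g ∈ Cfsg.Geo.decompositionStabilizer D ↔
      ∃ σ : Equiv.Perm (Fin t), ∀ i, (D i).map (g.1 : (ι → F) →ₗ[F] (ι → F)) = D (σ i) := by
  show (∃ σ : Equiv.Perm (Fin t), ∀ i, (D i).map _ = _) ↔ _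
  rw [toLin'_orthToGL]

theorem perm_pair_iff {V : Type*} [AddCommGroup V] [Module F V] {Q : QuadraticForm F V} (D : Fin 2 → Submodule F V)
    (g : orthGroup Q) : (∃ σ : Equiv.Perm (Fin 2), ∀ i, (D i).map (g.1 : V →ₗ[F] V) = D (σ i)) ↔
      ((D 0).map (g.1 : V →ₗ[F] V) = D 0 ∧ (D 1).map (g.1 : V →ₗ[F] V) = D 1) ∨
        ((D 0).map (g.1 : V →ₗ[F] V) = D 1 ∧ (D 1).map (g.1 : V →ₗ[F] V) = D 0) := by
  constructor
  · rintro ⟨σ, hσ⟩
    rcases Fin.exists_fin_two.1 (⟨σ 0, rfl⟩ : ∃ i, σ 0 = i) with h | h <;>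
      rcases Fin.exists_fin_two.1 (⟨σ 1, rfl⟩ : ∃ i, σ 1 = i) with h' | h'
    · exact absurd (σ.injective (h.trans h'.symm)) (by decide)
    · exact Or.inl ⟨(hσ 0).trans (congrArg D h), (hσ 1).trans (congrArg D h')⟩
    · exact Or.inr ⟨(hσ 0).trans (congrArg D h), (hσ 1).trans (congrArg D h')⟩
    · exact absurd (σ.injective (h.trans h'.symm)) (by decide)
  · rintro (⟨h0, h1⟩ | ⟨h0, h1⟩)
    · exact ⟨1, Fin.forall_fin_two.2 ⟨h0, h1⟩⟩
    · exact ⟨Equiv.swap 0 1, Fin.forall_fin_two.2 ⟨by simpa using h0, by simpa using h1⟩⟩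

theorem lagPair_isMaximalIn (Q : QuadraticForm F (ι → F)) (hQf : ∀ v, Qf v = Q v)
    (hQ : (QuadraticMap.polarBilin Q).Nondegenerate) (h4 : Good F (ι → F)) (hn : 10 ≤ finrank F (ι → F))
    (D : Fin 2 → Submodule F (ι → F)) (h : LagPair Q (D 0) (D 1)) (hev : Even (finrank F (D 0))) :
    Cfsg.Geo.IsMaximalIn (Cfsg.Geo.omegaGL Qf) (Cfsg.Geo.decompositionStabilizer D ⊓ Cfsg.Geo.omegaGL Qf) := by
  classical
  have hk : 5 ≤ finrank F (D 0) := by have := h.dim; have := h.dim_eq hQ; omega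
  obtain ⟨hp⟩ := exists_hypPairs hQ (by omega)
  refine omega_isMaximalIn_inf Q hQf _ ?_ fun M hM g hg hgΩ hgH => ?_
  · obtain ⟨d, hd, hd0⟩ := Submodule.exists_mem_ne_zero_of_ne_bot (p := D 0) (fun e => by
      rw [e, finrank_bot] at hk; omega)
    obtain ⟨u, hu, hud⟩ : ∃ u ∈ D 0, u ∉ F ∙ d := by
      by_contra! hall
      have := Submodule.finrank_mono (show D 0 ≤ F ∙ d from hall)
      rw [finrank_span_singleton hd0] at this
      omega
    obtain ⟨f, hf, -, hf1⟩ := h.exists_partner hQ (S := ⊥) bot_le hd (by simpa using hd0)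
    rw [polar_comm] at hf1
    obtain ⟨k, hk'⟩ := exists_isSiegel hQ (h.left d hd) (polar_of_ts h.left hd hu)
    refine ⟨k, hk'.mem_commutator hQ h4 hp (by omega), fun hkH => ?_⟩
    have hkU : (D 0).map (k.1 : (ι → F) →ₗ[F] (ι → F)) = D 0 := siegel_mem_stab hd hu hk'
    rcases (perm_pair_iff D k).1 ((orthToGL_mem_decomp Q hQf D k).1 hkH) with ⟨-, h1⟩ | ⟨h0, -⟩
    · have hkf : k.1 f ∈ D 1 := h1 ▸ ⟨f, hf, rfl⟩
      rw [hk'.2.2, hf1, one_smul, add_assoc] at hkf
      have hmem : u + (-(polar Q u f) - Q u * 1) • d ∈ D 0 ⊓ D 1 :=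
        ⟨(D 0).add_mem hu ((D 0).smul_mem _ hd), by simpa using (D 1).sub_mem hkf hf⟩
      rw [h.inf, Submodule.mem_bot] at hmem
      exact hud (Submodule.mem_span_singleton.2 ⟨polar Q u f + Q u, by
        conv_rhs => rw [eq_neg_of_add_eq_zero_left hmem]
        module⟩)
    · rw [hkU] at h0
      have := h.inf
      rw [← h0, inf_idem] at this
      rw [this, finrank_bot] at hk
      omega
  · refine h.top hQ h4 (by omega) hev hk (fun y hy hyc => hM y hy ?_) hg hgΩ fun hc => hgH ?_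
    · exact (orthToGL_mem_decomp Q hQf D y).2 ((perm_pair_iff D y).2 hyc)
    · exact (orthToGL_mem_decomp Q hQf D g).2 ((perm_pair_iff D g).2 hc)

end CfsgLib.Classical
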