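import Mathlib

/-!
# Tensor products of bilinear forms
-/

set_option autoImplicit false

open Module TensorProduct

namespace CfsgLib.Classical.TensorForms

variable {F U W : Type*} [Field F] [AddCommGroup U] [Module F U] [AddCommGroup W] [Module F W]

theorem tmul_apply (B₁ : LinearMap.BilinForm F U) (B₂ : LinearMap.BilinForm F W) (u u' : U) (w w' : W) :
    (B₁.tmul B₂) (u ⊗ₜ[F] w) (u' ⊗ₜ[F] w') = B₂ w w' * B₁ u u' :=
  LinearMap.BilinForm.tensorDistrib_tmul (A := F) (R := F) B₁ B₂ u w u' w'

theorem tmul_nondegenerate [FiniteDimensional F U] [FiniteDimensional F W] {B₁ : LinearMap.BilinForm F U}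
    {B₂ : LinearMap.BilinForm F W} (h₁ : B₁.Nondegenerate) (h₂ : B₂.Nondegenerate) (hs : (B₁.tmul B₂).IsSymm) :
    (B₁.tmul B₂).Nondegenerate := by
  classical
  have hleft : ∀ x, (∀ y, (B₁.tmul B₂) x y = 0) → x = 0 := by
    intro x hx
    let b := Module.finBasis F U
    let c := Module.finBasis F W
    let T := (B₁.dualBasis h₁ b).tensorProduct (B₂.dualBasis h₂ c)
    apply T.ext_elem
    intro p
    rw [map_zero, Finsupp.zero_apply]
    have h := hx (b p.1 ⊗ₜ c p.2)
    rw [← T.sum_repr x] at h
    simp only [map_sum, map_smul, LinearMap.sum_apply, LinearMap.smul_apply, smul_eq_mul, T,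
      Basis.tensorProduct_apply', tmul_apply, LinearMap.BilinForm.apply_dualBasis_left] at h
    rw [Finset.sum_eq_single p (fun q _ hq => by
      rcases ne_or_eq q.2 p.2 with h' | h'
      · simp [Ne.symm h']
      · have : q.1 ≠ p.1 := fun e => hq (Prod.ext e h')
        simp [Ne.symm this]) (by simp)] at h
    simpa [T] using h
  exact ⟨hleft, fun y hy => hleft y fun x => (hs.eq y x).trans (hy x)⟩

/-- A totally isotropic subspace of one factor gives one of the tensor product. -/
theorem exists_isotropic_tmul [FiniteDimensional F U] [FiniteDimensional F W] (B₁ : LinearMap.BilinForm F U)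
    (B₂ : LinearMap.BilinForm F W) (L : Submodule F U) (hL : ∀ x ∈ L, ∀ y ∈ L, B₁ x y = 0) :
    ∃ X : Submodule F (U ⊗[F] W), finrank F X = finrank F L * finrank F W ∧
      ∀ x ∈ X, ∀ y ∈ X, (B₁.tmul B₂) x y = 0 := by
  refine ⟨LinearMap.range (TensorProduct.map L.subtype (LinearMap.id : W →ₗ[F] W)), ?_, ?_⟩
  · exact (LinearMap.finrank_range_of_inj (Module.Flat.rTensor_preserves_injective_linearMap (M := W) L.subtype
      L.injective_subtype)).trans Module.finrank_tensorProduct
  · rintro _ ⟨x, rfl⟩ _ ⟨y, rfl⟩
    induction x using TensorProduct.induction_on with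
    | zero => simp
    | add x x' hx hx' => rw [map_add, map_add, LinearMap.add_apply, hx, hx', add_zero]
    | tmul u w =>
      induction y using TensorProduct.induction_on with
      | zero => simp
      | add y y' hy hy' => rw [map_add, map_add, hy, hy', add_zero]
      | tmul u' w' => simp [tmul_apply, hL u u.2 u' u'.2]

end CfsgLib.Classical.TensorForms
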