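import Cfsg.Agent.Lib.Orth.Classify
import Cfsg.Agent.Lib.KnownC.Discr
import Cfsg.Agent.Lib.Classical.TensorForms

/-!
# The discriminant detects the type of an even-dimensional orthogonal space
-/

set_option autoImplicit false
set_option linter.unusedSectionVars false

open Module Matrix
open scoped Kronecker TensorProduct

namespace CfsgLib.Classical.Discriminant

variable {F V : Type*} [Field F] [AddCommGroup V] [Module F V] [FiniteDimensional F V]

theorem isSquare_det_iff (B : LinearMap.BilinForm F V) {κ κ' : Type*} [Fintype κ] [DecidableEq κ] [Fintype κ']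
    [DecidableEq κ'] (b : Basis κ F V) (c : Basis κ' F V) (s : F) :
    IsSquare (s * (LinearMap.BilinForm.toMatrix b B).det) ↔ IsSquare (s * (LinearMap.BilinForm.toMatrix c B).det) := by
  set e := b.indexEquiv c
  have hre : (LinearMap.BilinForm.toMatrix (b.reindex e) B).det = (LinearMap.BilinForm.toMatrix b B).det := by
    rw [show LinearMap.BilinForm.toMatrix (b.reindex e) B = (LinearMap.BilinForm.toMatrix b B).submatrix e.symm e.symm by
      ext i j; simp [LinearMap.BilinForm.toMatrix_apply], Matrix.det_submatrix_equiv_self]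
  rw [← hre]
  set b' := b.reindex e
  have h := LinearMap.BilinForm.toMatrix_mul_basis_toMatrix b' c B
  have hP : (b'.toMatrix c).det ≠ 0 := fun h0 => by
    have := congrArg Matrix.det (b'.toMatrix_mul_toMatrix_flip c)
    rw [det_mul, h0, zero_mul, det_one] at this
    exact zero_ne_one this
  rw [← h, det_mul, det_mul, det_transpose]
  constructor
  · rintro ⟨r, hr⟩
    exact ⟨r * (b'.toMatrix c).det, by linear_combination ((b'.toMatrix c).det ^ 2) * hr⟩
  · rintro ⟨r, hr⟩
    exact ⟨r / (b'.toMatrix c).det, by field_simp; linear_combination hr⟩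

/-- A totally isotropic subspace of half dimension makes the signed discriminant a square. -/
theorem isSquare_of_lagrangian (B : LinearMap.BilinForm F V) (hS : B.IsSymm) {m : ℕ} (hV : finrank F V = 2 * m)
    (L : Submodule F V) (hL : finrank F L = m) (hiso : ∀ x ∈ L, ∀ y ∈ L, B x y = 0)
    {κ : Type*} [Fintype κ] [DecidableEq κ] (b : Basis κ F V) :
    IsSquare ((-1 : F) ^ m * (LinearMap.BilinForm.toMatrix b B).det) := by
  classical
  obtain ⟨C, hC⟩ := L.exists_isCompl
  have hCd : finrank F C = m := by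
    have := Submodule.finrank_add_eq_of_isCompl hC
    omega
  let bb : Basis (Fin m ⊕ Fin m) F V := ((Module.finBasisOfFinrankEq F L hL).prod
    (Module.finBasisOfFinrankEq F C hCd)).map (Submodule.prodEquivOfIsCompl L C hC)
  rw [isSquare_det_iff B b bb]
  set M := LinearMap.BilinForm.toMatrix bb B
  have hbL : ∀ i, bb (Sum.inl i) ∈ L := fun i => by simp [bb]
  have hM : M = fromBlocks 0 M.toBlocks₁₂ M.toBlocks₂₁ M.toBlocks₂₂ := by
    conv_lhs => rw [← Matrix.fromBlocks_toBlocks M]
    congr 1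
    ext i j
    show M (Sum.inl i) (Sum.inl j) = 0
    exact (LinearMap.BilinForm.toMatrix_apply (b := bb) B _ _).trans (hiso _ (hbL i) _ (hbL j))
  have hT : M.toBlocks₂₁ = M.toBlocks₁₂ᵀ := by
    ext i j
    show M (Sum.inr i) (Sum.inl j) = M (Sum.inl j) (Sum.inr i)
    exact (LinearMap.BilinForm.toMatrix_apply (b := bb) B _ _).trans
      ((hS.eq _ _).trans (LinearMap.BilinForm.toMatrix_apply (b := bb) B _ _).symm)
  have h := congrArg Matrix.det (show M * fromBlocks 0 1 1 0 = fromBlocks M.toBlocks₁₂ 0 M.toBlocks₂₂ M.toBlocks₂₁ by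
    conv_lhs => rw [hM]
    simp [fromBlocks_multiply])
  rw [det_mul, det_fromBlocks_zero₁₂, CfsgLib.KnownC.Discr.det_hyp, hT, det_transpose] at h
  exact ⟨M.toBlocks₁₂.det, by linear_combination h⟩

/-- An even-dimensional space with square signed discriminant has a totally isotropic half. -/
theorem exists_lagrangian_of_isSquare [Fintype F] (h2 : (2 : F) ≠ 0) (B : LinearMap.BilinForm F V)
    (hB : B.Nondegenerate) (hS : B.IsSymm) {m : ℕ} (hV : finrank F V = 2 * m)
    {κ : Type*} [Fintype κ] [DecidableEq κ] (b : Basis κ F V)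
    (hsq : IsSquare ((-1 : F) ^ m * (LinearMap.BilinForm.toMatrix b B).det)) :
    ∃ X : Submodule F V, finrank F X = m ∧ ∀ x ∈ X, ∀ y ∈ X, B x y = 0 := by
  classical
  have hQpolar : ∀ x y, QuadraticMap.polar B.toQuadraticMap x y = 2 * B x y := fun x y => by
    rw [LinearMap.BilinMap.polar_toQuadraticMap, hS.eq y x]; ring
  have hQ : (QuadraticMap.polarBilin B.toQuadraticMap).Nondegenerate :=
    CfsgLib.Orth.nondegenerate_of_left fun v hv => hB.1 v fun w =>
      (mul_eq_zero.1 ((hQpolar v w).symm.trans (hv w))).resolve_left h2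
  rcases CfsgLib.Orth.classify_even hQ hV with ⟨e, he⟩ | ⟨hm, e, ζ, hζ, he⟩
  · let ι₁ : (Fin m → F) →ₗ[F] (Fin m ⊕ Fin m → F) :=
      { toFun := fun u => Sum.elim u 0
        map_add' := fun u w => by funext i; cases i <;> simp
        map_smul' := fun c u => by funext i; cases i <;> simp }
    refine ⟨LinearMap.range (e.toLinearMap ∘ₗ ι₁), ?_, ?_⟩
    · rw [LinearMap.finrank_range_of_inj, Module.finrank_fin_fun]
      intro u w h
      exact funext fun i => congrFun (e.injective h) (Sum.inl i)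
    · rintro _ ⟨u, rfl⟩ _ ⟨w, rfl⟩
      refine (mul_eq_zero.1 ?_).resolve_left h2
      rw [← hQpolar, LinearMap.comp_apply, LinearMap.comp_apply, LinearEquiv.coe_coe, QuadraticMap.polar, ← map_add,
        he, he, he, ← QuadraticMap.polar, CfsgLib.Orth.plusForm_polar]
      simp [ι₁]
  · exfalso
    let bb : Basis ((Fin (m - 1) ⊕ Fin (m - 1)) ⊕ Fin 2) F V := (Pi.basisFun F _).map e
    rw [isSquare_det_iff B b bb] at hsq
    set M₀ : Matrix ((Fin (m - 1) ⊕ Fin (m - 1)) ⊕ Fin 2) ((Fin (m - 1) ⊕ Fin (m - 1)) ⊕ Fin 2) F :=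
      fromBlocks (fromBlocks 0 1 1 0) 0 0 !![2, 1; 1, 2 * ζ] with hM₀
    have hM : LinearMap.BilinForm.toMatrix bb B = (2 : F)⁻¹ • M₀ := by
      ext i j
      rw [LinearMap.BilinForm.toMatrix_apply, Matrix.smul_apply, smul_eq_mul, eq_inv_mul_iff_mul_eq₀ h2, ← hQpolar]
      simp only [bb, Basis.map_apply, Pi.basisFun_apply]
      rw [QuadraticMap.polar, ← map_add, he, he, he, ← CfsgLib.Orth.minusForm_apply, ← CfsgLib.Orth.minusForm_apply,
        ← CfsgLib.Orth.minusForm_apply, ← QuadraticMap.polar, CfsgLib.KnownC.Discr.polar_minus]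
      simp [hM₀]
    rw [hM, det_smul, hM₀, det_fromBlocks_zero₂₁, CfsgLib.KnownC.Discr.det_hyp, det_fin_two_of] at hsq
    simp only [Fintype.card_sum, Fintype.card_fin] at hsq
    obtain ⟨k, rfl⟩ : ∃ k, m = k + 1 := ⟨m - 1, by omega⟩
    simp only [Nat.add_sub_cancel] at hsq
    obtain ⟨r, hr⟩ := hsq
    have hk : ((-1 : F) ^ k) * (-1) ^ k = 1 := by rw [← mul_pow]; simp
    have hpw : (2 : F)⁻¹ ^ (k + k + 2) = ((2 : F)⁻¹ ^ (k + 1)) * (2 : F)⁻¹ ^ (k + 1) := by
      rw [← pow_add]; congr 1; omega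
    set a := (2 : F)⁻¹ ^ (k + 1)
    have ha : a ≠ 0 := pow_ne_zero _ (inv_ne_zero h2)
    have h1 : (1 - 4 * ζ) * (a * a) = r * r := by
      rw [hpw, pow_succ] at hr
      linear_combination hr - ((1 - 4 * ζ) * (a * a)) * hk
    refine hζ ((r / a - 1) / 2) ?_
    field_simp
    linear_combination -h1

theorem toMatrix_tmul {U W : Type*} [AddCommGroup U] [Module F U] [AddCommGroup W] [Module F W] {κ κ' : Type*}
    [Fintype κ] [DecidableEq κ] [Fintype κ'] [DecidableEq κ'] (b : Basis κ F U) (c : Basis κ' F W)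
    (B₁ : LinearMap.BilinForm F U) (B₂ : LinearMap.BilinForm F W) :
    LinearMap.BilinForm.toMatrix (b.tensorProduct c) (B₁.tmul B₂) =
      LinearMap.BilinForm.toMatrix b B₁ ⊗ₖ LinearMap.BilinForm.toMatrix c B₂ := by
  ext p r
  rw [LinearMap.BilinForm.toMatrix_apply, Basis.tensorProduct_apply', Basis.tensorProduct_apply',
    TensorForms.tmul_apply, kroneckerMap_apply, LinearMap.BilinForm.toMatrix_apply,
    LinearMap.BilinForm.toMatrix_apply, mul_comm]

end CfsgLib.Classical.Discriminant
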