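import Cfsg.Agent.Lib.Classical.OrthMaxTS
import Cfsg.Agent.Lib.Orth.Classify
import Cfsg.Agent.Lib.KnownC.OrthTools

/-!
# Maximality of stabilisers of non-degenerate subspaces in `Ω(Q)`
-/

set_option autoImplicit false
set_option linter.unusedSectionVars false

open Module QuadraticMap CfsgLib.Orth

namespace CfsgLib.Classical

variable {F V : Type*} [Field F] [AddCommGroup V] [Module F V] [FiniteDimensional F V] {Q : QuadraticForm F V}

/-- The orthogonal complement with respect to the polar form. -/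
abbrev qperp (Q : QuadraticForm F V) (U : Submodule F V) : Submodule F V :=
  LinearMap.BilinForm.orthogonal (QuadraticMap.polarBilin Q) U

/-- The polar form is non-degenerate on `U`. -/
abbrev NdSub (Q : QuadraticForm F V) (U : Submodule F V) : Prop :=
  (QuadraticMap.polarBilin (Q.comp U.subtype)).Nondegenerate

theorem polar_qperp {U : Submodule F V} {u w : V} (hu : u ∈ U) (hw : w ∈ qperp Q U) : polar Q u w = 0 := hw u hu

theorem polar_qperp' {U : Submodule F V} {u w : V} (hu : u ∈ U) (hw : w ∈ qperp Q U) : polar Q w u = 0 := by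
  rw [polar_comm]; exact hw u hu

theorem polar_sub' (U : Submodule F V) (x y : U) : polar (Q.comp U.subtype) x y = polar Q (x : V) y := rfl

theorem ndSub_decomp {U : Submodule F V} (hU : NdSub Q U) (v : V) :
    ∃ u ∈ U, ∃ w ∈ qperp Q U, v = u + w := by
  obtain ⟨z, hz⟩ := exists_polar_eq hU ((QuadraticMap.polarBilin Q v).comp U.subtype)
  refine ⟨z, z.2, v - z, fun x hx => ?_, by abel⟩
  show polar Q x (v - z) = 0
  have h := hz ⟨x, hx⟩
  change polar Q (z : V) x = polar Q v x at h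
  rw [polar_sub_right, polar_comm _ x v, polar_comm _ x (z : V), h, sub_self]

theorem ndSub_eq_zero {U : Submodule F V} (hU : NdSub Q U) {u : V} (hu : u ∈ U) (hp : u ∈ qperp Q U) : u = 0 :=
  congrArg Subtype.val (hU.1 ⟨u, hu⟩ fun x => (polar_qperp' x.2 hp : polar Q u (x : V) = 0))

theorem ndSub_of_on {U : Submodule F V} (h : ∀ w ∈ U, w ≠ 0 → ∃ x ∈ U, polar Q w x ≠ 0) : NdSub Q U := by
  refine nondegenerate_of_left fun v hv => ?_
  by_contra hne
  obtain ⟨x, hx, h'⟩ := h v v.2 (fun e => hne (Subtype.ext e))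
  exact h' (hv ⟨x, hx⟩)

theorem polar_qperp_refl : LinearMap.BilinForm.IsRefl (QuadraticMap.polarBilin Q) := fun x y h => by
  change polar Q y x = 0
  rw [polar_comm]; exact h

/-- An element preserving `U` preserves its orthogonal complement. -/
theorem stab_le_stab_qperp (U : Submodule F V) : stab (Q := Q) U ≤ stab (Q := Q) (qperp Q U) := fun k hk => by
  refine mem_stab_of_le fun w hw u hu => ?_
  obtain ⟨u', hu', rfl⟩ := (show u ∈ U.map (k.1 : V →ₗ[F] V) from (show U.map _ = U from hk).symm ▸ hu)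
  show polar Q (k.1 u') (k.1 w) = 0
  rw [polar_isom]
  exact hw u' hu'

theorem siegel_mem_stab {U : Submodule F V} {g : orthGroup Q} {d y : V} (hd : d ∈ U) (hy : y ∈ U)
    (hg : IsSiegel g d y) : g ∈ stab (Q := Q) U := mem_stab_of_le fun x hx => by
  rw [hg.2.2]; exact U.add_mem (U.add_mem hx (U.smul_mem _ hy)) (U.smul_mem _ hd)

theorem IsSiegel.fix {g : orthGroup Q} {d y v : V} (hg : IsSiegel g d y) (h1 : polar Q d v = 0)
    (h2 : polar Q y v = 0) : g.1 v = v := by
  rw [hg.2.2, h1, h2]; simp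

theorem IsSiegel.swap {g : orthGroup Q} {d x : V} (hx : Q x = 0) (hg : IsSiegel g d x) : IsSiegel g x (-d) := by
  obtain ⟨hd, hdx, hg⟩ := hg
  refine ⟨hx, by rw [polar_neg_right, polar_comm, hdx, neg_zero], fun v => ?_⟩
  rw [hg, hx, QuadraticMap.map_neg, hd, polar_neg_left]
  module

theorem SiegelIn.conj {M : Subgroup (orthGroup Q)} {d u : V} (h : SiegelIn M d u) {k : orthGroup Q} (hk : k ∈ M) :
    SiegelIn M (k.1 d) (k.1 u) := fun g hg => by
  have h1 := hg.conj k⁻¹
  rw [inv_inv, show (k⁻¹).1 (k.1 d) = d from k.1.symm_apply_apply d,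
    show (k⁻¹).1 (k.1 u) = u from k.1.symm_apply_apply u] at h1
  have h2 := M.mul_mem (M.mul_mem hk (h _ h1)) (M.inv_mem hk)
  simpa [mul_assoc] using h2

variable (hQ : (QuadraticMap.polarBilin Q).Nondegenerate)
include hQ

theorem qperp_qperp (U : Submodule F V) : qperp Q (qperp Q U) = U :=
  LinearMap.BilinForm.orthogonal_orthogonal hQ polar_qperp_refl U

theorem ndSub_qperp {U : Submodule F V} (hU : NdSub Q U) : NdSub Q (qperp Q U) := by
  refine ndSub_of_on fun w hw hw0 => ?_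
  by_contra! hall
  exact hw0 (ndSub_eq_zero hU (qperp_qperp hQ U ▸ fun x hx => (polar_comm _ _ _).trans (hall x hx)) hw)

theorem finrank_qperp (U : Submodule F V) : finrank F (qperp Q U) + finrank F U = finrank F V := by
  rw [LinearMap.BilinForm.finrank_orthogonal hQ]
  have := U.finrank_le
  omega

theorem stab_qperp_eq (U : Submodule F V) : stab (Q := Q) (qperp Q U) = stab (Q := Q) U := by
  refine le_antisymm (fun k hk => ?_) (stab_le_stab_qperp U)
  rw [← qperp_qperp hQ U]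
  exact stab_le_stab_qperp _ hk

theorem SiegelIn.neg {M : Subgroup (orthGroup Q)} {d u : V} (hd : Q d = 0) (hu : polar Q d u = 0)
    (h : SiegelIn M d u) : SiegelIn M d (-u) := by
  intro g hg
  obtain ⟨s, hs⟩ := exists_isSiegel hQ hd hu
  have h0 : IsSiegel (g * s) d (-u + u) := hg.mul hs
  rw [neg_add_cancel] at h0
  rw [eq_inv_of_mul_eq_one_left (h0.unique (isSiegel_one hd))]
  exact M.inv_mem (h s hs)

/-- A Siegel transformation along `r` moving `x` to `y`. -/
theorem siegel_move {r x y : V} (hr : Q r = 0) (hx : Q x = 0) (hy : Q y = 0) (hrx : polar Q r x ≠ 0)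
    (hry : polar Q r y = polar Q r x) :
    ∃ g : orthGroup Q, IsSiegel g r ((polar Q r x)⁻¹ • (y - x)) ∧ g.1 x = y := by
  obtain ⟨g, hg⟩ := exists_isSiegel hQ hr
    (show polar Q r ((polar Q r x)⁻¹ • (y - x)) = 0 by rw [polar_smul_r', polar_sub_right, hry, sub_self, mul_zero])
  refine ⟨g, hg, ?_⟩
  rw [hg.2.2, quad_smul', sub_eq_add_neg, quad_add', QuadraticMap.map_neg, hy, hx, polar_smul_l', polar_neg_right,
    polar_add_left, polar_neg_left, polar_self', hx, polar_comm _ y x]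
  match_scalars <;> field_simp <;> ring

variable [Fintype F]

/-- Hyperbolic pairs inside `U` at a prescribed singular vector. -/
theorem side_pairs {U : Submodule F V} (hU : NdSub Q U) (hk : 5 ≤ finrank F U) {x : V} (hxU : x ∈ U)
    (hx : Q x = 0) (hx0 : x ≠ 0) :
    ∃ hp : HypPairs Q, hp.e₀ = x ∧ hp.f₀ ∈ U ∧ hp.e₁ ∈ U ∧ hp.f₁ ∈ U := by
  obtain ⟨hp⟩ := exists_hypPairs hU hk
  obtain ⟨hp', h⟩ := hp.exists_at hU (d := ⟨x, hxU⟩) hx (fun e => hx0 (congrArg Subtype.val e))
  exact ⟨hp'.ofPreserving U.subtype (fun _ => rfl), congrArg Subtype.val h, hp'.f₀.2, hp'.e₁.2, hp'.f₁.2⟩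

theorem side_singular {U : Submodule F V} (hU : NdSub Q U) (hk : 5 ≤ finrank F U) :
    ∃ x ∈ U, Q x = 0 ∧ x ≠ 0 := by
  obtain ⟨hp⟩ := exists_hypPairs hU hk
  exact ⟨hp.e₀, hp.e₀.2, hp.he₀, fun e => hp.e₀_ne_zero (Subtype.ext e)⟩

omit [Fintype F] in
/-- In an isotropic non-degenerate space, singular vectors detect every non-zero vector. -/
theorem exists_singular_polar {U : Submodule F V} (hU : NdSub Q U) {e : V} (heU : e ∈ U) (he : Q e = 0)
    (he0 : e ≠ 0) {c : V} (hcU : c ∈ U) (hc0 : c ≠ 0) : ∃ s ∈ U, Q s = 0 ∧ polar Q s c ≠ 0 := by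
  by_contra! hall
  obtain ⟨a', ha'⟩ : ∃ a ∈ U, polar Q e a ≠ 0 := by
    by_contra! h
    exact he0 (ndSub_eq_zero hU heU fun x hx => (polar_comm _ _ _).trans (h x hx))
  obtain ⟨haU, hae⟩ := ha'
  obtain ⟨a, haU', hea⟩ : ∃ a ∈ U, polar Q e a = 1 :=
    ⟨(polar Q e a')⁻¹ • a', U.smul_mem _ haU, by rw [polar_smul_r', inv_mul_cancel₀ hae]⟩
  obtain ⟨f, hfU, hf, hef⟩ : ∃ f ∈ U, Q f = 0 ∧ polar Q e f = 1 :=
    ⟨a + (-Q a) • e, U.add_mem haU' (U.smul_mem _ heU),
      by rw [quad_add', quad_smul', polar_smul_r', he, polar_comm _ a e, hea]; ring,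
      by rw [polar_add_right, polar_smul_r', hea, polar_self', he]; ring⟩
  refine hc0 (ndSub_eq_zero hU hcU fun v hv => ?_)
  show polar Q v c = 0
  set z := v - polar Q f v • e - polar Q e v • f with hz
  have hzU : z ∈ U := U.sub_mem (U.sub_mem hv (U.smul_mem _ heU)) (U.smul_mem _ hfU)
  have hze : polar Q e z = 0 := by
    simp only [hz, polar_sub_right, polar_smul_r', polar_self', he, hef]; ring
  have hzf : polar Q f z = 0 := by
    simp only [hz, polar_sub_right, polar_smul_r', polar_self', hf, polar_comm _ f e, hef]; ring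
  have hs0 : Q (z + e + (-Q z) • f) = 0 := by
    simp only [quad_add', quad_smul', polar_add_left, polar_smul_r', he, hf, hef,
      polar_comm _ z e, polar_comm _ z f, hze, hzf]
    ring
  have h := hall _ (U.add_mem (U.add_mem hzU heU) (U.smul_mem _ hfU)) hs0
  rw [show v = (z + e + (-Q z) • f) + (polar Q f v - 1) • e + (polar Q e v + Q z) • f by rw [hz]; module,
    polar_add_left, polar_add_left, polar_smul_l', polar_smul_l', h, hall e heU he, hall f hfU hf]
  ring

/-- A subspace invariant under reflections and Siegel transformations is trivial. -/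
theorem invariant_eq {P T : Submodule F V} (hP : NdSub Q P) (hTP : T ≤ P) (hT0 : T ≠ ⊥)
    (hr : ∀ w ∈ P, Q w ≠ 0 → ∀ c ∈ T, (refl Q w).1 c ∈ T)
    (hs : ∀ e ∈ P, ∀ y ∈ P, ∀ g : orthGroup Q, IsSiegel g e y → ∀ c ∈ T, g.1 c ∈ T)
    (hgood : 4 ≤ Fintype.card F ∨ 3 ≤ finrank F P ∨ ∀ v ∈ P, Q v = 0 → v = 0) : P ≤ T := by
  classical
  obtain ⟨c₀, hc₀, hc₀0⟩ := Submodule.exists_mem_ne_zero_of_ne_bot hT0
  by_cases h3 : 3 ≤ finrank F P
  · obtain ⟨e₀, he₀0, he₀⟩ := exists_singular hP h3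
    obtain ⟨e, heP, he, hec⟩ := exists_singular_polar hQ hP e₀.2 he₀ (fun h => he₀0 (Subtype.ext h)) (hTP hc₀) hc₀0
    set b := polar Q e c₀
    have hD : ∀ y ∈ P, polar Q e y = 0 → b • y + (-(polar Q y c₀) - Q y * b) • e ∈ T := fun y hy hey => by
      obtain ⟨g, hg⟩ := exists_isSiegel hQ he hey
      have h := T.sub_mem (hs e heP y hy g hg c₀ hc₀) hc₀
      rw [hg.2.2 c₀, add_assoc, add_sub_cancel_left] at h
      exact h
    obtain ⟨y, hy, hey, z, hz, hez, hyz⟩ : ∃ y ∈ P, polar Q e y = 0 ∧ ∃ z ∈ P, polar Q e z = 0 ∧ polar Q y z ≠ 0 := by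
      by_contra! hall
      set K := qperp (Q.comp P.subtype) (F ∙ (⟨e, heP⟩ : P))
      have hKe : ∀ x ∈ K, polar Q e (x : V) = 0 := fun x hx => hx _ (Submodule.mem_span_singleton_self _)
      have hK : K ≤ F ∙ (⟨e, heP⟩ : P) := by
        rw [← qperp_qperp hP (F ∙ (⟨e, heP⟩ : P))]
        exact fun x hx z hz => hall z z.2 (hKe z hz) x x.2 (hKe x hx)
      have h1 := Submodule.finrank_mono hK
      have h2 := finrank_qperp hP (F ∙ (⟨e, heP⟩ : P))
      rw [finrank_span_singleton (fun h => hec (by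
        show polar Q e c₀ = 0
        rw [show e = 0 from congrArg Subtype.val h, polar_zero_left]))] at h1 h2
      change finrank F K + 1 = _ at h2
      omega
    have heT : e ∈ T := by
      have h := T.sub_mem (T.sub_mem (hD (y + z) (P.add_mem hy hz) (by rw [polar_add_right, hey, hez, add_zero]))
        (hD y hy hey)) (hD z hz hez)
      rw [quad_add', polar_add_left] at h
      refine (T.smul_mem_iff (s := -(polar Q y z * b)) (neg_ne_zero.2 (mul_ne_zero hyz hec))).1 ?_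
      convert h using 1
      module
    intro v hv
    set x := v + (-(polar Q e v / b)) • c₀
    have hxT : x ∈ T := by
      have hex : polar Q e x = 0 := by
        simp only [x, polar_add_right, polar_smul_r']
        show polar Q e v + -(polar Q e v / b) * b = 0
        rw [neg_mul, div_mul_cancel₀ _ hec]; ring
      have h := T.sub_mem (hD x (P.add_mem hv (P.smul_mem _ (hTP hc₀))) hex)
        (T.smul_mem (-(polar Q x c₀) - Q x * b) heT)
      rw [add_sub_cancel_right] at h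
      exact (T.smul_mem_iff hec).1 h
    have := T.add_mem hxT (T.smul_mem (polar Q e v / b) hc₀)
    convert this using 1
    simp only [x]
    module
  by_contra hne
  obtain ⟨v₁, hv₁, hv₁T⟩ := SetLike.not_le_iff_exists.1 hne
  obtain ⟨v₂, hv₂, hv₂c⟩ : ∃ v ∈ P, ∃ c ∈ T, polar Q v c ≠ 0 := by
    by_contra! h
    exact hc₀0 (ndSub_eq_zero hP (hTP hc₀) fun v hv => h v hv c₀ hc₀)
  obtain ⟨v, hv, hvT, c, hc, hvc⟩ : ∃ v ∈ P, v ∉ T ∧ ∃ c ∈ T, polar Q v c ≠ 0 := by
    by_cases h1 : ∃ c ∈ T, polar Q v₁ c ≠ 0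
    · exact ⟨v₁, hv₁, hv₁T, h1⟩
    push Not at h1
    by_cases h2 : v₂ ∈ T
    swap
    · exact ⟨v₂, hv₂, h2, hv₂c⟩
    obtain ⟨c, hc, hvc⟩ := hv₂c
    exact ⟨v₁ + v₂, P.add_mem hv₁ hv₂, fun h => hv₁T (by simpa using T.sub_mem h h2), c, hc, by
      rw [polar_add_left, h1 c hc, zero_add]; exact hvc⟩
  have key : ∀ w ∈ P, Q w ≠ 0 → w ∉ T → ∀ c ∈ T, polar Q w c = 0 := fun w hw hw0 hwT c hc => by
    by_contra h
    have h' := T.sub_mem hc (hr w hw hw0 c hc)
    rw [refl_apply, sub_sub_cancel] at h'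
    exact hwT ((T.smul_mem_iff (mul_ne_zero (inv_ne_zero hw0) h)).1 h')
  have hv0 : Q v = 0 := by
    by_contra h
    exact hvc (key v hv h hvT c hc)
  rcases hgood with hq | hq | hq
  · obtain ⟨t, ht0, ht1, ht2⟩ : ∃ t : F, t ≠ 0 ∧ polar Q v c + Q c * t ≠ 0 ∧ polar Q v c + 2 * t * Q c ≠ 0 := by
      by_cases hcq : Q c = 0
      · exact ⟨1, one_ne_zero, by simp [hcq, hvc], by simp [hcq, hvc]⟩
      obtain ⟨t, ht⟩ : ∃ t : F, t ∉ ({0, -polar Q v c / Q c, -polar Q v c / (2 * Q c)} : Finset F) := by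
        by_contra! h
        have h1 := Finset.card_le_card (show Finset.univ ⊆ _ from fun t _ => h t)
        have h2 := Finset.card_le_three (a := (0 : F)) (b := -polar Q v c / Q c) (c := -polar Q v c / (2 * Q c))
        rw [Finset.card_univ] at h1
        omega
      simp only [Finset.mem_insert, Finset.mem_singleton, not_or] at ht
      refine ⟨t, ht.1, fun h => ht.2.1 ?_, fun h => ?_⟩
      · rw [eq_div_iff hcq]; linear_combination h
      · by_cases h2 : (2 : F) = 0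
        · rw [h2, zero_mul, zero_mul, add_zero] at h; exact hvc h
        · apply ht.2.2; rw [eq_div_iff (mul_ne_zero h2 hcq)]; linear_combination h
    have h := key (v + t • c) (P.add_mem hv (P.smul_mem _ (hTP hc))) (by
      rw [quad_add', quad_smul', polar_smul_r', hv0]
      intro h
      exact mul_ne_zero ht0 ht1 (by linear_combination h))
      (fun h => hvT (by simpa using T.sub_mem h (T.smul_mem t hc))) c hc
    rw [polar_add_left, polar_smul_l', polar_self'] at h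
    exact ht2 (by linear_combination h)
  · exact h3 hq
  · exact hvc (by rw [hq v hv hv0, polar_zero_left])

variable (h4 : Good F V) (hn : 5 ≤ finrank F V)
include h4 hn

/-- A pair of reflections with square product of values lies in `Ω`. -/
theorem refl_pair_mem {a b : V} (ha : Q a ≠ 0) (hb : Q b ≠ 0) (h : IsSquare (Q a * Q b)) :
    refl Q a * refl Q b ∈ commutator (orthGroup Q) := by
  rw [Orth.mem_commutator_iff, map_mul, ← ab_refl_eq hQ h4 ha hb h]
  exact ab_refl_sq a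

section Side

variable {U : Submodule F V} (hU : NdSub Q U) (hk : 5 ≤ finrank F U)
  {M : Subgroup (orthGroup Q)} (hM : stab (Q := Q) U ⊓ commutator (orthGroup Q) ≤ M)
include hU hk hM

omit hU hk in
theorem siegelIn_side {d y : V} (hd : d ∈ U) (hy : y ∈ U) : SiegelIn M d y := fun g hg => by
  obtain ⟨hp⟩ := exists_hypPairs hQ hn
  exact hM ⟨siegel_mem_stab hd hy hg, hg.mem_commutator hQ h4 hp hn⟩

omit hU hk in
theorem siegelIn_side' {d y : V} (hd : d ∈ qperp Q U) (hy : y ∈ qperp Q U) : SiegelIn M d y := fun g hg => by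
  obtain ⟨hp⟩ := exists_hypPairs hQ hn
  exact hM ⟨stab_qperp_eq hQ U ▸ siegel_mem_stab hd hy hg, hg.mem_commutator hQ h4 hp hn⟩

/-- Moves inside `U` which fix the orthogonal complement. -/
theorem side_move {x y : V} (hxU : x ∈ U) (hx : Q x = 0) (hx0 : x ≠ 0) (hyU : y ∈ U) (hy : Q y = 0) (hy0 : y ≠ 0) :
    ∃ k ∈ M, k.1 x = y ∧ ∀ w ∈ qperp Q U, k.1 w = w := by
  have step : ∀ r x y, r ∈ U → x ∈ U → y ∈ U → Q r = 0 → Q x = 0 → Q y = 0 → polar Q r x ≠ 0 →
      polar Q r y = polar Q r x → ∃ k ∈ M, k.1 x = y ∧ ∀ w ∈ qperp Q U, k.1 w = w := by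
    intro r x y hrU hxU hyU hr hx hy h1 h2
    obtain ⟨g, hg, e⟩ := siegel_move hQ hr hx hy h1 h2
    have hu := U.smul_mem (polar Q r x)⁻¹ (U.sub_mem hyU hxU)
    exact ⟨g, siegelIn_side hQ h4 hn hM hrU hu g hg, e,
      fun w hw => hg.fix (polar_qperp hrU hw) (polar_qperp hu hw)⟩
  have comp : ∀ x y z, (∃ k ∈ M, k.1 x = y ∧ ∀ w ∈ qperp Q U, k.1 w = w) →
      (∃ k ∈ M, k.1 y = z ∧ ∀ w ∈ qperp Q U, k.1 w = w) →
      ∃ k ∈ M, k.1 x = z ∧ ∀ w ∈ qperp Q U, k.1 w = w := by
    rintro x y z ⟨k, hk, e, f⟩ ⟨k', hk', e', f'⟩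
    exact ⟨k' * k, M.mul_mem hk' hk, by show k'.1 (k.1 x) = z; rw [e, e'],
      fun w hw => by show k'.1 (k.1 w) = w; rw [f w hw, f' w hw]⟩
  obtain ⟨r, hr, -, hrx, hry⟩ := exists_common hU hk (d := 0) (x := ⟨x, hxU⟩) (y := ⟨y, hyU⟩) (map_zero _) hx hy
    (by rw [polar_zero_left]) (by rw [polar_zero_left]) (by simpa using hx0) (by simpa using hy0)
  change polar Q x (r : V) ≠ 0 at hrx
  change polar Q y (r : V) ≠ 0 at hry
  rw [polar_comm] at hrx hry
  set t := polar Q (r : V) x / polar Q (r : V) y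
  have ht : t ≠ 0 := div_ne_zero hrx hry
  refine comp x (t • y) y (step r x _ r.2 hxU (U.smul_mem _ hyU) hr hx (by rw [quad_smul', hy, mul_zero]) hrx
    (by rw [polar_smul_r']; exact div_mul_cancel₀ _ hry)) ?_
  obtain ⟨hp, he, hf₀, he₁, hf₁⟩ := side_pairs hQ hU hk hyU hy hy0
  have hty : Q (t • hp.e₀) = 0 := by rw [quad_smul', hp.he₀, mul_zero]
  rw [← he]
  refine comp (t • hp.e₀) hp.e₁ hp.e₀ (step (hp.f₀ + t • hp.f₁) _ _ (U.add_mem hf₀ (U.smul_mem _ hf₁))
    (U.smul_mem _ (he ▸ hyU)) he₁ ?_ hty hp.he₁ ?_ ?_)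
    (step (hp.f₀ + hp.f₁) _ _ (U.add_mem hf₀ hf₁) he₁ (he ▸ hyU) ?_ hp.he₁ hp.he₀ ?_ ?_)
  · simp only [quad_add', quad_smul', polar_smul_r', hp.hf₀, hp.hf₁, hp.hff]; ring
  · simp only [polar_add_left, polar_smul_l', polar_smul_r', hp.c00, hp.cef]; simpa using ht
  · simp only [polar_add_left, polar_smul_l', polar_smul_r', hp.c00, hp.cef, hp.hfe, hp.c11]; ring
  · simp only [quad_add', hp.hf₀, hp.hf₁, hp.hff]; ring
  · simp only [polar_add_left, hp.hfe, hp.c11]; simp
  · simp only [polar_add_left, hp.hfe, hp.c11, hp.c00, hp.cef]; ring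

/-- One mixed Siegel element with axis in `U` gives all axes of `U`. -/
theorem ax_side (hgood : 4 ≤ Fintype.card F ∨ 3 ≤ finrank F (qperp Q U) ∨ ∀ v ∈ qperp Q U, Q v = 0 → v = 0)
    {x₀ c₀ : V} (hx₀U : x₀ ∈ U) (hx₀ : Q x₀ = 0) (hx₀0 : x₀ ≠ 0) (hc₀ : c₀ ∈ qperp Q U) (hc₀0 : c₀ ≠ 0)
    (hseed : SiegelIn M x₀ c₀) {x : V} (hxU : x ∈ U) (hx : Q x = 0) : AxIn M x := by
  by_cases hx0 : x = 0
  · rw [hx0]; exact AxIn.zero M
  have hperp : ∀ c ∈ qperp Q U, polar Q x c = 0 := fun c hc => polar_qperp hxU hc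
  let T : Submodule F V :=
    { carrier := {c | c ∈ qperp Q U ∧ SiegelIn M x c}
      add_mem' := fun {a b} ha hb =>
        ⟨Submodule.add_mem _ ha.1 hb.1, SiegelIn.add hQ hx (hperp a ha.1) (hperp b hb.1) ha.2 hb.2⟩
      zero_mem' := ⟨Submodule.zero_mem _, by simpa using siegelIn_smul_self M hx (0 : F)⟩
      smul_mem' := fun t c hc => ⟨Submodule.smul_mem _ t hc.1, fun g hg => by
        by_cases ht : t = 0
        · subst ht; rw [zero_smul] at hg; rw [hg.unique (isSiegel_one hx)]; exact M.one_mem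
        obtain ⟨k, hk', hkx, hkf⟩ := side_move hQ h4 hn hU hk hM hxU hx hx0 (U.smul_mem t hxU)
          (by rw [quad_smul', hx, mul_zero]) (smul_ne_zero ht hx0)
        have h1 := hc.2.conj hk'
        rw [hkx, hkf c hc.1] at h1
        have h2 : IsSiegel g (t⁻¹ • (t • x)) (t • c) := by rwa [smul_smul, inv_mul_cancel₀ ht, one_smul]
        have h3 := h2.of_smul (inv_ne_zero ht)
        rw [smul_smul, inv_mul_cancel₀ ht, one_smul] at h3
        exact h1 g h3⟩ }
  have hinv : ∀ k ∈ M, k ∈ stab (Q := Q) U → k.1 x = x → ∀ c ∈ T, k.1 c ∈ T := fun k hk' hkU hkx c hc =>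
    ⟨(show (qperp Q U).map _ = qperp Q U from stab_le_stab_qperp U hkU) ▸ ⟨c, hc.1, rfl⟩, by
      have := hc.2.conj hk'
      rwa [hkx] at this⟩
  have hT : qperp Q U ≤ T := by
    refine invariant_eq hQ (ndSub_qperp hQ hU) (fun c hc => hc.1) ?_ ?_ ?_ hgood
    · obtain ⟨k, hk', hkx, hkf⟩ := side_move hQ h4 hn hU hk hM hx₀U hx₀ hx₀0 hxU hx hx0
      refine fun h => hc₀0 ?_
      have h1 := hseed.conj hk'
      rw [hkx, hkf c₀ hc₀] at h1
      exact (Submodule.eq_bot_iff _).1 h c₀ ⟨hc₀, h1⟩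
    · intro w hw hw0 c hc
      obtain ⟨hp, he, -, he₁, hf₁⟩ := side_pairs hQ hU hk hxU hx hx0
      set u := hp.e₁ + Q w • hp.f₁
      have huU : u ∈ U := U.add_mem he₁ (U.smul_mem _ hf₁)
      have hu : Q u = Q w := by
        simp only [u, quad_add', quad_smul', polar_smul_r', hp.he₁, hp.hf₁, hp.h11]; ring
      have hux : polar Q u x = 0 := by
        simp only [u, ← he, polar_add_left, polar_smul_l', hp.cee, hp.cef]; ring
      have hkU : refl Q w * refl Q u ∈ stab (Q := Q) U := mem_stab_of_le fun z hz => by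
        show (refl Q w).1 ((refl Q u).1 z) ∈ U
        have hz' : (refl Q u).1 z ∈ U := by rw [refl_apply]; exact U.sub_mem hz (U.smul_mem _ huU)
        rw [refl_fix Q (polar_qperp' hz' hw)]
        exact hz'
      have h := hinv _ (hM ⟨hkU, refl_pair_mem hQ h4 hn hw0 (by rw [hu]; exact hw0) (by rw [hu]; exact ⟨_, rfl⟩)⟩)
        hkU (by
          show (refl Q w).1 ((refl Q u).1 x) = x
          rw [refl_fix Q hux, refl_fix Q (polar_qperp' hxU hw)]) c hc
      change (refl Q w).1 ((refl Q u).1 c) ∈ T at h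
      rwa [refl_fix Q (polar_qperp huU hc.1)] at h
    · intro e he y hy g hg c hc
      exact hinv g (siegelIn_side' hQ h4 hn hM he hy g hg) (stab_qperp_eq hQ U ▸ siegel_mem_stab he hy hg)
        (hg.fix (polar_qperp' hxU he) (polar_qperp' hxU hy)) c hc
  intro y g hg
  obtain ⟨u, hu, w, hw, rfl⟩ := ndSub_decomp hU y
  have hxw : polar Q x w = 0 := hperp w hw
  have hxu : polar Q x u = 0 := by
    have := hg.2.1
    rwa [polar_add_right, hxw, add_zero] at this
  exact SiegelIn.add hQ hx hxu hxw (siegelIn_side hQ h4 hn hM hxU hu) (hT hw).2 g hg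

omit hM in
/-- Axes throughout `U` generate `Ω`. -/
theorem top_of_ax_side (hax : ∀ x ∈ U, Q x = 0 → AxIn M x) : commutator (orthGroup Q) ≤ M := by
  obtain ⟨hp⟩ := exists_hypPairs hQ hn
  obtain ⟨e, heU, he, he0⟩ := side_singular hQ hU hk
  have hnon : ∀ v, Q v = 0 → v ∉ qperp Q U → AxIn M v := by
    intro v hv hvP
    obtain ⟨u, hu, w, hw, rfl⟩ := ndSub_decomp hU v
    obtain ⟨r, hrU, hr, hru⟩ := exists_singular_polar hQ hU heU he he0 hu (fun h => hvP (by rwa [h, zero_add]))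
    obtain ⟨x, hxU, hx, hxr⟩ := exists_singular_polar hQ hU heU he he0 hrU (fun h => hru (by rw [h, polar_zero_left]))
    refine ax_move hQ (hax r hrU hr) hr hx hv (by rw [polar_comm]; exact hxr) ?_ (hax x hxU hx)
    rwa [polar_add_right, polar_qperp hrU hw, add_zero]
  rw [commutator_eq_siegelGroup hQ h4 hp hn]
  refine siegelGroup_le_of_ax fun v hv => ?_
  by_cases hv0 : v = 0
  · rw [hv0]; exact AxIn.zero M
  obtain ⟨r, hr, -, hrv, hre⟩ := exists_common hQ hn (d := 0) (map_zero Q) hv he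
    (by rw [polar_zero_left]) (by rw [polar_zero_left]) (by simpa using hv0) (by simpa using he0)
  have hr0 : r ≠ 0 := fun h => hrv (by rw [h, polar_zero_right])
  obtain ⟨x, hx, -, hxr, hxe⟩ := exists_common hQ hn (d := 0) (map_zero Q) hr he
    (by rw [polar_zero_left]) (by rw [polar_zero_left]) (by simpa using hr0) (by simpa using he0)
  exact ax_move hQ (hnon r hr fun h => hre (polar_qperp heU h)) hr hx hv hxr (by rw [polar_comm]; exact hrv)
    (hnon x hx fun h => hxe (polar_qperp heU h))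

/-- A mixed axis gives a mixed Siegel element with axis in `U`. -/
theorem exists_seed {a y u u' : V} (ha : Q a = 0) (hay : polar Q a y = 0) (hAY : SiegelIn M a y)
    (hu : u ∈ U) (hu0 : u ≠ 0) (hu' : u' ∈ U) (haw : a - u ∈ qperp Q U) (haw0 : a - u ≠ 0)
    (hyw : y - u' ∈ qperp Q U) (hne : u' ∉ F ∙ u) :
    ∃ x c, x ∈ U ∧ Q x = 0 ∧ x ≠ 0 ∧ c ∈ qperp Q U ∧ c ≠ 0 ∧ SiegelIn M x c := by
  classical
  have hpair : ∀ x ∈ U, polar Q x a = polar Q x u ∧ polar Q x y = polar Q x u' := fun x hx => by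
    constructor
    · have h : polar Q x (a - u) = 0 := polar_qperp hx haw
      rwa [polar_sub_right, sub_eq_zero] at h
    · have h : polar Q x (y - u') = 0 := polar_qperp hx hyw
      rwa [polar_sub_right, sub_eq_zero] at h
  have hD : ∀ e ∈ U, ∀ z ∈ U, Q e = 0 → polar Q e u = 0 → polar Q z u = 0 → polar Q e z = 0 →
      SiegelIn M a (polar Q e u' • z + (-(polar Q z u') - Q z * polar Q e u') • e) := by
    intro e heU z hzU he heu hzu hez
    obtain ⟨k, hk'⟩ := exists_isSiegel hQ he hez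
    have hka : k.1 a = a := hk'.fix (by rw [(hpair e heU).1, heu]) (by rw [(hpair z hzU).1, hzu])
    have hky : polar Q a (k.1 y) = 0 := by rw [← hka, polar_isom]; exact hay
    have h1 := SiegelIn.conj hAY (siegelIn_side hQ h4 hn hM heU hzU k hk')
    rw [hka] at h1
    have h2 := SiegelIn.add hQ ha hky (by rw [polar_neg_right, hay, neg_zero]) h1 (SiegelIn.neg hQ ha hay hAY)
    convert h2 using 1
    rw [hk'.2.2, (hpair e heU).2, (hpair z hzU).2]
    abel
  have finish : ∀ e ∈ U, Q e = 0 → e ≠ 0 → polar Q e u = 0 → ∀ t : F, t ≠ 0 → SiegelIn M a (t • e) →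
      ∃ x c, x ∈ U ∧ Q x = 0 ∧ x ≠ 0 ∧ c ∈ qperp Q U ∧ c ≠ 0 ∧ SiegelIn M x c := by
    intro e heU he he0 heu t ht hs
    have hxU := U.smul_mem t heU
    have hx : Q (t • e) = 0 := by rw [quad_smul', he, mul_zero]
    have hxu : polar Q (t • e) u = 0 := by rw [polar_smul_l', heu, mul_zero]
    have hxa : polar Q (t • e) (-a) = 0 := by rw [polar_neg_right, (hpair _ hxU).1, hxu, neg_zero]
    have h1 : SiegelIn M (t • e) (-a) := fun g hg => hs g (by
      have h0 : IsSiegel g ((-1 : F) • a) (-(t • e)) := by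
        rw [neg_one_smul]; exact hg.swap (by rw [QuadraticMap.map_neg, ha])
      simpa using h0.of_smul (neg_ne_zero.2 one_ne_zero))
    refine ⟨t • e, -(a - u), hxU, hx, smul_ne_zero ht he0, Submodule.neg_mem _ haw, neg_ne_zero.2 haw0, ?_⟩
    rw [neg_sub, sub_eq_add_neg, add_comm]
    exact SiegelIn.add hQ hx hxa hxu h1 (siegelIn_side hQ h4 hn hM hxU hu)
  by_cases h1 : ∃ e ∈ U, Q e = 0 ∧ polar Q e u = 0 ∧ polar Q e u' ≠ 0
  · obtain ⟨e, heU, he, heu, heu'⟩ := h1
    have he0 : e ≠ 0 := fun h => heu' (by rw [h, polar_zero_left])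
    obtain ⟨z, hzU, hez, hzu, z', hz'U, hez', hz'u, hzz'⟩ : ∃ z ∈ U, polar Q e z = 0 ∧ polar Q z u = 0 ∧
        ∃ z' ∈ U, polar Q e z' = 0 ∧ polar Q z' u = 0 ∧ polar Q z z' ≠ 0 := by
      by_contra! hall
      set S := Submodule.span F {(⟨e, heU⟩ : U), ⟨u, hu⟩}
      set K := qperp (Q.comp U.subtype) S
      have hKe : ∀ x ∈ K, polar Q e (x : V) = 0 ∧ polar Q (x : V) u = 0 := fun x hx =>
        ⟨hx ⟨e, heU⟩ (Submodule.subset_span (by simp)), by rw [polar_comm]; exact hx ⟨u, hu⟩ (Submodule.subset_span (by simp))⟩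
      have hK : K ≤ S := by
        rw [← qperp_qperp hU S]
        exact fun x hx z hz => hall z z.2 (hKe z hz).1 (hKe z hz).2 x x.2 (hKe x hx).1 (hKe x hx).2
      have h1 := Submodule.finrank_mono hK
      have h2 := finrank_qperp hU S
      change finrank F K + _ = _ at h2
      have h3 := finrank_span_finset_le_card (R := F) ({⟨e, heU⟩, ⟨u, hu⟩} : Finset U)
      have h4' := Finset.card_le_two (a := (⟨e, heU⟩ : U)) (b := ⟨u, hu⟩)
      rw [Finset.coe_pair, Set.finrank] at h3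
      change finrank F S ≤ _ at h3
      omega
    have hA : ∀ z ∈ U, polar Q e z = 0 → polar Q z u = 0 →
        polar Q a (polar Q e u' • z + (-(polar Q z u') - Q z * polar Q e u') • e) = 0 := fun z hzU hez hzu => by
      rw [polar_add_right, polar_smul_r', polar_smul_r', polar_comm _ a z, polar_comm _ a e, (hpair z hzU).1,
        (hpair e heU).1, hzu, heu]
      ring
    have hs1 : polar Q e (z + z') = 0 := by rw [polar_add_right, hez, hez', add_zero]
    have hs2 : polar Q (z + z') u = 0 := by rw [polar_add_left, hzu, hz'u, add_zero]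
    have hzz := U.add_mem hzU hz'U
    have hsum := SiegelIn.add hQ ha (hA z hzU hez hzu) (hA z' hz'U hez' hz'u) (hD e heU z hzU he heu hzu hez)
      (hD e heU z' hz'U he heu hz'u hez')
    have hA2 : polar Q a (polar Q e u' • z + (-(polar Q z u') - Q z * polar Q e u') • e +
        (polar Q e u' • z' + (-(polar Q z' u') - Q z' * polar Q e u') • e)) = 0 := by
      rw [polar_add_right, hA z hzU hez hzu, hA z' hz'U hez' hz'u, add_zero]
    refine finish e heU he he0 heu (-(polar Q z z' * polar Q e u')) (neg_ne_zero.2 (mul_ne_zero hzz' heu')) ?_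
    have h := SiegelIn.add hQ ha (hA _ hzz hs1 hs2) (by rw [polar_neg_right, hA2, neg_zero])
      (hD e heU _ hzz he heu hs2 hs1) (SiegelIn.neg hQ ha hA2 hsum)
    convert h using 1
    rw [quad_add', polar_add_left]
    module
  push Not at h1
  obtain ⟨e, heU, he, he0, heu, hne'⟩ : ∃ e ∈ U, Q e = 0 ∧ e ≠ 0 ∧ polar Q e u = 0 ∧
      u' ∉ Submodule.span F {u, e} := by
    obtain ⟨hp⟩ := exists_hypPairs hU hk
    obtain ⟨H, s, t, hH⟩ : ∃ (H : HypPairs (Q.comp U.subtype)) (s t : F), (⟨u, hu⟩ : U) = s • H.e₀ + t • H.f₀ := by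
      by_cases hq : Q u = 0
      · obtain ⟨H, h⟩ := hp.exists_at hU (d := ⟨u, hu⟩) hq (fun e => hu0 (congrArg Subtype.val e))
        exact ⟨H, 1, 0, by rw [one_smul, zero_smul, add_zero, h]⟩
      · obtain ⟨n, -, hn'⟩ := exists_siegel_move hU hp hq (v := (⟨u, hu⟩ : U)) rfl
        refine ⟨hp.map n⁻¹, 1, Q u, ?_⟩
        show _ = (1 : F) • (n⁻¹).1 hp.e₀ + Q u • (n⁻¹).1 hp.f₀
        rw [one_smul, ← map_smul, ← map_add]
        exact n.1.injective (by rw [inv_apply]; exact hn')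
    have hu2 : u = s • (H.e₀ : V) + t • (H.f₀ : V) := congrArg Subtype.val hH
    have hp1 : ∀ e : U, polar Q (e : V) H.e₀ = 0 → polar Q (e : V) H.f₀ = 0 → polar Q (e : V) u = 0 :=
      fun e h1 h2 => by rw [hu2, polar_add_right, polar_smul_r', polar_smul_r', h1, h2]; ring
    have he₁ := hp1 H.e₁ H.cee H.cfe
    have hf₁ := hp1 H.f₁ H.cef H.cff
    by_cases h : u' ∈ Submodule.span F {u, (H.e₁ : V)}
    swap
    · exact ⟨H.e₁, H.e₁.2, H.he₁, fun e => one_ne_zero (by
        rw [← H.h11]; show polar Q (H.e₁ : V) _ = 0; rw [e, polar_zero_left]), he₁, h⟩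
    refine ⟨H.f₁, H.f₁.2, H.hf₁, fun e => one_ne_zero (by
        rw [← H.h11]; show polar Q _ (H.f₁ : V) = 0; rw [e, polar_zero_right]), hf₁, fun h' => hne ?_⟩
    obtain ⟨p, q, h⟩ := Submodule.mem_span_pair.1 h
    obtain ⟨p', q', h'⟩ := Submodule.mem_span_pair.1 h'
    have hq : q = 0 := by
      have e := congrArg (polar Q (H.f₁ : V)) (h.trans h'.symm)
      simp only [polar_add_right, polar_smul_r', hf₁, polar_self'] at e
      rw [show polar Q (H.f₁ : V) (H.e₁ : V) = 1 from H.c11, show Q (H.f₁ : V) = 0 from H.hf₁] at e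
      linear_combination e
    rw [← h, hq, zero_smul, add_zero]
    exact Submodule.smul_mem _ _ (Submodule.mem_span_singleton_self u)
  obtain ⟨z, hz, hzu'⟩ := exists_polar_one hU (W := Submodule.span F {(⟨u, hu⟩ : U), ⟨e, heU⟩}) (x := ⟨u', hu'⟩)
    (fun h => hne' (by
      obtain ⟨p, q, h⟩ := Submodule.mem_span_pair.1 h
      exact Submodule.mem_span_pair.2 ⟨p, q, congrArg Subtype.val h⟩))
  have hzu : polar Q (z : V) u = 0 := hz ⟨u, hu⟩ (Submodule.subset_span (by simp))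
  have hez : polar Q e (z : V) = 0 := by
    rw [polar_comm]; exact hz ⟨e, heU⟩ (Submodule.subset_span (by simp))
  change polar Q (z : V) u' = 1 at hzu'
  refine finish e heU he he0 heu (-1) (neg_ne_zero.2 one_ne_zero) ?_
  have h := hD e heU z z.2 he heu hzu hez
  rw [h1 e heU he heu, hzu'] at h
  simpa using h

theorem top_of_seed (hgood : 4 ≤ Fintype.card F ∨ 3 ≤ finrank F (qperp Q U) ∨ ∀ v ∈ qperp Q U, Q v = 0 → v = 0)
    {a y u u' : V} (ha : Q a = 0) (hay : polar Q a y = 0) (hAY : SiegelIn M a y)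
    (hu : u ∈ U) (hu0 : u ≠ 0) (hu' : u' ∈ U) (haw : a - u ∈ qperp Q U) (haw0 : a - u ≠ 0)
    (hyw : y - u' ∈ qperp Q U) (hne : u' ∉ F ∙ u) : commutator (orthGroup Q) ≤ M := by
  obtain ⟨x, c, hxU, hx, hx0, hc, hc0, hs⟩ := exists_seed hQ h4 hn hU hk hM ha hay hAY hu hu0 hu' haw haw0 hyw hne
  exact top_of_ax_side hQ h4 hn hU hk fun _ h1 h2 => ax_side hQ h4 hn hU hk hM hgood hxU hx hx0 hc hc0 hs h1 h2

end Side

/-- Stabilisers of non-degenerate subspaces are maximal in `Ω`. -/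
theorem top_of_stab_ndSub {U : Submodule F V} (hU : NdSub Q U) (hk : 5 ≤ finrank F U)
    (hbig : 11 ≤ finrank F V) (hgood : 4 ≤ Fintype.card F ∨ 3 ≤ finrank F (qperp Q U) ∨
      ∀ v ∈ qperp Q U, Q v = 0 → v = 0)
    (hswap : ∀ g : orthGroup Q, g ∈ commutator (orthGroup Q) → ¬ U.map (g.1 : V →ₗ[F] V) ≤ qperp Q U)
    {M : Subgroup (orthGroup Q)} (hM : stab (Q := Q) U ⊓ commutator (orthGroup Q) ≤ M) {g : orthGroup Q} (hg : g ∈ M)
    (hgΩ : g ∈ commutator (orthGroup Q)) (hgU : g ∉ stab (Q := Q) U) : commutator (orthGroup Q) ≤ M := by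
  classical
  obtain ⟨e, heU, he, he0⟩ := side_singular hQ hU hk
  have hspan : ∀ K : Submodule F V, (∀ d ∈ U, Q d = 0 → g.1 d ∈ K) → U.map (g.1 : V →ₗ[F] V) ≤ K := by
    intro K hK
    obtain ⟨hp, rfl, hf₀, -, -⟩ := side_pairs hQ hU hk heU he he0
    rintro _ ⟨v, hv, rfl⟩
    show g.1 v ∈ K
    set z := v - polar Q hp.f₀ v • hp.e₀ - polar Q hp.e₀ v • hp.f₀ with hz
    have hzU : z ∈ U := U.sub_mem (U.sub_mem hv (U.smul_mem _ heU)) (U.smul_mem _ hf₀)
    have hze : polar Q hp.e₀ z = 0 := by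
      simp only [hz, polar_sub_right, polar_smul_r', polar_self', hp.he₀, hp.h00]; ring
    have hzf : polar Q hp.f₀ z = 0 := by
      simp only [hz, polar_sub_right, polar_smul_r', polar_self', hp.hf₀, hp.c00]; ring
    have hs0 : Q (z + hp.e₀ + (-Q z) • hp.f₀) = 0 := by
      simp only [quad_add', quad_smul', polar_add_left, polar_smul_r', hp.he₀, hp.hf₀, hp.h00,
        polar_comm _ z hp.e₀, polar_comm _ z hp.f₀, hze, hzf]
      ring
    rw [show v = (z + hp.e₀ + (-Q z) • hp.f₀) + (polar Q hp.f₀ v - 1) • hp.e₀ + (polar Q hp.e₀ v + Q z) • hp.f₀ by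
      rw [hz]; module, map_add, map_add, map_smul, map_smul]
    exact K.add_mem (K.add_mem (hK _ (U.add_mem (U.add_mem hzU heU) (U.smul_mem _ hf₀)) hs0)
      (K.smul_mem _ (hK _ heU hp.he₀))) (K.smul_mem _ (hK _ hf₀ hp.hf₀))
  obtain ⟨d, hdU, hd, hd1, hd2⟩ : ∃ d ∈ U, Q d = 0 ∧ g.1 d ∉ U ∧ g.1 d ∉ qperp Q U := by
    by_contra! hall
    obtain ⟨d₁, hd₁U, hd₁, hd₁o⟩ : ∃ d ∈ U, Q d = 0 ∧ g.1 d ∉ U := by
      by_contra! h
      exact hgU (mem_stab_of_le fun x hx => hspan U h ⟨x, hx, rfl⟩)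
    have hd₁P := hall d₁ hd₁U hd₁ hd₁o
    have hd₁0 : d₁ ≠ 0 := fun h => hd₁o (by rw [h, map_zero]; exact U.zero_mem)
    have hperp : ∀ d ∈ U, Q d = 0 → polar Q d₁ d = 0 → g.1 d ∈ qperp Q U := by
      intro d hdU hd hdd
      by_contra h
      have hin : g.1 d ∈ U := by
        by_contra h'
        exact h (hall d hdU hd h')
      have h' := hall (d₁ + d) (U.add_mem hd₁U hdU) (by rw [quad_add', hd₁, hd, hdd]; ring) (fun h' => hd₁o (by
        rw [map_add] at h'
        simpa using U.sub_mem h' hin))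
      rw [map_add] at h'
      exact h (by simpa using Submodule.sub_mem _ h' hd₁P)
    refine hswap g hgΩ (hspan _ fun d hdU hd => ?_)
    by_contra h
    have hin : g.1 d ∈ U := by
      by_contra h'
      exact h (hall d hdU hd h')
    have hd0 : d ≠ 0 := fun h0 => h (by rw [h0, map_zero]; exact Submodule.zero_mem _)
    by_cases hdd : polar Q d₁ d = 0
    · exact h (hperp d hdU hd hdd)
    obtain ⟨hp, hpe, hf₀, he₁, hf₁⟩ := side_pairs hQ hU hk hd₁U hd₁ hd₁0
    -- a singular vector orthogonal to both `d₁` and `d`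
    obtain ⟨r, hrU, hr, hr0, hr1, hr2⟩ : ∃ r ∈ U, Q r = 0 ∧ r ≠ 0 ∧ polar Q d₁ r = 0 ∧ polar Q d r = 0 := by
      set f := (polar Q d₁ d)⁻¹ • d
      have hdep : ¬ (polar Q d hp.e₁ = 0) ∨ polar Q d hp.e₁ = 0 := by tauto
      rcases hdep with h1 | h1
      swap
      · exact ⟨hp.e₁, he₁, hp.he₁, fun e0 => one_ne_zero (by rw [← hp.h11, e0, polar_zero_left]),
          by rw [← hpe, hp.hee], h1⟩
      set x := hp.e₁ + (-(polar Q d hp.e₁ / polar Q d₁ d)) • d₁
      refine ⟨x, U.add_mem he₁ (U.smul_mem _ hd₁U), ?_, fun e0 => one_ne_zero (α := F) ?_, ?_, ?_⟩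
      · simp only [x, quad_add', quad_smul', polar_smul_r', hp.he₁, hd₁, ← hpe, hp.cee, hp.he₀]; ring
      · have := congrArg (polar Q hp.f₁) e0
        simp only [x, polar_add_right, polar_smul_r', polar_zero_right, ← hpe, hp.c11, hp.cef] at this
        simpa using this
      · simp only [x, polar_add_right, polar_smul_r', polar_self', hd₁, ← hpe, hp.hee, hp.he₀]; ring
      · simp only [x, polar_add_right, polar_smul_r', polar_comm _ d d₁]
        rw [neg_mul, div_mul_cancel₀ _ hdd]; ring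
    have hrP := hperp r hrU hr hr1
    have h' := hall (r + d) (U.add_mem hrU hdU) (by rw [quad_add', hr, hd, polar_comm, hr2]; ring) (fun h' => hr0 (by
      rw [map_add] at h'
      exact g.1.map_eq_zero_iff.1 (ndSub_eq_zero hU (by simpa using U.sub_mem h' hin) hrP)))
    rw [map_add] at h'
    exact h (by simpa using Submodule.sub_mem _ h' hrP)
  set a := g.1 d with haDef
  have ha : Q a = 0 := (apply_quad g d).trans hd
  obtain ⟨u, hu, w, hw, hauw⟩ := ndSub_decomp hU a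
  have hu0 : u ≠ 0 := fun h => hd2 (by rw [hauw, h, zero_add]; exact hw)
  have hw0 : w ≠ 0 := fun h => hd1 (by rw [hauw, h, add_zero]; exact hu)
  have hY : ∀ y ∈ U, polar Q d y = 0 → polar Q a (g.1 y) = 0 ∧ SiegelIn M a (g.1 y) := fun y hy hdy =>
    ⟨by rw [polar_isom]; exact hdy, (siegelIn_side hQ h4 hn hM hdU hy).conj hg⟩
  by_cases hcase : ∀ y ∈ U, polar Q d y = 0 → g.1 y ∈ (F ∙ u) ⊔ qperp Q U
  swap
  · push Not at hcase
    obtain ⟨y, hy, hdy, hout⟩ := hcase
    obtain ⟨u', hu', w', hw', hyuw⟩ := ndSub_decomp hU (g.1 y)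
    refine top_of_seed hQ h4 hn hU hk hM hgood ha (hY y hy hdy).1 (hY y hy hdy).2 hu hu0 hu'
      (by rw [hauw, add_sub_cancel_left]; exact hw) (by rw [hauw, add_sub_cancel_left]; exact hw0)
      (by rw [hyuw, add_sub_cancel_left]; exact hw') fun h => hout ?_
    rw [hyuw]
    exact Submodule.add_mem_sup h hw'
  set K := U ⊓ qperp Q (F ∙ d) with hKdef
  have hKmem : ∀ y ∈ K, y ∈ U ∧ polar Q d y = 0 := fun y hy => ⟨hy.1, hy.2 d (Submodule.mem_span_singleton_self d)⟩
  have hKdim : finrank F U ≤ finrank F K + 1 := by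
    have h1 := Submodule.finrank_sup_add_finrank_inf_eq U (qperp Q (F ∙ d))
    have h2 := (U ⊔ qperp Q (F ∙ d)).finrank_le
    have h3 := finrank_qperp hQ (F ∙ d)
    rw [finrank_span_singleton (fun h => hd1 (by rw [haDef, h, map_zero]; exact U.zero_mem))] at h3
    change _ + finrank F K = _ at h1
    omega
  have hP5 : 5 ≤ finrank F (qperp Q U) := by
    have h1 : K.map (g.1 : V →ₗ[F] V) ≤ (F ∙ u) ⊔ qperp Q U := by
      rintro _ ⟨y, hy, rfl⟩
      exact hcase y (hKmem y hy).1 (hKmem y hy).2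
    have h2 := Submodule.finrank_mono h1
    have h3 := Submodule.finrank_add_le_finrank_add_finrank (F ∙ u) (qperp Q U)
    rw [LinearEquiv.finrank_map_eq] at h2
    rw [finrank_span_singleton hu0] at h3
    have h5 := finrank_qperp hQ U
    omega
  obtain ⟨y, hy, hdy, hout⟩ : ∃ y ∈ U, polar Q d y = 0 ∧ g.1 y ∉ (F ∙ u) ⊔ (F ∙ w) := by
    by_contra! h
    have h1 : K.map (g.1 : V →ₗ[F] V) ≤ (F ∙ u) ⊔ (F ∙ w) := by
      rintro _ ⟨y, hy, rfl⟩
      exact h y (hKmem y hy).1 (hKmem y hy).2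
    have h2 := Submodule.finrank_mono h1
    have h3 := Submodule.finrank_add_le_finrank_add_finrank (F ∙ u) (F ∙ w)
    rw [LinearEquiv.finrank_map_eq] at h2
    rw [finrank_span_singleton hu0, finrank_span_singleton hw0] at h3
    omega
  obtain ⟨u', hu', w', hw', hyuw⟩ := Submodule.mem_sup.1 (hcase y hy hdy)
  have huU : ∀ {x}, x ∈ (F ∙ u) → x ∈ qperp Q (qperp Q U) := fun {x} hx => by
    rw [qperp_qperp hQ U]; exact (Submodule.span_singleton_le_iff_mem _ _).2 hu hx
  refine top_of_seed hQ h4 hn (ndSub_qperp hQ hU) hP5 (by rw [stab_qperp_eq hQ U]; exact hM)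
    (Or.inr (Or.inl (by rw [qperp_qperp hQ U]; omega))) ha (hY y hy hdy).1 (hY y hy hdy).2 hw hw0 hw'
    (by rw [hauw, add_sub_cancel_right]; exact huU (Submodule.mem_span_singleton_self u))
    (by rw [hauw, add_sub_cancel_right]; exact hu0)
    (by rw [← hyuw, add_sub_cancel_right]; exact huU hu') fun h => hout ?_
  rw [← hyuw]
  exact Submodule.add_mem_sup hu' h

/-- Some element of `Ω` moves a non-degenerate subspace. -/
theorem exists_not_stab_nondeg {U : Submodule F V} (hU : NdSub Q U) (hk : 5 ≤ finrank F U) {w : V}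
    (hw : w ∈ qperp Q U) (hw0 : w ≠ 0) : ∃ k ∈ commutator (orthGroup Q), k ∉ stab (Q := Q) U := by
  obtain ⟨hp₀⟩ := exists_hypPairs hQ hn
  obtain ⟨e, heU, he, he0⟩ := side_singular hQ hU hk
  obtain ⟨hp, rfl, hf₀, -, -⟩ := side_pairs hQ hU hk heU he he0
  obtain ⟨k, hk'⟩ := exists_isSiegel hQ hp.he₀ (polar_qperp heU hw)
  refine ⟨k, hk'.mem_commutator hQ h4 hp₀ hn, fun h => hw0 (ndSub_eq_zero hU ?_ hw)⟩
  have h1 : k.1 hp.f₀ ∈ U := (show U.map _ = U from h) ▸ ⟨hp.f₀, hf₀, rfl⟩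
  rw [hk'.2.2, hp.h00, one_smul] at h1
  have h2 := U.sub_mem (U.sub_mem h1 hf₀) (U.smul_mem (-(polar Q w hp.f₀) - Q w * 1) heU)
  convert h2 using 1
  module

end CfsgLib.Classical

namespace CfsgLib.Classical

variable {F V : Type*} [Field F] [AddCommGroup V] [Module F V] [FiniteDimensional F V] [Fintype F]
  {Q : QuadraticForm F V}

/-- The norm form of a quadratic extension represents `-1`. -/
theorem exists_norm_neg_one {ζ : F} (hζ : ∀ t : F, t ^ 2 + t + ζ ≠ 0) :
    ∃ a b : F, a * a + a * b + ζ * (b * b) = -1 := by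
  classical
  by_cases h2 : (2 : F) = 0
  · exact ⟨1, 0, by linear_combination h2⟩
  have hD : 4 * ζ - 1 ≠ 0 := fun h => hζ (-(2 : F)⁻¹) (by field_simp; linear_combination h)
  have hodd : Fintype.card F % 2 = 1 := FiniteField.odd_card_of_char_ne_two fun h => h2 (by
    have := ringChar.Nat.cast_ringChar (R := F)
    rw [h] at this
    exact_mod_cast this)
  obtain ⟨s, b, h⟩ := FiniteField.exists_root_sum_quadratic
    (f := Polynomial.X ^ 2 + Polynomial.C 4) (g := Polynomial.C (4 * ζ - 1) * Polynomial.X ^ 2)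
    (Polynomial.degree_X_pow_add_C (by norm_num) _) (Polynomial.degree_C_mul_X_pow 2 hD) hodd
  simp only [Polynomial.eval_add, Polynomial.eval_mul, Polynomial.eval_pow, Polynomial.eval_X, Polynomial.eval_C] at h
  exact ⟨(s - b) / 2, b, by field_simp; linear_combination h⟩

/-- An even-dimensional non-degenerate space has a linear map negating the form. -/
theorem exists_anti (hQ : (QuadraticMap.polarBilin Q).Nondegenerate) (hev : Even (finrank F V)) :
    ∃ θ : V →ₗ[F] V, ∀ v, Q (θ v) = -Q v := by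
  obtain ⟨m, hm⟩ := hev
  rcases classify_even hQ (m := m) (by omega) with ⟨e, he⟩ | ⟨-, e, ζ, hζ, he⟩
  · let σ : (Fin m ⊕ Fin m → F) →ₗ[F] (Fin m ⊕ Fin m → F) :=
      LinearMap.pi (Sum.elim (fun i => LinearMap.proj (Sum.inl i)) (fun i => -LinearMap.proj (Sum.inr i)))
    refine ⟨e.toLinearMap ∘ₗ σ ∘ₗ e.symm.toLinearMap, fun v => ?_⟩
    show Q (e (σ (e.symm v))) = _
    conv_rhs => rw [← e.apply_symm_apply v]
    rw [he, he, ← plusForm_apply, ← plusForm_apply]
    simp only [Cfsg.quadFormPlus, σ, LinearMap.pi_apply, Sum.elim_inl, Sum.elim_inr, LinearMap.neg_apply,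
      LinearMap.proj_apply, mul_neg, Finset.sum_neg_distrib]
  · obtain ⟨a, b, hab⟩ := exists_norm_neg_one hζ
    let ι := (Fin (m - 1) ⊕ Fin (m - 1)) ⊕ Fin 2
    let p : ι → (ι → F) →ₗ[F] F := fun i => LinearMap.proj i
    let σ : (ι → F) →ₗ[F] (ι → F) := LinearMap.pi (Sum.elim
      (Sum.elim (fun i => p (.inl (.inl i))) (fun i => -p (.inl (.inr i))))
      ![a • p (.inr 0) + (-(ζ * b)) • p (.inr 1), b • p (.inr 0) + (a + b) • p (.inr 1)])
    refine ⟨e.toLinearMap ∘ₗ σ ∘ₗ e.symm.toLinearMap, fun v => ?_⟩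
    show Q (e (σ (e.symm v))) = _
    conv_rhs => rw [← e.apply_symm_apply v]
    rw [he, he, ← minusForm_apply, ← minusForm_apply]
    simp [Cfsg.quadFormMinus, σ, p]
    linear_combination (e.symm v (.inr 0) ^ 2 + e.symm v (.inr 0) * e.symm v (.inr 1) +
      ζ * e.symm v (.inr 1) ^ 2) * hab

/-- Two orthogonal isometric copies of an even-dimensional space span a space of plus type. -/
theorem exists_lagrangian_of_swap {U : Submodule F V} (hU : NdSub Q U) (hev : Even (finrank F U)) (g : orthGroup Q)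
    (hg : U.map (g.1 : V →ₗ[F] V) ≤ qperp Q U) :
    ∃ L : Submodule F V, (∀ v ∈ L, Q v = 0) ∧ finrank F L = finrank F U := by
  obtain ⟨θ, hθ⟩ := exists_anti hU hev
  let T : U →ₗ[F] V := U.subtype + (g.1 : V →ₗ[F] V) ∘ₗ U.subtype ∘ₗ θ
  have hgθ : ∀ u : U, g.1 (θ u : V) ∈ qperp Q U := fun u => hg ⟨θ u, (θ u).2, rfl⟩
  refine ⟨LinearMap.range T, ?_, LinearMap.finrank_range_of_inj ?_⟩
  · rintro _ ⟨u, rfl⟩
    show Q ((u : V) + g.1 (θ u : V)) = 0
    rw [quad_add', polar_qperp u.2 (hgθ u), apply_quad, show Q (θ u : V) = -Q (u : V) from hθ u]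
    ring
  · rw [injective_iff_map_eq_zero]
    intro u hu
    change (u : V) + g.1 (θ u : V) = 0 at hu
    refine Subtype.ext (ndSub_eq_zero hU u.2 ?_)
    rw [eq_neg_of_add_eq_zero_left hu]
    exact Submodule.neg_mem _ (hgθ u)

end CfsgLib.Classical

namespace CfsgLib.Classical

variable {F : Type*} [Field F] [Fintype F] {ι : Type} [Fintype ι] [DecidableEq ι] {Qf : (ι → F) → F}

/-- Maximality of the stabiliser of a non-degenerate subspace, in either of the two complementary forms. -/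
theorem nondeg_isMaximalIn (Q : QuadraticForm F (ι → F)) (hQf : ∀ v, Qf v = Q v)
    (hQ : (QuadraticMap.polarBilin Q).Nondegenerate) (h4 : Good F (ι → F)) (hn : 11 ≤ finrank F (ι → F))
    (W : Submodule F (ι → F)) (hW : Cfsg.Geo.IsNondegenerateOn (QuadraticMap.polar Qf) W) (hW0 : W ≠ ⊥) (hW1 : W ≠ ⊤)
    (hex : ¬ (Fintype.card F ≤ 3 ∧ ∃ U : Submodule F (ι → F), finrank F U = 2 ∧
      Cfsg.Geo.IsNondegenerateOn (QuadraticMap.polar Qf) U ∧ Cfsg.Geo.IsPlusTypeOn Qf U ∧
      (U = W ∨ (Cfsg.Geo.AreOrthogonalFor (QuadraticMap.polar Qf) U W ∧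
        finrank F U + finrank F W = finrank F (ι → F)))))
    (hplus : 2 * finrank F W = finrank F (ι → F) → Even (finrank F W) ∧
      ¬ ∃ L : Submodule F (ι → F), (∀ v ∈ L, Q v = 0) ∧ 2 * finrank F L = finrank F (ι → F)) :
    Cfsg.Geo.IsMaximalIn (Cfsg.Geo.omegaGL Qf) (Cfsg.Geo.subspaceStabilizer W ⊓ Cfsg.Geo.omegaGL Qf) := by
  classical
  obtain rfl : Qf = ⇑Q := funext hQf
  have hWnd : NdSub Q W := ndSub_of_on fun w hw hw0 => (hW w hw hw0).2
  have hPd := finrank_qperp hQ W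
  suffices h : ∀ U : Submodule F (ι → F), NdSub Q U → finrank F (ι → F) ≤ 2 * finrank F U →
      stab (Q := Q) U = stab (Q := Q) W → qperp Q U ≠ ⊥ →
      (finrank F (qperp Q U) = 2 → Fintype.card F ≤ 3 → ∀ v ∈ qperp Q U, Q v = 0 → v = 0) →
      (finrank F (ι → F) = 2 * finrank F U → finrank F W = finrank F U) →
      Cfsg.Geo.IsMaximalIn (Cfsg.Geo.omegaGL ⇑Q) (Cfsg.Geo.subspaceStabilizer W ⊓ Cfsg.Geo.omegaGL ⇑Q) by
    by_cases hbig : finrank F (ι → F) ≤ 2 * finrank F W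
    · refine h W hWnd hbig rfl (fun e => hW1 ?_) (fun h2 hq v hv hv0 => ?_) (fun _ => rfl)
      · rw [← qperp_qperp hQ W, e]
        exact Submodule.eq_top_iff'.2 fun x y hy => by
          rw [(Submodule.mem_bot F).1 hy]; exact polar_zero_left Q x
      · by_contra hv'
        refine hex ⟨hq, qperp Q W, h2, ?_, ⟨F ∙ v, (Submodule.span_singleton_le_iff_mem _ _).2 hv, fun x hx => ?_,
          by rw [finrank_span_singleton hv', h2]⟩, Or.inr ⟨fun x hx y hy => polar_qperp' hy hx, by omega⟩⟩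
        · intro x hx hx0
          obtain ⟨y, hy, hxy⟩ : ∃ y ∈ qperp Q W, polar Q x y ≠ 0 := by
            by_contra! hall
            exact hx0 (ndSub_eq_zero hWnd (qperp_qperp hQ W ▸ fun y hy => (polar_comm _ _ _).trans (hall y hy)) hx)
          exact ⟨⟨y, hy, by rw [polar_comm]; exact hxy⟩, ⟨y, hy, hxy⟩⟩
        · obtain ⟨t, rfl⟩ := Submodule.mem_span_singleton.1 hx
          rw [quad_smul', hv0, mul_zero]
    · refine h (qperp Q W) (ndSub_qperp hQ hWnd) (by omega) (stab_qperp_eq hQ W) (by rw [qperp_qperp hQ W]; exact hW0)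
        ?_ (fun e => by omega)
      rw [qperp_qperp hQ W]
      intro h2 hq v hv hv0
      by_contra hv'
      refine hex ⟨hq, W, h2, hW, ⟨F ∙ v, (Submodule.span_singleton_le_iff_mem _ _).2 hv, fun x hx => ?_,
          by rw [finrank_span_singleton hv', h2]⟩, Or.inl rfl⟩
      obtain ⟨t, rfl⟩ := Submodule.mem_span_singleton.1 hx
      rw [quad_smul', hv0, mul_zero]
  intro U hU hbig hstab hP0 hgood hdim
  have hk : 5 ≤ finrank F U := by omega
  obtain ⟨w, hw, hw0⟩ := Submodule.exists_mem_ne_zero_of_ne_bot hP0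
  have hgood' : 4 ≤ Fintype.card F ∨ 3 ≤ finrank F (qperp Q U) ∨ ∀ v ∈ qperp Q U, Q v = 0 → v = 0 := by
    by_contra! hh
    obtain ⟨hq, h3, v, hv, hv0, hvne⟩ := hh
    by_cases h2 : finrank F (qperp Q U) = 2
    · exact hvne (hgood h2 (by omega) v hv hv0)
    have h1 : finrank F (qperp Q U) = 1 := by
      have := Submodule.one_le_finrank_iff.2 hP0
      omega
    have hspan : F ∙ v = qperp Q U := Submodule.eq_of_le_of_finrank_eq
      ((Submodule.span_singleton_le_iff_mem _ _).2 hv) (by rw [finrank_span_singleton hvne, h1])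
    refine hvne (ndSub_eq_zero (ndSub_qperp hQ hU) hv fun x hx => ?_)
    rw [← hspan] at hx
    obtain ⟨t, rfl⟩ := Submodule.mem_span_singleton.1 hx
    show polar Q (t • v) v = 0
    rw [polar_smul_l', polar_self', hv0]; ring
  refine omega_isMaximalIn Q (fun _ => rfl) W ?_ fun M hM g hg hgΩ hgW => ?_
  · obtain ⟨k, hk', hkU⟩ := exists_not_stab_nondeg hQ h4 (by omega) hU hk hw hw0
    exact ⟨k, hk', hstab ▸ hkU⟩
  · refine top_of_stab_ndSub hQ h4 (by omega) hU hk hn hgood' (fun g' _ hle => ?_) (hstab ▸ hM) hg hgΩ (hstab ▸ hgW)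
    have h1 := Submodule.finrank_mono hle
    rw [LinearEquiv.finrank_map_eq] at h1
    have h2 := finrank_qperp hQ U
    obtain ⟨hev, hno⟩ := hplus (by rw [hdim (by omega)]; omega)
    obtain ⟨L, hL, hLd⟩ := exists_lagrangian_of_swap hU (hdim (by omega) ▸ hev) g' hle
    exact hno ⟨L, hL, by omega⟩

end CfsgLib.Classical
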