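import Cfsg.Agent.Lib.Classical.OrthMaxBasic

/-!
# Maximality of stabilisers of totally singular subspaces in `Ω(Q)`
-/

set_option autoImplicit false
set_option linter.unusedSectionVars false

open Module QuadraticMap CfsgLib.Orth

namespace CfsgLib.Classical

variable {F V : Type*} [Field F] [AddCommGroup V] [Module F V] [FiniteDimensional F V] {Q : QuadraticForm F V}

/-- `M` contains every Siegel transformation with first parameter `d`. -/
def AxIn (M : Subgroup (orthGroup Q)) (d : V) : Prop := ∀ u g, IsSiegel g d u → g ∈ M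

theorem AxIn.zero (M : Subgroup (orthGroup Q)) : AxIn M (0 : V) := fun u g hg => by
  have : g = 1 := Subtype.ext (LinearEquiv.ext fun v => by rw [hg.2.2]; show _ = v; simp)
  rw [this]; exact M.one_mem

theorem AxIn.smul {M : Subgroup (orthGroup Q)} {d : V} (h : AxIn M d) (t : F) : AxIn M (t • d) := by
  by_cases ht : t = 0
  · rw [ht, zero_smul]; exact AxIn.zero M
  · exact fun u g hg => h _ g (hg.of_smul ht)

theorem AxIn.of_smul {M : Subgroup (orthGroup Q)} {d : V} {t : F} (ht : t ≠ 0) (h : AxIn M (t • d)) : AxIn M d := by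
  have := h.smul t⁻¹
  rwa [smul_smul, inv_mul_cancel₀ ht, one_smul] at this

theorem AxIn.map {M : Subgroup (orthGroup Q)} {d : V} (h : AxIn M d) {k : orthGroup Q} (hk : k ∈ M) :
    AxIn M (k.1 d) := fun u g hg => by
  have h1 := hg.conj k⁻¹
  rw [inv_inv, show (k⁻¹).1 (k.1 d) = d from k.1.symm_apply_apply d] at h1
  have h2 := M.mul_mem (M.mul_mem hk (h _ _ h1)) (M.inv_mem hk)
  simpa [mul_assoc] using h2

theorem siegelGroup_le_of_ax {M : Subgroup (orthGroup Q)} (h : ∀ d, Q d = 0 → AxIn M d) : siegelGroup Q ≤ M :=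
  (Subgroup.closure_le _).2 (by rintro g ⟨d, u, hg⟩; exact h d hg.1 u g hg)

variable (hQ : (QuadraticMap.polarBilin Q).Nondegenerate)
include hQ

/-- The Siegel transformation inside an axis that moves `x` to a multiple of `y`. -/
theorem ax_move {M : Subgroup (orthGroup Q)} {r x y : V} (hax : AxIn M r) (hr : Q r = 0) (hx : Q x = 0) (hy : Q y = 0)
    (hrx : polar Q r x ≠ 0) (hry : polar Q r y ≠ 0) (hxa : AxIn M x) : AxIn M y := by
  set a := (polar Q r x)⁻¹
  set b := (polar Q r y)⁻¹
  have hu : polar Q r (b • y - a • x) = 0 := by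
    rw [polar_sub_right, polar_smul_r', polar_smul_r', inv_mul_cancel₀ hrx, inv_mul_cancel₀ hry, sub_self]
  obtain ⟨g, hg⟩ := exists_isSiegel hQ hr hu
  have hq : Q (b • y - a • x) = -(a * b * polar Q x y) := by
    rw [sub_eq_add_neg, quad_add', QuadraticMap.map_neg, polar_neg_right, quad_smul', quad_smul', polar_smul_l',
      polar_smul_r', hx, hy, polar_comm _ y x]
    ring
  have hgx : g.1 x = (polar Q r x / polar Q r y) • y := by
    rw [hg.2.2, hq, polar_sub_left, polar_smul_l', polar_smul_l', polar_self', hx, polar_comm _ y x]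
    simp only [a, b]
    match_scalars <;> field_simp <;> ring
  have h1 := hxa.map (hax _ g hg)
  rw [hgx] at h1
  exact h1.of_smul (div_ne_zero hrx hry)

/-- In `W^⊥`, for a totally singular `W` of small dimension, two singular vectors have a common non-orthogonal one. -/
theorem exists_common_perp {W : Submodule F V} (_hW : ∀ w ∈ W, Q w = 0) (hn : 2 * finrank F W + 3 ≤ finrank F V)
    {x y : V} (hx : Q x = 0) (hy : Q y = 0) (hxp : ∀ w ∈ W, polar Q w x = 0) (hyp : ∀ w ∈ W, polar Q w y = 0)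
    (hxW : x ∉ W) (hyW : y ∉ W) :
    ∃ r, Q r = 0 ∧ (∀ w ∈ W, polar Q w r = 0) ∧ polar Q x r ≠ 0 ∧ polar Q y r ≠ 0 := by
  classical
  by_cases hxy : polar Q x y = 0
  · obtain ⟨a, ha, ha1⟩ := exists_polar_one hQ hxW
    obtain ⟨b, hb, hb1⟩ := exists_polar_one hQ hyW
    have ha' : ∀ w ∈ W, polar Q w a = 0 := fun w hw => by rw [polar_comm]; exact ha w hw
    have hb' : ∀ w ∈ W, polar Q w b = 0 := fun w hw => by rw [polar_comm]; exact hb w hw
    rw [polar_comm] at ha1 hb1
    obtain ⟨z, hz0, hz1, hz2⟩ : ∃ z, (∀ w ∈ W, polar Q w z = 0) ∧ polar Q x z ≠ 0 ∧ polar Q y z ≠ 0 := by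
      by_cases h1 : polar Q y a = 0
      · by_cases h2 : polar Q x b = 0
        · exact ⟨a + b, fun w hw => by rw [polar_add_right, ha' w hw, hb' w hw, add_zero],
            by simp [polar_add_right, ha1, h2], by simp [polar_add_right, hb1, h1]⟩
        · exact ⟨b, hb', h2, by rw [hb1]; exact one_ne_zero⟩
      · exact ⟨a, ha', by rw [ha1]; exact one_ne_zero, h1⟩
    refine ⟨z + (-(Q z / polar Q x z)) • x, ?_, fun w hw => ?_, ?_, ?_⟩
    · rw [quad_add', quad_smul', polar_smul_r', hx, polar_comm _ z x]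
      field_simp
      ring
    · rw [polar_add_right, polar_smul_r', hz0 w hw, hxp w hw]; ring
    · rw [polar_add_right, polar_smul_r', polar_self', hx]; simpa using hz1
    · rw [polar_add_right, polar_smul_r', polar_comm _ y x, hxy]; simpa using hz2
  · obtain ⟨c, hcW, hcx, hcy, hc⟩ : ∃ c, (∀ w ∈ W, polar Q w c = 0) ∧ polar Q x c = 0 ∧ polar Q y c = 0 ∧ Q c ≠ 0 := by
      by_contra! hall
      set K := LinearMap.BilinForm.orthogonal (QuadraticMap.polarBilin Q) (W ⊔ Submodule.span F {x, y})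
      have hK : ∀ c ∈ K, (∀ w ∈ W, polar Q w c = 0) ∧ polar Q x c = 0 ∧ polar Q y c = 0 := fun c hc =>
        ⟨fun w hw => hc w (Submodule.mem_sup_left hw), hc x (Submodule.mem_sup_right (Submodule.subset_span (by simp))),
          hc y (Submodule.mem_sup_right (Submodule.subset_span (by simp)))⟩
      have hts : ∀ v ∈ K ⊔ (F ∙ x), Q v = 0 := by
        intro v hv
        obtain ⟨c, hc, x', hx', rfl⟩ := Submodule.mem_sup.1 hv
        obtain ⟨t, rfl⟩ := Submodule.mem_span_singleton.1 hx'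
        obtain ⟨h1, h2, h3⟩ := hK c hc
        rw [quad_add', quad_smul', polar_smul_r', hx, hall c h1 h2 h3, polar_comm _ c x, h2]
        ring
      have hxk : x ∉ K := fun h => hxy (by rw [polar_comm]; exact (hK x h).2.2)
      have hlt : K < K ⊔ (F ∙ x) := lt_of_le_of_ne le_sup_left fun h =>
        hxk (h ▸ Submodule.mem_sup_right (Submodule.mem_span_singleton_self x))
      have h1 := Submodule.finrank_lt_finrank_of_lt hlt
      have h2 := singular_finrank_le hQ _ hts
      have h3 : finrank F K = finrank F V - finrank F ↥(W ⊔ Submodule.span F {x, y}) :=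
        LinearMap.BilinForm.finrank_orthogonal hQ _
      have h4 := Submodule.finrank_sup_add_finrank_inf_eq W (Submodule.span F {x, y})
      have h5 := finrank_span_finset_le_card (R := F) ({x, y} : Finset V)
      have h6 := Finset.card_le_two (a := x) (b := y)
      rw [Finset.coe_pair, Set.finrank] at h5
      omega
    refine ⟨x + (-(Q c / polar Q x y)) • y + c, ?_, fun w hw => ?_, ?_, ?_⟩
    · simp only [quad_add', quad_smul', polar_add_left, polar_smul_l', polar_smul_r', hx, hy, hcx, hcy]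
      field_simp
      ring
    · simp only [polar_add_right, polar_smul_r', hxp w hw, hyp w hw, hcW w hw]; ring
    · simp only [polar_add_right, polar_smul_r', polar_self', hx, hcx]
      field_simp
      simpa using hc
    · simp only [polar_add_right, polar_smul_r', polar_self', hy, hcy, polar_comm _ y x]
      simpa using hxy

variable (h4 : Good F V) (hp : HypPairs Q) (hn : 5 ≤ finrank F V)
include h4 hp hn

/-- Stabilisers of totally singular subspaces are maximal in `Ω`. -/
theorem top_of_stab_singular {W : Submodule F V} (hW : ∀ w ∈ W, Q w = 0) (hW0 : W ≠ ⊥)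
    (hex : 2 * finrank F W + 3 ≤ finrank F V ∨
      ∀ u, Q u = 0 → (∀ w ∈ W, polar Q w u = 0) → u ∈ W)
    {M : Subgroup (orthGroup Q)} (hM : stab (Q := Q) W ⊓ commutator (orthGroup Q) ≤ M) {g : orthGroup Q} (hg : g ∈ M)
    (hgW : g ∉ stab (Q := Q) W) : commutator (orthGroup Q) ≤ M := by
  have hperp : ∀ u ∈ W, ∀ v ∈ W, polar Q u v = 0 := fun u hu v hv => by
    simp [polar, hW _ (W.add_mem hu hv), hW u hu, hW v hv]
  have haxW : ∀ d ∈ W, AxIn M d := fun d hd u s hs => hM ⟨mem_stab_of_le fun x hx => by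
    rw [hs.2.2, hperp d hd x hx]
    simp only [zero_smul, add_zero]
    exact W.add_mem hx (W.smul_mem _ hd), hs.mem_commutator hQ h4 hp hn⟩
  -- an axis which is not orthogonal to `W`
  obtain ⟨u, hu0, huax, w₀, hw₀, hw₀u⟩ : ∃ u, Q u = 0 ∧ AxIn M u ∧ ∃ w ∈ W, polar Q w u ≠ 0 := by
    by_contra! hcon
    have hgp : ∀ w ∈ W, ∀ w' ∈ W, polar Q w' (g.1 w) = 0 := fun w hw =>
      hcon (g.1 w) ((apply_quad g w).trans (hW w hw)) ((haxW w hw).map hg)
    obtain ⟨w₁, hw₁, hout⟩ : ∃ w ∈ W, g.1 w ∉ W := by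
      by_contra! h
      exact hgW (mem_stab_of_le h)
    set u := g.1 w₁
    have hu : Q u = 0 := (apply_quad g w₁).trans (hW w₁ hw₁)
    have huax : AxIn M u := (haxW w₁ hw₁).map hg
    have hup : ∀ w ∈ W, polar Q w u = 0 := hgp w₁ hw₁
    rcases hex with hex | hex
    swap
    · exact hout (hex u hu hup)
    -- every singular vector orthogonal to `W` is an axis
    have hall : ∀ v, Q v = 0 → (∀ w ∈ W, polar Q w v = 0) → AxIn M v := by
      intro v hv hvp
      by_cases hvW : v ∈ W
      · exact haxW v hvW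
      obtain ⟨r, hr, hrp, hru, hrv⟩ := exists_common_perp hQ hW hex hu hv hup hvp hout hvW
      obtain ⟨s, hs, -, hsu, hfix⟩ := exists_move hQ h4 hp hn hr hu hv (by rw [polar_comm]; exact hru)
        (by rw [polar_comm]; exact hrv)
      have hsW : s ∈ stab (Q := Q) W := mem_stab_of_le fun w hw => by
        rw [hfix w (by rw [polar_comm]; exact hrp w hw) (by rw [polar_comm]; exact hup w hw)
          (by rw [polar_comm]; exact hvp w hw)]
        exact hw
      have h1 := huax.map (hM ⟨hsW, hs⟩)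
      rw [hsu] at h1
      exact h1.of_smul (div_ne_zero (by rw [polar_comm]; exact hru) (by rw [polar_comm]; exact hrv))
    obtain ⟨r, hr, hrp, hru, -⟩ := exists_common_perp hQ hW hex hu hu hup hup hout hout
    -- so `g` stabilises `W^⊥`
    have hgperp : ∀ v, (∀ w ∈ W, polar Q w v = 0) → ∀ w ∈ W, polar Q w (g.1 v) = 0 := by
      intro v hv w hw
      have hsing : ∀ x, Q x = 0 → (∀ w ∈ W, polar Q w x = 0) → polar Q w (g.1 x) = 0 := fun x hx hxp =>
        hcon (g.1 x) ((apply_quad g x).trans hx) ((hall x hx hxp).map hg) w hw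
      set f := (polar Q u r)⁻¹ • r
      have hef : polar Q u f = 1 := by simp only [f, polar_smul_r', inv_mul_cancel₀ hru]
      have hf : Q f = 0 := by simp only [f, quad_smul', hr, mul_zero]
      have hfp : ∀ w ∈ W, polar Q w f = 0 := fun w hw => by simp only [f, polar_smul_r', hrp w hw, mul_zero]
      have hfe : polar Q f u = 1 := by rw [polar_comm]; exact hef
      set z := v - polar Q f v • u - polar Q u v • f with hz
      have hze : polar Q u z = 0 := by
        simp only [hz, polar_sub_right, polar_smul_r', polar_self', hu, hef]; ring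
      have hzf : polar Q f z = 0 := by
        simp only [hz, polar_sub_right, polar_smul_r', polar_self', hf, hfe]; ring
      have hzp : ∀ w ∈ W, polar Q w z = 0 := fun w hw => by
        simp only [hz, polar_sub_right, polar_smul_r', hv w hw, hup w hw, hfp w hw]; ring
      set s := z + u + (-Q z) • f with hs
      have hs0 : Q s = 0 := by
        simp only [hs, quad_add', quad_smul', polar_add_left, polar_smul_r', hu, hf, hef,
          polar_comm _ z u, polar_comm _ z f, hze, hzf]
        ring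
      have hsp : ∀ w ∈ W, polar Q w s = 0 := fun w hw => by
        simp only [hs, polar_add_right, polar_smul_r', hzp w hw, hfp w hw, hup w hw]; ring
      have hv' : v = s + (polar Q f v - 1) • u + (polar Q u v + Q z) • f := by rw [hs, hz]; module
      rw [hv', map_add, map_add, map_smul, map_smul, polar_add_right, polar_add_right, polar_smul_r', polar_smul_r',
        hsing s hs0 hsp, hsing u hu hup, hsing f hf hfp]
      ring
    apply hout
    set P := LinearMap.BilinForm.orthogonal (QuadraticMap.polarBilin Q) W with hPdef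
    have hrefl : LinearMap.BilinForm.IsRefl (QuadraticMap.polarBilin Q) := fun x y h => by
      change polar Q y x = 0
      rw [polar_comm]; exact h
    have hPg : P.map (g.1 : V →ₗ[F] V) = P := Submodule.eq_of_le_of_finrank_eq
      (by rintro _ ⟨x, hx, rfl⟩; exact fun w hw => hgperp x hx w hw) (LinearEquiv.finrank_map_eq g.1 P)
    rw [← LinearMap.BilinForm.orthogonal_orthogonal hQ hrefl W]
    intro x hx
    obtain ⟨x', hx', rfl⟩ := (hPg.symm ▸ hx : x ∈ P.map (g.1 : V →ₗ[F] V))
    show polar Q (g.1 x') (g.1 w₁) = 0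
    rw [polar_isom, polar_comm]
    exact hx' w₁ hw₁
  -- every singular vector is an axis
  have hnon : ∀ v, Q v = 0 → (∃ w ∈ W, polar Q w v ≠ 0) → AxIn M v := by
    rintro v hv ⟨w, hw, hwv⟩
    obtain ⟨d, hd, hdu, hdv⟩ : ∃ d ∈ W, polar Q d u ≠ 0 ∧ polar Q d v ≠ 0 := by
      by_cases h1 : polar Q w u = 0
      · by_cases h2 : polar Q w₀ v = 0
        · exact ⟨w + w₀, W.add_mem hw hw₀, by simp [polar_add_left, h1, hw₀u], by simp [polar_add_left, h2, hwv]⟩
        · exact ⟨w₀, hw₀, hw₀u, h2⟩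
      · exact ⟨w, hw, h1, hwv⟩
    exact ax_move hQ (haxW d hd) (hW d hd) hu0 hv hdu hdv huax
  rw [commutator_eq_siegelGroup hQ h4 hp hn]
  refine siegelGroup_le_of_ax fun v hv => ?_
  by_cases hv0 : v = 0
  · rw [hv0]; exact AxIn.zero M
  obtain ⟨w₁, hw₁, hw₁0⟩ := Submodule.exists_mem_ne_zero_of_ne_bot hW0
  obtain ⟨r, hr, -, hrv, hrw⟩ := exists_common hQ hn (d := 0) (map_zero Q) hv (hW w₁ hw₁)
    (by rw [polar_zero_left]) (by rw [polar_zero_left]) (by simpa using hv0) (by simpa using hw₁0)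
  have hr0 : r ≠ 0 := fun h => hrv (by rw [h, polar_zero_right])
  obtain ⟨x, hx, -, hxr, hxw⟩ := exists_common hQ hn (d := 0) (map_zero Q) hr (hW w₁ hw₁)
    (by rw [polar_zero_left]) (by rw [polar_zero_left]) (by simpa using hr0) (by simpa using hw₁0)
  exact ax_move hQ (hnon r hr ⟨w₁, hw₁, hrw⟩) hr hx hv hxr (by rw [polar_comm]; exact hrv) (hnon x hx ⟨w₁, hw₁, hxw⟩)

end CfsgLib.Classical

namespace CfsgLib.Classical

variable {F : Type*} [Field F] [Fintype F] {ι : Type} [Fintype ι] [DecidableEq ι] {Qf : (ι → F) → F}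

theorem omega_isMaximalIn (Q : QuadraticForm F (ι → F)) (hQf : ∀ v, Qf v = Q v) (W : Submodule F (ι → F))
    (hex : ∃ k ∈ commutator (orthGroup Q), k ∉ stab (Q := Q) W)
    (hmax : ∀ M : Subgroup (orthGroup Q), stab (Q := Q) W ⊓ commutator (orthGroup Q) ≤ M →
      ∀ g ∈ M, g ∈ commutator (orthGroup Q) → g ∉ stab (Q := Q) W → commutator (orthGroup Q) ≤ M) :
    Cfsg.Geo.IsMaximalIn (Cfsg.Geo.omegaGL Qf) (Cfsg.Geo.subspaceStabilizer W ⊓ Cfsg.Geo.omegaGL Qf) := by
  refine ⟨lt_of_le_not_ge inf_le_right fun hle => ?_, fun M hM hMK => ?_⟩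
  · obtain ⟨k, hk, hkW⟩ := hex
    rw [stab_inf_omegaGL Q hQf W, omegaGL_eq Q hQf] at hle
    obtain ⟨y, hy, e⟩ := hle ⟨k, hk, rfl⟩
    exact hkW (orthToGL_injective Q hQf e ▸ hy.1)
  · by_cases hMH : M ≤ Cfsg.Geo.subspaceStabilizer W
    · exact Or.inl (le_antisymm (le_inf hMH hMK) hM)
    obtain ⟨t, ht, htW⟩ := SetLike.not_le_iff_exists.1 hMH
    obtain ⟨g, hg, rfl⟩ := (omegaGL_eq Q hQf ▸ hMK ht :
      t ∈ (commutator (orthGroup Q)).map (orthToGL Q hQf))
    refine Or.inr (le_antisymm hMK ?_)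
    have h := hmax (M.comap (orthToGL Q hQf)) (fun y hy => hM (by
      rw [stab_inf_omegaGL Q hQf W]; exact ⟨y, hy, rfl⟩)) g ht hg fun hgW => htW ((orthToGL_mem_stab Q hQf W g).2 hgW)
    rw [omegaGL_eq Q hQf]
    rintro _ ⟨y, hy, rfl⟩
    exact h hy

theorem singular_isMaximalIn (Q : QuadraticForm F (ι → F)) (hQf : ∀ v, Qf v = Q v)
    (hQ : (QuadraticMap.polarBilin Q).Nondegenerate) (h4 : Good F (ι → F)) (hn : 5 ≤ finrank F (ι → F))
    (W : Submodule F (ι → F)) (hW : ∀ w ∈ W, Q w = 0) (hW0 : W ≠ ⊥)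
    (hex : 2 * finrank F W + 3 ≤ finrank F (ι → F) ∨
      ∀ u, Q u = 0 → (∀ w ∈ W, polar Q w u = 0) → u ∈ W) :
    Cfsg.Geo.IsMaximalIn (Cfsg.Geo.omegaGL Qf) (Cfsg.Geo.subspaceStabilizer W ⊓ Cfsg.Geo.omegaGL Qf) := by
  obtain ⟨hp⟩ := exists_hypPairs hQ hn
  refine omega_isMaximalIn Q hQf W ?_ fun M hM g hg _ hgW => top_of_stab_singular hQ h4 hp hn hW hW0 hex hM hg hgW
  obtain ⟨w, hw, hw0⟩ := Submodule.exists_mem_ne_zero_of_ne_bot hW0
  obtain ⟨k, hk, hkw⟩ := exists_moving hQ h4 hp hn hw hw0 (hW w hw) hW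
  exact ⟨k, hk, fun h => hkw (by rw [← (show W.map (k.1 : _ →ₗ[F] _) = W from h)]; exact ⟨w, hw, rfl⟩)⟩

theorem singular_perp_mem_of_top {V : Type*} [AddCommGroup V] [Module F V] [FiniteDimensional F V]
    {Q : QuadraticForm F V} {W : Submodule F V} (hW : ∀ w ∈ W, Q w = 0)
    (h : ∀ U : Submodule F V, (∀ u ∈ U, Q u = 0) → finrank F U ≤ finrank F W) {u : V} (hu : Q u = 0)
    (hup : ∀ w ∈ W, polar Q w u = 0) : u ∈ W := by
  by_contra hne
  have hts : ∀ v ∈ W ⊔ (F ∙ u), Q v = 0 := by
    intro v hv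
    obtain ⟨w, hw, x, hx, rfl⟩ := Submodule.mem_sup.1 hv
    obtain ⟨t, rfl⟩ := Submodule.mem_span_singleton.1 hx
    rw [quad_add', quad_smul', polar_smul_r', hW w hw, hu, hup w hw]; ring
  have h1 := Submodule.finrank_lt_finrank_of_lt (lt_of_le_of_ne le_sup_left
    fun e => hne (e ▸ Submodule.mem_sup_right (Submodule.mem_span_singleton_self u)) : W < W ⊔ (F ∙ u))
  have := h _ hts
  omega

end CfsgLib.Classical
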