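import Cfsg.Agent.Lib.Classical.HermMatrixSimple
import Cfsg.Prelude.Def_GeometricClasses

/-!
# Maximality of subspace stabilisers in special unitary groups
-/

set_option autoImplicit false
set_option linter.unusedSectionVars false

open Module

namespace CfsgLib.Classical

variable {F : Type*} [Field F] {V : Type*} [AddCommGroup V] [Module F V] {σ : F →+* F}
  {B : V →ₛₗ[σ] V →ₗ[F] F}

/-- `M` contains every transvection with centre `v`. -/
def IsTAxis (M : Subgroup (isomGroup B)) (v : V) : Prop := ∀ g c, IsUTv g v c → g ∈ M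

theorem IsTAxis.map {M : Subgroup (isomGroup B)} {v : V} (h : IsTAxis M v) {k : isomGroup B} (hk : k ∈ M) :
    IsTAxis M (k.1 v) := fun g c hg => by
  have h1 := hg.conj k⁻¹
  rw [inv_inv, show (k⁻¹ : isomGroup B).1 (k.1 v) = v from k.1.symm_apply_apply v] at h1
  have h2 := M.mul_mem (M.mul_mem hk (h _ _ h1)) (M.inv_mem hk)
  simpa [mul_assoc] using h2

theorem IsTAxis.smul {M : Subgroup (isomGroup B)} {v : V} (h : IsTAxis M v) (hσ : ∀ a, σ (σ a) = a) {a : F}
    (ha : a ≠ 0) : IsTAxis M (a • v) := fun g c hg => by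
  have h1 := hg.smul hσ (inv_ne_zero ha)
  rw [smul_smul, inv_mul_cancel₀ ha, one_smul] at h1
  exact h _ _ h1

namespace IsHermitian

variable [Finite F] [FiniteDimensional F V] (h : IsHermitian B)
include h

theorem perp_perp_herm (hN : B.SeparatingRight) (W : Submodule F V) : perp B (perp B W) = W := by
  refine le_antisymm (fun x hx => ?_) fun w hw => mem_perp.2 fun z hz => h.isRefl _ _ (mem_perp.1 hz w hw)
  by_contra hxW
  obtain ⟨φ, hφx, hφW⟩ := Submodule.exists_dual_map_eq_bot_of_notMem hxW inferInstance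
  obtain ⟨z, hz⟩ := h.exists_form_eq hN φ
  have hzp : z ∈ perp B W := mem_perp.2 fun w hw => h.isRefl _ _
    ((hz w).trans ((Submodule.eq_bot_iff _).1 hφW _ (Submodule.mem_map_of_mem hw)))
  exact hφx ((hz x).symm.trans (mem_perp.1 hx z hzp))

theorem isTAxis_zero (M : Subgroup (isomGroup B)) : IsTAxis M (0 : V) := fun g c hg => by
  rw [show g = 1 from Subtype.ext (LinearEquiv.ext fun x => by rw [hg.2.2]; simp)]
  exact M.one_mem

theorem isTAxis_of_mem {W : Submodule F V} {M : Subgroup (isomGroup B)}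
    (hM : ∀ g, idet B g = 1 → g ∈ isomStab B W → g ∈ M) {v : V} (hv : v ∈ W ∨ v ∈ perp B W) :
    IsTAxis M v := fun g c hg => hM g (h.idet_uTv hg) <| by
  refine Submodule.eq_of_le_of_finrank_eq ?_ (LinearEquiv.finrank_map_eq g.1 W)
  rintro _ ⟨x, hx, rfl⟩
  change g.1 x ∈ W
  rw [hg.2.2]
  rcases hv with hv | hv
  · exact W.add_mem hx (W.smul_mem _ hv)
  · rw [h.isRefl _ _ (mem_perp.1 hv x hx), mul_zero, zero_smul, add_zero]; exact hx

theorem sIsom_le_of_axes (hN : B.SeparatingRight) (hn : 4 ≤ finrank F V) {M : Subgroup (isomGroup B)}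
    (hA : ∀ v, B v v = 0 → IsTAxis M v) : sIsom B ≤ M := by
  rw [h.sIsom_eq_tGroup hN fun _ => Or.inr hn]
  refine (Subgroup.closure_le _).2 ?_
  rintro g ⟨v, c, hg⟩
  exact hA v hg.1 g c hg

/-- Moving an axis by a transvection. -/
theorem axis_step (hN : B.SeparatingRight) {M : Subgroup (isomGroup B)} {a b : V} (ha : IsTAxis M a)
    (haa : B a a = 0) (hb : IsTAxis M b) {c : F} (hc : c + σ c = 0) : IsTAxis M (b + (c * B a b) • a) := by
  obtain ⟨g, hg⟩ := h.exists_uTv hN haa hc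
  have := hb.map (ha g c hg)
  rwa [hg.2.2] at this

theorem exists_len_orth {U : Submodule F V} (hU : NondegOn B U) (hd : 3 ≤ finrank F U) {u : V} (hu : u ∈ U)
    (huu : B u u ≠ 0) (a : F) (ha : σ a = a) : ∃ z ∈ U, z ≠ 0 ∧ B u z = 0 ∧ B z z = a := by
  set X := Submodule.span F {u}
  have hX : NondegOn B X := h.nondegOn_span_singleton huu
  have hle : X ≤ U := Submodule.span_le.2 (by simpa using hu)
  obtain ⟨hnd, hr⟩ := h.finrank_inf_perp hX hU hle
  have h1 : finrank F X = 1 := finrank_span_singleton (fun e => by simp [e] at huu)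
  by_cases ha0 : a = 0
  · obtain ⟨z, hz, hz0, hzz⟩ := h.exists_isotropic hnd (by omega)
    obtain ⟨h1, h2⟩ := Submodule.mem_inf.1 hz
    rcases (show z ∈ U ∧ z ∈ perp B X by first | exact ⟨h1, h2⟩ | exact ⟨h2, h1⟩) with ⟨h3, h4⟩
    exact ⟨z, h3, hz0, mem_perp.1 h4 u (Submodule.mem_span_singleton_self u), hzz.trans ha0.symm⟩
  · obtain ⟨z, hz, hzz⟩ := h.exists_unit_in hnd (by omega) ha
    obtain ⟨h1, h2⟩ := Submodule.mem_inf.1 hz
    rcases (show z ∈ U ∧ z ∈ perp B X by first | exact ⟨h1, h2⟩ | exact ⟨h2, h1⟩) with ⟨h3, h4⟩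
    exact ⟨z, h3, fun e => ha0 (by rw [← hzz, e]; simp),
      mem_perp.1 h4 u (Submodule.mem_span_singleton_self u), hzz⟩

/-- Isometries stabilising a totally isotropic `W` with determinant one are transitive outside `perp W`. -/
theorem stab_ts_transitive (hN : B.SeparatingRight) {W : Submodule F V} (hW : ∀ a ∈ W, ∀ b ∈ W, B a b = 0)
    {u u' : V} (hu : B u u = 0) (hu' : B u' u' = 0) (hun : u ∉ perp B W) (hun' : u' ∉ perp B W) :
    ∃ (g : isomGroup B) (l : F), idet B g = 1 ∧ g ∈ isomStab B W ∧ l ≠ 0 ∧ g.1 u = l • u' := by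
  have huW : u ∉ W := fun hm => hun (mem_perp.2 fun w hw => hW w hw u hm)
  have hu'W : u' ∉ W := fun hm => hun' (mem_perp.2 fun w hw => hW w hw u' hm)
  simp only [mem_perp, not_forall] at hun hun'
  obtain ⟨w₁, hw₁, hw₁u⟩ := hun
  obtain ⟨w₂, hw₂, hw₂u⟩ := hun'
  let f₁ : W →ₗ[F] F := (B u).comp W.subtype
  let f₂ : W →ₗ[F] F := (B u').comp W.subtype
  have hex : ∀ (f : W →ₗ[F] F), f ≠ 0 → ∃ x, f x = 1 := fun f hf => by
    obtain ⟨x, hx⟩ := DFunLike.ne_iff.1 hf
    exact ⟨(f x)⁻¹ • x, by rw [map_smul, smul_eq_mul, inv_mul_cancel₀ hx]⟩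
  have hf₁ : f₁ ≠ 0 := fun e => hw₁u (h.isRefl _ _ (congrArg (fun f : W →ₗ[F] F => f ⟨w₁, hw₁⟩) e))
  have hf₂ : f₂ ≠ 0 := fun e => hw₂u (h.isRefl _ _ (congrArg (fun f : W →ₗ[F] F => f ⟨w₂, hw₂⟩) e))
  obtain ⟨x₁, hx₁⟩ := hex f₁ hf₁
  obtain ⟨x₂, hx₂⟩ := hex f₂ hf₂
  obtain ⟨e, he⟩ : ∃ e : W ≃ₗ[F] W, ∀ x, f₂ (e x) = f₁ x := by
    have hk : finrank F (LinearMap.ker f₁) = finrank F (LinearMap.ker f₂) := by
      have a1 := f₁.finrank_range_add_finrank_ker
      have a2 := f₂.finrank_range_add_finrank_ker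
      rw [LinearMap.range_eq_top.2 (LinearMap.surjective hf₁), finrank_top, Module.finrank_self] at a1
      rw [LinearMap.range_eq_top.2 (LinearMap.surjective hf₂), finrank_top, Module.finrank_self] at a2
      omega
    obtain ⟨ek⟩ := FiniteDimensional.nonempty_linearEquiv_of_finrank_eq hk
    let φ : W →ₗ[F] W := ((LinearMap.ker f₂).subtype.comp ek.toLinearMap).comp
      ((LinearMap.id - f₁.smulRight x₁).codRestrict (LinearMap.ker f₁) fun x => by
        simp [hx₁]) + f₁.smulRight x₂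
    have hφ : ∀ x, f₂ (φ x) = f₁ x := fun x => by
      have hz := (ek ((LinearMap.id - f₁.smulRight x₁).codRestrict (LinearMap.ker f₁) (fun x => by
        simp [hx₁]) x)).2
      simp only [LinearMap.mem_ker] at hz
      simp only [φ, LinearMap.add_apply, LinearMap.comp_apply, LinearEquiv.coe_coe, Submodule.coe_subtype,
        map_add, hz, zero_add, LinearMap.smulRight_apply, map_smul, hx₂, smul_eq_mul, mul_one]
    have hinj : Function.Injective φ := (injective_iff_map_eq_zero φ).2 fun x hx => by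
      have h1 : f₁ x = 0 := by rw [← hφ, hx, map_zero]
      simp only [φ, LinearMap.add_apply, LinearMap.comp_apply, LinearEquiv.coe_coe, Submodule.coe_subtype,
        LinearMap.smulRight_apply, h1, zero_smul, add_zero, ZeroMemClass.coe_eq_zero,
        LinearEquiv.map_eq_zero_iff] at hx
      have h2 : (LinearMap.id - f₁.smulRight x₁ : W →ₗ[F] W) x = 0 := congrArg Subtype.val hx
      simpa [h1] using h2
    exact ⟨LinearEquiv.ofInjectiveEndo φ hinj, hφ⟩
  set X := W ⊔ Submodule.span F {u}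
  have hdisj : ∀ (x : W) (a : F), (x : V) + a • u = 0 → x = 0 ∧ a = 0 := fun x a hxa => by
    by_cases ha : a = 0
    · exact ⟨Subtype.ext (by simpa [ha] using hxa), ha⟩
    · refine absurd ?_ huW
      have : u = (-a⁻¹) • (x : V) := by
        rw [eq_neg_of_add_eq_zero_left hxa, neg_smul, smul_neg, neg_neg, smul_smul, inv_mul_cancel₀ ha, one_smul]
      exact this ▸ W.smul_mem _ x.2
  let L : W × F →ₗ[F] V := W.subtype.coprod (LinearMap.toSpanSingleton F V u)
  have hL : Function.Injective L := (injective_iff_map_eq_zero L).2 fun p hp => by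
    obtain ⟨e1, e2⟩ := hdisj p.1 p.2 (by simpa [L] using hp)
    exact Prod.ext e1 e2
  let L' : W × F →ₗ[F] V := (W.subtype.comp e.toLinearMap).coprod (LinearMap.toSpanSingleton F V u')
  have hL' : Function.Injective L' := (injective_iff_map_eq_zero L').2 fun p hp => by
    have hp' : (e p.1 : V) + p.2 • u' = 0 := by simpa [L'] using hp
    by_cases ha : p.2 = 0
    · refine Prod.ext (e.injective (Subtype.ext ?_)) ha
      simpa [ha] using hp'
    · refine absurd ?_ hu'W
      have : u' = (-p.2⁻¹) • (e p.1 : V) := by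
        rw [eq_neg_of_add_eq_zero_left hp', neg_smul, smul_neg, neg_neg, smul_smul, inv_mul_cancel₀ ha, one_smul]
      exact this ▸ W.smul_mem _ (e p.1).2
  obtain ⟨g, hg⟩ := h.witt hN (LinearMap.range L) (L'.comp (LinearEquiv.ofInjective L hL).symm.toLinearMap)
    (hL'.comp (LinearEquiv.injective _)) fun a b => by
      obtain ⟨p, rfl⟩ := (LinearEquiv.ofInjective L hL).surjective a
      obtain ⟨r, rfl⟩ := (LinearEquiv.ofInjective L hL).surjective b
      simp only [LinearMap.comp_apply, LinearEquiv.coe_coe, LinearEquiv.symm_apply_apply,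
        LinearEquiv.ofInjective_apply]
      have e1 : ∀ x : W, B u' (e x : V) = B u (x : V) := fun x => he x
      have e2 : ∀ x : W, B (e x : V) u' = B (x : V) u := fun x => by rw [← h.symm, e1, h.symm]
      simp [L, L', map_smulₛₗ, hW _ (e p.1).2 _ (e r.1).2, hW _ p.1.2 _ r.1.2, hu, hu', e1, e2]
  have hgL : ∀ p : W × F, g.1 (L p) = L' p := fun p => by
    simpa using hg (LinearEquiv.ofInjective L hL p)
  have hgu : g.1 u = u' := by simpa [L, L'] using hgL (0, 1)
  have hgW : ∀ x ∈ W, g.1 x ∈ W := fun x hx => by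
    have := hgL (⟨x, hx⟩, 0)
    simp [L, L'] at this
    rw [this]
    exact (e ⟨x, hx⟩).2
  set r := (x₂ : V)
  have hr : B r r = 0 := hW _ x₂.2 _ x₂.2
  have hru' : B r u' = 1 := by rw [← h.symm, show B u' r = 1 from hx₂, map_one]
  obtain ⟨t, htd, l, hl, htr, hts, htx⟩ := h.exists_det_torus hN hr hu' hru' (δ := (idet B g)⁻¹)
    (by rw [map_inv₀, ← mul_inv, h.idet_norm hN, inv_one])
  have htW : ∀ x ∈ W, t.1 x ∈ W := fun x hx => by
    have e : x = B u' x • r + (x - B u' x • r) := by abel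
    rw [e, map_add, map_smul, htr, htx (x - B u' x • r) (by simp [hW r x₂.2 x hx, hr]) (by
      simp [show B u' r = 1 from hx₂])]
    exact W.add_mem (W.smul_mem _ (W.smul_mem _ x₂.2)) (W.sub_mem hx (W.smul_mem _ x₂.2))
  refine ⟨t * g, (σ l)⁻¹, ?_, ?_, ?_, ?_⟩
  · rw [map_mul, htd, inv_mul_cancel₀]
    intro e
    simpa [e] using h.idet_norm hN g
  · refine Submodule.eq_of_le_of_finrank_eq ?_ (LinearEquiv.finrank_map_eq _ W)
    rintro _ ⟨x, hx, rfl⟩
    exact htW _ (hgW x hx)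
  · exact inv_ne_zero fun e => hl (by rw [← h.conj.invol l, e, map_zero])
  · change t.1 (g.1 u) = _
    rw [hgu, hts]

/-- Stabilisers of totally isotropic subspaces are maximal. -/
theorem top_of_stab_ts (hN : B.SeparatingRight) (hn : 4 ≤ finrank F V) {W : Submodule F V}
    (hW : ∀ a ∈ W, ∀ b ∈ W, B a b = 0) {M : Subgroup (isomGroup B)}
    (hM : ∀ g, idet B g = 1 → g ∈ isomStab B W → g ∈ M) {g : isomGroup B} (hg : g ∈ M)
    (hgW : g ∉ isomStab B W) : sIsom B ≤ M := by
  have hax : ∀ v ∈ perp B W, IsTAxis M v := fun v hv => h.isTAxis_of_mem hM (Or.inr hv)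
  obtain ⟨u, hu, hun, huA⟩ : ∃ u, B u u = 0 ∧ u ∉ perp B W ∧ IsTAxis M u := by
    by_contra! hcon
    have : Finite V := Module.finite_of_finite F
    let f : {x : V // x ∈ perp B W ∧ B x x = 0} → {x : V // x ∈ perp B W ∧ B x x = 0} := fun x =>
      ⟨g.1 x.1, by
        by_contra hne
        exact hcon (g.1 x.1) ((g.2 _ _).trans x.2.2) hne ((hax _ x.2.1).map hg), (g.2 _ _).trans x.2.2⟩
    have hf : Function.Surjective f := (Finite.injective_iff_surjective).1 fun a b e =>
      Subtype.ext (g.1.injective (congrArg Subtype.val e))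
    apply hgW
    refine Submodule.eq_of_le_of_finrank_eq ?_ (LinearEquiv.finrank_map_eq _ W)
    rintro _ ⟨w, hw, rfl⟩
    have hwp : w ∈ perp B W := mem_perp.2 fun y hy => hW y hy w hw
    have hmem := (f ⟨w, hwp, hW w hw w hw⟩).2
    change g.1 w ∈ W
    by_contra hne
    rw [← h.perp_perp_herm hN W, mem_perp] at hne
    simp only [not_forall] at hne
    obtain ⟨y, hy, hyw⟩ := hne
    set x := g.1 w with hxdef
    have hxy : B x y ≠ 0 := fun e => hyw (h.isRefl _ _ e)
    set y' := (B x y)⁻¹ • y with hy'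
    have hxy' : B x y' = 1 := by rw [hy', map_smul, smul_eq_mul, inv_mul_cancel₀ hxy]
    have hyp' : y' ∈ perp B W := (perp B W).smul_mem _ hy
    clear_value y'
    obtain ⟨e, he⟩ := h.conj.exists_trace_eq (a := -B y' y') (by rw [map_neg, h.self_fixed])
    have hz : B (y' + e • x) (y' + e • x) = 0 := by
      rw [h.add_self, h.smul_self, (g.2 w w).trans (hW w hw w hw), map_smul, ← h.symm x y', hxy', map_one,
        smul_eq_mul, mul_one, he]
      ring
    have hzp : y' + e • x ∈ perp B W :=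
      (perp B W).add_mem hyp' ((perp B W).smul_mem _ hmem.1)
    obtain ⟨⟨z, hz1, hz2⟩, hz3⟩ := hf ⟨_, hzp, hz⟩
    have h1 : B x (y' + e • x) = 1 := by
      rw [map_add, map_smul, hxy', (g.2 w w).trans (hW w hw w hw), smul_zero, add_zero]
    rw [show y' + e • x = g.1 z from (congrArg Subtype.val hz3).symm, hxdef, g.2,
      mem_perp.1 hz1 w hw] at h1
    exact zero_ne_one h1
  refine h.sIsom_le_of_axes hN hn fun v hv => ?_
  by_cases hvn : v ∈ perp B W
  · exact hax v hvn
  obtain ⟨k, l, hk, hkW, hl, hku⟩ := h.stab_ts_transitive hN hW hu hv hun hvn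
  have h1 := (huA.map (hM k hk hkW)).smul h.conj.invol (inv_ne_zero hl)
  rwa [hku, smul_smul, inv_mul_cancel₀ hl, one_smul] at h1

theorem exists_hyp_in {U : Submodule F V} (hU : NondegOn B U) (hd : 2 ≤ finrank F U) :
    ∃ e f, e ∈ U ∧ f ∈ U ∧ B e e = 0 ∧ B f f = 0 ∧ B e f = 1 := by
  obtain ⟨e, he, he0, hee⟩ := h.exists_isotropic hU hd
  obtain ⟨f, hf, hff, hef⟩ := h.exists_partner hU he he0 hee
  exact ⟨e, f, he, hf, hee, hff, hef⟩

theorem le_span_isotropic {U : Submodule F V} (hU : NondegOn B U) (hd : 2 ≤ finrank F U) :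
    U ≤ Submodule.span F {x | x ∈ U ∧ B x x = 0} := by
  obtain ⟨e, f, he, hf, hee, hff, hef⟩ := h.exists_hyp_in hU hd
  set S := Submodule.span F {x | x ∈ U ∧ B x x = 0}
  have heS : e ∈ S := Submodule.subset_span ⟨he, hee⟩
  have hfS : f ∈ S := Submodule.subset_span ⟨hf, hff⟩
  have key : ∀ x ∈ U, B e x ≠ 0 → x ∈ S := fun x hx hex => by
    obtain ⟨a, ha⟩ := h.conj.exists_trace_eq (a := -B x x) (by rw [map_neg, h.self_fixed])
    have hxe : B x e ≠ 0 := fun e' => hex (h.isRefl _ _ e')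
    have hy : x + (a / B x e) • e ∈ S := Submodule.subset_span ⟨U.add_mem hx (U.smul_mem _ he), by
      rw [h.add_self, h.smul_self, hee, map_smul, smul_eq_mul, div_mul_cancel₀ _ hxe, ha]; ring⟩
    simpa using S.sub_mem hy (S.smul_mem (a / B x e) heS)
  intro x hx
  by_cases hex : B e x = 0
  · have := key (x + f) (U.add_mem hx hf) (by rw [map_add, hex, hef, zero_add]; exact one_ne_zero)
    simpa using S.sub_mem this hfS
  · exact key x hx hex

/-- Any two isotropic vectors have an isotropic vector orthogonal to neither. -/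
theorem exists_common_nonorth {U : Submodule F V} (hU : NondegOn B U) {u v : V} (hu : u ∈ U) (hv : v ∈ U)
    (hu0 : u ≠ 0) (hv0 : v ≠ 0) (huu : B u u = 0) (hvv : B v v = 0) :
    ∃ z ∈ U, B z z = 0 ∧ B u z ≠ 0 ∧ B v z ≠ 0 := by
  obtain ⟨s, hs, hss, hus⟩ := h.exists_partner hU hu hu0 huu
  by_cases hvs : B v s = 0
  · obtain ⟨s', hs', hss', hvs'⟩ := h.exists_partner hU hv hv0 hvv
    by_cases hus' : B u s' = 0
    · obtain ⟨c, hc0, hc⟩ := h.conj.exists_trace_zero
      by_cases hb : B s s' = 0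
      · refine ⟨s + s', U.add_mem hs hs', ?_, ?_, ?_⟩
        · rw [h.add_self, hss, hss', hb]; simp
        · simp [hus, hus']
        · simp [hvs, hvs']
      · refine ⟨s + (c / B s s') • s', U.add_mem hs (U.smul_mem _ hs'), ?_, ?_, ?_⟩
        · rw [h.add_self, h.smul_self, hss, hss', map_smul, smul_eq_mul, div_mul_cancel₀ _ hb, hc]
          ring
        · simp [hus, hus']
        · simp [hvs, hvs', hc0, hb]
    · exact ⟨s', hs', hss', hus', by rw [hvs']; exact one_ne_zero⟩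
  · exact ⟨s, hs, hss, by rw [hus]; exact one_ne_zero, hvs⟩

/-- Stabilisers of non-degenerate subspaces are maximal. -/
theorem top_of_stab_nondeg_herm (hN : B.SeparatingRight) (hn : 4 ≤ finrank F V) {W : Submodule F V}
    (hW : NondegOn B W) (hdim : 2 * finrank F W < finrank F V) (hd3 : 3 ≤ finrank F (perp B W))
    {M : Subgroup (isomGroup B)}
    (hM : ∀ g, idet B g = 1 → g ∈ isomStab B W → g ∈ M) {g : isomGroup B} (hg : g ∈ M)
    (hgW : g ∉ isomStab B W) : sIsom B ≤ M := by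
  set U := perp B W with hUdef
  have hU : NondegOn B U := nondegOn_perp hN hW
  have hfr := hW.finrank_perp
  rw [← hUdef] at hfr
  have haxW : ∀ v ∈ W, IsTAxis M v := fun v hv => h.isTAxis_of_mem hM (Or.inl hv)
  have haxU : ∀ v ∈ U, IsTAxis M v := fun v hv => h.isTAxis_of_mem hM (Or.inr hv)
  have horth : ∀ w ∈ W, ∀ u ∈ U, B w u = 0 ∧ B u w = 0 := fun w hw u hu =>
    ⟨mem_perp.1 hu w hw, h.isRefl _ _ (mem_perp.1 hu w hw)⟩
  -- transitivity on mixed vectors with prescribed lengths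
  have htrans : ∀ {w u w' u' : V}, w ∈ W → u ∈ U → w' ∈ W → u' ∈ U → w ≠ 0 → u ≠ 0 → w' ≠ 0 → u' ≠ 0 →
      B w w = B w' w' → B u u = B u' u' → IsTAxis M (w + u) → IsTAxis M (w' + u') := by
    intro w u w' u' hw hu hw' hu' hw0 hu0 hw0' hu0' ew eu hax
    obtain ⟨a, ha⟩ := (h.restrict W).witt_family (restrictForm_separatingRight hW)
      (a := fun _ : Unit => (⟨w, hw⟩ : W)) (b := fun _ : Unit => (⟨w', hw'⟩ : W))
      (linearIndependent_unique_iff.2 fun e => hw0 (congrArg Subtype.val e))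
      (linearIndependent_unique_iff.2 fun e => hw0' (congrArg Subtype.val e)) (fun _ _ => ew)
    obtain ⟨b, hb⟩ := (h.restrict U).witt_family (restrictForm_separatingRight hU)
      (a := fun _ : Unit => (⟨u, hu⟩ : U)) (b := fun _ : Unit => (⟨u', hu'⟩ : U))
      (linearIndependent_unique_iff.2 fun e => hu0 (congrArg Subtype.val e))
      (linearIndependent_unique_iff.2 fun e => hu0' (congrArg Subtype.val e)) (fun _ _ => eu)
    set k := isomStabEquiv h.isRefl hW (a, b)
    have hk : k.1.1 (w + u) = w' + u' := by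
      have h1 : k.1.1 w = w' := (sumEquiv_apply_left hW.isCompl a.1 b.1 ⟨w, hw⟩).trans
        (congrArg Subtype.val (ha ()))
      have h2 : k.1.1 u = u' := (sumEquiv_apply_right hW.isCompl a.1 b.1 ⟨u, hu⟩).trans
        (congrArg Subtype.val (hb ()))
      rw [map_add, h1, h2]
    obtain ⟨z, hzU, hzu, hzz⟩ : ∃ z ∈ U, B u' z = 0 ∧ B z z = 1 := by
      by_cases huu : B u' u' = 0
      · obtain ⟨s, hs, hss, hus⟩ := h.exists_partner hU hu' hu0' huu
        have hP := h.nondegOn_hyp huu hus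
        have hle : Submodule.span F {u', s} ≤ U := Submodule.span_le.2 (by
          rintro x (rfl | rfl)
          · exact hu'
          · exact hs)
        obtain ⟨hnd, hr⟩ := h.finrank_inf_perp hP hU hle
        have := h.finrank_hyp huu hus
        obtain ⟨z, hz, hzz⟩ := h.exists_unit_in hnd (by omega) (map_one σ)
        obtain ⟨h1, h2⟩ := Submodule.mem_inf.1 hz
        rcases (show z ∈ U ∧ z ∈ perp B (Submodule.span F {u', s}) by
          first | exact ⟨h1, h2⟩ | exact ⟨h2, h1⟩) with ⟨h3, h4⟩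
        exact ⟨z, h3, mem_perp.1 h4 u' (Submodule.subset_span (by simp)), hzz⟩
      · obtain ⟨z, hz, -, hzu, hzz⟩ := h.exists_len_orth hU hd3 hu' huu 1 (map_one σ)
        exact ⟨z, hz, hzu, hzz⟩
    obtain ⟨t, ht, htd⟩ := h.exists_qr hN (z := z) (by rw [hzz]; exact one_ne_zero) (l := (idet B k.1)⁻¹)
      (by rw [map_inv₀, ← mul_inv, h.idet_norm hN, inv_one])
    have htW : ∀ x ∈ W, t.1 x = x := fun x hx => by
      rw [ht, (horth x hx z hzU).2, mul_zero, zero_smul, add_zero]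
    have htk : t * k.1 ∈ M := by
      refine hM _ ?_ ?_
      · rw [map_mul, htd, inv_mul_cancel₀]
        intro e
        simpa [e] using h.idet_norm hN k.1
      · refine Submodule.eq_of_le_of_finrank_eq ?_ (LinearEquiv.finrank_map_eq _ W)
        rintro _ ⟨x, hx, rfl⟩
        have hkx : k.1.1 x ∈ W := (mem_isomStab.1 k.2).le ⟨x, hx, rfl⟩
        exact (htW _ hkx).symm ▸ hkx
    have h1 := hax.map htk
    rwa [show (t * k.1).1 (w + u) = t.1 (k.1.1 (w + u)) from rfl, hk, map_add, htW w' hw',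
      ht, h.isRefl _ _ hzu, mul_zero, zero_smul, add_zero] at h1
  have hsum : ∀ {w u : V}, w ∈ W → u ∈ U → B (w + u) (w + u) = B w w + B u u := fun hw hu => by
    rw [h.add_self, (horth _ hw _ hu).1]; simp
  have hclass : ∀ {w u w' u' : V}, w ∈ W → u ∈ U → w' ∈ W → u' ∈ U → B (w + u) (w + u) = 0 →
      B (w' + u') (w' + u') = 0 → B w w ≠ 0 → B w' w' ≠ 0 → IsTAxis M (w + u) → IsTAxis M (w' + u') := by
    intro w u w' u' hw hu hw' hu' e e' hw0 hw0' hax
    rw [hsum hw hu] at e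
    rw [hsum hw' hu'] at e'
    obtain ⟨l, hl⟩ := h.conj.exists_norm_eq (a := B w w / B w' w') (by rw [map_div₀, h.self_fixed, h.self_fixed])
    have hlN : l * σ l * B w' w' = B w w := by
      first
      | rw [hl, div_mul_cancel₀ _ hw0']
      | rw [mul_comm l, hl, div_mul_cancel₀ _ hw0']
    have hl0 : l ≠ 0 := fun e0 => hw0 (by rw [← hlN, e0, zero_mul, zero_mul])
    have hne : ∀ {x : V}, B x x ≠ 0 → x ≠ 0 := fun hx e0 => hx (by rw [e0]; simp)
    have hu0 : B u u ≠ 0 := fun e0 => hw0 (by rw [e0, add_zero] at e; exact e)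
    have hu0' : B u' u' ≠ 0 := fun e0 => hw0' (by rw [e0, add_zero] at e'; exact e')
    have h1 := htrans hw hu (W.smul_mem l hw') (U.smul_mem l hu') (hne hw0) (hne hu0)
      (smul_ne_zero hl0 (hne hw0')) (smul_ne_zero hl0 (hne hu0'))
      (by rw [h.smul_self, hlN]) (by rw [h.smul_self]; linear_combination e + hlN - (l * σ l) * e') hax
    rw [← smul_add] at h1
    have h2 := h1.smul h.conj.invol (inv_ne_zero hl0)
    rwa [smul_smul, inv_mul_cancel₀ hl0, one_smul] at h2
  obtain ⟨c, hc0, hc⟩ := h.conj.exists_trace_zero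
  -- some mixed axis
  obtain ⟨w, u, hw, hu, hw0, hu0, hwu, hax⟩ : ∃ w u, w ∈ W ∧ u ∈ U ∧ w ≠ 0 ∧ u ≠ 0 ∧
      B (w + u) (w + u) = 0 ∧ IsTAxis M (w + u) := by
    by_contra! hcon
    have hside : ∀ x ∈ U, B x x = 0 → g.1 x ∈ W ∨ g.1 x ∈ U := fun x hx hxx => by
      obtain ⟨a, b, e⟩ := exists_add_eq hW.isCompl (g.1 x)
      by_cases ha : (a : V) = 0
      · exact Or.inr (by first | (rw [← e, ha, zero_add]; exact b.2) | (rw [e, ha, zero_add]; exact b.2))
      by_cases hb : (b : V) = 0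
      · exact Or.inl (by first | (rw [← e, hb, add_zero]; exact a.2) | (rw [e, hb, add_zero]; exact a.2))
      · refine absurd ?_ (hcon a b a.2 b.2 ha hb (by
          first | (rw [e]; exact (g.2 x x).trans hxx) | (rw [← e]; exact (g.2 x x).trans hxx)))
        have := (haxU x hx).map hg
        first | (rw [e]; exact this) | (rw [← e]; exact this)
    have hdisj : ∀ x, x ∈ W → x ∈ U → x = 0 := fun x h1 h2 =>
      (Submodule.disjoint_def.1 hW.isCompl.disjoint) x h1 h2
    obtain ⟨e₀, f₀, he₀, -, hee, -, hef⟩ := h.exists_hyp_in hU (by omega)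
    have he0 : e₀ ≠ 0 := fun e => by simp [e] at hef
    have hconst : ∀ (S T : Submodule F V), (∀ a ∈ S, ∀ b ∈ T, B a b = 0 ∧ B b a = 0) →
        (∀ x ∈ U, B x x = 0 → g.1 x ∈ S ∨ g.1 x ∈ T) → g.1 e₀ ∈ S →
        ∀ x ∈ U, B x x = 0 → g.1 x ∈ S := by
      intro S T hST hST' heS x hx hxx
      by_cases hx0 : x = 0
      · simp [hx0]
      obtain ⟨z, hz, hzz, hz1, hz2⟩ := h.exists_common_nonorth hU he₀ hx he0 hx0 hee hxx
      have hzS : g.1 z ∈ S := (hST' z hz hzz).resolve_right fun hT => hz1 (by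
        rw [← g.2]; exact (hST _ heS _ hT).1)
      exact (hST' x hx hxx).resolve_right fun hT => hz2 (by rw [← g.2]; exact (hST _ hzS _ hT).2)
    have hspan : ∀ S : Submodule F V, (∀ x ∈ U, B x x = 0 → g.1 x ∈ S) →
        U.map (g.1 : V →ₗ[F] V) ≤ S := fun S hS => by
      refine le_trans (Submodule.map_mono (h.le_span_isotropic hU (by omega))) ?_
      rw [Submodule.map_span, Submodule.span_le]
      rintro _ ⟨x, ⟨hx, hxx⟩, rfl⟩
      exact hS x hx hxx
    rcases hside e₀ he₀ hee with hS | hS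
    · have h1 := Submodule.finrank_mono (hspan W (hconst W U horth hside hS))
      rw [LinearEquiv.finrank_map_eq] at h1
      omega
    · have h1 := hspan U (hconst U W (fun a ha b hb => (horth b hb a ha).symm)
        (fun x hx hxx => (hside x hx hxx).symm) hS)
      have h2 := Submodule.eq_of_le_of_finrank_eq h1 (LinearEquiv.finrank_map_eq _ U)
      apply hgW
      have h3 := map_perp g.2 U
      rw [h2, hUdef, h.perp_perp_herm hN] at h3
      exact h3
  -- an axis of the anisotropic kind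
  obtain ⟨w₀, u₀, hw₀, hu₀, hw₀0, hwu₀, hax₀⟩ : ∃ w u, w ∈ W ∧ u ∈ U ∧ B w w ≠ 0 ∧
      B (w + u) (w + u) = 0 ∧ IsTAxis M (w + u) := by
    by_cases hww : B w w = 0
    · have huu : B u u = 0 := by rw [hsum hw hu, hww, zero_add] at hwu; exact hwu
      obtain ⟨s, hs, hss, hws⟩ := h.exists_partner hW hw hw0 hww
      obtain ⟨f', hf', hff', huf'⟩ := h.exists_partner hU hu hu0 huu
      obtain ⟨t, ht⟩ := h.conj.exists_trace_eq (a := (1 : F)) (map_one σ)
      set δ := t / c - 1 with hδdef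
      have hδ : δ ≠ 0 := fun e => by
        rw [hδdef, sub_eq_zero, div_eq_one_iff_eq hc0] at e
        rw [e, hc] at ht
        exact zero_ne_one ht
      have hs0 : s ≠ 0 := fun e => by simp [e] at hws
      have hf0 : δ • f' ≠ 0 := smul_ne_zero hδ fun e => by simp [e] at huf'
      have hb : IsTAxis M (s + δ • f') := htrans hw hu hs (U.smul_mem _ hf') hw0 hu0 hs0 hf0
        (hww.trans hss.symm) (huu.trans (by rw [h.smul_self, hff', mul_zero])) hax
      have h1 := h.axis_step hN hax hwu hb hc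
      have hB : c * B (w + u) (s + δ • f') = t := by
        simp [hws, (horth s hs u hu).2, (horth w hw f' hf').1, huf', hδdef]
        field_simp
      rw [hB, show s + δ • f' + t • (w + u) = (s + t • w) + (δ • f' + t • u) by module] at h1
      refine ⟨_, _, W.add_mem hs (W.smul_mem _ hw), U.add_mem (U.smul_mem _ hf') (U.smul_mem _ hu), ?_, ?_, h1⟩
      · rw [h.add_self, h.smul_self, hww, hss, map_smul, smul_eq_mul, ← h.symm w s, hws, map_one, mul_one, ht]
        simp
      · rw [show (s + t • w) + (δ • f' + t • u) = s + δ • f' + (c * B (w + u) (s + δ • f')) • (w + u) by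
          rw [hB]; module]
        obtain ⟨k, hk⟩ := h.exists_uTv hN hwu hc
        rw [← hk.2.2, k.2, hsum hs (U.smul_mem _ hf'), hss, h.smul_self, hff']
        ring
    · exact ⟨w, u, hw, hu, hww, hwu, hax⟩
  -- all mixed vectors
  refine h.sIsom_le_of_axes hN hn fun v hv => ?_
  obtain ⟨a, b, e⟩ := exists_add_eq hW.isCompl v
  obtain rfl : v = (a : V) + b := by first | exact e | exact e.symm
  by_cases ha : (a : V) = 0
  · rw [ha, zero_add]; exact haxU _ b.2
  by_cases hb : (b : V) = 0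
  · rw [hb, add_zero]; exact haxW _ a.2
  by_cases haa : B (a : V) a = 0
  · -- the isotropic kind, from two anisotropic ones
    have hbb : B (b : V) b = 0 := by rw [hsum a.2 b.2, haa, zero_add] at hv; exact hv
    set α := B w₀ w₀ with hα
    obtain ⟨s, hs, hss, has⟩ := h.exists_partner hW a.2 ha haa
    obtain ⟨μ, hμ⟩ := h.conj.exists_trace_eq (a := α) (h.self_fixed w₀)
    set w₁ := s + μ • (a : V) with hw₁
    have hsa : B s a = 1 := by rw [← h.symm, has, map_one]
    have hw₁W : w₁ ∈ W := W.add_mem hs (W.smul_mem _ a.2)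
    have hw₁w : B w₁ w₁ = α := by
      rw [hw₁, h.add_self, h.smul_self, hss, haa, map_smul, smul_eq_mul, hsa, mul_one, hμ]
      ring
    have hw₁a : B w₁ (a : V) = 1 := by simp [hw₁, hsa, haa]
    obtain ⟨u₁, hu₁, hu₁u⟩ := h.exists_unit_in hU (by omega) (a := -α) (by rw [map_neg, hα, h.self_fixed])
    have e₁ : B (w₁ + u₁) (w₁ + u₁) = 0 := by rw [hsum hw₁W hu₁, hw₁w, hu₁u]; ring
    have hax₁ := hclass hw₀ hu₀ hw₁W hu₁ hwu₀ e₁ hw₀0 (by rwa [hw₁w]) hax₀
    have hασ : σ α⁻¹ = α⁻¹ := by rw [map_inv₀, hα, h.self_fixed]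
    set t := α⁻¹ with ht
    set w₂ := (a : V) + (-t) • w₁ with hw₂
    have hw₂W : w₂ ∈ W := W.add_mem a.2 (W.smul_mem _ hw₁W)
    have hw₂w : B w₂ w₂ = -t := by
      rw [hw₂, h.add_self, h.smul_self, haa, hw₁w, map_smul, smul_eq_mul, ← h.symm w₁ (a : V), hw₁a, map_one,
        mul_one, map_neg, hασ, ht]
      have := hw₀0
      field_simp
      ring
    have hw₁₂ : B w₁ w₂ = 0 := by
      rw [hw₂, map_add, map_smul, hw₁a, hw₁w, smul_eq_mul, ht, neg_mul, inv_mul_cancel₀ hw₀0]; ring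
    set δ := t / c
    obtain ⟨z, hz, hz0, hu₁z, hzz⟩ := h.exists_len_orth hU hd3 hu₁ (by rw [hu₁u]; exact neg_ne_zero.2 hw₀0)
      (t - δ / -α * σ (δ / -α) * -α) (by
        simp only [map_sub, map_mul, map_neg, h.conj.invol, hασ, show σ α = α from h.self_fixed w₀]
        ring)
    set u₂ := (δ / -α) • u₁ + z with hu₂
    have hu₂U : u₂ ∈ U := U.add_mem (U.smul_mem _ hu₁) hz
    have e₂ : B (w₂ + u₂) (w₂ + u₂) = 0 := by
      rw [hsum hw₂W hu₂U, hw₂w, hu₂, h.add_self, h.smul_self, hu₁u, hzz]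
      simp [hu₁z]
    have ht0 : t ≠ 0 := inv_ne_zero hw₀0
    have hax₂ := hclass hw₀ hu₀ hw₂W hu₂U hwu₀ e₂ hw₀0 (by rw [hw₂w]; exact neg_ne_zero.2 ht0) hax₀
    have h1 := h.axis_step hN hax₁ e₁ hax₂ hc
    have hB : c * B (w₁ + u₁) (w₂ + u₂) = t := by
      simp only [map_add, LinearMap.add_apply, hw₁₂, (horth _ hw₁W _ hu₂U).1, (horth _ hw₂W _ hu₁).2]
      rw [hu₂, map_add, map_smul, hu₁u, hu₁z, smul_eq_mul, div_mul_cancel₀ _ (neg_ne_zero.2 hw₀0)]
      simp [δ, mul_div_cancel₀ _ hc0]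
    rw [hB, show w₂ + u₂ + t • (w₁ + u₁) = (a : V) + (u₂ + t • u₁) by rw [hw₂]; module] at h1
    have hu₃ : u₂ + t • u₁ ∈ U := U.add_mem hu₂U (U.smul_mem _ hu₁)
    have hne : u₂ + t • u₁ ≠ 0 := fun e0 => by
      have hz' : z = (-(δ / -α) - t) • u₁ := by
        rw [hu₂] at e0
        linear_combination (norm := module) e0
      rw [hz', map_smul, hu₁u, smul_eq_mul, mul_eq_zero] at hu₁z
      rcases hu₁z with h0 | h0
      · exact hz0 (by rw [hz', h0, zero_smul])
      · exact hw₀0 (neg_eq_zero.1 h0)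
    have h3 : B (u₂ + t • u₁) (u₂ + t • u₁) = 0 := by
      have h4 : B ((a : V) + (u₂ + t • u₁)) ((a : V) + (u₂ + t • u₁)) = 0 := by
        obtain ⟨k, hk⟩ := h.exists_uTv hN e₁ hc
        rw [show (a : V) + (u₂ + t • u₁) = w₂ + u₂ + (c * B (w₁ + u₁) (w₂ + u₂)) • (w₁ + u₁) by
          rw [hB, hw₂]; module, ← hk.2.2, k.2, e₂]
      rwa [hsum a.2 hu₃, haa, zero_add] at h4
    exact htrans a.2 hu₃ a.2 b.2 ha hne ha hb rfl (h3.trans hbb.symm) h1
  · exact hclass hw₀ hu₀ a.2 b.2 hwu₀ hv hw₀0 haa hax₀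

end IsHermitian

section Matrix

open Matrix

variable {n q : ℕ} [Fintype F]

/-- Transfer of maximality from the special isometry group to `GU ∩ SL`. -/
theorem gu_isMaximalIn (hσ : ∀ x, σ x = x ^ q) (H : Subgroup (GL (Fin n) F)) (P : isomGroup (stdHerm σ n) → Prop)
    (hP : ∀ g, linToGL g.1 ∈ H ↔ P g) (hex : ∃ g : isomGroup (stdHerm σ n), idet (stdHerm σ n) g = 1 ∧ ¬ P g)
    (hmax : ∀ M : Subgroup (isomGroup (stdHerm σ n)), (∀ g, idet (stdHerm σ n) g = 1 → P g → g ∈ M) →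
      ∀ g ∈ M, ¬ P g → sIsom (stdHerm σ n) ≤ M) :
    Cfsg.Geo.IsMaximalIn (Cfsg.GU n F q ⊓ Cfsg.Geo.specialLinear (Fin n) F)
      (H ⊓ (Cfsg.GU n F q ⊓ Cfsg.Geo.specialLinear (Fin n) F)) := by
  set K := Cfsg.GU n F q ⊓ Cfsg.Geo.specialLinear (Fin n) F
  let ψ : isomGroup (stdHerm σ n) →* GL (Fin n) F :=
    (linToGL (ι := Fin n) (F := F)).comp (isomGroup (stdHerm σ n)).subtype
  have hdet : ∀ g, (ψ g : Matrix (Fin n) (Fin n) F).det = idet (stdHerm σ n) g := fun g => by
    obtain ⟨x, rfl⟩ := (guEquiv hσ).surjective g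
    rw [idet_guEquiv]
    exact congrArg Matrix.det (LinearMap.toMatrix'_toLin' _)
  have hK : ∀ g, idet (stdHerm σ n) g = 1 → ψ g ∈ K := fun g hg => by
    refine Subgroup.mem_inf.2 ⟨((guEquiv hσ).symm g).2, ?_⟩
    rw [mem_specialLinear_iff, hdet, hg]
  have hsurj : ∀ t ∈ K, ∃ g, ψ g = t ∧ idet (stdHerm σ n) g = 1 := fun t ht => by
    obtain ⟨h1, h2⟩ := Subgroup.mem_inf.1 ht
    refine ⟨guEquiv hσ ⟨t, h1⟩, congrArg Subtype.val ((guEquiv hσ).symm_apply_apply ⟨t, h1⟩), ?_⟩
    rw [idet_guEquiv]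
    exact mem_specialLinear_iff.1 h2
  refine ⟨lt_of_le_not_ge inf_le_right fun hle => ?_, fun M hM hMK => ?_⟩
  · obtain ⟨g, hg, hgP⟩ := hex
    exact hgP ((hP g).1 (hle (hK g hg)).1)
  · by_cases hMH : M ≤ H
    · exact Or.inl (le_antisymm (le_inf hMH hMK) hM)
    obtain ⟨t, ht, htH⟩ := SetLike.not_le_iff_exists.1 hMH
    obtain ⟨g, rfl, -⟩ := hsurj t (hMK ht)
    have htop := hmax (M.comap ψ) (fun s hs hPs => hM (Subgroup.mem_inf.2 ⟨(hP s).2 hPs, hK s hs⟩)) g ht
      fun h => htH ((hP g).2 h)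
    refine Or.inr (le_antisymm hMK fun s hs => ?_)
    obtain ⟨g', rfl, hg'⟩ := hsurj s hs
    exact htop (MonoidHom.mem_ker.2 hg')

theorem mem_stab_iff_isomStab (W : Submodule F (Fin n → F)) (g : isomGroup (stdHerm σ n)) :
    linToGL g.1 ∈ Cfsg.Geo.subspaceStabilizer W ↔ g ∈ isomStab (stdHerm σ n) W := by
  constructor
  · intro hg
    refine Submodule.eq_of_le_of_finrank_eq ?_ (LinearEquiv.finrank_map_eq _ W)
    rintro _ ⟨x, hx, rfl⟩
    exact linToGL_mulVec g.1 x ▸ (hg x).1 hx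
  · intro hg x
    rw [mem_isomStab] at hg
    change x ∈ W ↔ (linToGL g.1 : Matrix (Fin n) (Fin n) F) *ᵥ x ∈ W
    rw [linToGL_mulVec]
    refine ⟨fun hx => hg.le ⟨x, hx, rfl⟩, fun hx => ?_⟩
    obtain ⟨y, hy, e⟩ := hg.ge hx
    exact g.1.injective e ▸ hy

end Matrix

end CfsgLib.Classical
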