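import Cfsg.Agent.Lib.Classical.HermMatrixSimple
import Cfsg.Agent.Lib.Classical.HermMax

/-!
# The unitary similarity group is maximal in `SL`
-/

set_option autoImplicit false
set_option linter.unusedSectionVars false

open Module Matrix

namespace CfsgLib.Classical

variable {F : Type*} [Field F] {σ : F →+* F}

namespace IsHermitian

section Avoid

variable {V : Type*} [AddCommGroup V] [Module F V] [Finite F] [FiniteDimensional F V]
  {B : V →ₛₗ[σ] V →ₗ[F] F} (h : IsHermitian B)
include h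

theorem exists_anisotropic_perp (hN : B.SeparatingRight) (K : Submodule F V)
    (hK : 2 * finrank F K < finrank F V) : ∃ z ∈ perp B K, B z z ≠ 0 := by
  by_contra! hall
  have hts : ∀ x ∈ perp B K, ∀ y ∈ perp B K, B x y = 0 := fun x hx y hy => by
    by_contra hxy
    rcases h.exists_self_ne_zero hxy with e | e | ⟨c, e⟩
    · exact e (hall x hx)
    · exact e (hall y hy)
    · exact e (hall _ ((perp B K).add_mem hx ((perp B K).smul_mem c hy)))
  have hle : perp B K ≤ perp B (perp B K) := fun x hx => mem_perp.2 fun w hw => hts w hw x hx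
  rw [h.perp_perp_herm hN] at hle
  have h1 := Submodule.finrank_mono hle
  have h2 := finrank_le_finrank_perp_add B K
  omega

set_option maxHeartbeats 1000000 in
/-- An orthogonal pair of anisotropic vectors orthogonal to a small subspace, and the plane they span. -/
theorem exists_plane_perp (hN : B.SeparatingRight) (K : Submodule F V) (hK : 2 * finrank F K + 2 ≤ finrank F V) :
    ∃ z₁ z₂, z₁ ∈ perp B K ∧ z₂ ∈ perp B K ∧ B z₁ z₁ ≠ 0 ∧ B z₂ z₂ ≠ 0 ∧ B z₁ z₂ = 0 ∧ B z₂ z₁ = 0 ∧
      NondegOn B (Submodule.span F {z₁, z₂}) ∧ finrank F (Submodule.span F {z₁, z₂}) = 2 := by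
  obtain ⟨z₁, hz₁, hz₁'⟩ := h.exists_anisotropic_perp hN K (by omega)
  have hK' : finrank F ↥(K ⊔ Submodule.span F {z₁}) ≤ finrank F K + 1 := by
    refine le_trans (Submodule.finrank_add_le_finrank_add_finrank _ _) (Nat.add_le_add_left ?_ _)
    rw [finrank_span_singleton fun e : z₁ = 0 => hz₁' (by rw [e]; simp)]
  obtain ⟨z₂, hz₂, hz₂'⟩ : ∃ z ∈ perp B (K ⊔ Submodule.span F {z₁}), B z z ≠ 0 := by
    by_contra! hall
    set K₁ := K ⊔ Submodule.span F {z₁}
    have hts : ∀ x ∈ perp B K₁, ∀ y ∈ perp B K₁, B x y = 0 := fun x hx y hy => by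
      by_contra hxy
      rcases h.exists_self_ne_zero hxy with e | e | ⟨c, e⟩
      · exact e (hall x hx)
      · exact e (hall y hy)
      · exact e (hall _ ((perp B K₁).add_mem hx ((perp B K₁).smul_mem c hy)))
    have hle : perp B K₁ ≤ perp B (perp B K₁) := fun x hx => mem_perp.2 fun w hw => hts w hw x hx
    rw [h.perp_perp_herm hN] at hle
    have h2 := finrank_le_finrank_perp_add B K₁
    have heq : perp B K₁ = K₁ := Submodule.eq_of_le_of_finrank_le hle (by omega)
    exact hz₁' (hall z₁ (heq.symm.le (Submodule.mem_sup_right (Submodule.mem_span_singleton_self z₁))))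
  rw [perp_sup, Submodule.mem_inf] at hz₂
  have h12 : B z₁ z₂ = 0 := mem_perp.1 hz₂.2 z₁ (Submodule.mem_span_singleton_self _)
  have h21 : B z₂ z₁ = 0 := h.isRefl _ _ h12
  have hli : LinearIndependent F ![z₁, z₂] := by
    rw [LinearIndependent.pair_iff]
    intro s t hst
    have e1 := congrArg (B z₁) hst
    have e2 := congrArg (B z₂) hst
    simp [h12, hz₁'] at e1
    simp [h21, hz₂'] at e2
    exact ⟨e1, e2⟩
  refine ⟨z₁, z₂, hz₁, hz₂.1, hz₁', hz₂', h12, h21, nondegOn_iff.2 fun x hx hx0 => ?_, ?_⟩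
  · obtain ⟨s, t, rfl⟩ := Submodule.mem_span_pair.1 hx
    have e1 := hx0 z₁ (Submodule.subset_span (by simp))
    have e2 := hx0 z₂ (Submodule.subset_span (by simp))
    simp [h12, hz₁'] at e1
    simp [h21, hz₂'] at e2
    simp [e1, e2]
  · have := finrank_span_eq_card hli
    rw [show Set.range ![z₁, z₂] = {z₁, z₂} by simp [Matrix.range_cons, Matrix.range_empty, Set.pair_comm]] at this
    simpa using this

theorem exists_len_in {P : Submodule F V} (hP : NondegOn B P) (hd : finrank F P = 2) {a : F} (ha : σ a = a) :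
    ∃ z ∈ P, z ≠ 0 ∧ B z z = a := by
  by_cases ha0 : a = 0
  · obtain ⟨z, hz, hz0, hzz⟩ := h.exists_isotropic hP hd.ge
    exact ⟨z, hz, hz0, hzz.trans ha0.symm⟩
  · obtain ⟨z, hz, hzz⟩ := h.exists_unit_in hP (by omega) ha
    exact ⟨z, hz, fun e => ha0 (by rw [← hzz, e]; simp), hzz⟩

/-- Vectors of any length orthogonal to and outside a small subspace. -/
theorem exists_len_avoid (hN : B.SeparatingRight) (K : Submodule F V) (hK : 2 * finrank F K + 2 ≤ finrank F V)
    {a : F} (ha : σ a = a) : ∃ z, z ∈ perp B K ∧ z ∉ K ∧ B z z = a := by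
  obtain ⟨z₁, z₂, hz₁, hz₂, -, -, -, -, hP, hd⟩ := h.exists_plane_perp hN K hK
  set P := Submodule.span F {z₁, z₂}
  have hle : P ≤ perp B K := Submodule.span_le.2 (by
    rintro x (rfl | rfl)
    · exact hz₁
    · exact hz₂)
  obtain ⟨z, hz, hz0, hzz⟩ := h.exists_len_in hP hd ha
  exact ⟨z, hle hz, fun hzK => hz0 (nondegOn_iff.1 hP z hz fun w hw => h.isRefl _ _ (mem_perp.1 (hle hw) z hzK)),
    hzz⟩

end Avoid

section Matrix

variable {n : ℕ} [Finite F] {B : (Fin n → F) →ₛₗ[σ] (Fin n → F) →ₗ[F] F} (h : IsHermitian B)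
include h

theorem gsim_le (hN : B.SeparatingRight) (hn : 6 ≤ n) (M : Subgroup (GL (Fin n) F))
    (hM : ∀ t : isomGroup B, idet B t = 1 → linToGL t.1 ∈ M) {g : GL (Fin n) F} (hg : g ∈ M)
    (hgs : ¬ ∃ c : Fˣ, ∀ u v, B ((g : Matrix (Fin n) (Fin n) F) *ᵥ u) ((g : Matrix (Fin n) (Fin n) F) *ᵥ v) = c * B u v) :
    Cfsg.Geo.specialLinear (Fin n) F ≤ M := by
  have hV : finrank F (Fin n → F) = n := Module.finrank_fin_fun F
  have hnd : NondegOn B (⊤ : Submodule F (Fin n → F)) :=
    nondegOn_iff.2 fun y _ hy => hN y fun w => hy w trivial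
  have hinj : ∀ x, (g : Matrix (Fin n) (Fin n) F) *ᵥ x = 0 → x = 0 := fun x hx => by
    have := congrArg (fun y => ((g⁻¹ : GL (Fin n) F) : Matrix (Fin n) (Fin n) F) *ᵥ y) hx
    simpa [mulVec_mulVec, ← Units.val_mul] using this
  have hgi : ∀ x, (g : Matrix (Fin n) (Fin n) F) *ᵥ (((g⁻¹ : GL (Fin n) F) : Matrix (Fin n) (Fin n) F) *ᵥ x) = x :=
    fun x => by rw [mulVec_mulVec, ← Units.val_mul, mul_inv_cancel, Units.val_one, one_mulVec]
  have hig : ∀ x, ((g⁻¹ : GL (Fin n) F) : Matrix (Fin n) (Fin n) F) *ᵥ ((g : Matrix (Fin n) (Fin n) F) *ᵥ x) = x :=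
    fun x => by rw [mulVec_mulVec, ← Units.val_mul, inv_mul_cancel, Units.val_one, one_mulVec]
  -- the transvection attached to an orthogonal pair lies in `M`
  let Good : (Fin n → F) → (Fin n → F) → Prop :=
    fun a b => ∀ hab, trGL a (funVec (B b)) hab ∈ M
  have good_of : ∀ {a b : Fin n → F} {v f : Fin n → F} {hvf : f ⬝ᵥ v = 0}, trGL v f hvf ∈ M →
      (∀ x, B b x • a = (f ⬝ᵥ x) • v) → Good a b := by
    intro a b v f hvf hm he hab
    rwa [trGL_congr (h' := hvf) fun x => by rw [funVec_dot]; exact he x]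
  have hdot : ∀ {a b : Fin n → F}, B b a = 0 → funVec (B b) ⬝ᵥ a = 0 := fun e => by rw [funVec_dot]; exact e
  have good_add_right : ∀ {a b b' : Fin n → F}, B b a = 0 → B b' a = 0 → Good a b → Good a b' → Good a (b + b') := by
    intro a b b' e e' h1 h2 hab
    have := M.mul_mem (h1 (hdot e)) (h2 (hdot e'))
    convert this using 1
    refine Units.ext (Matrix.ext_iff_mulVec.2 fun x => ?_)
    rw [Units.val_mul, ← mulVec_mulVec, trGL_mulVec, trGL_mulVec, trGL_mulVec, funVec_dot, funVec_dot, funVec_dot,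
      ]
    simp only [map_add, map_smul, LinearMap.add_apply, e, smul_eq_mul, mul_zero, add_zero]
    module
  have good_add_left : ∀ {a a' b : Fin n → F}, B b a = 0 → B b a' = 0 → Good a b → Good a' b → Good (a + a') b := by
    intro a a' b e e' h1 h2 hab
    have := M.mul_mem (h1 (hdot e)) (h2 (hdot e'))
    convert this using 1
    refine Units.ext (Matrix.ext_iff_mulVec.2 fun x => ?_)
    rw [Units.val_mul, ← mulVec_mulVec, trGL_mulVec, trGL_mulVec, trGL_mulVec, funVec_dot, funVec_dot,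
      map_add, map_smul, e', smul_zero, add_zero]
    module
  have good_scale : ∀ {a b : Fin n → F} {l : F}, l ≠ 0 → B b a = 0 → Good (l • a) b → Good a (σ l • b) := by
    intro a b l hl e h1
    refine good_of (h1 (hdot (by rw [map_smul, e, smul_zero]))) fun x => ?_
    rw [funVec_dot, map_smulₛₗ, LinearMap.smul_apply, h.conj.invol, smul_eq_mul, smul_smul, mul_comm]
  have good_scale' : ∀ {a b : Fin n → F} {l : F}, l ≠ 0 → B b a = 0 → Good a (σ l • b) → Good (l • a) b := by
    intro a b l hl e h1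
    refine good_of (h1 (hdot (by rw [map_smulₛₗ, LinearMap.smul_apply, e, smul_zero]))) fun x => ?_
    rw [funVec_dot, map_smulₛₗ, LinearMap.smul_apply, h.conj.invol, smul_eq_mul, smul_smul, mul_comm]
  -- one independent pair
  obtain ⟨c, hc0, hc⟩ := h.conj.exists_trace_zero
  obtain ⟨a₀, b₀, hli₀, hab₀, hgood₀⟩ : ∃ a b : Fin n → F, LinearIndependent F ![a, b] ∧ B b a = 0 ∧ Good a b := by
    by_contra! hcon
    set G := fun x => (g : Matrix (Fin n) (Fin n) F) *ᵥ x with hG
    have hprop : ∀ v, B v v = 0 → v ≠ 0 → ∃ μ : F, ∀ y, B (G v) (G y) = μ * B v y := by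
      intro v hv hv0
      obtain ⟨b, hb⟩ := h.exists_form_eq hN
        ((B v).comp (Matrix.toLin' ((g⁻¹ : GL (Fin n) F) : Matrix (Fin n) (Fin n) F)))
      have hb' : ∀ y, B b (G y) = B v y := fun y => by
        simp only [hG]; rw [hb, LinearMap.comp_apply, toLin'_apply, hig]
      obtain ⟨t, ht⟩ := h.exists_uTv hN hv hc
      have htM := M.mul_mem (M.mul_mem hg (hM t (h.idet_uTv ht))) (M.inv_mem hg)
      have hgv : G v ≠ 0 := fun e => hv0 (hinj v e)
      have hbv : B b (G v) = 0 := by rw [hb', hv]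
      have hgood : Good (G v) (σ c • b) := fun hab => by
        convert htM using 1
        refine Units.ext (Matrix.ext_iff_mulVec.2 fun x => ?_)
        rw [Units.val_mul, Units.val_mul, ← mulVec_mulVec, ← mulVec_mulVec, trGL_mulVec, funVec_dot, linToGL_mulVec,
          ht.2.2, mulVec_add, mulVec_smul, hgi, map_smulₛₗ, LinearMap.smul_apply, h.conj.invol, hb, smul_eq_mul]
        rfl
      have hdep : ¬ LinearIndependent F ![G v, σ c • b] := fun hli =>
        hcon _ _ hli (by rw [map_smulₛₗ, LinearMap.smul_apply, hbv, smul_zero]) hgood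
      rw [LinearIndependent.pair_iff' hgv] at hdep
      push Not at hdep
      obtain ⟨s, hs⟩ := hdep
      have hs0 : s ≠ 0 := fun e => by
        rw [e, zero_smul] at hs
        have hb0 : b = 0 := (smul_eq_zero.1 hs.symm).resolve_left fun e' => hc0 (by
          rw [← h.conj.invol c, e', map_zero])
        obtain ⟨w, -, -, hvw⟩ := h.exists_partner hnd trivial hv0 hv
        have := hb' w
        rw [hb0, hvw] at this
        simp at this
      refine ⟨c / σ s, fun y => ?_⟩
      have h1 : B (s • G v) (G y) = B (σ c • b) (G y) := by rw [hs]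
      rw [map_smulₛₗ, map_smulₛₗ, LinearMap.smul_apply, LinearMap.smul_apply, h.conj.invol, hb', smul_eq_mul,
        smul_eq_mul] at h1
      have hs' : σ s ≠ 0 := fun e => hs0 (by rw [← h.conj.invol s, e, map_zero])
      field_simp
      linear_combination h1
    have hμ : ∀ {u v : Fin n → F}, B u u = 0 → B v v = 0 → B u v ≠ 0 → ∀ {μ ν : F},
        (∀ y, B (G u) (G y) = μ * B u y) → (∀ y, B (G v) (G y) = ν * B v y) → μ = σ ν := by
      intro u v _ _ huv μ ν h1 h2
      refine mul_right_cancel₀ huv ?_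
      rw [← h1, ← h.symm (G v) (G u), h2, map_mul, h.symm]
    obtain ⟨e, f, -, -, hee, hff, hef⟩ := h.exists_hyp_in hnd (by rw [finrank_top, hV]; omega)
    have he0 : e ≠ 0 := fun e' => by simp [e'] at hef
    obtain ⟨μ, hμe⟩ := hprop e hee he0
    have hall : ∀ v, B v v = 0 → ∀ y, B (G v) (G y) = μ * B v y := by
      intro v hv
      by_cases hv0 : v = 0
      · intro y; simp [hG, hv0]
      obtain ⟨z, -, hzz, hez, hvz⟩ := h.exists_common_nonorth hnd (U := ⊤) (u := e) (v := v) trivial trivial he0 hv0 hee hv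
      obtain ⟨ν, hν⟩ := hprop z hzz fun e' => by simp [e'] at hez
      obtain ⟨κ, hκ⟩ := hprop v hv hv0
      rw [hμ hee hzz hez hμe hν, ← hμ hv hzz hvz hκ hν]
      exact hκ
    have hf0 : f ≠ 0 := fun e' => by simp [e'] at hef
    have hμσ : σ μ = μ := (hμ hee hff (by rw [hef]; exact one_ne_zero) hμe (hall f hff)).symm
    have hμ0 : μ ≠ 0 := by
      intro e0
      refine he0 (hinj e (hN _ fun w => h.isRefl _ _ ?_))
      have := hμe (((g⁻¹ : GL (Fin n) F) : Matrix (Fin n) (Fin n) F) *ᵥ w)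
      rw [e0, zero_mul] at this
      simpa [hG, hgi] using this
    refine hgs ⟨Units.mk0 μ hμ0, fun u v => ?_⟩
    have hu := h.le_span_isotropic hnd (by rw [finrank_top, hV]; omega) (Submodule.mem_top (x := u))
    rw [Units.val_mk0]
    induction hu using Submodule.span_induction with
    | mem x hx => exact hall x hx.2 v
    | zero => simp
    | add x y _ _ hx hy => simp only [mulVec_add, map_add, LinearMap.add_apply, hx, hy]; ring
    | smul r x _ hx => simp only [mulVec_smul, map_smulₛₗ, LinearMap.smul_apply, hx, smul_eq_mul]; ring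
  -- pairs with the same lengths
  have hgram : ∀ {a b a' b' : Fin n → F}, LinearIndependent F ![a, b] → LinearIndependent F ![a', b'] →
      B b a = 0 → B b' a' = 0 → B a a = B a' a' → B b b = B b' b' → Good a b → Good a' b' := by
    intro a b a' b' hi hi' e e' ha hb hgd
    obtain ⟨k, hk⟩ := h.witt_family hN (a := ![a, b]) (b := ![a', b']) hi hi' (fun i j => by
      fin_cases i <;> fin_cases j
      · exact ha
      · exact (h.isRefl _ _ e).trans (h.isRefl _ _ e').symm
      · exact e.trans e'.symm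
      · exact hb)
    have hK : finrank F (Submodule.span F {a', b'}) ≤ 2 := by
      have := finrank_span_eq_card hi'
      rw [show Set.range ![a', b'] = {a', b'} by simp [Matrix.range_cons, Matrix.range_empty, Set.pair_comm]] at this
      simp [this]
    obtain ⟨z, hz, -, hzz⟩ := h.exists_len_avoid hN (Submodule.span F {a', b'}) (by omega) (map_one σ)
    obtain ⟨t, ht, htd⟩ := h.exists_qr hN (z := z) (by rw [hzz]; exact one_ne_zero) (l := (idet B k)⁻¹)
      (by rw [map_inv₀, ← mul_inv, h.idet_norm hN, inv_one])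
    have hfix : ∀ y, y ∈ Submodule.span F {a', b'} → t.1 y = y := fun y hy => by
      rw [ht, h.isRefl _ _ (mem_perp.1 hz y hy), mul_zero, zero_smul, add_zero]
    have hd : idet B (t * k) = 1 := by
      rw [map_mul, htd, inv_mul_cancel₀]
      intro e0
      simpa [e0] using h.idet_norm hN k
    have hT := M.mul_mem (M.mul_mem (hM _ hd) (hgd (hdot e))) (M.inv_mem (hM _ hd))
    have ea : (t * k).1 a = a' := by
      change t.1 (k.1 a) = a'
      rw [show k.1 a = a' from hk 0, hfix _ (Submodule.subset_span (by simp))]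
    have eb : (t * k).1 b = b' := by
      change t.1 (k.1 b) = b'
      rw [show k.1 b = b' from hk 1, hfix _ (Submodule.subset_span (by simp))]
    intro hab
    convert hT using 1
    refine Units.ext (Matrix.ext_iff_mulVec.2 fun x => ?_)
    rw [Units.val_mul, Units.val_mul, ← mulVec_mulVec, ← mulVec_mulVec, ← map_inv, ← Subgroup.coe_inv, linToGL_mulVec,
      linToGL_mulVec, trGL_mulVec, trGL_mulVec, funVec_dot, funVec_dot, map_add, map_smul, ea,
      show (t * k).1 (((t * k)⁻¹ : isomGroup B).1 x) = x from (t * k).1.apply_symm_apply x,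
      show B b (((t * k)⁻¹ : isomGroup B).1 x) = B b' x by
        rw [← eb, ← (t * k).2 b, show (t * k).1 (((t * k)⁻¹ : isomGroup B).1 x) = x from (t * k).1.apply_symm_apply x]]
  -- companions
  have hcomp : ∀ {a b : Fin n → F}, LinearIndependent F ![a, b] → B b a = 0 → ∀ δ {β : F}, σ β = β →
      ∃ b', LinearIndependent F ![a, b'] ∧ LinearIndependent F ![a, b + b'] ∧ B b' a = 0 ∧ B b b' = δ ∧ B b' b' = β := by
    intro a b hi e δ β hβ
    classical
    have ha0 : a ≠ 0 := hi.ne_zero 0
    have hbm : b ∉ Submodule.span F {a} := fun hm => by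
      obtain ⟨s, hs⟩ := Submodule.mem_span_singleton.1 hm
      exact one_ne_zero (neg_eq_zero.1 (LinearIndependent.pair_iff.1 hi s (-1) (by rw [hs]; module)).2)
    obtain ⟨y, hy, hby⟩ : ∃ y ∈ perp B (Submodule.span F {a}), B b y ≠ 0 := by
      by_contra! hall
      refine hbm ?_
      rw [← h.perp_perp_herm hN (Submodule.span F {a})]
      exact mem_perp.2 fun y hy => h.isRefl _ _ (hall y hy)
    have hay : B a y = 0 := mem_perp.1 hy a (Submodule.mem_span_singleton_self a)
    set y₀ := (δ / B b y) • y with hy₀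
    have hby₀ : B b y₀ = δ := by rw [hy₀, map_smul, smul_eq_mul, div_mul_cancel₀ _ hby]
    have hay₀ : B a y₀ = 0 := by rw [hy₀, map_smul, hay, smul_zero]
    clear_value y₀
    have hK : finrank F (Submodule.span F (({a, b} : Finset (Fin n → F)) : Set (Fin n → F))) ≤ 2 :=
      le_trans (finrank_span_finset_le_card _) Finset.card_le_two
    set K := Submodule.span F (({a, b} : Finset (Fin n → F)) : Set (Fin n → F)) with hKdef
    obtain ⟨z₁, z₂, hz₁, hz₂, hq₁, hq₂, h12, h21, hP, hPd⟩ := h.exists_plane_perp hN K (by omega)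
    have haK : a ∈ K := Submodule.subset_span (by simp)
    have hbK : b ∈ K := Submodule.subset_span (by simp)
    set y₁ := y₀ - (B z₁ y₀ / B z₁ z₁) • z₁ - (B z₂ y₀ / B z₂ z₂) • z₂ with hy₁
    have hby₁ : B b y₁ = δ := by
      rw [hy₁, map_sub, map_sub, map_smul, map_smul, mem_perp.1 hz₁ b hbK, mem_perp.1 hz₂ b hbK, hby₀]; simp
    have hay₁ : B a y₁ = 0 := by
      rw [hy₁, map_sub, map_sub, map_smul, map_smul, mem_perp.1 hz₁ a haK, mem_perp.1 hz₂ a haK, hay₀]; simp
    have hyP : ∀ w ∈ Submodule.span F {z₁, z₂}, B w y₁ = 0 := fun w hw => by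
      obtain ⟨s, t, rfl⟩ := Submodule.mem_span_pair.1 hw
      simp [hy₁, h12, h21, hq₁, hq₂]
    have hPK : ∀ w ∈ Submodule.span F {z₁, z₂}, ∀ x ∈ K, B w x = 0 := fun w hw x hx => by
      obtain ⟨s, t, rfl⟩ := Submodule.mem_span_pair.1 hw
      simp [h.isRefl _ _ (mem_perp.1 hz₁ x hx), h.isRefl _ _ (mem_perp.1 hz₂ x hx)]
    clear_value y₁
    obtain ⟨z, hzP, hz0, hzz⟩ := h.exists_len_in hP hPd (a := β - B y₁ y₁) (by rw [map_sub, hβ, h.self_fixed])
    have hout : y₁ + z ∉ K := fun hm => hz0 (nondegOn_iff.1 hP z hzP fun w hw => by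
      have := hPK w hw _ hm
      rwa [map_add, hyP w hw, zero_add] at this)
    refine ⟨y₁ + z, ?_, ?_, ?_, ?_, ?_⟩
    · rw [LinearIndependent.pair_iff' ha0]
      intro s hs
      exact hout (hs ▸ K.smul_mem _ haK)
    · rw [LinearIndependent.pair_iff' ha0]
      intro s hs
      exact hout (by rw [show y₁ + z = s • a - b by rw [hs]; abel]; exact K.sub_mem (K.smul_mem _ haK) hbK)
    · exact h.isRefl _ _ (by rw [map_add, hay₁, h.isRefl _ _ (hPK z hzP a haK), add_zero])
    · rw [map_add, hby₁, h.isRefl _ _ (hPK z hzP b hbK), add_zero]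
    · rw [h.add_self, hzz, h.isRefl _ _ (hyP z hzP)]; simp
  have stepR : ∀ {a b : Fin n → F}, LinearIndependent F ![a, b] → B b a = 0 → Good a b → ∀ {β : F}, σ β = β →
      ∃ b', LinearIndependent F ![a, b'] ∧ B b' a = 0 ∧ B b' b' = β ∧ Good a b' := by
    intro a b hi e hgd β hβ
    obtain ⟨δ, hδ⟩ := h.conj.exists_trace_eq (a := β - B b b - B b b) (by rw [map_sub, map_sub, hβ, h.self_fixed])
    obtain ⟨b', hi', hi'', e', hbb', hb'⟩ := hcomp hi e δ (h.self_fixed b)
    refine ⟨b + b', hi'', by rw [map_add, LinearMap.add_apply, e, e', add_zero], ?_,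
      good_add_right e e' hgd (hgram hi hi' e e' rfl hb'.symm hgd)⟩
    rw [h.add_self, hb', hbb', hδ]
    ring
  have stepL : ∀ {a b : Fin n → F}, LinearIndependent F ![a, b] → B b a = 0 → Good a b → ∀ {α : F}, σ α = α →
      ∃ a', LinearIndependent F ![a', b] ∧ B b a' = 0 ∧ B a' a' = α ∧ Good a' b := by
    intro a b hi e hgd α hα
    have hi₂ : LinearIndependent F ![b, a] := LinearIndependent.pair_symm_iff.1 hi
    obtain ⟨δ, hδ⟩ := h.conj.exists_trace_eq (a := α - B a a - B a a) (by rw [map_sub, map_sub, hα, h.self_fixed])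
    obtain ⟨a', hi', hi'', e', haa', ha'⟩ := hcomp hi₂ (h.isRefl _ _ e) δ (h.self_fixed a)
    have hi'₂ := LinearIndependent.pair_symm_iff.1 hi'
    refine ⟨a + a', LinearIndependent.pair_symm_iff.1 hi'', by rw [map_add, e, h.isRefl _ _ e', add_zero], ?_,
      good_add_left e (h.isRefl _ _ e') hgd (hgram hi hi'₂ e (h.isRefl _ _ e') ha'.symm rfl hgd)⟩
    rw [h.add_self, ha', haa', hδ]
    ring
  have hpairs : ∀ {a b : Fin n → F}, LinearIndependent F ![a, b] → B b a = 0 → Good a b := by
    intro a b hi e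
    obtain ⟨b₁, hi₁, e₁, hb₁, hg₁⟩ := stepR hli₀ hab₀ hgood₀ (h.self_fixed b)
    obtain ⟨a₁, hi₂, e₂, ha₁, hg₂⟩ := stepL hi₁ e₁ hg₁ (h.self_fixed a)
    exact hgram hi₂ hi e₂ e ha₁ hb₁ hg₂
  refine sl_le_of_forall_trGL M fun v f hvf => ?_
  by_cases hv0 : v = 0
  · rw [trGL_eq_one_of (Or.inl hv0)]; exact M.one_mem
  let φ : (Fin n → F) →ₗ[F] F :=
    { toFun := fun x => f ⬝ᵥ x
      map_add' := dotProduct_add f
      map_smul' := fun c x => dotProduct_smul c f x }
  obtain ⟨b, hb⟩ := h.exists_form_eq hN φ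
  have hb' : ∀ x, B b x = f ⬝ᵥ x := hb
  have hbv : B b v = 0 := by rw [hb', hvf]
  suffices Good v b by
    have := this (hdot hbv)
    rwa [trGL_congr (h' := hvf) fun x => by rw [funVec_dot, hb']] at this
  by_cases hi : LinearIndependent F ![v, b]
  · exact hpairs hi hbv
  rw [LinearIndependent.pair_iff' hv0] at hi
  push Not at hi
  obtain ⟨s, hs⟩ := hi
  set L := Submodule.span F {v}
  have hL : finrank F L = 1 := finrank_span_singleton hv0
  obtain ⟨y, hy, hyL, -⟩ := h.exists_len_avoid hN L (by omega) (map_one σ)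
  have hvy : B v y = 0 := mem_perp.1 hy v (Submodule.mem_span_singleton_self v)
  have hyv : B y v = 0 := h.isRefl _ _ hvy
  have h1 : LinearIndependent F ![v, b - y] := by
    rw [LinearIndependent.pair_iff' hv0]
    intro r hr
    exact hyL (Submodule.mem_span_singleton.2 ⟨s - r, by rw [sub_smul, hs, hr]; abel⟩)
  have h2 : LinearIndependent F ![v, y] := by
    rw [LinearIndependent.pair_iff' hv0]
    intro r hr
    exact hyL (Submodule.mem_span_singleton.2 ⟨r, hr⟩)
  have e1 : B (b - y) v = 0 := by rw [map_sub, LinearMap.sub_apply, hbv, hyv, sub_zero]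
  have := good_add_right e1 hyv (hpairs h1 e1) (hpairs h2 hyv)
  rwa [sub_add_cancel] at this

theorem exists_sl_not_similar (hN : B.SeparatingRight) (hn : 5 ≤ n) : ∃ g ∈ Cfsg.Geo.specialLinear (Fin n) F,
    ¬ ∃ c : Fˣ, ∀ u v, B ((g : Matrix (Fin n) (Fin n) F) *ᵥ u) ((g : Matrix (Fin n) (Fin n) F) *ᵥ v) = c * B u v := by
  have hV : finrank F (Fin n → F) = n := Module.finrank_fin_fun F
  have : Nontrivial (Fin n → F) := Module.nontrivial_of_finrank_pos (R := F) (by omega)
  obtain ⟨z, hz⟩ := h.exists_unit hN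
  set L := Submodule.span F {z}
  have hL : finrank F L = 1 := finrank_span_singleton fun e => by simp [e] at hz
  obtain ⟨w, hw, -, hww⟩ := h.exists_len_avoid hN L (by omega) (map_one σ)
  have hzw : B z w = 0 := mem_perp.1 hw z (Submodule.mem_span_singleton_self z)
  have hwz : B w z = 0 := h.isRefl _ _ hzw
  have hd : funVec (B w) ⬝ᵥ z = 0 := by rw [funVec_dot, hwz]
  refine ⟨trGL z (funVec (B w)) hd, trGL_mem_sl _ _ _, fun ⟨c, hc⟩ => ?_⟩
  have := hc z w
  rw [trGL_mulVec, trGL_mulVec, funVec_dot, funVec_dot, hwz, hww] at this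
  simp [hz, hzw] at this

end Matrix

end IsHermitian

end CfsgLib.Classical
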