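import Mathlib

/-!
# Reflexive sesquilinear forms: isometry groups, perpendicular subspaces, orthogonal sums

Conventions: `B : V →ₛₗ[σ] V →ₗ[F] F` (linear in the second variable). For `σ = RingHom.id F` this
is a bilinear form.
-/

set_option autoImplicit false
set_option linter.unusedSectionVars false

open Module

namespace CfsgLib.Classical

variable {F : Type*} [Field F] {V : Type*} [AddCommGroup V] [Module F V] {σ : F →+* F}

/-- The group of isometries of a sesquilinear form. -/
def isomGroup (B : V →ₛₗ[σ] V →ₗ[F] F) : Subgroup (V ≃ₗ[F] V) where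
  carrier := {g | ∀ x y, B (g x) (g y) = B x y}
  one_mem' := fun x y => rfl
  mul_mem' := by
    intro a b ha hb x y
    rw [LinearEquiv.mul_apply, LinearEquiv.mul_apply, ha, hb]
  inv_mem' := by
    intro a ha x y
    have h := ha (a⁻¹ x) (a⁻¹ y)
    rw [← LinearEquiv.mul_apply, ← LinearEquiv.mul_apply, mul_inv_cancel] at h
    exact h.symm

variable {B : V →ₛₗ[σ] V →ₗ[F] F}

theorem mem_isomGroup {g : V ≃ₗ[F] V} : g ∈ isomGroup B ↔ ∀ x y, B (g x) (g y) = B x y := Iff.rfl

@[simp] theorem isomGroup_apply (g : isomGroup B) (x y : V) : B (g.1 x) (g.1 y) = B x y := g.2 x y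

/-- The perpendicular subspace `{x | ∀ w ∈ W, B w x = 0}`. -/
def perp (B : V →ₛₗ[σ] V →ₗ[F] F) (W : Submodule F V) : Submodule F V :=
  ⨅ w ∈ W, LinearMap.ker (B w)

theorem mem_perp {W : Submodule F V} {x : V} : x ∈ perp B W ↔ ∀ w ∈ W, B w x = 0 := by
  simp [perp]

theorem mem_perp_span {S : Set V} {x : V} :
    x ∈ perp B (Submodule.span F S) ↔ ∀ w ∈ S, B w x = 0 := by
  rw [mem_perp]
  refine ⟨fun h w hw => h w (Submodule.subset_span hw), fun h w hw => ?_⟩
  refine Submodule.span_induction (p := fun w _ => B w x = 0) h (by simp) ?_ ?_ hw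
  · intro a b _ _ ha hb; simp [ha, hb]
  · intro c a _ ha; simp [ha]

theorem perp_antitone {W W' : Submodule F V} (h : W ≤ W') : perp B W' ≤ perp B W :=
  fun _ hx => mem_perp.2 fun w hw => mem_perp.1 hx w (h hw)

theorem perp_sup (W W' : Submodule F V) : perp B (W ⊔ W') = perp B W ⊓ perp B W' := by
  refine le_antisymm (le_inf (perp_antitone le_sup_left) (perp_antitone le_sup_right)) ?_
  intro x ⟨hx, hx'⟩
  refine mem_perp.2 fun w hw => ?_
  obtain ⟨a, ha, b, hb, rfl⟩ := Submodule.mem_sup.1 hw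
  rw [map_add, LinearMap.add_apply, mem_perp.1 hx a ha, mem_perp.1 hx' b hb, add_zero]

/-- `g` maps perpendicular subspaces to perpendicular subspaces. -/
theorem map_perp {g : V ≃ₗ[F] V} (hg : g ∈ isomGroup B) (W : Submodule F V) :
    (perp B W).map (g : V →ₗ[F] V) = perp B (W.map (g : V →ₗ[F] V)) := by
  ext x
  obtain ⟨y, rfl⟩ := g.surjective x
  replace hg : ∀ x y, B (g x) (g y) = B x y := hg
  simp only [Submodule.mem_map, mem_perp, LinearEquiv.coe_coe, forall_exists_index, and_imp,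
    forall_apply_eq_imp_iff₂, hg]
  exact ⟨fun ⟨z, hz, e⟩ => g.injective e ▸ hz, fun h => ⟨y, h, rfl⟩⟩

theorem finrank_le_finrank_perp_add [FiniteDimensional F V] (B : V →ₛₗ[σ] V →ₗ[F] F)
    (W : Submodule F V) : finrank F V ≤ finrank F (perp B W) + finrank F W := by
  let b := Module.finBasis F W
  let T : V →ₗ[F] (Fin (finrank F W) → F) := LinearMap.pi fun i => B (b i : V)
  have hT : LinearMap.ker T = perp B W := by
    ext x
    have hW : W = Submodule.span F (Set.range fun i => (b i : V)) := by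
      have := congrArg (Submodule.map W.subtype) b.span_eq
      rw [Submodule.map_subtype_top, Submodule.map_span, ← Set.range_comp] at this
      exact this.symm
    rw [LinearMap.mem_ker]
    conv_rhs => rw [hW, mem_perp_span]
    simp [T, funext_iff]
  have h := LinearMap.finrank_range_add_finrank_ker T
  rw [hT] at h
  have h2 := Submodule.finrank_le (LinearMap.range T)
  rw [Module.finrank_pi, Fintype.card_fin] at h2
  omega

/-- A subspace on which the form is non-degenerate. -/
def NondegOn (B : V →ₛₗ[σ] V →ₗ[F] F) (W : Submodule F V) : Prop := Disjoint W (perp B W)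

theorem nondegOn_iff {W : Submodule F V} :
    NondegOn B W ↔ ∀ x ∈ W, (∀ w ∈ W, B w x = 0) → x = 0 := by
  rw [NondegOn, Submodule.disjoint_def]
  simp [mem_perp]

theorem NondegOn.isCompl [FiniteDimensional F V] {W : Submodule F V} (h : NondegOn B W) :
    IsCompl W (perp B W) := by
  refine IsCompl.of_eq h.eq_bot (Submodule.eq_top_of_finrank_eq ?_)
  have h1 := Submodule.finrank_sup_add_finrank_inf_eq W (perp B W)
  rw [h.eq_bot, finrank_bot, add_zero] at h1
  have h2 := finrank_le_finrank_perp_add B W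
  have h3 := Submodule.finrank_le (W ⊔ perp B W)
  omega

theorem NondegOn.finrank_perp [FiniteDimensional F V] {W : Submodule F V} (h : NondegOn B W) :
    finrank F W + finrank F (perp B W) = finrank F V :=
  Submodule.finrank_add_eq_of_isCompl h.isCompl

theorem orth_symm (hR : B.IsRefl) {W : Submodule F V} {w x : V} (hw : w ∈ W) (hx : x ∈ perp B W) :
    B x w = 0 :=
  hR _ _ (mem_perp.1 hx w hw)

theorem nondegOn_perp [FiniteDimensional F V] (hB : B.SeparatingRight)
    {W : Submodule F V} (h : NondegOn B W) : NondegOn B (perp B W) := by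
  rw [nondegOn_iff]
  intro x hx hx'
  refine hB x fun y => ?_
  obtain ⟨a, ha, b, hb, rfl⟩ := Submodule.mem_sup.1 (h.isCompl.sup_eq_top ▸ Submodule.mem_top (x := y))
  rw [map_add, LinearMap.add_apply, mem_perp.1 hx a ha, hx' b hb, add_zero]

/-- Restriction of a form to a subspace. -/
def restrictForm (B : V →ₛₗ[σ] V →ₗ[F] F) (W : Submodule F V) : W →ₛₗ[σ] W →ₗ[F] F :=
  B.domRestrict₁₂ W W

@[simp] theorem restrictForm_apply (W : Submodule F V) (x y : W) :
    restrictForm B W x y = B (x : V) (y : V) := rfl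

theorem restrictForm_separatingRight {W : Submodule F V} (h : NondegOn B W) :
    (restrictForm B W).SeparatingRight := fun x hx =>
  Subtype.ext (nondegOn_iff.1 h _ x.2 fun w hw => hx ⟨w, hw⟩)

theorem restrictForm_nondegenerate (hR : B.IsRefl) {W : Submodule F V} (h : NondegOn B W) :
    (restrictForm B W).Nondegenerate :=
  ⟨fun x hx => restrictForm_separatingRight h x fun w => hR _ _ (hx w),
    restrictForm_separatingRight h⟩

theorem nondegOn_iff_restrictForm {W : Submodule F V} :
    NondegOn B W ↔ (restrictForm B W).SeparatingRight := by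
  refine ⟨restrictForm_separatingRight, fun h => nondegOn_iff.2 fun x hx hx' => ?_⟩
  exact congrArg Subtype.val (h ⟨x, hx⟩ fun w => hx' w w.2)

section OrthogonalSum

variable {W U : Submodule F V}

/-- The linear automorphism of `V = W ⊕ U` acting by `g` on `W` and `h` on `U`. -/
noncomputable def sumEquiv (hc : IsCompl W U) (g : W ≃ₗ[F] W) (h : U ≃ₗ[F] U) : V ≃ₗ[F] V :=
  (Submodule.prodEquivOfIsCompl W U hc).symm ≪≫ₗ (g.prodCongr h) ≪≫ₗ
    Submodule.prodEquivOfIsCompl W U hc

theorem sumEquiv_apply (hc : IsCompl W U) (g : W ≃ₗ[F] W) (h : U ≃ₗ[F] U) (w : W) (u : U) :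
    sumEquiv hc g h ((w : V) + u) = (g w : V) + h u := by
  have e : (Submodule.prodEquivOfIsCompl W U hc).symm ((w : V) + u) = (w, u) := by
    rw [LinearEquiv.symm_apply_eq, Submodule.coe_prodEquivOfIsCompl']
  simp [sumEquiv, e]

theorem exists_add_eq (hc : IsCompl W U) (x : V) : ∃ (w : W) (u : U), (w : V) + u = x := by
  obtain ⟨a, ha, b, hb, e⟩ := Submodule.mem_sup.1 (hc.sup_eq_top ▸ Submodule.mem_top (x := x))
  exact ⟨⟨a, ha⟩, ⟨b, hb⟩, e⟩

theorem sumEquiv_apply_left (hc : IsCompl W U) (g : W ≃ₗ[F] W) (h : U ≃ₗ[F] U) (w : W) :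
    sumEquiv hc g h (w : V) = g w := by
  simpa using sumEquiv_apply hc g h w 0

theorem sumEquiv_apply_right (hc : IsCompl W U) (g : W ≃ₗ[F] W) (h : U ≃ₗ[F] U) (u : U) :
    sumEquiv hc g h (u : V) = h u := by
  simpa using sumEquiv_apply hc g h 0 u

theorem form_add_add (hWU : ∀ w ∈ W, ∀ u ∈ U, B w u = 0) (hUW : ∀ w ∈ W, ∀ u ∈ U, B u w = 0)
    (w w' : W) (u u' : U) :
    B ((w : V) + u) ((w' : V) + u') = B (w : V) w' + B (u : V) u' := by
  simp [map_add, hWU _ w.2 _ u'.2, hUW _ w'.2 _ u.2]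

theorem sumEquiv_mem (hc : IsCompl W U) (hWU : ∀ w ∈ W, ∀ u ∈ U, B w u = 0)
    (hUW : ∀ w ∈ W, ∀ u ∈ U, B u w = 0) (g : isomGroup (restrictForm B W))
    (h : isomGroup (restrictForm B U)) : sumEquiv hc g.1 h.1 ∈ isomGroup B := by
  intro x y
  obtain ⟨w, u, rfl⟩ := exists_add_eq hc x
  obtain ⟨w', u', rfl⟩ := exists_add_eq hc y
  rw [sumEquiv_apply, sumEquiv_apply, form_add_add hWU hUW, form_add_add hWU hUW]
  exact congrArg₂ (· + ·) (g.2 w w') (h.2 u u')

/-- The direct product of the isometry groups of the summands of an orthogonal sum. -/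
noncomputable def isomSum (hc : IsCompl W U) (hWU : ∀ w ∈ W, ∀ u ∈ U, B w u = 0)
    (hUW : ∀ w ∈ W, ∀ u ∈ U, B u w = 0) :
    isomGroup (restrictForm B W) × isomGroup (restrictForm B U) →* isomGroup B where
  toFun gh := ⟨sumEquiv hc gh.1.1 gh.2.1, sumEquiv_mem hc hWU hUW gh.1 gh.2⟩
  map_one' := Subtype.ext <| LinearEquiv.ext fun x => by
    obtain ⟨w, u, rfl⟩ := exists_add_eq hc x
    simp [sumEquiv_apply]
  map_mul' a b := Subtype.ext <| LinearEquiv.ext fun x => by
    obtain ⟨w, u, rfl⟩ := exists_add_eq hc x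
    simp [sumEquiv_apply]

theorem isomSum_injective (hc : IsCompl W U) (hWU : ∀ w ∈ W, ∀ u ∈ U, B w u = 0)
    (hUW : ∀ w ∈ W, ∀ u ∈ U, B u w = 0) : Function.Injective (isomSum hc hWU hUW) := by
  intro a b h
  have key : ∀ x, sumEquiv hc a.1.1 a.2.1 x = sumEquiv hc b.1.1 b.2.1 x := fun x =>
    congrArg (fun g : isomGroup B => g.1 x) h
  refine Prod.ext (Subtype.ext (LinearEquiv.ext fun w => ?_)) (Subtype.ext (LinearEquiv.ext fun u => ?_))
  · exact Subtype.ext (by simpa [sumEquiv_apply_left] using key w)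
  · exact Subtype.ext (by simpa [sumEquiv_apply_right] using key u)

/-- An isometry stabilising both summands comes from the product. -/
theorem mem_range_isomSum (hc : IsCompl W U) (hWU : ∀ w ∈ W, ∀ u ∈ U, B w u = 0)
    (hUW : ∀ w ∈ W, ∀ u ∈ U, B u w = 0) (g : isomGroup B) :
    g ∈ (isomSum hc hWU hUW).range ↔
      W.map (g.1 : V →ₗ[F] V) = W ∧ U.map (g.1 : V →ₗ[F] V) = U := by
  constructor
  · rintro ⟨⟨a, b⟩, rfl⟩
    constructor
    · ext x
      refine ⟨?_, fun hx => ⟨_, (a.1.symm ⟨x, hx⟩).2, ?_⟩⟩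
      · rintro ⟨w, hw, rfl⟩
        simp [isomSum, sumEquiv_apply_left hc _ _ ⟨w, hw⟩]
      · simp [isomSum, sumEquiv_apply_left]
    · ext x
      refine ⟨?_, fun hx => ⟨_, (b.1.symm ⟨x, hx⟩).2, ?_⟩⟩
      · rintro ⟨u, hu, rfl⟩
        simp [isomSum, sumEquiv_apply_right hc _ _ ⟨u, hu⟩]
      · simp [isomSum, sumEquiv_apply_right]
  · rintro ⟨hW, hU⟩
    refine ⟨⟨⟨(g.1.submoduleMap W).trans (LinearEquiv.ofEq _ _ hW), fun x y => g.2 _ _⟩,
      ⟨(g.1.submoduleMap U).trans (LinearEquiv.ofEq _ _ hU), fun x y => g.2 _ _⟩⟩, ?_⟩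
    refine Subtype.ext (LinearEquiv.ext fun x => ?_)
    obtain ⟨w, u, rfl⟩ := exists_add_eq hc x
    simp [isomSum, sumEquiv_apply]

end OrthogonalSum

/-- The stabiliser of a subspace in the isometry group. -/
def isomStab (B : V →ₛₗ[σ] V →ₗ[F] F) (W : Submodule F V) : Subgroup (isomGroup B) where
  carrier := {g | W.map (g.1 : V →ₗ[F] V) = W}
  one_mem' := by simp
  mul_mem' {a b} (ha : _ = W) (hb : _ = W) := by
    change Submodule.map ((a.1 : V →ₗ[F] V).comp (b.1 : V →ₗ[F] V)) W = W
    rw [Submodule.map_comp, hb, ha]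
  inv_mem' {a} (ha : _ = W) := by
    change Submodule.map (a.1.symm : V →ₗ[F] V) W = W
    conv_lhs => rw [← ha]
    rw [← Submodule.map_comp]
    simp

theorem mem_isomStab {W : Submodule F V} {g : isomGroup B} :
    g ∈ isomStab B W ↔ W.map (g.1 : V →ₗ[F] V) = W := Iff.rfl

/-- The stabiliser of a non-degenerate subspace is the product of two isometry groups. -/
noncomputable def isomStabEquiv [FiniteDimensional F V] (hR : B.IsRefl) {W : Submodule F V}
    (h : NondegOn B W) :
    isomGroup (restrictForm B W) × isomGroup (restrictForm B (perp B W)) ≃* isomStab B W :=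
  (MonoidHom.ofInjective (isomSum_injective h.isCompl (fun _ hw _ hu => mem_perp.1 hu _ hw)
    fun _ hw _ hu => orth_symm hR hw hu)).trans <| MulEquiv.subgroupCongr <| by
      ext g
      rw [mem_range_isomSum, mem_isomStab]
      refine ⟨fun h => h.1, fun hW => ⟨hW, ?_⟩⟩
      rw [map_perp g.2, hW]

section Transport

variable {V' : Type*} [AddCommGroup V'] [Module F V']

/-- Isometric spaces have isomorphic isometry groups. -/
def isomGroupCongr {B : V →ₛₗ[σ] V →ₗ[F] F} {B' : V' →ₛₗ[σ] V' →ₗ[F] F} (e : V ≃ₗ[F] V')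
    (he : ∀ x y, B' (e x) (e y) = B x y) : isomGroup B ≃* isomGroup B' where
  toFun g := ⟨e.symm.trans (g.1.trans e), fun x y => by
    simp [he, g.2 _ _, ← he (e.symm x) (e.symm y)]⟩
  invFun g := ⟨e.trans (g.1.trans e.symm), fun x y => by
    rw [← he, ← he x y]
    simp⟩
  left_inv g := by ext; simp
  right_inv g := by ext; simp
  map_mul' a b := by
    refine Subtype.ext (LinearEquiv.ext fun x => ?_)
    simp

end Transport

end CfsgLib.Classical
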