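import Cfsg.Agent.Lib.Classical.SLOrders

set_option autoImplicit false
set_option linter.unusedSectionVars false
set_option backward.isDefEq.respectTransparency false

open Matrix
open scoped MatrixGroups Pointwise

namespace CfsgLib.Classical

variable {F : Type*} [Field F]

theorem gl_ext {ι : Type*} [Fintype ι] [DecidableEq ι] {R : Type*} [CommRing R] {A B : GL ι R}
    (h : (A : Matrix ι ι R) = B) : A = B := Units.ext h

theorem prod_pow_sub_pow (q n : ℕ) :
    ∏ i : Fin n, (q ^ n - q ^ (i : ℕ)) =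
      q ^ (n * (n - 1) / 2) * ∏ i ∈ Finset.range n, (q ^ (i + 1) - 1) := by
  rw [Fin.prod_univ_eq_prod_range (fun i => q ^ n - q ^ i) n, ← Finset.sum_range_id,
    ← Finset.prod_pow_eq_pow_sum, ← Finset.prod_range_reflect (fun i => q ^ (i + 1) - 1) n,
    ← Finset.prod_mul_distrib]
  refine Finset.prod_congr rfl fun i hi => ?_
  have hi' := Finset.mem_range.1 hi
  rw [Nat.mul_sub, mul_one, ← pow_add]
  congr 2
  omega

theorem card_eq_char_pow [Fintype F] (p : ℕ) [Fact p.Prime] [CharP F p] :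
    ∃ f : ℕ, 0 < f ∧ Fintype.card F = p ^ f := by
  obtain ⟨f, hp, hf⟩ := FiniteField.card F p
  exact ⟨f, f.pos, hf⟩

theorem not_dvd_prod_pow_sub_one {p q : ℕ} (hp : p.Prime) (hq : p ∣ q) (hq0 : q ≠ 0) (n : ℕ) :
    ¬ p ∣ ∏ i ∈ Finset.range n, (q ^ (i + 1) - 1) := by
  intro h
  obtain ⟨i, _, hi⟩ := (Prime.dvd_finsetProd_iff hp.prime _).1 h
  have h1 : p ∣ q ^ (i + 1) := dvd_pow hq i.succ_ne_zero
  have h2 : 1 ≤ q ^ (i + 1) := Nat.one_le_pow _ _ (Nat.pos_of_ne_zero hq0)
  have h3 : p ∣ q ^ (i + 1) - (q ^ (i + 1) - 1) := Nat.dvd_sub h1 hi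
  rw [Nat.sub_sub_self h2] at h3
  exact hp.ne_one (Nat.dvd_one.1 h3)

theorem gl_ordProj [Fintype F] {q : ℕ} (hF : Fintype.card F = q) (p : ℕ) [Fact p.Prime] [CharP F p]
    (n : ℕ) :
    p ^ (Nat.card (GL (Fin n) F)).factorization p = q ^ (n * (n - 1) / 2) := by
  have hp : p.Prime := Fact.out
  obtain ⟨f, hf0, hf⟩ := card_eq_char_pow (F := F) p
  rw [Matrix.card_GL_field, hF, prod_pow_sub_pow]
  have hq : q = p ^ f := hF.symm.trans hf
  have hq0 : q ≠ 0 := by rw [hq]; exact pow_ne_zero _ hp.ne_zero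
  have hnd := not_dvd_prod_pow_sub_one hp (hq ▸ dvd_pow_self p (by omega)) hq0 n
  have h0 : ∏ i ∈ Finset.range n, (q ^ (i + 1) - 1) ≠ 0 := fun h => hnd (by simp [h])
  rw [Nat.factorization_mul (pow_ne_zero _ hq0) h0, Finsupp.add_apply,
    Nat.factorization_eq_zero_of_not_dvd hnd, add_zero, Nat.factorization_pow, Finsupp.smul_apply, hq,
    Nat.factorization_pow, Finsupp.smul_apply, hp.factorization_self]
  rw [← pow_mul]
  simp [mul_comm]

theorem card_sylow_gl [Fintype F] {q : ℕ} (hF : Fintype.card F = q) (p : ℕ) [Fact p.Prime]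
    [CharP F p] (n : ℕ) (P : Sylow p (GL (Fin n) F)) : Nat.card P = q ^ (n * (n - 1) / 2) := by
  rw [P.card_eq_multiplicity, gl_ordProj hF p n]

theorem sylow_normalizer_congr {G : Type*} [Group G] {p : ℕ} (P : Sylow p G) (H : Subgroup G)
    (h : (P : Subgroup G) = H) :
    Subgroup.normalizer (P : Set G) = Subgroup.normalizer (H : Set G) := by subst h; rfl

/-- Upper unitriangular element of `GL₂`. -/
def uGL : Multiplicative F →* GL (Fin 2) F where
  toFun c := SpecialLinearGroup.toGL (SpecialLinearGroup.transvection zero_ne_one c.toAdd)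
  map_one' := by simp
  map_mul' a b := by rw [toAdd_mul, SpecialLinearGroup.transvection_add, map_mul]

theorem uGL_coe (c : F) : (uGL (Multiplicative.ofAdd c) : Matrix (Fin 2) (Fin 2) F) = !![1, c; 0, 1] := by
  change (1 + Matrix.single 0 1 c : Matrix (Fin 2) (Fin 2) F) = _
  ext i j; fin_cases i <;> fin_cases j <;> simp

theorem uGL_injective : Function.Injective (uGL (F := F)) := by
  intro a b h
  obtain ⟨a, rfl⟩ := Multiplicative.ofAdd.surjective a
  obtain ⟨b, rfl⟩ := Multiplicative.ofAdd.surjective b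
  have := congrArg (fun g : GL (Fin 2) F => (g : Matrix (Fin 2) (Fin 2) F) 0 1) h
  simpa [uGL_coe] using this

variable (F) in
/-- The upper unitriangular subgroup of `GL₂`. -/
def unipGL : Subgroup (GL (Fin 2) F) := (uGL (F := F)).range

variable (F) in
/-- The upper triangular subgroup of `GL₂`. -/
def borelGL : Subgroup (GL (Fin 2) F) where
  carrier := {g | (g : Matrix (Fin 2) (Fin 2) F) 1 0 = 0}
  one_mem' := by simp
  mul_mem' {a b} ha hb := by
    simp only [Set.mem_ofPred_eq] at ha hb ⊢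
    simp [Units.val_mul, Matrix.mul_apply, Fin.sum_univ_two, ha, hb]
  inv_mem' {a} ha := by
    simp only [Set.mem_ofPred_eq] at ha ⊢
    rw [Matrix.coe_units_inv, Matrix.inv_def]
    simp [Matrix.adjugate_fin_two, ha]

theorem mem_borelGL {g : GL (Fin 2) F} : g ∈ borelGL F ↔ (g : Matrix (Fin 2) (Fin 2) F) 1 0 = 0 :=
  Iff.rfl

theorem borel_diag_ne_zero {g : GL (Fin 2) F} (h : (g : Matrix (Fin 2) (Fin 2) F) 1 0 = 0) :
    (g : Matrix (Fin 2) (Fin 2) F) 0 0 ≠ 0 ∧ (g : Matrix (Fin 2) (Fin 2) F) 1 1 ≠ 0 := by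
  have := (Matrix.isUnits_det_units g).ne_zero
  rw [Matrix.det_fin_two, h, mul_zero, sub_zero] at this
  exact mul_ne_zero_iff.1 this

theorem uGL_conj_mem {x : GL (Fin 2) F} {c d : F} (hc : c ≠ 0)
    (h : x * uGL (Multiplicative.ofAdd c) = uGL (Multiplicative.ofAdd d) * x) :
    x ∈ borelGL F := by
  have := congrArg (fun g : GL (Fin 2) F => (g : Matrix (Fin 2) (Fin 2) F) 1 1) h
  simp [Units.val_mul, uGL_coe, Matrix.mul_apply, Fin.sum_univ_two] at this
  exact (this.resolve_right hc)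

theorem borel_conj_uGL {x : GL (Fin 2) F} (hx : x ∈ borelGL F) (c : F) :
    x * uGL (Multiplicative.ofAdd c) =
      uGL (Multiplicative.ofAdd ((x : Matrix (Fin 2) (Fin 2) F) 0 0 * c /
        (x : Matrix (Fin 2) (Fin 2) F) 1 1)) * x := by
  have h10 := mem_borelGL.1 hx
  have h11 := (borel_diag_ne_zero h10).2
  apply gl_ext
  ext i j
  fin_cases i <;> fin_cases j <;>
    simp [Units.val_mul, uGL_coe, Matrix.mul_apply, Fin.sum_univ_two, h10] <;> field_simp <;> ring

theorem normalizer_unipGL :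
    Subgroup.normalizer ((unipGL F : Subgroup (GL (Fin 2) F)) : Set (GL (Fin 2) F)) = borelGL F := by
  ext x
  rw [Subgroup.mem_normalizer_iff]
  constructor
  · intro h
    obtain ⟨d, hd⟩ := (h (uGL (Multiplicative.ofAdd 1))).1 ⟨_, rfl⟩
    refine uGL_conj_mem (d := d.toAdd) one_ne_zero ?_
    rw [ofAdd_toAdd, hd, inv_mul_cancel_right]
  · intro hx g
    constructor
    · rintro ⟨c, rfl⟩
      rw [← ofAdd_toAdd c, borel_conj_uGL hx, mul_inv_cancel_right]
      exact ⟨_, rfl⟩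
    · intro hg
      obtain ⟨c, hc⟩ := hg
      rw [← ofAdd_toAdd c] at hc
      have h2 := borel_conj_uGL ((borelGL F).inv_mem hx) c.toAdd
      rw [hc] at h2
      refine ⟨_, (eq_mul_inv_iff_mul_eq.2 h2.symm).trans ?_⟩
      group

theorem card_borelGL [Fintype F] {q : ℕ} (hF : Fintype.card F = q) :
    Nat.card (borelGL F) = q * (q - 1) ^ 2 := by
  let e : borelGL F ≃ (Fˣ × Fˣ) × F :=
    { toFun := fun g => ((Units.mk0 _ (borel_diag_ne_zero g.2).1, Units.mk0 _ (borel_diag_ne_zero g.2).2),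
        ((g.1 : GL (Fin 2) F) : Matrix (Fin 2) (Fin 2) F) 0 1)
      invFun := fun x => ⟨GeneralLinearGroup.mkOfDetNeZero !![(x.1.1 : F), x.2; 0, (x.1.2 : F)]
        (by simp [Matrix.det_fin_two]), by simp [mem_borelGL, GeneralLinearGroup.mkOfDetNeZero]⟩
      left_inv := fun g => by
        apply Subtype.ext; apply gl_ext
        ext i j
        fin_cases i <;> fin_cases j <;> simp [GeneralLinearGroup.mkOfDetNeZero, mem_borelGL.1 g.2]
      right_inv := fun x => by
        refine Prod.ext (Prod.ext (Units.ext ?_) (Units.ext ?_)) ?_ <;>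
          simp [GeneralLinearGroup.mkOfDetNeZero] }
  rw [Nat.card_congr e, Nat.card_prod, Nat.card_prod, Nat.card_units, Nat.card_eq_fintype_card, hF]
  ring

theorem card_unipGL : Nat.card (unipGL F) = Nat.card F :=
  (Nat.card_congr (MonoidHom.ofInjective uGL_injective).toEquiv).symm.trans
    (Nat.card_congr Multiplicative.toAdd)

/-- The upper unitriangular group as a Sylow `p`-subgroup of `GL₂`. -/
def unipSylow [Fintype F] (p : ℕ) [Fact p.Prime] [CharP F p] : Sylow p (GL (Fin 2) F) :=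
  Sylow.ofCard (unipGL F) (by rw [card_unipGL, gl_ordProj rfl p 2, Nat.card_eq_fintype_card]; simp)

theorem coe_unipSylow [Fintype F] (p : ℕ) [Fact p.Prime] [CharP F p] :
    (unipSylow (F := F) p : Subgroup (GL (Fin 2) F)) = unipGL F := by
  simp [unipSylow]

theorem sylowGL2_exists_conj [Fintype F] {p : ℕ} [Fact p.Prime] [CharP F p]
    (P : Sylow p (GL (Fin 2) F)) :
    ∃ x : GL (Fin 2) F, (P : Subgroup (GL (Fin 2) F)) = MulAut.conj x • unipGL F := by
  obtain ⟨x, hx⟩ := MulAction.exists_smul_eq (GL (Fin 2) F) (unipSylow (F := F) p) P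
  refine ⟨x, ?_⟩
  rw [← hx, Sylow.coe_subgroup_smul, coe_unipSylow]

theorem borel_smul_unipGL {x : GL (Fin 2) F} (hx : x ∈ borelGL F) :
    MulAut.conj x • unipGL F = unipGL F := by
  rw [← normalizer_unipGL, Subgroup.mem_normalizer_iff] at hx
  ext g
  rw [Subgroup.mem_pointwise_smul_iff_inv_smul_mem]
  simp only [MulAut.smul_def, MulAut.inv_apply, MulAut.conj_symm_apply]
  rw [hx]
  simp [mul_assoc]

theorem sylowGL2_disjoint [Fintype F] {p : ℕ} [Fact p.Prime] [CharP F p]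
    (P Q : Sylow p (GL (Fin 2) F)) (h : P ≠ Q) :
    (P : Subgroup (GL (Fin 2) F)) ⊓ (Q : Subgroup (GL (Fin 2) F)) = ⊥ := by
  obtain ⟨x, hx⟩ := sylowGL2_exists_conj P
  obtain ⟨y, hy⟩ := sylowGL2_exists_conj Q
  rw [eq_bot_iff]
  intro g ⟨hgP, hgQ⟩
  change g ∈ (P : Subgroup (GL (Fin 2) F)) at hgP
  change g ∈ (Q : Subgroup (GL (Fin 2) F)) at hgQ
  rw [Subgroup.mem_bot]
  by_contra hg
  rw [hx, Subgroup.mem_pointwise_smul_iff_inv_smul_mem] at hgP
  rw [hy, Subgroup.mem_pointwise_smul_iff_inv_smul_mem] at hgQ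
  obtain ⟨a, ha⟩ := hgP
  obtain ⟨b, hb⟩ := hgQ
  simp only [MulAut.smul_def, MulAut.inv_apply, MulAut.conj_symm_apply] at ha hb
  have ha0 : a.toAdd ≠ 0 := by
    intro h0
    rw [toAdd_eq_zero.1 h0, map_one, eq_comm] at ha
    exact hg (by simpa [mul_assoc, eq_inv_mul_iff_mul_eq, inv_mul_eq_one, mul_eq_one_iff_eq_inv] using ha)
  have hm : y⁻¹ * x ∈ borelGL F := by
    refine uGL_conj_mem (c := a.toAdd) (d := b.toAdd) ha0 ?_
    rw [ofAdd_toAdd, ofAdd_toAdd, ha, hb]
    group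
  apply h
  apply Sylow.ext
  rw [hx, hy]
  conv_rhs => rw [← borel_smul_unipGL hm, ← mul_smul, ← map_mul, mul_inv_cancel_left]

theorem centralizer_uGL_mem {c : F} (hc : c ≠ 0) (g : GL (Fin 2) F) :
    g ∈ Subgroup.centralizer ({uGL (Multiplicative.ofAdd c)} : Set (GL (Fin 2) F)) ↔
      (g : Matrix (Fin 2) (Fin 2) F) 1 0 = 0 ∧
        (g : Matrix (Fin 2) (Fin 2) F) 0 0 = (g : Matrix (Fin 2) (Fin 2) F) 1 1 := by
  rw [Subgroup.mem_centralizer_singleton_iff]
  constructor
  · intro h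
    have h10 : (g : Matrix (Fin 2) (Fin 2) F) 1 0 = 0 := uGL_conj_mem hc (by rw [h])
    refine ⟨h10, ?_⟩
    have := congrArg (fun g : GL (Fin 2) F => (g : Matrix (Fin 2) (Fin 2) F) 0 1) h
    simp [Units.val_mul, uGL_coe, Matrix.mul_apply, Fin.sum_univ_two] at this
    have h2 : ((g : Matrix (Fin 2) (Fin 2) F) 0 0 - (g : Matrix (Fin 2) (Fin 2) F) 1 1) * c = 0 := by
      linear_combination this
    exact sub_eq_zero.1 ((mul_eq_zero.1 h2).resolve_right hc)
  · rintro ⟨h10, hd⟩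
    rw [borel_conj_uGL h10 c, hd, mul_div_cancel_left₀ c (borel_diag_ne_zero h10).2]

theorem card_centralizer_uGL [Fintype F] {q : ℕ} (hF : Fintype.card F = q) {c : F} (hc : c ≠ 0) :
    Nat.card (Subgroup.centralizer ({uGL (Multiplicative.ofAdd c)} : Set (GL (Fin 2) F))) =
      q * (q - 1) := by
  let e : Subgroup.centralizer ({uGL (Multiplicative.ofAdd c)} : Set (GL (Fin 2) F)) ≃ F × Fˣ :=
    { toFun := fun g => (((g.1 : GL (Fin 2) F) : Matrix (Fin 2) (Fin 2) F) 0 1,
        Units.mk0 _ (borel_diag_ne_zero ((centralizer_uGL_mem hc g.1).1 g.2).1).1)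
      invFun := fun x => ⟨GeneralLinearGroup.mkOfDetNeZero !![(x.2 : F), x.1; 0, (x.2 : F)]
        (by simp [Matrix.det_fin_two]),
        (centralizer_uGL_mem hc _).2 (by simp [GeneralLinearGroup.mkOfDetNeZero])⟩
      left_inv := fun g => by
        obtain ⟨h10, hd⟩ := (centralizer_uGL_mem hc g.1).1 g.2
        apply Subtype.ext; apply gl_ext
        ext i j
        fin_cases i <;> fin_cases j <;> simp [GeneralLinearGroup.mkOfDetNeZero, h10, hd]
      right_inv := fun x => by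
        refine Prod.ext ?_ (Units.ext ?_) <;> simp [GeneralLinearGroup.mkOfDetNeZero] }
  rw [Nat.card_congr e, Nat.card_prod, Nat.card_units, Nat.card_eq_fintype_card, hF]

theorem card_normalizer_sylowGL2 [Fintype F] {q : ℕ} (hF : Fintype.card F = q) {p : ℕ}
    [Fact p.Prime] [CharP F p] (P : Sylow p (GL (Fin 2) F)) :
    Nat.card (Subgroup.normalizer ((P : Subgroup (GL (Fin 2) F)) : Set (GL (Fin 2) F))) =
      q * (q - 1) ^ 2 := by
  have h1 := P.card_eq_index_normalizer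
  have h2 := (unipSylow (F := F) p).card_eq_index_normalizer
  rw [sylow_normalizer_congr _ _ (coe_unipSylow (F := F) p), normalizer_unipGL] at h2
  have h3 := Subgroup.card_mul_index (Subgroup.normalizer ((P : Subgroup (GL (Fin 2) F)) : Set (GL (Fin 2) F)))
  have h4 := Subgroup.card_mul_index (borelGL F)
  rw [sylow_normalizer_congr P _ rfl] at h1
  rw [← h1] at h3
  rw [← h2, card_borelGL hF, ← h3] at h4
  exact (Nat.eq_of_mul_eq_mul_right Nat.card_pos h4).symm

theorem card_sylowGL2 [Fintype F] {q : ℕ} (hF : Fintype.card F = q) (p : ℕ) [Fact p.Prime]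
    [CharP F p] : Nat.card (Sylow p (GL (Fin 2) F)) = q + 1 := by
  have h2 := (unipSylow (F := F) p).card_eq_index_normalizer
  rw [sylow_normalizer_congr _ _ (coe_unipSylow (F := F) p), normalizer_unipGL] at h2
  have h4 := Subgroup.card_mul_index (borelGL F)
  rw [← h2, card_borelGL hF, Matrix.card_GL_field, hF, Fin.prod_univ_two] at h4
  simp at h4
  have hq : 2 ≤ q := hF ▸ Fintype.one_lt_card
  have hb : 0 < q * (q - 1) ^ 2 := by positivity [Nat.sub_pos_of_lt hq]
  refine Nat.eq_of_mul_eq_mul_left hb (h4.trans ?_)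
  obtain ⟨k, rfl⟩ : ∃ k, q = k + 2 := ⟨q - 2, by omega⟩
  simp only [Nat.add_sub_cancel, show k + 2 - 1 = k + 1 from rfl]
  have e1 : (k + 2) ^ 2 - 1 = (k + 1) * (k + 3) := by
    have : (k + 2) ^ 2 = (k + 1) * (k + 3) + 1 := by ring
    omega
  have e2 : (k + 2) ^ 2 - (k + 2) = (k + 2) * (k + 1) := by
    have : (k + 2) ^ 2 = (k + 2) * (k + 1) + (k + 2) := by ring
    omega
  rw [e1, e2]; ring

end CfsgLib.Classical
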