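import Cfsg.Agent.Lib.Classical.SimMaxBasic
import Cfsg.Agent.Lib.Classical.TensorMaxO.Forms
import Cfsg.Agent.Lib.Classical.GSpMax
import Cfsg.Agent.Lib.Classical.OrthMaxBasic

/-!
# Above the similarities of a quadratic form there is a transvection, hence all of `SL`
-/

set_option autoImplicit false
set_option linter.unusedSectionVars false
set_option backward.isDefEq.respectTransparency false

open Module Matrix

namespace CfsgLib.Classical.SimMax

variable {ι : Type} [Fintype ι] [DecidableEq ι] {F : Type*} [Field F] [Fintype F]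
variable (Q : QuadraticForm F (ι → F))

local notation "B" => QuadraticMap.polarBilin Q

/-- The coordinate vector of `B d`. -/
def bv (d : ι → F) : ι → F := funVec (B d)

theorem bv_dot (d x : ι → F) : bv Q d ⬝ᵥ x = B d x := funVec_dot _ _

/-- A Siegel element as a matrix. -/
def sieg (d u : ι → F) (hdu : B d u = 0) : GL ι F :=
  trGL u (bv Q d) (by rw [bv_dot, hdu]) *
    trGL d (-bv Q u) (by rw [neg_dotProduct, bv_dot, polar_symm, hdu, neg_zero])

theorem sieg_mulVec {d u : ι → F} (hd : B d d = 0) (hdu : B d u = 0) (x : ι → F) :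
    (sieg Q d u hdu : Matrix ι ι F) *ᵥ x = x + B d x • u - B u x • d := by
  rw [sieg, Units.val_mul, ← mulVec_mulVec, trGL_mulVec, trGL_mulVec, neg_dotProduct, bv_dot, bv_dot,
    map_add, map_smul, hd, smul_zero, add_zero, neg_smul]
  abel

theorem sieg_mem_sl {d u : ι → F} (hdu : B d u = 0) : sieg Q d u hdu ∈ Cfsg.Geo.specialLinear ι F :=
  mul_mem (trGL_mem_sl _ _ _) (trGL_mem_sl _ _ _)

theorem sieg_isometry {d u : ι → F} (hd : Q d = 0) (hu : Q u = 0) (hdu : B d u = 0) (x : ι → F) :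
    Q ((sieg Q d u hdu : Matrix ι ι F) *ᵥ x) = Q x := by
  have hdd : B d d = 0 := by rw [polar_self', hd, mul_zero]
  rw [sieg_mulVec Q hdd hdu, show x + B d x • u - B u x • d = x + (1 : F) • (B d x • u - B u x • d) by
    rw [one_smul]; abel, map_add_smul, map_sub, map_smul, map_smul, sub_eq_add_neg (B d x • u), ← neg_smul,
    map_add_smul, QuadraticMap.map_smul, hu, hd, map_smul, LinearMap.smul_apply,
    polar_symm Q x u, polar_symm Q x d, polar_symm Q u d, hdu]
  simp only [smul_eq_mul]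
  ring

/-- The subgroup contains the transvection with centre `a` and axis functional `B b`. -/
def Has (M : Subgroup (GL ι F)) (a b : ι → F) : Prop :=
  ∃ h : bv Q b ⬝ᵥ a = 0, trGL a (bv Q b) h ∈ M

variable {Q} {M : Subgroup (GL ι F)}

theorem Has.perp {a b : ι → F} (h : Has Q M a b) : B b a = 0 := by
  obtain ⟨h0, -⟩ := h; rwa [bv_dot] at h0

theorem has_zero (a : ι → F) : Has Q M a 0 :=
  ⟨by rw [bv_dot]; simp, by
    rw [trGL_eq_one_of (Or.inr (funext fun i => by simp [bv, funVec]))]; exact M.one_mem⟩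

theorem Has.add {a b b' : ι → F} (h : Has Q M a b) (h' : Has Q M a b') : Has Q M a (b + b') := by
  have hp := h.perp
  have hp' := h'.perp
  obtain ⟨h0, hm⟩ := h
  obtain ⟨h0', hm'⟩ := h'
  refine ⟨by rw [bv_dot, map_add, LinearMap.add_apply, hp, hp', add_zero], ?_⟩
  convert M.mul_mem hm hm' using 1
  refine Units.ext (Matrix.ext_iff_mulVec.2 fun x => ?_)
  rw [Units.val_mul, ← mulVec_mulVec, trGL_mulVec, trGL_mulVec, trGL_mulVec]
  simp only [bv_dot, map_add, map_smul, LinearMap.add_apply, hp, smul_zero, add_zero, smul_eq_mul, mul_zero]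
  rw [add_smul]
  abel

theorem Has.neg {a b : ι → F} (h : Has Q M a b) : Has Q M a (-b) := by
  have hp := h.perp
  obtain ⟨h0, hm⟩ := h
  refine ⟨by rw [bv_dot, map_neg, LinearMap.neg_apply, hp, neg_zero], ?_⟩
  convert M.inv_mem hm using 1
  refine eq_inv_of_mul_eq_one_left (Units.ext (Matrix.ext_iff_mulVec.2 fun x => ?_))
  rw [Units.val_mul, ← mulVec_mulVec, trGL_mulVec, trGL_mulVec, Units.val_one, one_mulVec]
  simp only [bv_dot, map_neg, map_add, map_smul, LinearMap.neg_apply, hp, smul_zero, add_zero, smul_eq_mul, mul_zero, neg_zero]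
  rw [neg_smul]
  abel

theorem conj_eq_trGL {g : GL ι F} {v f w k : ι → F} {h : f ⬝ᵥ v = 0} {h' : k ⬝ᵥ w = 0}
    (he : ∀ x, (f ⬝ᵥ x) • ((g : Matrix ι ι F) *ᵥ v) = (k ⬝ᵥ ((g : Matrix ι ι F) *ᵥ x)) • w) :
    g * trGL v f h * g⁻¹ = trGL w k h' := by
  rw [mul_inv_eq_iff_eq_mul]
  refine Units.ext (Matrix.ext_iff_mulVec.2 fun x => ?_)
  rw [Units.val_mul, Units.val_mul, ← mulVec_mulVec, ← mulVec_mulVec, trGL_mulVec, trGL_mulVec, mulVec_add,
    mulVec_smul, he]

/-- Transport by an isometry in the subgroup. -/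
theorem Has.map {a b : ι → F} (h : Has Q M a b) {s : GL ι F} (hs : s ∈ M)
    (hiso : ∀ x y, B ((s : Matrix ι ι F) *ᵥ x) ((s : Matrix ι ι F) *ᵥ y) = B x y) :
    Has Q M ((s : Matrix ι ι F) *ᵥ a) ((s : Matrix ι ι F) *ᵥ b) := by
  have hp := h.perp
  obtain ⟨h0, hm⟩ := h
  refine ⟨by rw [bv_dot, hiso, hp], ?_⟩
  rw [← conj_eq_trGL (g := s) (h := h0) (fun x => by rw [bv_dot, bv_dot, hiso])]
  exact mul_mem (mul_mem hs hm) (inv_mem hs)

variable (Q) in
theorem isometry_polar {s : GL ι F} (hs : ∀ x, Q ((s : Matrix ι ι F) *ᵥ x) = Q x) (x y : ι → F) :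
    B ((s : Matrix ι ι F) *ᵥ x) ((s : Matrix ι ι F) *ᵥ y) = B x y := by
  simp only [QuadraticMap.polarBilin_apply_apply, QuadraticMap.polar, ← mulVec_add, hs]

/-- `M` contains the Siegel elements of pairs of singular vectors. -/
def SiegMem (Q : QuadraticForm F (ι → F)) (M : Subgroup (GL ι F)) : Prop :=
  ∀ d u, Q d = 0 → Q u = 0 → ∀ h : QuadraticMap.polarBilin Q d u = 0, sieg Q d u h ∈ M

theorem Has.sieg_map (hS : SiegMem Q M) {a b d u : ι → F} (h : Has Q M a b) (hd : Q d = 0) (hu : Q u = 0)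
    (hdu : B d u = 0) :
    Has Q M (a + B d a • u - B u a • d) (b + B d b • u - B u b • d) := by
  have hdd : B d d = 0 := by rw [polar_self', hd, mul_zero]
  have := h.map (hS d u hd hu hdu) (isometry_polar Q (sieg_isometry Q hd hu hdu))
  rwa [sieg_mulVec Q hdd hdu, sieg_mulVec Q hdd hdu] at this

variable (hQ : (QuadraticMap.polarBilin Q).Nondegenerate)
include hQ

theorem sl_le_of_has (h2 : (2 : F) ≠ 0) (hn : 6 ≤ Fintype.card ι) (hS : SiegMem Q M) {a₀ b₀ : ι → F}
    (h₀ : Has Q M a₀ b₀) (ha₀ : a₀ ≠ 0) (hb₀ : b₀ ≠ 0) : Cfsg.Geo.specialLinear ι F ≤ M := by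
  classical
  have hN : finrank F (ι → F) = Fintype.card ι := Module.finrank_fintype_fun_eq_card F
  have hUperp : ∀ a : ι → F, finrank F (ι → F) ≤ finrank F (perp Q ![a]) + 1 := fun a => finrank_perp_ge Q ![a]
  have hp1 : ∀ {a x : ι → F}, x ∈ perp Q ![a] ↔ B a x = 0 := fun {a x} => by
    rw [mem_perp]; simp [Fin.forall_fin_one]
  -- a nonsingular centre
  obtain ⟨a, b, hab, ha, hb⟩ : ∃ a b, Has Q M a b ∧ Q a ≠ 0 ∧ b ≠ 0 := by
    by_cases hQa : Q a₀ = 0
    swap
    · exact ⟨a₀, b₀, h₀, hQa, hb₀⟩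
    obtain ⟨l, hl, hla⟩ : ∃ l : F, l ≠ 0 ∧ Has Q M a₀ (l • a₀) := by
      by_cases hmul : ∃ l : F, b₀ = l • a₀
      · obtain ⟨l, rfl⟩ := hmul
        exact ⟨l, fun e => hb₀ (by rw [e, zero_smul]), h₀⟩
      push Not at hmul
      -- a singular `u ⊥ a₀` with `B u b₀ ≠ 0`
      obtain ⟨u, hu, huQ, hub⟩ := exists_singular_outside hQ h2 (U := perp Q ![a₀])
        (by have := hUperp a₀; omega) (f := B b₀) (by
          by_contra hc
          push Not at hc
          obtain ⟨y, hy⟩ : ∃ y, B a₀ y ≠ 0 := by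
            by_contra hc'; push Not at hc'; exact ha₀ (hQ.1 a₀ hc')
          refine hmul (B b₀ y / B a₀ y) (sub_eq_zero.1 (hQ.1 _ fun z => ?_))
          have := hc (z - (B a₀ z / B a₀ y) • y) (hp1.2 (by
            rw [map_sub, map_smul, smul_eq_mul, div_mul_cancel₀ _ hy, sub_self]))
          rw [map_sub, map_smul, smul_eq_mul, sub_eq_zero] at this
          rw [map_sub, map_smul, LinearMap.sub_apply, LinearMap.smul_apply, smul_eq_mul, this]
          field_simp
          ring)
      rw [hp1] at hu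
      have h' := h₀.sieg_map hS hQa huQ hu
      rw [show B a₀ a₀ = 0 by rw [polar_self', hQa, mul_zero], polar_symm Q u a₀, hu, zero_smul, zero_smul,
        add_zero, sub_zero, polar_symm Q a₀ b₀, h₀.perp, zero_smul, add_zero] at h'
      refine ⟨B u b₀, by rwa [polar_symm Q u b₀], ?_⟩
      have h'' := (h'.add h₀.neg).neg
      rw [show -(b₀ - B u b₀ • a₀ + -b₀) = B u b₀ • a₀ by abel] at h''
      exact h''
    -- move the centre off its perpendicular hyperplane
    obtain ⟨y, hy⟩ : ∃ y, B a₀ y ≠ 0 := by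
      by_contra hc'; push Not at hc'; exact ha₀ (hQ.1 a₀ hc')
    obtain ⟨d, -, hdQ, hda⟩ := exists_singular_outside hQ h2 (U := (⊤ : Submodule F (ι → F)))
      (by rw [finrank_top]; omega) (f := B a₀) ⟨y, trivial, hy⟩
    obtain ⟨u₁, hu₁, hu₁0, hu₁Q⟩ := exists_singular_of_three (Q := Q) h2 (U := perp Q ![d, a₀])
      (by have := finrank_perp_ge Q ![d, a₀]; omega)
    rw [mem_perp, Fin.forall_fin_two] at hu₁
    obtain ⟨u₂, hu₂, hu₂Q, hu12⟩ : ∃ u₂ ∈ perp Q ![d, a₀], Q u₂ = 0 ∧ B u₁ u₂ ≠ 0 := by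
      obtain ⟨w, hw, hwu⟩ : ∃ w ∈ perp Q ![d, a₀], B u₁ w ≠ 0 := by
        by_contra hc
        push Not at hc
        -- else `u₁` lies in the span of `d` and `a₀`
        have hker : LinearMap.ker (B u₁) ≥ perp Q ![d, a₀] := fun z hz => hc z hz
        have hle : u₁ ∈ Submodule.span F {d, a₀} := by
          have e : perp Q ![d, a₀] = LinearMap.BilinForm.orthogonal B (Submodule.span F {d, a₀}) := by
            ext z
            rw [mem_perp, Fin.forall_fin_two]
            constructor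
            · rintro ⟨h1, h2'⟩ x hx
              obtain ⟨s, t, rfl⟩ := Submodule.mem_span_pair.1 hx
              show B (s • d + t • a₀) z = 0
              simp only [map_add, map_smul, LinearMap.add_apply, LinearMap.smul_apply]
              rw [show B d z = 0 from h1, show B a₀ z = 0 from h2', smul_zero, smul_zero, add_zero]
            · intro hz
              exact ⟨hz d (Submodule.subset_span (Or.inl rfl)), hz a₀ (Submodule.subset_span (Or.inr rfl))⟩
          rw [← LinearMap.BilinForm.orthogonal_orthogonal hQ (isRefl Q) (Submodule.span F {d, a₀})]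
          intro z hz
          exact (polar_symm Q z u₁).trans (hker (e ▸ hz))
        obtain ⟨s, t, rfl⟩ := Submodule.mem_span_pair.1 hle
        simp only [show ![d, a₀] 0 = d from rfl, show ![d, a₀] 1 = a₀ from rfl, map_add, map_smul,
          polar_self', hdQ, hQa, mul_zero, smul_zero, zero_add, add_zero, smul_eq_zero,
          polar_symm Q d a₀] at hu₁
        rcases hu₁.1 with ht | ht
        · rcases hu₁.2 with hs | hs
          · exact hu₁0 (by rw [ht, hs]; simp)
          · exact hda hs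
        · exact hda ht
      refine ⟨w + (-(Q w) / B w u₁) • u₁, add_mem hw (Submodule.smul_mem _ _ (by rwa [mem_perp, Fin.forall_fin_two])),
        ?_, ?_⟩
      · rw [map_add_smul, hu₁Q, mul_zero, add_zero, div_mul_cancel₀ _ (by rwa [polar_symm] at hwu), add_neg_cancel]
      · rw [map_add, map_smul, polar_self', hu₁Q, mul_zero, smul_zero, add_zero]; exact hwu
    rw [mem_perp, Fin.forall_fin_two] at hu₂
    have h1 := hla.sieg_map hS hdQ hu₁Q hu₁.1
    have h2' := h1.sieg_map hS hdQ hu₂Q hu₂.1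
    rw [polar_symm Q u₁ a₀, show B a₀ u₁ = 0 from hu₁.2, zero_smul, sub_zero] at h2'
    set κ := B d a₀ with hκ
    have hκ0 : κ ≠ 0 := by rw [hκ, polar_symm]; exact hda
    have hdd : B d d = 0 := by rw [polar_self', hdQ, mul_zero]
    have hu1d : B d u₁ = 0 := hu₁.1
    have hu2d : B d u₂ = 0 := hu₂.1
    have ea : a₀ + κ • u₁ + B d (a₀ + κ • u₁) • u₂ - B u₂ (a₀ + κ • u₁) • d =
        a₀ + κ • u₁ + κ • u₂ - (κ * B u₁ u₂) • d := by
      rw [map_add, map_smul, hu1d, smul_zero, add_zero, ← hκ, map_add, map_smul, polar_symm Q u₂ a₀,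
        show B a₀ u₂ = 0 from hu₂.2, zero_add, polar_symm Q u₂ u₁, smul_eq_mul]
    set c := a₀ + κ • u₁ + κ • u₂ - (κ * B u₁ u₂) • d with hc
    have hbc : Has Q M c (l • c) := by
      convert h2' using 1
      · exact ea.symm
      · rw [map_smul, map_smul, polar_symm Q u₁ a₀, show B a₀ u₁ = 0 from hu₁.2, smul_zero, zero_smul, sub_zero,
          ← hκ, smul_assoc, ← smul_add, map_smul, map_smul, ← ea, smul_sub, smul_add, smul_assoc, smul_assoc]
    have hac : B a₀ c = -(κ * B u₁ u₂ * κ) := by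
      rw [hc, map_sub, map_add, map_add, map_smul, map_smul, map_smul, show B a₀ u₁ = 0 from hu₁.2,
        show B a₀ u₂ = 0 from hu₂.2, polar_self', hQa, polar_symm Q a₀ d, ← hκ]
      simp [smul_eq_mul]
    have hcne : B a₀ c ≠ 0 := by
      rw [hac]; exact neg_ne_zero.2 (mul_ne_zero (mul_ne_zero hκ0 hu12) hκ0)
    -- `c` is singular
    have hcQ : Q c = 0 := by
      have e1 := sieg_isometry Q hdQ hu₁Q hu1d a₀
      have e2 := sieg_isometry Q hdQ hu₂Q hu2d (((sieg Q d u₁ hu1d : GL ι F) : Matrix ι ι F) *ᵥ a₀)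
      rw [e1, hQa, sieg_mulVec Q hdd hu2d, sieg_mulVec Q hdd hu1d, polar_symm Q u₁ a₀,
        show B a₀ u₁ = 0 from hu₁.2, zero_smul, sub_zero, ← hκ, ea] at e2
      exact e2
    -- conjugate by the transvection with centre `a₀`
    obtain ⟨h0, hm⟩ := hla
    obtain ⟨h0c, hmc⟩ := hbc
    set T := trGL a₀ (bv Q (l • a₀)) h0
    have hT : ∀ x, (T : Matrix ι ι F) *ᵥ x = x + (l * B a₀ x) • a₀ := fun x => by
      rw [trGL_mulVec, bv_dot, map_smul, LinearMap.smul_apply, smul_eq_mul]
    set a' := c + (l * B a₀ c) • a₀ with ha'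
    set b' := l • (c - (l * B a₀ c) • a₀) with hb'
    have hab' : bv Q b' ⬝ᵥ a' = 0 := by
      rw [bv_dot, hb', ha']
      simp only [map_add, map_sub, map_smul, LinearMap.smul_apply, LinearMap.sub_apply, smul_eq_mul,
        polar_symm Q c a₀, polar_self', hcQ, hQa]
      ring
    refine ⟨a', b', ⟨hab', ?_⟩, ?_, ?_⟩
    · rw [← conj_eq_trGL (g := T) (h := h0c) (fun x => by
        rw [hT, hT, bv_dot, bv_dot, hb']
        simp only [map_add, map_sub, map_smul, LinearMap.smul_apply, LinearMap.sub_apply, smul_eq_mul,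
          polar_symm Q c a₀, polar_self', hQa]
        rw [← ha']
        congr 1
        ring)]
      exact mul_mem (mul_mem hm hmc) (inv_mem hm)
    · rw [ha', map_add_smul, hcQ, hQa, polar_symm Q c a₀]
      simp only [mul_zero, add_zero, zero_add]
      exact mul_ne_zero (mul_ne_zero hl hcne) hcne
    · rw [hb']
      refine smul_ne_zero hl fun e => hcne ?_
      rw [sub_eq_zero.1 e, map_smul, polar_self', hQa, mul_zero, smul_zero]
  -- everything orthogonal to such a centre
  have hfull : ∀ b', B a b' = 0 → Has Q M a b' := by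
    let Φ : AddSubgroup (ι → F) :=
      { carrier := {b' | Has Q M a b'}
        add_mem' := fun h h' => h.add h'
        zero_mem' := has_zero a
        neg_mem' := fun h => h.neg }
    have ha0 : B a a ≠ 0 := by rw [polar_self']; exact mul_ne_zero h2 ha
    intro b' hb'
    refine le_of_siegel_invariant hQ h2 (U := perp Q ![a]) ?_ (by have := hUperp a; omega) Φ ?_
      (x₀ := b) (hp1.2 (by rw [polar_symm]; exact hab.perp)) hab hb b' (hp1.2 hb')
    · intro x hx hxy
      refine hQ.1 x fun z => ?_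
      have := hxy (z - (B a z / B a a) • a) (hp1.2 (by
        rw [map_sub, map_smul, smul_eq_mul, div_mul_cancel₀ _ ha0, sub_self]))
      rw [map_sub, map_smul, polar_symm Q x a, hp1.1 hx, smul_zero, sub_zero] at this
      exact this
    · intro d hd u hu hdQ huQ hdu x hx
      have h' := Has.sieg_map hS (show Has Q M a x from hx) hdQ huQ hdu
      rw [polar_symm Q d a, hp1.1 hd, polar_symm Q u a, hp1.1 hu, zero_smul, zero_smul, add_zero, sub_zero] at h'
      have := h'.add (show Has Q M a x from hx).neg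
      rwa [show x + B d x • u - B u x • d + -x = B d x • u - B u x • d by abel] at this
  -- the centres with all axes
  let S : Set (ι → F) := {c | ∀ (f : ι → F) (h : f ⬝ᵥ c = 0), trGL c f h ∈ M}
  have haS : a ∈ S := by
    intro f h
    let φ : (ι → F) →ₗ[F] F := dotProductEquiv F ι f
    obtain ⟨b', hb'⟩ : ∃ b', ∀ x, B b' x = f ⬝ᵥ x :=
      ⟨(LinearMap.BilinForm.toDual B hQ).symm φ, fun x => LinearMap.BilinForm.apply_toDual_symm_apply (hB := hQ) φ x⟩
    obtain ⟨h0, hm⟩ := hfull b' (by rw [polar_symm, hb', h])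
    convert hm using 1
    exact trGL_congr fun x => by rw [bv_dot, hb']
  have hsmul : ∀ c ∈ S, ∀ l : F, l • c ∈ S := by
    intro c hc l f h
    have h' : (l • f) ⬝ᵥ c = 0 := by rw [smul_dotProduct, ← dotProduct_smul, h]
    convert hc (l • f) h' using 1
    exact trGL_congr fun x => by rw [smul_dotProduct, smul_eq_mul, smul_smul, mul_comm]
  have hadd : ∀ c ∈ S, ∀ c' ∈ S, c + c' ∈ S := by
    intro c hc c' hc'
    by_cases hdep : c ∈ Submodule.span F {c'}
    · obtain ⟨l, rfl⟩ := Submodule.mem_span_singleton.1 hdep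
      rw [show l • c' + c' = (l + 1) • c' by rw [add_smul, one_smul]]
      exact hsmul c' hc' _
    obtain ⟨k, hk1, hk⟩ := exists_dual_vec hdep
    have hkc' : k ⬝ᵥ c' = 0 := hk c' (Submodule.mem_span_singleton_self c')
    set T := trGL c' k hkc'
    have hTm : T ∈ M := hc' k hkc'
    intro f h
    have hf : (f ᵥ* (T : Matrix ι ι F)) ⬝ᵥ c = 0 := by
      rw [← dotProduct_mulVec, trGL_mulVec, hk1, one_smul, h]
    rw [← conj_eq_trGL (g := T) (h := hf) (fun x => by
      rw [← dotProduct_mulVec, trGL_mulVec c' k hkc' c, hk1, one_smul])]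
    exact mul_mem (mul_mem hTm (hc _ hf)) (inv_mem hTm)
  let W : Submodule F (ι → F) :=
    { carrier := S
      add_mem' := fun h h' => hadd _ h _ h'
      zero_mem' := fun f h => by rw [trGL_eq_one_of (Or.inl rfl)]; exact M.one_mem
      smul_mem' := fun l c hc => hsmul c hc l }
  have hWall : ∀ x, x ∈ W := by
    intro x
    refine le_of_siegel_invariant hQ h2 (U := (⊤ : Submodule F (ι → F)))
      (fun x _ h => hQ.1 x fun y => h y trivial) (by rw [finrank_top]; omega) W.toAddSubgroup ?_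
      (x₀ := a) trivial haS (fun e => ha (by rw [e, QuadraticMap.map_zero])) x trivial
    intro d _ u _ hdQ huQ hdu y hy
    have hdd : B d d = 0 := by rw [polar_self', hdQ, mul_zero]
    have hs := hS d u hdQ huQ hdu
    have hy' : (sieg Q d u hdu : Matrix ι ι F) *ᵥ y ∈ S := by
      intro f h
      have hf : (f ᵥ* (sieg Q d u hdu : Matrix ι ι F)) ⬝ᵥ y = 0 := by rw [← dotProduct_mulVec, h]
      rw [← conj_eq_trGL (g := sieg Q d u hdu) (h := hf) (fun x => by rw [← dotProduct_mulVec])]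
      exact mul_mem (mul_mem hs (hy _ hf)) (inv_mem hs)
    rw [sieg_mulVec Q hdd hdu] at hy'
    have := W.sub_mem (show _ ∈ W from hy') (show y ∈ W from hy)
    rwa [show y + B d y • u - B u y • d - y = B d y • u - B u y • d by abel] at this
  exact sl_le_of_forall_trGL M fun v f h => hWall v f h

omit hQ in
theorem gsieg_dot {d : ι → F} (hd : Q d = 0) (u : ι → F) : ((-Q u) • bv Q d) ⬝ᵥ d = 0 := by
  rw [smul_dotProduct, bv_dot, polar_self', hd, mul_zero, smul_zero]

omit hQ in
variable (Q) in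
/-- A general Siegel element as a matrix. -/
def gsieg (d u : ι → F) (hd : Q d = 0) (hdu : B d u = 0) : GL ι F :=
  sieg Q d u hdu * trGL d ((-Q u) • bv Q d) (gsieg_dot hd u)

omit hQ in
theorem gsieg_mulVec {d u : ι → F} (hd : Q d = 0) (hdu : B d u = 0) (x : ι → F) :
    (gsieg Q d u hd hdu : Matrix ι ι F) *ᵥ x = x + B d x • u - B u x • d - (Q u * B d x) • d := by
  have hdd : B d d = 0 := by rw [polar_self', hd, mul_zero]
  rw [gsieg, Units.val_mul, ← mulVec_mulVec, trGL_mulVec, smul_dotProduct, bv_dot, sieg_mulVec Q hdd hdu,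
    map_add, map_add, map_smul, map_smul, hdd, polar_symm Q u d, hdu]
  simp only [smul_eq_mul, mul_zero, add_zero]
  module

/-- The general Siegel elements lie in the subgroup. -/
theorem gsieg_mem (h2 : (2 : F) ≠ 0) (hn : 5 ≤ Fintype.card ι) (hS : SiegMem Q M) {d u : ι → F} (hd : Q d = 0)
    (hd0 : d ≠ 0) (hdu : B d u = 0) : gsieg Q d u hd hdu ∈ M := by
  have hdd : B d d = 0 := by rw [polar_self', hd, mul_zero]
  have hmem : ∀ {x}, x ∈ perp Q ![d] ↔ B d x = 0 := fun {x} => by
    rw [mem_perp]; simp [Fin.forall_fin_one]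
  let W : Submodule F (ι → F) :=
    { carrier := {x | ∃ h : B d x = 0, ∀ c : F, gsieg Q d (c • x) hd (by rw [map_smul, h, smul_zero]) ∈ M}
      add_mem' := by
        rintro a b ⟨ha, ha'⟩ ⟨hb, hb'⟩
        refine ⟨by rw [map_add, ha, hb, add_zero], fun c => ?_⟩
        convert M.mul_mem (ha' c) (hb' c) using 1
        refine Units.ext (Matrix.ext_iff_mulVec.2 fun x => ?_)
        rw [Units.val_mul, ← mulVec_mulVec, gsieg_mulVec, gsieg_mulVec, gsieg_mulVec, smul_add]
        have hq : Q (c • a + c • b) = Q (c • a) + Q (c • b) + B (c • a) (c • b) := by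
          rw [QuadraticMap.map_add Q]; rfl
        simp only [map_add, map_sub, map_smul, LinearMap.add_apply, LinearMap.smul_apply, smul_eq_mul, hb, hdd,
          polar_symm Q a d, ha, hq]
        module
      zero_mem' := by
        refine ⟨map_zero _, fun c => ?_⟩
        convert M.one_mem using 1
        refine Units.ext (Matrix.ext_iff_mulVec.2 fun x => ?_)
        rw [gsieg_mulVec, Units.val_one, one_mulVec]
        simp
      smul_mem' := by
        rintro t x ⟨hx, hx'⟩
        refine ⟨by rw [map_smul, hx, smul_zero], fun c => ?_⟩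
        have := hx' (c * t)
        simp only [smul_smul] at this ⊢
        exact this }
  have hle : perp Q ![d] ≤ W := by
    refine le_of_singular_mem hQ h2 ?_ fun z hz hzQ => ⟨hmem.1 hz, fun c => ?_⟩
    · have := finrank_perp_ge Q ![d]
      rw [Module.finrank_fintype_fun_eq_card] at this ⊢
      omega
    · have hcQ : Q (c • z) = 0 := by rw [QuadraticMap.map_smul, hzQ, smul_zero]
      convert hS d (c • z) hd hcQ (by rw [map_smul, hmem.1 hz, smul_zero]) using 1
      refine Units.ext (Matrix.ext_iff_mulVec.2 fun x => ?_)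
      rw [gsieg_mulVec, sieg_mulVec Q hdd, hcQ]
      simp
  obtain ⟨_, h⟩ := hle (hmem.2 hdu)
  simpa using h 1

/-- A non-similarity produces a transvection. -/
theorem exists_has (h2 : (2 : F) ≠ 0) (hn : 5 ≤ Fintype.card ι) (hS : SiegMem Q M) {g : GL ι F} (hg : g ∈ M)
    (hgs : ¬ ∃ c : F, ∀ x y, B (((g⁻¹ : GL ι F) : Matrix ι ι F) *ᵥ x) (((g⁻¹ : GL ι F) : Matrix ι ι F) *ᵥ y) = c * B x y) :
    ∃ a b, Has Q M a b ∧ a ≠ 0 ∧ b ≠ 0 := by
  classical
  have hN : finrank F (ι → F) = Fintype.card ι := Module.finrank_fintype_fun_eq_card F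
  let Gi : (ι → F) →ₗ[F] (ι → F) := Matrix.toLin' ((g⁻¹ : GL ι F) : Matrix ι ι F)
  let G : (ι → F) →ₗ[F] (ι → F) := Matrix.toLin' (g : Matrix ι ι F)
  have hGi : ∀ x, Gi x = ((g⁻¹ : GL ι F) : Matrix ι ι F) *ᵥ x := fun x => rfl
  have hGG : ∀ x, Gi (G x) = x := fun x => by
    simp [Gi, G, mulVec_mulVec, ← Units.val_mul]
  have hGG' : ∀ x, (g : Matrix ι ι F) *ᵥ Gi x = x := fun x => by
    simp [hGi, mulVec_mulVec, ← Units.val_mul]
  let Q' : QuadraticForm F (ι → F) := Q.comp Gi
  have hQ'v : ∀ x, Q' x = Q (Gi x) := fun x => rfl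
  have hB' : ∀ x y, QuadraticMap.polarBilin Q' x y = B (Gi x) (Gi y) := fun x y => by
    simp [Q', QuadraticMap.polarBilin_apply_apply, QuadraticMap.polar]
  -- the commutator of two Siegel elements at a common singular vector
  have main : ∀ p u v, p ≠ 0 → Q p = 0 → Q' p = 0 → B p u = 0 → B p v = 0 →
      QuadraticMap.polarBilin Q' p u = 0 → QuadraticMap.polarBilin Q' p v = 0 →
      (∃ x, QuadraticMap.polarBilin Q' u v * B p x - B u v * QuadraticMap.polarBilin Q' p x ≠ 0) →
      ∃ a b, Has Q M a b ∧ a ≠ 0 ∧ b ≠ 0 := by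
    intro p u v hp0 hp hp' hpu hpv hpu' hpv' hne
    have hgp : Gi p ≠ 0 := fun e => hp0 (by rw [← hGG' p, e, mulVec_zero])
    have hgpQ : Q (Gi p) = 0 := hp'
    have hgv : B (Gi p) (Gi v) = 0 := by rw [← hB']; exact hpv'
    set s₁ := gsieg Q p u hp hpu
    set s₂ := g * gsieg Q (Gi p) (Gi v) hgpQ hgv * g⁻¹
    have hs₁ : s₁ ∈ M := gsieg_mem hQ h2 hn hS hp hp0 hpu
    have hs₂ : s₂ ∈ M := mul_mem (mul_mem hg (gsieg_mem hQ h2 hn hS hgpQ hgp hgv)) (inv_mem hg)
    have hm1 : ∀ x, (s₁ : Matrix ι ι F) *ᵥ x = x + B p x • u - B u x • p - (Q u * B p x) • p :=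
      gsieg_mulVec hp hpu
    have hm2 : ∀ x, (s₂ : Matrix ι ι F) *ᵥ x = x + QuadraticMap.polarBilin Q' p x • v -
        QuadraticMap.polarBilin Q' v x • p - (Q' v * QuadraticMap.polarBilin Q' p x) • p := by
      intro x
      rw [show (s₂ : Matrix ι ι F) = (g : Matrix ι ι F) * (gsieg Q (Gi p) (Gi v) hgpQ hgv : Matrix ι ι F) *
        ((g⁻¹ : GL ι F) : Matrix ι ι F) by simp [s₂]]
      rw [← mulVec_mulVec, ← mulVec_mulVec, ← hGi, gsieg_mulVec, mulVec_sub, mulVec_sub, mulVec_add, mulVec_smul,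
        mulVec_smul, mulVec_smul, ← hB', ← hB', hGG', hGG', hGG', hQ'v]
    clear_value s₁ s₂
    set φ := QuadraticMap.polarBilin Q' u v • B p - B u v • QuadraticMap.polarBilin Q' p
    obtain ⟨b, hb⟩ : ∃ b, ∀ x, B b x = φ x :=
      ⟨(LinearMap.BilinForm.toDual B hQ).symm φ, fun x => LinearMap.BilinForm.apply_toDual_symm_apply (hB := hQ) φ x⟩
    have hpp : B p p = 0 := by rw [polar_self', hp, mul_zero]
    have hpp' : QuadraticMap.polarBilin Q' p p = 0 := by rw [polar_self', hp', mul_zero]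
    have hφ : ∀ x, φ x = QuadraticMap.polarBilin Q' u v * B p x - B u v * QuadraticMap.polarBilin Q' p x :=
      fun x => by simp [φ]
    have hφp : φ p = 0 := by rw [hφ, hpp, hpp']; ring
    have hbne : b ≠ 0 := by
      rintro rfl
      obtain ⟨x, hx⟩ := hne
      rw [← hφ, ← hb] at hx
      simp at hx
    refine ⟨p, b, ⟨by rw [bv_dot, hb, hφp], ?_⟩, hp0, hbne⟩
    have key : s₁ * s₂ = trGL p (bv Q b) (by rw [bv_dot, hb, hφp]) * (s₂ * s₁) := by
      refine Units.ext (Matrix.ext_iff_mulVec.2 fun x => ?_)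
      rw [Units.val_mul, Units.val_mul, Units.val_mul, ← mulVec_mulVec, ← mulVec_mulVec, ← mulVec_mulVec, hm1, hm2,
        trGL_mulVec, hm2, hm1, bv_dot, hb, hφ]
      simp only [map_add, map_sub, map_smul, smul_eq_mul, hpu, hpv, hpu', hpv', hpp, hpp', polar_symm Q u p,
        polar_symm Q' v p, polar_symm Q' v u, mul_zero, add_zero, sub_zero]
      module
    have e : trGL p (bv Q b) (by rw [bv_dot, hb, hφp]) = s₁ * s₂ * (s₂ * s₁)⁻¹ := by
      rw [key, mul_inv_cancel_right]
    rw [e]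
    exact mul_mem (mul_mem hs₁ hs₂) (inv_mem (mul_mem hs₂ hs₁))
  have hmem : ∀ (R : QuadraticForm F (ι → F)) {p x}, x ∈ perp R ![p] ↔ QuadraticMap.polarBilin R p x = 0 :=
    fun R {p x} => by rw [mem_perp]; simp [Fin.forall_fin_one]
  have hsing' : ∀ p, QuadraticMap.polarBilin Q' p p = 0 → Q' p = 0 := fun p h => by
    rw [polar_self'] at h; exact (mul_eq_zero.1 h).resolve_left h2
  -- a common singular vector which is not an eigenvector
  have noneigen : ∀ p, p ≠ 0 → Q p = 0 → Q' p = 0 →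
      (¬ ∃ c : F, ∀ x, QuadraticMap.polarBilin Q' p x = c * B p x) → ∃ a b, Has Q M a b ∧ a ≠ 0 ∧ b ≠ 0 := by
    intro p hp0 hp hp' hne
    obtain ⟨u, hu, v, hv, huv⟩ : ∃ u ∈ perp Q ![p] ⊓ perp Q' ![p], ∃ v ∈ perp Q ![p] ⊓ perp Q' ![p], B u v ≠ 0 := by
      by_contra hc
      push Not at hc
      have hle : perp Q ![p] ⊓ perp Q' ![p] ≤
          LinearMap.BilinForm.orthogonal B (perp Q ![p] ⊓ perp Q' ![p]) := fun x hx y hy => hc y hy x hx
      have h1 := Submodule.finrank_mono hle
      rw [LinearMap.BilinForm.finrank_orthogonal hQ] at h1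
      have h3 := Submodule.finrank_sup_add_finrank_inf_eq (perp Q ![p]) (perp Q' ![p])
      have := finrank_perp_ge Q ![p]
      have := finrank_perp_ge Q' ![p]
      have := Submodule.finrank_le (perp Q ![p] ⊔ perp Q' ![p])
      omega
    refine main p u v hp0 hp hp' ((hmem Q).1 hu.1) ((hmem Q).1 hv.1) ((hmem Q').1 hu.2) ((hmem Q').1 hv.2) ?_
    by_contra hc
    push Not at hc
    refine hne ⟨QuadraticMap.polarBilin Q' u v / B u v, fun x => ?_⟩
    rw [div_mul_eq_mul_div, eq_div_iff huv]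
    linear_combination -(hc x)
  obtain ⟨p, hp0, hp, hp'⟩ := TensorMaxO.exists_common_zero h2 (hN ▸ hn) Q Q'
  by_cases hc : ∃ c : F, ∀ x, QuadraticMap.polarBilin Q' p x = c * B p x
  swap
  · exact noneigen p hp0 hp hp' hc
  obtain ⟨c, hc⟩ := hc
  -- an eigenvector whose perpendicular space separates the forms
  have eigen : ∀ z, z ≠ 0 → Q z = 0 → Q' z = 0 → (∀ x, QuadraticMap.polarBilin Q' z x = c * B z x) →
      (∃ u v, B z u = 0 ∧ B z v = 0 ∧ QuadraticMap.polarBilin Q' u v ≠ c * B u v) →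
      ∃ a b, Has Q M a b ∧ a ≠ 0 ∧ b ≠ 0 := by
    intro z hz0 hz hz' hzc ⟨u, v, hzu, hzv, huv⟩
    obtain ⟨y, hy⟩ : ∃ y, B z y ≠ 0 := by
      by_contra h; push Not at h; exact hz0 (hQ.1 z h)
    refine main z u v hz0 hz hz' hzu hzv (by rw [hzc, hzu, mul_zero]) (by rw [hzc, hzv, mul_zero]) ⟨y, ?_⟩
    rw [hzc]
    intro e
    exact huv (sub_eq_zero.1 ((mul_eq_zero.1 (show (QuadraticMap.polarBilin Q' u v - c * B u v) * B z y = 0 by
      linear_combination e)).resolve_right hy))
  by_cases hbad : ∃ u v, B p u = 0 ∧ B p v = 0 ∧ QuadraticMap.polarBilin Q' u v ≠ c * B u v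
  · exact eigen p hp0 hp hp' hc hbad
  push Not at hbad
  -- otherwise the forms differ by a form of rank at most two
  obtain ⟨e, hpe⟩ : ∃ e, B p e = 1 := by
    obtain ⟨y, hy⟩ : ∃ y, B p y ≠ 0 := by
      by_contra h; push Not at h; exact hp0 (hQ.1 p h)
    exact ⟨(B p y)⁻¹ • y, by rw [map_smul, smul_eq_mul, inv_mul_cancel₀ hy]⟩
  let Δ : (ι → F) →ₗ[F] (ι → F) →ₗ[F] F := QuadraticMap.polarBilin Q' - c • B
  have hΔ : ∀ x y, Δ x y = QuadraticMap.polarBilin Q' x y - c * B x y := fun x y => by simp [Δ]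
  set τ := Δ e - (2⁻¹ * Δ e e) • B p with hτ
  obtain ⟨r, hr⟩ : ∃ r, ∀ x, B r x = τ x :=
    ⟨(LinearMap.BilinForm.toDual B hQ).symm τ, fun x => LinearMap.BilinForm.apply_toDual_symm_apply (hB := hQ) τ x⟩
  have hΔf : ∀ x y, Δ x y = B p x * B r y + B r x * B p y := by
    intro x y
    have hx : B p (x - B p x • e) = 0 := by rw [map_sub, map_smul, hpe, smul_eq_mul, mul_one, sub_self]
    have hy : B p (y - B p y • e) = 0 := by rw [map_sub, map_smul, hpe, smul_eq_mul, mul_one, sub_self]
    have h := hbad _ _ hx hy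
    simp only [map_sub, map_smul, LinearMap.sub_apply, LinearMap.smul_apply, smul_eq_mul] at h
    rw [polar_symm Q' x e, polar_symm Q x e] at h
    simp only [hr, hτ, LinearMap.sub_apply, LinearMap.smul_apply, smul_eq_mul, hΔ]
    field_simp
    linear_combination 2 * h
  have hr0 : r ≠ 0 := by
    rintro rfl
    refine hgs ⟨c, fun x y => ?_⟩
    have h := hΔf x y
    simp only [map_zero, LinearMap.zero_apply, mul_zero, zero_mul, add_zero, hΔ, sub_eq_zero] at h
    rw [← hGi, ← hGi, ← hB', h]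
  have hrp : B r p = 0 := by
    have := hΔf p e
    rw [hΔ, hc, sub_self, hpe, mul_one, polar_self', hp, mul_zero, zero_mul, zero_add] at this
    exact this.symm
  have hQ'z : ∀ z, Q z = 0 → B p z * B r z = 0 → Q' z = 0 := fun z hz h => hsing' z (by
    have e1 := hΔf z z
    rw [hΔ, polar_self' Q z, hz] at e1
    linear_combination e1 + 2 * h)
  by_cases hrk : r ∈ Submodule.span F {p}
  · obtain ⟨k, rfl⟩ := Submodule.mem_span_singleton.1 hrk
    have hk : k ≠ 0 := fun e => hr0 (by rw [e, zero_smul])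
    obtain ⟨y₁, hy₁, hy₁n⟩ : ∃ y ∈ perp Q ![p], y ∉ Submodule.span F {p} := by
      by_contra! hle
      have h1 := (Submodule.finrank_mono (s := perp Q ![p]) hle).trans_eq (finrank_span_singleton hp0)
      have := finrank_perp_ge Q ![p]
      omega
    obtain ⟨f, hfy, hfp⟩ := Submodule.exists_dual_map_eq_bot_of_notMem hy₁n inferInstance
    obtain ⟨z, hz, hzQ, hfz⟩ := exists_singular_outside hQ h2 (U := perp Q ![p])
      (by have := finrank_perp_ge Q ![p]; omega) (f := f) ⟨y₁, hy₁, hfy⟩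
    have hpz : B p z = 0 := (hmem Q).1 hz
    have hz0 : z ≠ 0 := fun e => hfz (by rw [e, map_zero])
    obtain ⟨u, hzu, hpu⟩ : ∃ u, B z u = 0 ∧ B p u ≠ 0 := by
      by_contra hall
      push Not at hall
      have hmem' : p ∈ Submodule.span F {z} := by
        obtain ⟨y, hy⟩ : ∃ y, B z y ≠ 0 := by
          by_contra h; push Not at h; exact hz0 (hQ.1 z h)
        refine Submodule.mem_span_singleton.2 ⟨B p y / B z y, (sub_eq_zero.1 (hQ.1 _ fun w => ?_)).symm⟩
        have := hall (w - (B z w / B z y) • y) (by rw [map_sub, map_smul, smul_eq_mul, div_mul_cancel₀ _ hy, sub_self])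
        rw [map_sub, map_smul, smul_eq_mul, sub_eq_zero] at this
        rw [map_sub, map_smul, LinearMap.sub_apply, LinearMap.smul_apply, smul_eq_mul, this]
        field_simp
        ring
      obtain ⟨t, ht⟩ := Submodule.mem_span_singleton.1 hmem'
      have hfp0 : f p = 0 := (Submodule.mem_bot F).1
        (hfp ▸ Submodule.mem_map_of_mem (Submodule.mem_span_singleton_self p))
      rcases eq_or_ne t 0 with rfl | ht0
      · exact hp0 (by rw [← ht, zero_smul])
      · refine hfz ?_
        rw [← ht, map_smul, smul_eq_mul] at hfp0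
        exact (mul_eq_zero.1 hfp0).resolve_left ht0
    refine eigen z hz0 hzQ (hQ'z z hzQ (by rw [hpz, zero_mul])) (fun x => ?_) ⟨u, u, hzu, hzu, ?_⟩
    · refine sub_eq_zero.1 ((hΔ z x).symm.trans ((hΔf z x).trans ?_))
      rw [map_smul, LinearMap.smul_apply, LinearMap.smul_apply, hpz]
      simp
    · intro e
      have h := hΔf u u
      rw [hΔ, e, sub_self, map_smul, LinearMap.smul_apply, smul_eq_mul] at h
      exact mul_ne_zero (mul_ne_zero h2 hk) (mul_ne_zero hpu hpu) (by linear_combination -h)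
  · obtain ⟨z, hz, hzQ, hpz⟩ := exists_singular_outside hQ h2 (U := perp Q ![r])
      (by have := finrank_perp_ge Q ![r]; omega) (f := B p) (by
        by_contra hall
        push Not at hall
        obtain ⟨y, hy⟩ : ∃ y, B r y ≠ 0 := by
          by_contra h; push Not at h; exact hr0 (hQ.1 r h)
        have hrel : p = (B p y / B r y) • r := sub_eq_zero.1 (hQ.1 _ fun w => by
          have := hall (w - (B r w / B r y) • y) ((hmem Q).2
            (by rw [map_sub, map_smul, smul_eq_mul, div_mul_cancel₀ _ hy, sub_self]))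
          rw [map_sub, map_smul, smul_eq_mul, sub_eq_zero] at this
          rw [map_sub, map_smul, LinearMap.sub_apply, LinearMap.smul_apply, smul_eq_mul, this]
          field_simp
          ring)
        refine hrk (Submodule.mem_span_singleton.2 ⟨(B p y / B r y)⁻¹, ?_⟩)
        have ht : B p y / B r y ≠ 0 := fun e => hp0 (by rw [hrel, e, zero_smul])
        calc (B p y / B r y)⁻¹ • p = (B p y / B r y)⁻¹ • ((B p y / B r y) • r) := by rw [← hrel]
          _ = r := inv_smul_smul₀ ht r)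
    have hrz : B r z = 0 := (hmem Q).1 hz
    have hz0 : z ≠ 0 := fun e => hpz (by rw [e, map_zero])
    refine noneigen z hz0 hzQ (hQ'z z hzQ (by rw [hrz, mul_zero])) ?_
    rintro ⟨c', hc'⟩
    have key : (c' - c) • z = B p z • r := sub_eq_zero.1 (hQ.1 _ fun x => by
      have h := hΔf z x
      rw [hΔ, hc', hrz] at h
      simp only [map_sub, map_smul, LinearMap.sub_apply, LinearMap.smul_apply, smul_eq_mul]
      linear_combination h)
    have h3 := congrArg (B p) key
    rw [map_smul, map_smul, polar_symm Q p r, hrp, smul_zero, smul_eq_mul, mul_eq_zero] at h3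
    have hcc : c' - c = 0 := h3.resolve_right hpz
    rw [hcc, zero_smul] at key
    exact hr0 ((smul_eq_zero.1 key.symm).resolve_left hpz)

end CfsgLib.Classical.SimMax
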