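import Cfsg.Agent.Lib.Classical.RootPairThree

/-!
# Pairs of complementary totally isotropic subspaces of dimension four in a hermitian space
-/

set_option autoImplicit false
set_option linter.unusedSectionVars false

open Module

namespace CfsgLib.Classical

variable {F : Type*} [Field F] {V : Type*} [AddCommGroup V] [Module F V] {σ : F →+* F}
  {B : V →ₛₗ[σ] V →ₗ[F] F} {e : F}

namespace IsoPair

variable {U W : Submodule F V} (hP : IsoPair B U W) (h : IsEpsForm B e) [Finite F] [FiniteDimensional F V]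
  {M : Subgroup (isomGroup B)}
include hP h

/-- The commutator step; when it has no room, both pairs of components are orthogonal. -/
theorem exists_radical_four (he1 : e = -1) (hM : ∀ d ∈ U, ∀ y ∈ W, RootIn e M d y 0) (hk : 4 ≤ finrank F U)
    {aU aW bU bW : V} (haU : aU ∈ U) (haW : aW ∈ W) (hbU : bU ∈ U) (hbW : bW ∈ W)
    (ha : B (aU + aW) (aU + aW) = 0) (hab : B (aU + aW) (bU + bW) = 0) (hbb : B (bU + bW) (bU + bW) = 0)
    (ha0 : aU ≠ 0) (ha0' : aW ≠ 0) (hne : bU ∉ F ∙ aU) (hs : ∀ l : F, RootIn e M (aU + aW) (l • (bU + bW)) 0) :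
    (∃ d ∈ U, ∃ u ∈ U, ∃ t, d ≠ 0 ∧ u ∉ F ∙ d ∧ σ t - e * t = 0 ∧ RootIn e M d u t) ∨
      (∃ d ∈ W, ∃ u ∈ W, ∃ t, d ≠ 0 ∧ u ∉ F ∙ d ∧ σ t - e * t = 0 ∧ RootIn e M d u t) := by
  classical
  by_cases hd : ∃ d, (d ∈ U ∧ B aW d = 0 ∧ B bW d = 0) ∧ d ∉ Submodule.span F {aU, bU}
  · obtain ⟨d, ⟨hdU, hda, hdb⟩, hdS⟩ := hd
    refine Or.inl (hP.exists_radical_at h hM haU haW hbU hbW ha hab (s := 0) (by rw [hbb]; simp) ha0 hne ?_ hdU hda hdb
      hdS)
    simpa using hs 1
  push Not at hd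
  refine Or.inr ?_
  set φ := (B aW).prod (B bW) with hφ
  set L := Submodule.span F ({aU, bU} : Set V) with hL
  have hle : U ⊓ φ.ker ≤ L := fun x hx => by
    have h2 : φ x = 0 := hx.2
    simp only [hφ, LinearMap.prod_apply, Function.prod, Prod.mk_eq_zero] at h2
    exact hd x ⟨hx.1, h2.1, h2.2⟩
  have hLdim : finrank F L ≤ 2 := by
    have h7 := finrank_span_finset_le_card (R := F) ({aU, bU} : Finset V)
    have h8 := Finset.card_le_two (a := aU) (b := bU)
    rw [Finset.coe_pair, Set.finrank] at h7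
    rw [hL]; omega
  have hdims : finrank F U + finrank F φ.ker ≤ finrank F (U ⊓ φ.ker : Submodule F V) + finrank F V ∧
      finrank F V ≤ finrank F φ.ker + 2 := by
    have h2 := LinearMap.finrank_range_add_finrank_ker φ
    have h3 := φ.range.finrank_le
    have h5 := Submodule.finrank_sup_add_finrank_inf_eq U φ.ker
    have h6 := (U ⊔ φ.ker).finrank_le
    rw [finrank_prod, finrank_self] at h3
    omega
  have hge : L ≤ U ⊓ φ.ker := (Submodule.eq_of_le_of_finrank_le hle (by omega)).ge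
  have hin : ∀ x ∈ L, B aW x = 0 ∧ B bW x = 0 := fun x hx => by
    have h2 : φ x = 0 := (hge hx).2
    simpa [hφ] using h2
  obtain ⟨hAa, hBa⟩ := hin aU (Submodule.subset_span (by simp))
  obtain ⟨hAb, hBb⟩ := hin bU (Submodule.subset_span (by simp))
  have hbw : bW ∉ F ∙ aW := fun hm => by
    obtain ⟨c, hc⟩ := Submodule.mem_span_singleton.1 hm
    have hle' : U ⊓ (B aW).ker ≤ U ⊓ φ.ker := fun x hx => by
      refine ⟨hx.1, ?_⟩
      have h2 : B aW x = 0 := hx.2
      rw [← hc] at hφ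
      simp [hφ, h2]
    have h1 := Submodule.finrank_mono (hle'.trans hle)
    have h2 := LinearMap.finrank_range_add_finrank_ker (B aW)
    have h3 := (B aW).range.finrank_le
    have h5 := Submodule.finrank_sup_add_finrank_inf_eq U (B aW).ker
    have h6 := (U ⊔ (B aW).ker).finrank_le
    rw [finrank_self] at h3
    omega
  have hbW0 : bW ≠ 0 := fun e0 => hbw (e0 ▸ Submodule.zero_mem _)
  have hneU : aU ∉ F ∙ bU := fun hm => by
    obtain ⟨c, hc⟩ := Submodule.mem_span_singleton.1 hm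
    have hc0 : c ≠ 0 := fun e0 => ha0 (by rw [← hc, e0, zero_smul])
    exact hne (Submodule.mem_span_singleton.2 ⟨c⁻¹, by rw [← hc, inv_smul_smul₀ hc0]⟩)
  by_cases hneW : aW ∈ F ∙ bW
  · obtain ⟨c, hc⟩ := Submodule.mem_span_singleton.1 hneW
    rcases eq_or_ne c 0 with rfl | hc0
    · exact absurd (by rw [← hc, zero_smul]) ha0'
    · exact absurd (Submodule.mem_span_singleton.2 ⟨c⁻¹, by rw [← hc, inv_smul_smul₀ hc0]⟩) hbw
  exact hP.radical_of_split h he1 hM haU haW hbU hbW (h.orth_symm' hAa) (h.orth_symm' hBa) (h.orth_symm' hAb) hbb hneU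
    hneW hbW0 hs

/-- A vector with mixed image produces a radical element on one of the two sides, in dimension four. -/
theorem exists_radical_of_mixed_four (he1 : e = -1) (hM : ∀ d ∈ U, ∀ y ∈ W, RootIn e M d y 0)
    (hk : 4 ≤ finrank F U) {g : isomGroup B} (hg : g ∈ M) {d : V} (hd : d ∈ U)
    (h1 : g.1 d ∉ U) (h2 : g.1 d ∉ W) :
    (∃ d ∈ U, ∃ u ∈ U, ∃ t, d ≠ 0 ∧ u ∉ F ∙ d ∧ σ t - e * t = 0 ∧ RootIn e M d u t) ∨
      (∃ d ∈ W, ∃ u ∈ W, ∃ t, d ≠ 0 ∧ u ∉ F ∙ d ∧ σ t - e * t = 0 ∧ RootIn e M d u t) := by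
  obtain ⟨aU, haU, aW, haW, ha⟩ := hP.decomp (g.1 d)
  have ha0 : aU ≠ 0 := fun h' => h2 (by rw [← ha, h', zero_add]; exact haW)
  have ha0' : aW ≠ 0 := fun h' => h1 (by rw [← ha, h', add_zero]; exact haU)
  have hk' : 4 ≤ finrank F W := hP.dim ▸ hk
  obtain ⟨y, hy, hdy, hout⟩ : ∃ y ∈ W, B d y = 0 ∧ g.1 y ∉ (F ∙ aU) ⊔ (F ∙ aW) := by
    by_contra! hall
    set K := W ⊓ (B d).ker
    have h1 : K.map (g.1 : V →ₗ[F] V) ≤ (F ∙ aU) ⊔ (F ∙ aW) := by
      rintro _ ⟨y, hy, rfl⟩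
      exact hall y hy.1 hy.2
    have h2 := Submodule.finrank_mono h1
    have h3 := Submodule.finrank_add_le_finrank_add_finrank (F ∙ aU) (F ∙ aW)
    rw [LinearEquiv.finrank_map_eq] at h2
    rw [finrank_span_singleton ha0, finrank_span_singleton ha0'] at h3
    have h5 := Submodule.finrank_sup_add_finrank_inf_eq W (B d).ker
    have h6 := (W ⊔ (B d).ker).finrank_le
    have h7 := LinearMap.finrank_range_add_finrank_ker (B d)
    have h8 := (B d).range.finrank_le
    rw [finrank_self] at h8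
    change _ + finrank F K = _ at h5
    omega
  obtain ⟨bU, hbU, bW, hbW, hb⟩ := hP.decomp (g.1 y)
  have hBa : B (aU + aW) (aU + aW) = 0 := by rw [ha, isomGroup_apply]; exact hP.left d hd d hd
  have hab : B (aU + aW) (bU + bW) = 0 := by rw [ha, hb, isomGroup_apply]; exact hdy
  have hbb : B (bU + bW) (bU + bW) = 0 := by rw [hb, isomGroup_apply, hP.right y hy y hy]
  have hs : ∀ l : F, RootIn e M (aU + aW) (l • (bU + bW)) 0 := fun l => by
    rw [ha, hb, ← map_smul]; exact RootIn.conj (hM d hd _ (W.smul_mem l hy)) hg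
  by_cases hbu : bU ∈ F ∙ aU
  · have hbw : bW ∉ F ∙ aW := fun hbw => hout (hb ▸ Submodule.add_mem_sup hbu hbw)
    exact (hP.symm.exists_radical_four h he1 (fun d' hd' y' hy' => hP.rootIn_symm hM h hd' hy') hk' haW haU hbW hbU
      (by rw [add_comm aW]; exact hBa) (by rw [add_comm aW, add_comm bW]; exact hab)
      (by rw [add_comm bW]; exact hbb) ha0' ha0 hbw fun l => by rw [add_comm aW, add_comm bW]; exact hs l).symm
  · exact hP.exists_radical_four h he1 hM hk haU haW hbU hbW hBa hab hbb ha0 ha0' hbu hs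

end IsoPair

namespace IsEpsForm

variable [Finite F] [FiniteDimensional F V]

/-- The stabiliser of a pair of complementary totally isotropic subspaces is maximal: every axis is reached,
for subspaces of dimension four in a hermitian space. -/
theorem pair_axes_four (h : IsEpsForm B e) (he1 : e = -1) {U W : Submodule F V} (hP : IsoPair B U W) (hk : 4 ≤ finrank F U)
    {S M : Subgroup (isomGroup B)} (hS : ∀ g a b c, IsRt e g a b c → B b b = 0 → g ∈ S)
    (hM : ∀ g ∈ S, (U.map (g.1 : V →ₗ[F] V) = U ∧ W.map (g.1 : V →ₗ[F] V) = W) ∨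
      (U.map (g.1 : V →ₗ[F] V) = W ∧ W.map (g.1 : V →ₗ[F] V) = U) → g ∈ M)
    {g : isomGroup B} (hg : g ∈ M)
    (hgU : ¬ ((U.map (g.1 : V →ₗ[F] V) = U ∧ W.map (g.1 : V →ₗ[F] V) = W) ∨
      (U.map (g.1 : V →ₗ[F] V) = W ∧ W.map (g.1 : V →ₗ[F] V) = U))) :
    ∀ (v : V) (c : F), RootIn e M v 0 c := by
  have hM' : ∀ d ∈ U, ∀ y ∈ W, RootIn e M d y 0 := fun d hd y hy x hx =>
    hM x (hS x d y 0 hx (hP.right y hy y hy)) (Or.inl (hP.rt_stab h hd hy hx))
  have hk' : 4 ≤ finrank F W := hP.dim ▸ hk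
  have hMs : ∀ d ∈ W, ∀ y ∈ U, RootIn e M d y 0 := fun d hd y hy => hP.rootIn_symm hM' h hd hy
  obtain ⟨t, htS, htU, htW⟩ := hP.exists_swap h (S := S) fun g a c hg => hS g a 0 c hg (by simp)
  have htM : t ∈ M := hM t htS (Or.inr ⟨htU, htW⟩)
  have pure : ∀ (A : Submodule F V), finrank F A = finrank F U →
      (∀ d ∈ A, g.1 d ∈ U ∨ g.1 d ∈ W) → A.map (g.1 : V →ₗ[F] V) = U ∨ A.map (g.1 : V →ₗ[F] V) = W := by
    intro A hA hp
    by_cases hc : A.map (g.1 : V →ₗ[F] V) ≤ U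
    · exact Or.inl (Submodule.eq_of_le_of_finrank_eq hc (by rw [LinearEquiv.finrank_map_eq, hA]))
    refine Or.inr (Submodule.eq_of_le_of_finrank_eq ?_ (by rw [LinearEquiv.finrank_map_eq, hA, hP.dim]))
    obtain ⟨_, ⟨x, hx, rfl⟩, hxU⟩ := SetLike.not_le_iff_exists.1 hc
    rintro _ ⟨y, hy, rfl⟩
    rcases hp y hy with h1 | h1
    swap
    · exact h1
    have h2 := (hp x hx).resolve_left hxU
    rcases hp (x + y) (A.add_mem hx hy) with h3 | h3
    · exact absurd (by rw [map_add] at h3; simpa using U.sub_mem h3 h1) hxU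
    · rw [map_add] at h3; simpa using W.sub_mem h3 h2
  have hrad : (∃ d ∈ U, ∃ u ∈ U, ∃ t, d ≠ 0 ∧ u ∉ F ∙ d ∧ σ t - e * t = 0 ∧ RootIn e M d u t) ∨
      (∃ d ∈ W, ∃ u ∈ W, ∃ t, d ≠ 0 ∧ u ∉ F ∙ d ∧ σ t - e * t = 0 ∧ RootIn e M d u t) := by
    by_contra hnone
    have hA : ∀ d ∈ U, g.1 d ∈ U ∨ g.1 d ∈ W := fun d hd => by
      by_contra hc
      push Not at hc
      exact hnone (hP.exists_radical_of_mixed_four h he1 hM' hk hg hd hc.1 hc.2)
    have hB : ∀ d ∈ W, g.1 d ∈ U ∨ g.1 d ∈ W := fun d hd => by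
      by_contra hc
      push Not at hc
      exact hnone (Or.symm (hP.symm.exists_radical_of_mixed_four h he1 hMs hk' hg hd hc.2 hc.1))
    have hinj : U.map (g.1 : V →ₗ[F] V) ≠ W.map (g.1 : V →ₗ[F] V) := fun e' => by
      have e'' : U = W := Submodule.map_injective_of_injective g.1.injective e'
      have := hP.inf
      rw [← e'', inf_idem] at this
      rw [this, finrank_bot] at hk
      omega
    rcases pure U rfl hA with h1 | h1 <;> rcases pure W hP.dim.symm hB with h2 | h2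
    · exact hinj (h1.trans h2.symm)
    · exact hgU (Or.inl ⟨h1, h2⟩)
    · exact hgU (Or.inr ⟨h1, h2⟩)
    · exact hinj (h1.trans h2.symm)
  exact h.pair_axes_of_radical hP (by omega) hS hM hrad

end IsEpsForm

end CfsgLib.Classical
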