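import Cfsg.Agent.Lib.Classical.RootPair

/-!
# Pairs of complementary totally isotropic subspaces of dimension three in a hermitian space
-/

set_option autoImplicit false
set_option linter.unusedSectionVars false

open Module

namespace CfsgLib.Classical

variable {F : Type*} [Field F] {V : Type*} [AddCommGroup V] [Module F V] {σ : F →+* F}
  {B : V →ₛₗ[σ] V →ₗ[F] F} {e : F}

namespace IsoPair

variable {U W : Submodule F V} (hP : IsoPair B U W) (h : IsEpsForm B e) [Finite F] [FiniteDimensional F V]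
  {M : Subgroup (isomGroup B)}
include hP h

/-- A pure vector in the image gives a radical element. -/
theorem radical_of_pure (hM : ∀ d ∈ W, ∀ y ∈ U, RootIn e M d y 0) {aU aW w : V} (haU : aU ∈ U) (haW : aW ∈ W)
    (hw : w ∈ W) (ha : B (aU + aW) (aU + aW) = 0) (haw : B (aU + aW) w = 0) (hne : w ∉ F ∙ aW) (ha0 : aW ≠ 0)
    (hs : RootIn e M (aU + aW) w 0) :
    ∃ d ∈ W, ∃ u ∈ W, ∃ t, d ≠ 0 ∧ u ∉ F ∙ d ∧ σ t - e * t = 0 ∧ RootIn e M d u t := by
  have hw0 : w ≠ 0 := fun e0 => hne (e0 ▸ Submodule.zero_mem _)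
  have hww := hP.right w hw w hw
  have he : e ≠ 0 := fun h0 => by have := h.sq; simp [h0] at this
  have hwA : B w (aU + aW) = 0 := h.orth_symm' haw
  have hwU : B w aU = 0 := by
    rw [map_add, hP.right w hw aW haW, add_zero] at hwA; exact hwA
  have h1 : RootIn e M w (e • (aU + aW)) 0 := fun g hg => by
    refine hs g ?_
    have := h.rt_swap (l := 1) hww (d := w) (a := aU + aW) (g := g) ?_ ha one_ne_zero
    · rwa [one_smul] at this
    · rwa [map_one, mul_one]
  have hww' : -(e • aU) ∈ U := U.neg_mem (U.smul_mem _ haU)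
  have hsum : B aU aW + B aW aU = 0 := by
    simpa [hP.left aU haU aU haU, hP.right aW haW aW haW] using ha
  refine ⟨w, hw, e • aW, W.smul_mem _ haW, 0 + 0 + e * B (e • (aU + aW)) (-(e • aU)), hw0, fun h' => ?_, ?_, ?_⟩
  · obtain ⟨t, ht⟩ := Submodule.mem_span_singleton.1 h'
    have ht0 : t ≠ 0 := fun e0 => smul_ne_zero he ha0 (by rw [← ht, e0, zero_smul])
    exact hne (Submodule.mem_span_singleton.2 ⟨t⁻¹ * e, by rw [mul_smul, ← ht, inv_smul_smul₀ ht0]⟩)
  · have hsum' := hsum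
    simp only [zero_add, map_smul, map_smulₛₗ, map_neg, map_add, map_mul, LinearMap.smul_apply, LinearMap.add_apply,
      LinearMap.neg_apply, smul_eq_mul, h.fix, hP.left aU haU aU haU, h.sigma_form, add_zero]
    linear_combination hsum' * e ^ 4
  · have h4 := h.rootIn_add hww (by rw [map_smul, hwA, smul_zero]) (s := 0)
      (by rw [LinearMap.map_smulₛₗ B, LinearMap.smul_apply, map_smul, ha]; simp)
      (c := -(e • aU)) (by rw [map_neg, map_smul, hwU, smul_zero, neg_zero]) (s' := 0) (by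
        simp [hP.left aU haU aU haU]) h1 (hM w hw _ hww')
    convert h4 using 1
    module

/-- The case in which both components lie in the image. -/
theorem radical_of_split (he1 : e = -1) (hM : ∀ d ∈ U, ∀ y ∈ W, RootIn e M d y 0) {aU aW bU bW : V} (haU : aU ∈ U)
    (haW : aW ∈ W) (hbU : bU ∈ U) (hbW : bW ∈ W) (haa : B aU aW = 0) (hab : B aU bW = 0) (hba : B bU aW = 0)
    (hbb : B (bU + bW) (bU + bW) = 0) (hneU : aU ∉ F ∙ bU) (hneW : aW ∉ F ∙ bW) (hbW0 : bW ≠ 0)
    (hs : ∀ l : F, RootIn e M (aU + aW) (l • (bU + bW)) 0) :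
    ∃ d ∈ W, ∃ u ∈ W, ∃ t, d ≠ 0 ∧ u ∉ F ∙ d ∧ σ t - e * t = 0 ∧ RootIn e M d u t := by
  subst he1
  have hMs : ∀ d ∈ W, ∀ y ∈ U, RootIn (-1 : F) M d y 0 := fun d hd y hy => hP.rootIn_symm hM h hd hy
  have haa' := h.orth_symm' haa
  have hab' := h.orth_symm' hab
  have hba' := h.orth_symm' hba
  set a := aU + aW with hadef
  set b := bU + bW with hbdef
  have haa0 : B a a = 0 := by simp [hadef, hP.left aU haU aU haU, hP.right aW haW aW haW, haa, haa']
  have hbA : B b a = 0 := by simp [hadef, hbdef, hP.left bU hbU aU haU, hP.right bW hbW aW haW, hba, hab']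
  -- the auxiliary vectors
  obtain ⟨u₃, hu₃, hu₃b, hu₃a⟩ := hP.symm.exists_partner h ((Submodule.span_singleton_le_iff_mem _ _).2 hbW) haW
    hneW 1
  have hu₃b' : B u₃ bW = 0 := hu₃b _ (Submodule.mem_span_singleton_self _)
  have hnot : aU ∉ Submodule.span F {bU, u₃} := fun hm => by
    obtain ⟨p, q, e'⟩ := Submodule.mem_span_pair.1 hm
    have e2 := congrArg (fun x => B x aW) e'
    simp only [map_add, map_smulₛₗ, LinearMap.add_apply, LinearMap.smul_apply, hba, hu₃a, haa, smul_eq_mul, mul_one,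
      mul_zero, zero_add] at e2
    refine hneU (Submodule.mem_span_singleton.2 ⟨p, ?_⟩)
    rw [← e', show q = 0 by rw [← h.invol q, e2, map_zero], zero_smul, add_zero]
  obtain ⟨w₁, hw₁, hw₁0, hw₁a⟩ := hP.exists_partner h
    (show Submodule.span F {bU, u₃} ≤ U from Submodule.span_le.2 (by simp [Set.insert_subset_iff, hbU, hu₃]))
    haU hnot (-1)
  have hw₁b : B w₁ bU = 0 := hw₁0 _ (Submodule.subset_span (by simp))
  have hw₁u : B w₁ u₃ = 0 := hw₁0 _ (Submodule.subset_span (by simp))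
  obtain ⟨k₁, hk₁⟩ := h.exists_rt (hP.left u₃ hu₃ u₃ hu₃) (h.orth_symm' hw₁u) (s := 0)
    (by simp [hP.right w₁ hw₁ w₁ hw₁])
  have hk₁M : k₁ ∈ M := hM u₃ hu₃ w₁ hw₁ k₁ hk₁
  have hk₁U : ∀ x ∈ U, k₁.1 x = x + (-B w₁ x) • u₃ := fun x hx => by
    rw [hk₁.2.2.2, hP.left u₃ hu₃ x hx]; simp
  have hk₁W : ∀ x ∈ W, k₁.1 x = x + B u₃ x • w₁ := fun x hx => by
    rw [hk₁.2.2.2, hP.right w₁ hw₁ x hx]; simp
  have hk₁b : k₁.1 b = b := by
    rw [hbdef, map_add, hk₁U bU hbU, hk₁W bW hbW, hw₁b, hu₃b']; simp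
  have hk₁a : k₁.1 a = a + (u₃ + w₁) := by
    rw [hadef, map_add, hk₁U aU haU, hk₁W aW haW, hw₁a, hu₃a]; simp; abel
  obtain ⟨l, hl⟩ : ∃ l : F, σ l - l ≠ 0 := by
    obtain ⟨δ, hδ0, hδ⟩ := h.anti
    obtain ⟨μ, hμ⟩ := h.trace
    by_contra! hall
    have e1 := hall δ
    have h2 : (2 : F) * δ = 0 := by linear_combination -e1 + hδ
    have h2' : (2 : F) = 0 := (mul_eq_zero.1 h2).resolve_right hδ0
    exact hμ (by linear_combination hall μ + μ * h2')
  set δ := σ l - l with hδdef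
  obtain ⟨k₃, hk₃⟩ := h.exists_rt (a := l • aU) (b := aW) (by simp [hP.left aU haU aU haU])
    (by simp [haa]) (s := 0) (by simp [hP.right aW haW aW haW])
  have hk₃M : k₃ ∈ M := hM _ (U.smul_mem _ haU) aW haW k₃ hk₃
  have hk₃U : ∀ x ∈ U, k₃.1 x = x + (-B aW x) • (l • aU) := fun x hx => by
    rw [hk₃.2.2.2, map_smulₛₗ, LinearMap.smul_apply, hP.left aU haU x hx]; simp
  have hk₃W : ∀ x ∈ W, k₃.1 x = x + (σ l * B aU x) • aW := fun x hx => by
    rw [hk₃.2.2.2, hP.right aW haW x hx]; simp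
  have hk₃b : k₃.1 b = b := by
    rw [hbdef, map_add, hk₃U bU hbU, hk₃W bW hbW, hba', hab]; simp
  have hau₃ : B aW u₃ = 1 := by rw [h.swap u₃ aW, hu₃a, map_one]; simp
  have haw₁ : B aU w₁ = -1 := by rw [h.swap w₁ aU, hw₁a, map_neg, map_one]; simp
  -- the root elements at `b`
  have hrt : ∀ p : F, RootIn (-1 : F) M b (p • a) 0 := fun p g hg => by
    rcases eq_or_ne p 0 with rfl | hp
    · rw [zero_smul] at hg
      rw [hg.unique (h.rt_one hbb)]; exact M.one_mem
    refine hs (-σ p) g (h.rt_swap (d := b) (l := -σ p) hbb ?_ haa0 (neg_ne_zero.2 fun e0 => hp ?_))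
    · rwa [map_neg, h.invol, neg_one_mul, neg_neg]
    · rw [← h.invol p, e0, map_zero]
  have hiso : ∀ {x : V}, B x x = 0 → σ (0 : F) - (-1) * 0 + B x x = 0 := fun hx => by simp [hx]
  set x₁ := k₁.1 a with hx₁
  set x₃ := k₃.1 x₁ with hx₃
  have hx₁s : RootIn (-1 : F) M b x₁ 0 := by
    have := RootIn.conj (hrt 1) hk₁M
    rwa [one_smul, hk₁b] at this
  have hx₃s : RootIn (-1 : F) M b x₃ 0 := by
    have := RootIn.conj hx₁s hk₃M
    rwa [hk₃b] at this
  have hbx₁ : B b x₁ = 0 := by rw [hx₁, ← hk₁b, isomGroup_apply, hbA]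
  have hbx₃ : B b x₃ = 0 := by rw [hx₃, ← hk₃b, isomGroup_apply, hbx₁]
  have hx₁₁ : B x₁ x₁ = 0 := by rw [hx₁, isomGroup_apply, haa0]
  have hx₃₃ : B x₃ x₃ = 0 := by rw [hx₃, isomGroup_apply, hx₁₁]
  have hd := h.rootIn_add hbb hbx₁ (hiso hx₁₁) (by rw [map_neg, hbx₃, neg_zero]) (c := -x₃)
    (s' := -0 + (-1) * B x₃ x₃) (by rw [hx₃₃]; simp [hx₃₃]) hx₁s
    (h.rootIn_neg hbb hbx₃ (hiso hx₃₃) hx₃s)
  have hdiff : x₁ + -x₃ = l • aU + σ l • aW := by
    rw [hx₃, show x₁ = a + (u₃ + w₁) from hk₁a, hadef]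
    simp only [map_add, hk₃U aU haU, hk₃W aW haW, hk₃U u₃ hu₃, hk₃W w₁ hw₁, haa, haa', hau₃, haw₁]
    simp only [neg_zero, zero_smul, add_zero, mul_zero]
    module
  rw [hdiff, hx₃₃] at hd
  set s₁ := (0 : F) + (-0 + (-1) * 0) + (-1) * B x₁ (-x₃) with hs₁def
  have hΔΔ : B (l • aU + σ l • aW) (l • aU + σ l • aW) = 0 := by
    simp [map_smulₛₗ, hP.left aU haU aU haU, hP.right aW haW aW haW, haa, haa']
  have hs₁ : σ s₁ - (-1) * s₁ = 0 := by
    have e1 : B x₁ x₃ + B x₃ x₁ = 0 := by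
      have e2 := hΔΔ
      rw [← hdiff] at e2
      simp only [map_add, map_neg, LinearMap.add_apply, LinearMap.neg_apply, hx₁₁, hx₃₃] at e2
      linear_combination -e2
    rw [hs₁def]
    simp only [zero_add, neg_zero, mul_zero, map_mul, map_neg, map_one, h.sigma_form]
    linear_combination e1
  have hbΔ : B b (l • aU + σ l • aW) = 0 := by
    rw [← hdiff, map_add, map_neg, hbx₁, hbx₃, neg_zero, add_zero]
  have hla : B b (-l • a) = 0 := by rw [map_smul, hbA, smul_zero]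
  have hw := h.rootIn_add hbb hbΔ (by rw [hs₁, hΔΔ, add_zero]) hla (hiso (by simp [haa0])) hd (hrt (-l))
  rw [show l • aU + σ l • aW + -l • a = δ • aW by rw [hadef, hδdef]; module,
    show s₁ + 0 + -1 * B (l • aU + σ l • aW) (-l • a) = s₁ by
      simp [hadef, map_smulₛₗ, hP.left aU haU aU haU, hP.right aW haW aW haW, haa, haa']] at hw
  have hWW : ∀ x ∈ W, σ s₁ - (-1) * s₁ + B x x = 0 := fun x hx => by rw [hs₁, hP.right x hx x hx, add_zero]
  have hδW : δ • aW ∈ W := W.smul_mem _ haW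
  have hbδ : B b (δ • aW) = 0 := by
    simp [hbdef, hba, hP.right bW hbW aW haW]
  have hk₁δ : k₁.1 (δ • aW) = δ • aW + δ • w₁ := by rw [map_smul, hk₁W aW haW, hu₃a, one_smul, smul_add]
  have hw' := RootIn.conj hw hk₁M
  rw [hk₁b, hk₁δ] at hw'
  have hsum : δ • aW + δ • w₁ ∈ W := W.add_mem hδW (W.smul_mem _ hw₁)
  have hbsum : B b (δ • aW + δ • w₁) = 0 := by
    simp [hbdef, hba, h.orth_symm' hw₁b, hP.right bW hbW aW haW, hP.right bW hbW w₁ hw₁]
  have hw'' := h.rootIn_add hbb hbsum (hWW _ hsum) (by rw [map_neg, hbδ, neg_zero]) (c := -(δ • aW))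
    (s' := -s₁ + (-1) * B (δ • aW) (δ • aW)) (by
      rw [hP.right _ hδW _ hδW, mul_zero, add_zero, hP.right _ (W.neg_mem hδW) _ (W.neg_mem hδW), map_neg]
      linear_combination -hs₁) hw' (h.rootIn_neg hbb hbδ (hWW _ hδW) hw)
  rw [show δ • aW + δ • w₁ + -(δ • aW) = δ • w₁ by abel, hP.right _ hδW _ hδW,
    hP.right _ hsum _ (W.neg_mem hδW)] at hw''
  simp only [mul_zero, add_zero, add_neg_cancel] at hw''
  -- back to the radical
  set c := -1 * σ δ with hcdef
  have hc0 : c ≠ 0 := mul_ne_zero (neg_ne_zero.2 one_ne_zero) fun e0 => hl (by rw [← h.invol δ, e0, map_zero])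
  have hw₁w₁ := hP.right w₁ hw₁ w₁ hw₁
  have h1 : RootIn (-1 : F) M w₁ (c • b) 0 := fun g hg => hw'' g (h.rt_swap hw₁w₁ hg hbb hl)
  have hw₁B : B w₁ b = 0 := by rw [hbdef, map_add, hw₁b, hP.right w₁ hw₁ bW hbW, add_zero]
  have h4 := h.rootIn_add hw₁w₁ (by rw [map_smul, hw₁B, smul_zero]) (s := 0) (by simp [hbb])
    (c := -(c • bU)) (by rw [map_neg, map_smul, hw₁b, smul_zero, neg_zero]) (s' := 0)
    (by simp [hP.left bU hbU bU hbU]) h1 (hMs w₁ hw₁ _ (U.neg_mem (U.smul_mem _ hbU)))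
  rw [show c • b + -(c • bU) = c • bW by rw [hbdef]; module] at h4
  have hw₁0' : w₁ ≠ 0 := fun e0 => by rw [e0] at hw₁a; simp at hw₁a
  refine ⟨w₁, hw₁, c • bW, W.smul_mem _ hbW, _, hw₁0', fun hm => ?_, ?_, h4⟩
  · obtain ⟨t, ht⟩ := Submodule.mem_span_singleton.1 hm
    have e2 := congrArg (fun x => B x aU) ht
    simp only [map_smulₛₗ, LinearMap.smul_apply, smul_eq_mul, hw₁a, hab', mul_zero] at e2
    have ht0 : t = 0 := by rw [← h.invol t, show σ t = 0 by linear_combination -e2, map_zero]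
    rw [ht0, zero_smul] at ht
    exact hbW0 ((smul_eq_zero.1 ht.symm).resolve_left hc0)
  · have hbb' := hbb
    simp only [hbdef, map_add, LinearMap.add_apply, hP.left bU hbU bU hbU, hP.right bW hbW bW hbW] at hbb'
    simp only [hbdef, zero_add, map_smul, map_smulₛₗ, map_neg, map_one, map_add, map_mul, LinearMap.smul_apply,
      LinearMap.add_apply, smul_eq_mul, hP.left bU hbU bU hbU, h.sigma_form, h.invol]
    linear_combination hbb' * (c * σ c)

/-- A vector with mixed image produces a radical element, in dimension three. -/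
theorem exists_radical_of_mixed_three (he1 : e = -1) (hM : ∀ d ∈ U, ∀ y ∈ W, RootIn e M d y 0)
    (hk : finrank F U = 3) {g : isomGroup B} (hg : g ∈ M) {d : V} (hd : d ∈ U) (h1 : g.1 d ∉ U) (h2 : g.1 d ∉ W) :
    (∃ d ∈ U, ∃ u ∈ U, ∃ t, d ≠ 0 ∧ u ∉ F ∙ d ∧ σ t - e * t = 0 ∧ RootIn e M d u t) ∨
      (∃ d ∈ W, ∃ u ∈ W, ∃ t, d ≠ 0 ∧ u ∉ F ∙ d ∧ σ t - e * t = 0 ∧ RootIn e M d u t) := by
  classical
  have hMs : ∀ d ∈ W, ∀ y ∈ U, RootIn e M d y 0 := fun d hd y hy => hP.rootIn_symm hM h hd hy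
  obtain ⟨aU, haU, aW, haW, ha⟩ := hP.decomp (g.1 d)
  have ha0 : aU ≠ 0 := fun h' => h2 (by rw [← ha, h', zero_add]; exact haW)
  have ha0' : aW ≠ 0 := fun h' => h1 (by rw [← ha, h', add_zero]; exact haU)
  set a := aU + aW with hadef
  have haa : B a a = 0 := by rw [ha, isomGroup_apply]; exact hP.left d hd d hd
  set K := W ⊓ LinearMap.ker (B d) with hKdef
  set G := K.map (g.1 : V →ₗ[F] V) with hGdef
  have hG : ∀ x ∈ G, B a x = 0 ∧ B x x = 0 ∧ (∀ x' ∈ G, B x x' = 0) ∧ RootIn e M a x 0 := by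
    rintro _ ⟨y, ⟨hy, hdy⟩, rfl⟩
    refine ⟨by rw [ha]; exact (isomGroup_apply g d y).trans hdy, (isomGroup_apply g y y).trans (hP.right y hy y hy),
      ?_, by rw [ha]; exact RootIn.conj (hM d hd y hy) hg⟩
    rintro _ ⟨y', hy', rfl⟩
    exact (isomGroup_apply g y y').trans (hP.right y hy y' hy'.1)
  have haG : a ∉ G := by
    rintro ⟨y, hy, e'⟩
    rw [ha] at e'
    have hdy : d ∈ U ⊓ W := ⟨hd, g.1.injective e' ▸ hy.1⟩
    rw [hP.inf, Submodule.mem_bot] at hdy
    exact h2 (by rw [hdy, map_zero]; exact W.zero_mem)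
  have hGdim : 2 ≤ finrank F G := by
    rw [hGdef, LinearEquiv.finrank_map_eq]
    have h5 := Submodule.finrank_sup_add_finrank_inf_eq W (B d).ker
    have h6 := (W ⊔ (B d).ker).finrank_le
    have h7 := LinearMap.finrank_range_add_finrank_ker (B d)
    have h8 := (B d).range.finrank_le
    rw [finrank_self] at h8
    have := hP.dim
    change _ + finrank F K = _ at h5
    omega
  set G3 := (F ∙ a) ⊔ G with hG3def
  have hG3dim : 3 ≤ finrank F G3 := by
    have hlt : G < G3 := lt_of_le_of_ne le_sup_right fun e' =>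
      haG (e' ▸ Submodule.mem_sup_left (Submodule.mem_span_singleton_self a))
    have := Submodule.finrank_lt_finrank_of_lt hlt
    omega
  have hmem : ∀ z ∈ G3, ∃ α : F, ∃ y ∈ G, α • a + y = z := fun z hz => by
    obtain ⟨p, hp, y, hy, e'⟩ := Submodule.mem_sup.1 hz
    obtain ⟨α, rfl⟩ := Submodule.mem_span_singleton.1 hp
    exact ⟨α, y, hy, e'⟩
  have hG3 : ∀ z ∈ G3, ∀ z' ∈ G3, B z z' = 0 := fun z hz z' hz' => by
    obtain ⟨α, y, hy, rfl⟩ := hmem z hz
    obtain ⟨β, y', hy', rfl⟩ := hmem z' hz'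
    simp [map_smulₛₗ, haa, (hG y' hy').1, h.orth_symm' (hG y hy).1, (hG y hy).2.2.1 y' hy']
  -- a pure vector gives a root element with parameter zero
  have hroot : ∀ z ∈ G3, ∃ l : F, l ≠ 0 ∧ RootIn e M a (l • z) 0 := fun z hz => by
    obtain ⟨α, y, hy, rfl⟩ := hmem z hz
    rcases eq_or_ne α 0 with rfl | hα
    · exact ⟨1, one_ne_zero, by rw [zero_smul, zero_add, one_smul]; exact (hG y hy).2.2.2⟩
    refine ⟨α⁻¹, inv_ne_zero hα, fun x hx => (hG _ (G.smul_mem α⁻¹ hy)).2.2.2 x ⟨haa, ?_, ?_, fun v => ?_⟩⟩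
    · rw [map_smul, (hG y hy).1, smul_zero]
    · simp [(hG y hy).2.1]
    · rw [hx.2.2.2, smul_add, inv_smul_smul₀ hα]
      simp only [map_add, LinearMap.add_apply, he1, zero_mul, add_zero]
      module
  by_cases hW1 : ∃ z ∈ G3, z ∈ W ∧ z ∉ F ∙ aW
  · obtain ⟨z, hz, hzW, hne⟩ := hW1
    obtain ⟨l, hl, hs⟩ := hroot z hz
    refine Or.inr (hP.radical_of_pure h hMs haU haW (W.smul_mem l hzW) haa
      (hG3 _ (Submodule.mem_sup_left (Submodule.mem_span_singleton_self a)) _ (G3.smul_mem l hz))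
      (fun hm => hne ((Submodule.smul_mem_iff _ hl).1 hm)) ha0' hs)
  by_cases hU1 : ∃ z ∈ G3, z ∈ U ∧ z ∉ F ∙ aU
  · obtain ⟨z, hz, hzU, hne⟩ := hU1
    obtain ⟨l, hl, hs⟩ := hroot z hz
    have haz : B (aU + aW) (l • z) = 0 :=
      hG3 _ (Submodule.mem_sup_left (Submodule.mem_span_singleton_self a)) _ (G3.smul_mem l hz)
    exact Or.inl (hP.symm.radical_of_pure h hM haW haU (U.smul_mem l hzU) (by rw [add_comm aW]; exact haa)
      (by rw [add_comm aW]; exact haz)
      (fun hm => hne ((Submodule.smul_mem_iff _ hl).1 hm)) ha0 (by rw [add_comm aW]; exact hs))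
  push Not at hW1 hU1
  have haG3 : a ∈ G3 := Submodule.mem_sup_left (Submodule.mem_span_singleton_self a)
  by_cases hsplit : aW ∈ G3
  · -- both components in the image
    have haUG : aU ∈ G3 := by simpa [hadef] using G3.sub_mem haG3 hsplit
    obtain ⟨y, hy, hyne⟩ : ∃ y ∈ G, ∀ uy ∈ U, ∀ wy ∈ W, uy + wy = y → uy ∉ F ∙ aU ∧ wy ∉ F ∙ aW := by
      by_contra! hall
      have hle : G3 ≤ (F ∙ aU) ⊔ (F ∙ aW) := by
        refine sup_le ((Submodule.span_singleton_le_iff_mem _ _).2 (Submodule.add_mem_sup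
          (Submodule.mem_span_singleton_self aU) (Submodule.mem_span_singleton_self aW))) fun y hy => ?_
        obtain ⟨uy, huy, wy, hwy, e', hm⟩ := hall y hy
        have hyG : y ∈ G3 := Submodule.mem_sup_right hy
        by_cases hu : uy ∈ F ∙ aU
        · have hwG : wy ∈ G3 := by
            rw [← e'] at hyG
            simpa using G3.sub_mem hyG ((Submodule.span_singleton_le_iff_mem _ _).2 haUG hu)
          exact e' ▸ Submodule.add_mem_sup hu (hW1 wy hwG hwy)
        · have huG : uy ∈ G3 := by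
            rw [← e'] at hyG
            simpa using G3.sub_mem hyG ((Submodule.span_singleton_le_iff_mem _ _).2 hsplit (hm hu))
          exact e' ▸ Submodule.add_mem_sup (hU1 uy huG huy) (hm hu)
      have h3 := Submodule.finrank_mono hle
      have h4 := Submodule.finrank_add_le_finrank_add_finrank (F ∙ aU) (F ∙ aW)
      rw [finrank_span_singleton ha0, finrank_span_singleton ha0'] at h4
      omega
    obtain ⟨bU, hbU, bW, hbW, hb⟩ := hP.decomp y
    obtain ⟨hneU, hneW⟩ := hyne bU hbU bW hbW hb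
    have hyG : bU + bW ∈ G3 := hb ▸ Submodule.mem_sup_right hy
    have e1 := hG3 _ haUG _ hyG
    rw [map_add, hP.left aU haU bU hbU, zero_add] at e1
    have e2 := hG3 _ hyG _ hsplit
    rw [map_add, LinearMap.add_apply, hP.right bW hbW aW haW, add_zero] at e2
    have hbU0 : bU ≠ 0 := fun e0 => hneU (e0 ▸ Submodule.zero_mem _)
    have hbW0 : bW ≠ 0 := fun e0 => hneW (e0 ▸ Submodule.zero_mem _)
    have hflip : ∀ {p r : V}, r ≠ 0 → r ∉ F ∙ p → p ≠ 0 → p ∉ F ∙ r := fun {p r} _ hr hp hm => by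
      obtain ⟨t, ht⟩ := Submodule.mem_span_singleton.1 hm
      have ht0 : t ≠ 0 := fun e0 => hp (by rw [← ht, e0, zero_smul])
      exact hr (Submodule.mem_span_singleton.2 ⟨t⁻¹, by rw [← ht, inv_smul_smul₀ ht0]⟩)
    exact Or.inr (hP.radical_of_split h he1 hM haU haW hbU hbW (hG3 _ haUG _ hsplit) e1 e2
      (hG3 _ hyG _ hyG) (hflip hbU0 hneU ha0) (hflip hbW0 hneW ha0') hbW0
      fun l => by rw [hb]; exact (hG _ (G.smul_mem l hy)).2.2.2)
  -- the image is the graph of a nondegenerate form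
  have hinjW : ∀ z ∈ G3, z ∈ W → z = 0 := fun z hz hzW => by
    obtain ⟨t, rfl⟩ := Submodule.mem_span_singleton.1 (hW1 z hz hzW)
    rcases eq_or_ne t 0 with rfl | ht
    · simp
    · exact absurd ((Submodule.smul_mem_iff _ ht).1 hz) hsplit
  have hinjU : ∀ z ∈ G3, z ∈ U → z = 0 := fun z hz hzU => by
    obtain ⟨t, rfl⟩ := Submodule.mem_span_singleton.1 (hU1 z hz hzU)
    rcases eq_or_ne t 0 with rfl | ht
    · simp
    · have := (Submodule.smul_mem_iff _ ht).1 hz
      exact absurd (by simpa [hadef] using G3.sub_mem haG3 this) hsplit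
  let πU : V →ₗ[F] V := U.subtype ∘ₗ U.projectionOnto W ⟨disjoint_iff.2 hP.inf, codisjoint_iff.2 hP.sup⟩
  have hπU : ∀ z, πU z ∈ U := fun z => (U.projectionOnto W _ z).2
  have hπW : ∀ z, z - πU z ∈ W := fun z => by
    obtain ⟨u, hu, w, hw, rfl⟩ := hP.decomp z
    rw [show πU (u + w) = u by simp [πU, Submodule.projectionOnto_apply_left _ ⟨u, hu⟩,
      Submodule.projectionOnto_apply_of_mem_right _ hw]]
    simpa using hw
  -- the form on the image
  let H : V →ₛₗ[σ] V →ₗ[F] F := (B.comp (LinearMap.id - πU)).compl₂ πU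
  have hH : ∀ z z', H z z' = B (z - πU z) (πU z') := fun z z' => rfl
  have hskew : ∀ z ∈ G3, ∀ z' ∈ G3, σ (H z z') + H z' z = 0 := fun z hz z' hz' => by
    rw [hH, hH, h.sigma_form, he1]
    have e' := hG3 z' hz' z hz
    conv_lhs at e' => rw [← sub_add_cancel z (πU z), ← sub_add_cancel z' (πU z')]
    rw [map_add, map_add, LinearMap.add_apply, LinearMap.add_apply, hP.right _ (hπW z') _ (hπW z),
      hP.left _ (hπU z') _ (hπU z)] at e'
    linear_combination e'
  have hπinj : Function.Injective (πU ∘ₗ G3.subtype) := (injective_iff_map_eq_zero _).2 fun x hx =>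
    Subtype.ext (hinjW x x.2 (by simpa [show πU (x : V) = 0 from hx] using hπW x))
  have hmap : G3.map πU = U := by
    refine Submodule.eq_of_le_of_finrank_le (by rintro _ ⟨x, -, rfl⟩; exact hπU x) ?_
    have e' : finrank F (G3.map πU) = finrank F G3 := by
      rw [← LinearMap.finrank_range_of_inj hπinj, LinearMap.range_comp, Submodule.range_subtype]
    omega
  have hG3three : finrank F G3 = 3 := by
    rw [← LinearMap.finrank_range_of_inj hπinj, LinearMap.range_comp, Submodule.range_subtype, hmap, hk]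
  have hnd : ∀ v ∈ G3, (∀ x ∈ G3, H v x = 0) → v = 0 := fun v hv hv' => by
    refine hinjU v hv ?_
    have hvw : v - πU v = 0 := h.sep _ fun x => h.orth_symm' (by
      obtain ⟨u, hu, w, hw, rfl⟩ := hP.decomp x
      obtain ⟨x', hx', rfl⟩ := (show u ∈ G3.map πU from hmap.symm ▸ hu)
      rw [map_add, hP.right _ (hπW v) w hw, add_zero, ← hH]
      exact hv' x' hx')
    rw [sub_eq_zero.1 hvw]; exact hπU v
  have hπ : ∀ {u w : V}, u ∈ U → w ∈ W → πU (u + w) = u := fun {u w} hu hw => by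
    simp [πU, Submodule.projectionOnto_apply_left _ ⟨u, hu⟩, Submodule.projectionOnto_apply_of_mem_right _ hw]
  obtain ⟨n, hn, hna, hnn⟩ : ∃ n ∈ G3, H a n = 0 ∧ H n n ≠ 0 := by
    by_contra! hall
    set L := G3 ⊓ LinearMap.ker (H a) with hLdef
    have hL2 : 2 ≤ finrank F L := by
      have h5 := Submodule.finrank_sup_add_finrank_inf_eq G3 (H a).ker
      have h6 := (G3 ⊔ (H a).ker).finrank_le
      have h7 := LinearMap.finrank_range_add_finrank_ker (H a)
      have h8 := (H a).range.finrank_le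
      rw [finrank_self] at h8
      change _ + finrank F L = _ at h5
      omega
    have hTI : ∀ x ∈ L, ∀ x' ∈ L, H x x' = 0 := by
      intro x hx x' hx'
      have hz : ∀ p : F, p * H x x' + σ p * H x' x = 0 := fun p => by
        have e' := hall (x + p • x') (G3.add_mem hx.1 (G3.smul_mem _ hx'.1))
          (by rw [map_add, map_smul, show H a x = 0 from hx.2, show H a x' = 0 from hx'.2]; simp)
        simp only [map_add, LinearMap.map_smulₛₗ H, map_smul, LinearMap.add_apply, LinearMap.smul_apply,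
          smul_eq_mul, hall x hx.1 hx.2, hall x' hx'.1 hx'.2] at e'
        linear_combination e'
      obtain ⟨μ, hμ⟩ := h.trace
      obtain ⟨δ, hδ0, hδ⟩ := h.anti
      rw [he1] at hδ
      by_contra hne
      have hsk := hskew x hx.1 x' hx'.1
      have hc0 : σ (H x x') ≠ 0 := fun e0 => hne (by rw [← h.invol (H x x'), e0, map_zero])
      have e1 := hz (δ / H x x')
      have e2 := hz (μ / H x x')
      rw [map_div₀, show H x' x = -σ (H x x') by linear_combination hsk, div_mul_cancel₀ _ hne, mul_neg,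
        div_mul_cancel₀ _ hc0] at e1 e2
      exact hμ (by
        have h2 : (2 : F) * δ = 0 := by linear_combination e1 + hδ
        linear_combination e2 + σ μ * (mul_eq_zero.1 h2).resolve_right hδ0)
    obtain ⟨z, hz, hzL⟩ : ∃ z ∈ G3, z ∉ L := by
      by_contra! hsub
      have ha_0 := hnd a haG3 fun x hx => (hsub x hx).2
      exact h1 (by rw [← ha, ha_0]; exact U.zero_mem)
    obtain ⟨v, ⟨hv, hvz⟩, hv0⟩ := Submodule.exists_mem_ne_zero_of_ne_bot (p := L ⊓ LinearMap.ker (H z)) fun hbot => by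
      have h5 := Submodule.finrank_sup_add_finrank_inf_eq L (H z).ker
      have h6 := (L ⊔ (H z).ker).finrank_le
      have h7 := LinearMap.finrank_range_add_finrank_ker (H z)
      have h8 := (H z).range.finrank_le
      rw [finrank_self] at h8
      rw [hbot, finrank_bot] at h5
      omega
    refine hv0 (hnd v hv.1 fun x hx => ?_)
    have heq : L ⊔ F ∙ z = G3 := Submodule.eq_of_le_of_finrank_le
      (sup_le inf_le_left ((Submodule.span_singleton_le_iff_mem _ _).2 hz)) (by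
      have hlt : L < L ⊔ F ∙ z := lt_of_le_of_ne le_sup_left fun e' =>
        hzL (e' ▸ Submodule.mem_sup_right (Submodule.mem_span_singleton_self z))
      have := Submodule.finrank_lt_finrank_of_lt hlt
      omega)
    obtain ⟨l, hl, p, hp, rfl⟩ := Submodule.mem_sup.1 (heq.symm ▸ hx)
    obtain ⟨t, rfl⟩ := Submodule.mem_span_singleton.1 hp
    rw [map_add, map_smul, hTI v hv l hl, show H v z = 0 by
      have e' := hskew v hv.1 z hz
      rw [show H z v = 0 from hvz, add_zero] at e'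
      rw [← h.invol (H v z), e', map_zero]]
    simp
  have hσ0 : ∀ {z z' : V}, z ∈ G3 → z' ∈ G3 → H z z' = 0 → H z' z = 0 := fun hz hz' e' => by
    have := hskew _ hz _ hz'
    rwa [e', map_zero, zero_add] at this
  have hna' : H n a = 0 := hσ0 haG3 hn hna
  obtain ⟨z, ⟨hz, hnz⟩, hza⟩ : ∃ z, (z ∈ G3 ∧ H n z = 0) ∧ z ∉ F ∙ a := by
    by_contra! hall
    have hle := Submodule.finrank_mono (show G3 ⊓ (H n).ker ≤ F ∙ a from fun x hx => hall x ⟨hx.1, hx.2⟩)
    have h5 := Submodule.finrank_sup_add_finrank_inf_eq G3 (H n).ker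
    have h6 := (G3 ⊔ (H n).ker).finrank_le
    have h7 := LinearMap.finrank_range_add_finrank_ker (H n)
    have h8 := (H n).range.finrank_le
    rw [finrank_self] at h8
    rw [finrank_span_singleton (fun e0 : a = 0 => h1 (by rw [← ha, e0]; exact U.zero_mem))] at hle
    omega
  obtain ⟨α, y, hy, rfl⟩ := hmem z hz
  have hyn : H n y = 0 := by
    rw [map_add, map_smul, hna', smul_zero, zero_add] at hnz
    exact hnz
  have hyG : y ∈ G3 := Submodule.mem_sup_right hy
  obtain ⟨bU, hbU, bW, hbW, hb⟩ := hP.decomp y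
  obtain ⟨nU, hnU, nW, hnW, hnn'⟩ := hP.decomp n
  have hne : bU ∉ F ∙ aU := fun hm => by
    obtain ⟨t, ht⟩ := Submodule.mem_span_singleton.1 hm
    refine hza (Submodule.mem_span_singleton.2 ⟨α + t, ?_⟩)
    have e' : y - t • a = 0 := hinjW _ (G3.sub_mem hyG (G3.smul_mem t haG3)) (by
      rw [← hb, hadef, ← ht, show t • aU + bW - t • (aU + aW) = bW - t • aW by module]
      exact W.sub_mem hbW (W.smul_mem t haW))
    rw [add_smul, sub_eq_zero.1 e']
  have hns : nU ∉ Submodule.span F {aU, bU} := fun hm => by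
    obtain ⟨p, q, e'⟩ := Submodule.mem_span_pair.1 hm
    have e2 : n - (p • a + q • y) = 0 := hinjW _ (G3.sub_mem hn (G3.add_mem (G3.smul_mem p haG3) (G3.smul_mem q hyG)))
      (by
        rw [← hnn', ← hb, hadef, ← e',
          show p • aU + q • bU + nW - (p • (aU + aW) + q • (bU + bW)) = nW - p • aW - q • bW by module]
        exact W.sub_mem (W.sub_mem hnW (W.smul_mem p haW)) (W.smul_mem q hbW))
    refine hnn ?_
    conv_lhs => arg 2; rw [sub_eq_zero.1 e2]
    simp [hna', hyn]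
  have hπn : πU n = nU := by rw [← hnn', hπ hnU hnW]
  have hda : B aW nU = 0 := by
    have e' := hna
    rw [hH, hπn, hadef, hπ haU haW, add_sub_cancel_left] at e'
    exact e'
  have hdb : B bW nU = 0 := by
    have e' := hσ0 hn hyG hyn
    rw [hH, hπn, ← hb, hπ hbU hbW, add_sub_cancel_left] at e'
    exact e'
  exact Or.inl (hP.exists_radical_at h hM haU haW hbU hbW haa (by rw [hb]; exact (hG y hy).1)
    (s := 0) (by rw [hb, (hG y hy).2.1]; simp) ha0 hne (by rw [hb]; exact (hG y hy).2.2.2) hnU hda hdb hns)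

end IsoPair

namespace IsEpsForm

variable [Finite F] [FiniteDimensional F V]

/-- The stabiliser of a pair of complementary totally isotropic subspaces is maximal: every axis is reached,
for subspaces of dimension three in a hermitian space. -/
theorem pair_axes_three (h : IsEpsForm B e) (he1 : e = -1) {U W : Submodule F V} (hP : IsoPair B U W) (hk : finrank F U = 3)
    {S M : Subgroup (isomGroup B)} (hS : ∀ g a b c, IsRt e g a b c → B b b = 0 → g ∈ S)
    (hM : ∀ g ∈ S, (U.map (g.1 : V →ₗ[F] V) = U ∧ W.map (g.1 : V →ₗ[F] V) = W) ∨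
      (U.map (g.1 : V →ₗ[F] V) = W ∧ W.map (g.1 : V →ₗ[F] V) = U) → g ∈ M)
    {g : isomGroup B} (hg : g ∈ M)
    (hgU : ¬ ((U.map (g.1 : V →ₗ[F] V) = U ∧ W.map (g.1 : V →ₗ[F] V) = W) ∨
      (U.map (g.1 : V →ₗ[F] V) = W ∧ W.map (g.1 : V →ₗ[F] V) = U))) :
    ∀ (v : V) (c : F), RootIn e M v 0 c := by
  have hM' : ∀ d ∈ U, ∀ y ∈ W, RootIn e M d y 0 := fun d hd y hy x hx =>
    hM x (hS x d y 0 hx (hP.right y hy y hy)) (Or.inl (hP.rt_stab h hd hy hx))
  have hk' : finrank F W = 3 := hP.dim ▸ hk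
  have hMs : ∀ d ∈ W, ∀ y ∈ U, RootIn e M d y 0 := fun d hd y hy => hP.rootIn_symm hM' h hd hy
  obtain ⟨t, htS, htU, htW⟩ := hP.exists_swap h (S := S) fun g a c hg => hS g a 0 c hg (by simp)
  have htM : t ∈ M := hM t htS (Or.inr ⟨htU, htW⟩)
  have pure : ∀ (A : Submodule F V), finrank F A = finrank F U →
      (∀ d ∈ A, g.1 d ∈ U ∨ g.1 d ∈ W) → A.map (g.1 : V →ₗ[F] V) = U ∨ A.map (g.1 : V →ₗ[F] V) = W := by
    intro A hA hp
    by_cases hc : A.map (g.1 : V →ₗ[F] V) ≤ U
    · exact Or.inl (Submodule.eq_of_le_of_finrank_eq hc (by rw [LinearEquiv.finrank_map_eq, hA]))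
    refine Or.inr (Submodule.eq_of_le_of_finrank_eq ?_ (by rw [LinearEquiv.finrank_map_eq, hA, hP.dim]))
    obtain ⟨_, ⟨x, hx, rfl⟩, hxU⟩ := SetLike.not_le_iff_exists.1 hc
    rintro _ ⟨y, hy, rfl⟩
    rcases hp y hy with h1 | h1
    swap
    · exact h1
    have h2 := (hp x hx).resolve_left hxU
    rcases hp (x + y) (A.add_mem hx hy) with h3 | h3
    · exact absurd (by rw [map_add] at h3; simpa using U.sub_mem h3 h1) hxU
    · rw [map_add] at h3; simpa using W.sub_mem h3 h2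
  have hrad : (∃ d ∈ U, ∃ u ∈ U, ∃ t, d ≠ 0 ∧ u ∉ F ∙ d ∧ σ t - e * t = 0 ∧ RootIn e M d u t) ∨
      (∃ d ∈ W, ∃ u ∈ W, ∃ t, d ≠ 0 ∧ u ∉ F ∙ d ∧ σ t - e * t = 0 ∧ RootIn e M d u t) := by
    by_contra hnone
    have hA : ∀ d ∈ U, g.1 d ∈ U ∨ g.1 d ∈ W := fun d hd => by
      by_contra hc
      push Not at hc
      exact hnone (hP.exists_radical_of_mixed_three h he1 hM' hk hg hd hc.1 hc.2)
    have hB : ∀ d ∈ W, g.1 d ∈ U ∨ g.1 d ∈ W := fun d hd => by
      by_contra hc
      push Not at hc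
      exact hnone (Or.symm (hP.symm.exists_radical_of_mixed_three h he1 hMs hk' hg hd hc.2 hc.1))
    have hinj : U.map (g.1 : V →ₗ[F] V) ≠ W.map (g.1 : V →ₗ[F] V) := fun e' => by
      have e'' : U = W := Submodule.map_injective_of_injective g.1.injective e'
      have := hP.inf
      rw [← e'', inf_idem] at this
      rw [this, finrank_bot] at hk
      omega
    rcases pure U rfl hA with h1 | h1 <;> rcases pure W hP.dim.symm hB with h2 | h2
    · exact hinj (h1.trans h2.symm)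
    · exact hgU (Or.inl ⟨h1, h2⟩)
    · exact hgU (Or.inr ⟨h1, h2⟩)
    · exact hinj (h1.trans h2.symm)
  exact h.pair_axes_of_radical hP (by omega) hS hM hrad

end IsEpsForm

end CfsgLib.Classical
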