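import Cfsg.Agent.Lib.Classical.SympBasic

/-!
# Witt's lemma for alternating forms
-/

set_option autoImplicit false
set_option linter.unusedSectionVars false

open Module

namespace CfsgLib.Classical

variable {F : Type*} [Field F] {V : Type*} [AddCommGroup V] [Module F V] [FiniteDimensional F V]
  {B : V →ₗ[F] V →ₗ[F] F}

/-- Every functional is represented by a non-degenerate form, in the second variable. -/
theorem exists_form_eq (hN : B.SeparatingRight) (f : V →ₗ[F] F) : ∃ z, ∀ a, B a z = f a := by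
  have hinj : Function.Injective B.flip := by
    rw [← LinearMap.ker_eq_bot]
    exact (Submodule.eq_bot_iff _).2 fun z hz => hN z fun a => by
      simpa using LinearMap.congr_fun (LinearMap.mem_ker.1 hz) a
  obtain ⟨z, hz⟩ := ((LinearMap.injective_iff_surjective_of_finrank_eq_finrank
    (Subspace.dual_finrank_eq (K := F) (V := V)).symm).1 hinj) f
  exact ⟨z, fun a => by rw [← hz]; rfl⟩

theorem exists_perp_not_orth (hN : B.SeparatingRight) {W : Submodule F V} {x : V} (hx : x ∉ W) :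
    ∃ z ∈ perp B W, B x z ≠ 0 := by
  obtain ⟨f, hfx, hfW⟩ := Submodule.exists_dual_map_eq_bot_of_notMem hx inferInstance
  obtain ⟨z, hz⟩ := exists_form_eq hN f
  refine ⟨z, mem_perp.2 fun w hw => ?_, by rwa [hz]⟩
  rw [hz]
  exact (Submodule.eq_bot_iff _).1 hfW _ (Submodule.mem_map_of_mem hw)

theorem perp_perp_eq (hA : B.IsRefl) (hN : B.SeparatingRight) (W : Submodule F V) :
    perp B (perp B W) = W := by
  refine le_antisymm (fun x hx => ?_) fun w hw => mem_perp.2 fun z hz => orth_symm hA hw hz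
  by_contra h
  obtain ⟨z, hz, hxz⟩ := exists_perp_not_orth hN h
  exact hxz (hA _ _ (mem_perp.1 hx z hz))

/-- An isometry fixing `W` pointwise and moving `x` to `y`. -/
theorem witt_step (hA : B.IsAlt) (hN : B.Nondegenerate) {W : Submodule F V} {x y : V}
    (hx : x ∉ W) (hy : y ∉ W) (h : ∀ w ∈ W, B w x = B w y) :
    ∃ t : isomGroup B, (∀ w ∈ W, t.1 w = w) ∧ t.1 x = y := by
  have key : ∀ a b : V, B a b ≠ 0 → (∀ w ∈ W, B w a = B w b) →
      ∃ t : isomGroup B, (∀ w ∈ W, t.1 w = w) ∧ t.1 a = b := fun a b hab hw =>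
    ⟨_, fun w hw' => by simp [map_sub, hw w hw'], tv_move hA a b hab⟩
  by_cases hxy : B x y = 0
  · obtain ⟨z, hz, hxz, hzy⟩ : ∃ z ∈ perp B W, B x z ≠ 0 ∧ B y z ≠ 0 := by
      obtain ⟨z₁, hz₁, h₁⟩ := exists_perp_not_orth hN.2 hx
      obtain ⟨z₂, hz₂, h₂⟩ := exists_perp_not_orth hN.2 hy
      by_cases h₁' : B y z₁ = 0
      · by_cases h₂' : B x z₂ = 0
        · exact ⟨z₁ + z₂, add_mem hz₁ hz₂, by simp [h₁, h₂'], by simp [h₁', h₂]⟩
        · exact ⟨z₂, hz₂, h₂', h₂⟩
      · exact ⟨z₁, hz₁, h₁, h₁'⟩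
    obtain ⟨t₁, f₁, e₁⟩ := key x (x + z) (by simp [hA x, hxz])
      fun w hw => by simp [mem_perp.1 hz w hw]
    obtain ⟨t₂, f₂, e₂⟩ := key (x + z) y
      (by simp [hxy, alt_swap hA z y, hzy]) fun w hw => by simp [mem_perp.1 hz w hw, h w hw]
    exact ⟨t₂ * t₁, fun w hw => by simp [f₁ w hw, f₂ w hw], by simp [e₁, e₂]⟩
  · exact key x y hxy h

/-- Witt's lemma for non-degenerate alternating forms. -/
theorem witt_alt (hA : B.IsAlt) (hN : B.Nondegenerate) (X : Submodule F V) (φ : X →ₗ[F] V)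
    (hinj : Function.Injective φ) (hφ : ∀ a b : X, B (φ a) (φ b) = B (a : V) (b : V)) :
    ∃ g : isomGroup B, ∀ x : X, g.1 (x : V) = φ x := by
  induction hd : finrank F X using Nat.strong_induction_on generalizing X with
  | _ d ih =>
    by_cases hX : X = ⊥
    · subst hX
      exact ⟨1, fun x => by rw [Subsingleton.elim x 0]; simp⟩
    obtain ⟨x₀, hx₀, hne⟩ := (Submodule.ne_bot_iff X).1 hX
    obtain ⟨f, hf, -⟩ := Submodule.exists_dual_map_eq_bot_of_notMem
      (show x₀ ∉ (⊥ : Submodule F V) by simpa using hne) inferInstance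
    let X' : Submodule F V := X ⊓ LinearMap.ker f
    have hlt : X' < X := lt_of_le_of_ne inf_le_left fun h =>
      hf (LinearMap.mem_ker.1 (h ▸ hx₀ : x₀ ∈ X').2)
    let ι : X' →ₗ[F] X := Submodule.inclusion inf_le_left
    obtain ⟨g, hg⟩ := ih (finrank F X') (by rw [← hd]; exact Submodule.finrank_lt_finrank_of_lt hlt) X'
      (φ.comp ι) (hinj.comp (Submodule.inclusion_injective _)) (fun a b => hφ (ι a) (ι b)) rfl
    set y : V := g.1.symm (φ ⟨x₀, hx₀⟩) with hy
    have hgy : g.1 y = φ ⟨x₀, hx₀⟩ := g.1.apply_symm_apply _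
    have hx₀' : x₀ ∉ X' := fun h => hf (LinearMap.mem_ker.1 h.2)
    have hy' : y ∉ X' := fun h => by
      have h1 := hg ⟨y, h⟩
      rw [hgy] at h1
      have := hinj h1
      have hxy : x₀ = y := congrArg Subtype.val this
      exact hx₀' (hxy ▸ h)
    obtain ⟨t, ht, htx⟩ := witt_step hA hN hx₀' hy' fun w hw => by
      rw [← g.2 w y, hgy, hg ⟨w, hw⟩]
      exact (hφ (ι ⟨w, hw⟩) ⟨x₀, hx₀⟩).symm
    refine ⟨g * t, fun x => ?_⟩
    obtain ⟨c, hc⟩ : ∃ c : F, (x : V) - c • x₀ ∈ X' :=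
      ⟨f x / f x₀, sub_mem x.2 (X.smul_mem _ hx₀), by simp [hf]⟩
    have hx : x = ι ⟨_, hc⟩ + c • ⟨x₀, hx₀⟩ := Subtype.ext (by simp [ι])
    have hxV : (x : V) = ((x : V) - c • x₀) + c • x₀ := by abel
    conv_rhs => rw [hx, map_add, map_smul, ← hgy]
    conv_lhs => rw [hxV]
    rw [Subgroup.coe_mul, LinearEquiv.mul_apply, map_add, map_add, map_smul, map_smul, htx, ht _ hc]
    exact congrArg (· + _) (hg ⟨_, hc⟩)

end CfsgLib.Classical
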