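import Cfsg.Agent.Lib.Classical.SympMatrix
import Cfsg.Agent.Lib.Classical.SympWitt

/-!
# Models of symplectic groups
-/

set_option autoImplicit false
set_option linter.unusedSectionVars false

open Module Matrix

namespace CfsgLib.Classical

variable {F : Type*} [Field F] {V : Type*} [AddCommGroup V] [Module F V] [FiniteDimensional F V]
  {B : V →ₗ[F] V →ₗ[F] F}

/-- The isometry group of any non-degenerate alternating form of rank `2k` is `Sp_{2k}`. -/
theorem isom_alt_equiv_sp (hA : B.IsAlt) (hN : B.Nondegenerate) (k : ℕ)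
    (hk : finrank F V = 2 * k) : Nonempty (isomGroup B ≃* symplecticGroup (Fin k) F) := by
  obtain ⟨m, b, hb⟩ := exists_sympBasis hA hN
  obtain ⟨m', b', hb'⟩ := exists_sympBasis (sympBil_isAlt (F := F) k) (sympBil_nondegenerate k)
  obtain rfl : m = k := by
    have := Module.finrank_eq_card_basis b
    simp at this
    omega
  obtain rfl : m' = m := by
    have := Module.finrank_eq_card_basis b'
    simp at this
    omega
  exact ⟨(isomGroupCongr (b.equiv b' (Equiv.refl _))
    (IsSympFamily.basisEquiv_mem hA (sympBil_isAlt _) b b' hb hb')).trans (spEquiv _).symm⟩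

section PermModule

variable (F) [CharP F 2] (n : ℕ)

/-- Even-weight vectors with vanishing first coordinate: a complement of the constants. -/
def heartSpace (o : Fin (2 * n)) : Submodule F (Fin (2 * n) → F) :=
  LinearMap.ker ((∑ i, LinearMap.proj i : (Fin (2 * n) → F) →ₗ[F] F).prod (LinearMap.proj o))

variable {F n}

theorem mem_heartSpace {o : Fin (2 * n)} {x : Fin (2 * n) → F} :
    x ∈ heartSpace F n o ↔ (∑ i, x i) = 0 ∧ x o = 0 := by
  simp [heartSpace]

theorem finrank_heartSpace {o : Fin (2 * n)} (hn : 1 ≤ n) :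
    finrank F (heartSpace F n o) = 2 * (n - 1) := by
  have h := LinearMap.finrank_range_add_finrank_ker
    ((∑ i, LinearMap.proj i : (Fin (2 * n) → F) →ₗ[F] F).prod (LinearMap.proj o))
  have hsurj : LinearMap.range ((∑ i, LinearMap.proj i : (Fin (2 * n) → F) →ₗ[F] F).prod (LinearMap.proj o)) = ⊤ := by
    obtain ⟨a, ha⟩ : ∃ a : Fin (2 * n), a ≠ o := by
      have : Nontrivial (Fin (2 * n)) := Fin.nontrivial_iff_two_le.2 (by omega)
      exact exists_ne o
    rw [LinearMap.range_eq_top]
    rintro ⟨s, t⟩
    refine ⟨Pi.single o t + Pi.single a (s - t), ?_⟩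
    simp [Finset.sum_add_distrib, Pi.single_apply, ha.symm]
  rw [hsurj, finrank_top, Module.finrank_prod, Module.finrank_self, Module.finrank_pi, Fintype.card_fin] at h
  change 1 + 1 + finrank F (heartSpace F n o) = 2 * n at h
  omega

variable (F n) in
/-- The dot product. -/
noncomputable def dotBil : (Fin (2 * n) → F) →ₗ[F] (Fin (2 * n) → F) →ₗ[F] F :=
  Matrix.toLinearMap₂' F (1 : Matrix (Fin (2 * n)) (Fin (2 * n)) F)

theorem dotBil_apply (x y : Fin (2 * n) → F) : dotBil F n x y = ∑ i, x i * y i := by
  rw [dotBil, Matrix.toLinearMap₂'_apply', Matrix.one_mulVec]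
  rfl

theorem heart_isAlt (o : Fin (2 * n)) : (restrictForm (dotBil F n) (heartSpace F n o)).IsAlt := by
  intro x
  rw [restrictForm_apply, dotBil_apply]
  have h : ∑ i, (x : Fin (2 * n) → F) i * (x : Fin (2 * n) → F) i = (∑ i, (x : Fin (2 * n) → F) i) ^ 2 := by
    rw [CharTwo.sum_sq]
    simp [pow_two]
  rw [h, (mem_heartSpace.1 x.2).1]
  simp

theorem single_add_single_mem {o a b : Fin (2 * n)} (ha : a ≠ o) (hb : b ≠ o) :
    (Pi.single a 1 + Pi.single b 1 : Fin (2 * n) → F) ∈ heartSpace F n o := by
  refine mem_heartSpace.2 ⟨?_, by simp [Ne.symm ha, Ne.symm hb]⟩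
  simp [Finset.sum_add_distrib, CharTwo.add_self_eq_zero]

theorem heart_nondegenerate (o : Fin (2 * n)) :
    (restrictForm (dotBil F n) (heartSpace F n o)).Nondegenerate := by
  refine restrictForm_nondegenerate (fun x y h => ?_) (nondegOn_iff.2 fun x hx hx' => ?_)
  · rw [dotBil_apply] at h ⊢
    rw [← h]
    exact Finset.sum_congr rfl fun i _ => mul_comm _ _
  obtain ⟨hs, ho⟩ := mem_heartSpace.1 hx
  have hc : ∀ a b, a ≠ o → b ≠ o → x a = x b := fun a b ha hb => by
    have h := hx' _ (single_add_single_mem ha hb)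
    rw [dotBil_apply] at h
    simp [add_mul, Finset.sum_add_distrib, Pi.single_apply] at h
    rw [eq_neg_of_add_eq_zero_left h, CharTwo.neg_eq]
  funext a
  by_cases ha : a = o
  · rw [ha, ho]; rfl
  have hall : ∀ i, x i = if i = o then 0 else x a := fun i => by
    split_ifs with hi
    · rw [hi, ho]
    · exact hc i a hi ha
  rw [Finset.sum_congr rfl fun i _ => hall i, Finset.sum_ite, Finset.sum_const_zero, zero_add,
    Finset.sum_const, Finset.filter_ne', Finset.card_erase_of_mem (Finset.mem_univ o),
    Finset.card_univ, Fintype.card_fin, nsmul_eq_mul] at hs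
  have hodd : ((2 * n - 1 : ℕ) : F) = 1 := by
    obtain ⟨k, hk⟩ : ∃ k, n = k + 1 := ⟨n - 1, by have := o.pos; omega⟩
    rw [show 2 * n - 1 = 2 * k + 1 by omega, Nat.cast_add, Nat.cast_mul, Nat.cast_ofNat,
      CharTwo.two_eq_zero]
    simp
  rwa [hodd, one_mul] at hs

/-- A permutation acting on the heart. -/
def heartMap (o : Fin (2 * n)) (σ : Equiv.Perm (Fin (2 * n))) :
    heartSpace F n o →ₗ[F] heartSpace F n o where
  toFun x := ⟨fun i => (x : Fin (2 * n) → F) (σ.symm i) - (x : Fin (2 * n) → F) (σ.symm o),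
    mem_heartSpace.2 ⟨by
      rw [Finset.sum_sub_distrib, Equiv.sum_comp σ.symm, (mem_heartSpace.1 x.2).1, Finset.sum_const,
        Finset.card_univ, Fintype.card_fin, nsmul_eq_mul, Nat.cast_mul, Nat.cast_ofNat,
        CharTwo.two_eq_zero]
      simp, sub_self _⟩⟩
  map_add' x y := Subtype.ext (funext fun i => by simp; ring)
  map_smul' c x := Subtype.ext (funext fun i => by simp [mul_sub])

theorem heartMap_mul (o : Fin (2 * n)) (σ τ : Equiv.Perm (Fin (2 * n))) (x : heartSpace F n o) :
    heartMap o σ (heartMap o τ x) = heartMap o (σ * τ) x := by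
  refine Subtype.ext (funext fun i => ?_)
  simp [heartMap, Equiv.Perm.mul_def]

theorem heartMap_one (o : Fin (2 * n)) (x : heartSpace F n o) : heartMap o 1 x = x := by
  refine Subtype.ext (funext fun i => ?_)
  change (x : Fin (2 * n) → F) i - (x : Fin (2 * n) → F) o = _
  rw [(mem_heartSpace.1 x.2).2, sub_zero]

/-- The action of the symmetric group on the heart of its permutation module. -/
def heartHom (o : Fin (2 * n)) :
    Equiv.Perm (Fin (2 * n)) →* isomGroup (restrictForm (dotBil F n) (heartSpace F n o)) where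
  toFun σ := ⟨LinearEquiv.ofLinearMap (heartMap o σ) (heartMap o σ⁻¹)
      (LinearMap.ext fun x => by simp [heartMap_mul, heartMap_one])
      (LinearMap.ext fun x => by simp [heartMap_mul, heartMap_one]), fun x y => by
    simp only [LinearEquiv.coe_ofLinearMap, restrictForm_apply, dotBil_apply]
    simp only [heartMap, LinearMap.coe_mk, AddHom.coe_mk]
    simp only [sub_mul, mul_sub, Finset.sum_sub_distrib, ← Finset.mul_sum, ← Finset.sum_mul,
      Equiv.sum_comp σ.symm (fun i => (x : Fin (2 * n) → F) i),
      Equiv.sum_comp σ.symm (fun i => (y : Fin (2 * n) → F) i),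
      Equiv.sum_comp σ.symm (fun i => (x : Fin (2 * n) → F) i * (y : Fin (2 * n) → F) i),
      (mem_heartSpace.1 x.2).1, (mem_heartSpace.1 y.2).1, Finset.sum_const, Finset.card_univ,
      Fintype.card_fin]
    simp [CharTwo.two_eq_zero]⟩
  map_one' := Subtype.ext (LinearEquiv.ext fun x => by simp [heartMap_one])
  map_mul' σ τ := Subtype.ext (LinearEquiv.ext fun x => by simp [heartMap_mul])

theorem heartHom_injective (o : Fin (2 * n)) (hn : 3 ≤ n) :
    Function.Injective (heartHom (F := F) o) := by
  rw [injective_iff_map_eq_one]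
  intro σ hσ
  have key : ∀ a b, a ≠ o → b ≠ o → a ≠ b → σ a = a ∨ σ a = b := by
    intro a b ha hb hab
    have h := congrArg (fun g : isomGroup (restrictForm (dotBil F n) (heartSpace F n o)) =>
      (g.1 ⟨_, single_add_single_mem ha hb⟩ : Fin (2 * n) → F)) hσ
    simp [heartHom, heartMap] at h
    by_contra hc
    push Not at hc
    -- pick a position outside `a, b, σ a, σ b`
    obtain ⟨c, hc'⟩ : ∃ c, c ∉ ({a, b, σ a, σ b} : Finset (Fin (2 * n))) := by
      by_contra h4
      push Not at h4
      have := (Finset.card_le_card (fun c (_ : c ∈ (Finset.univ : Finset (Fin (2 * n)))) => h4 c)).trans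
        Finset.card_le_four
      simp at this
      omega
    simp only [Finset.mem_insert, Finset.mem_singleton, not_or] at hc'
    have h1 := congrFun h c
    have h2 := congrFun h (σ a)
    have e1 : σ.symm c ≠ a := fun e => hc'.2.2.1 (σ.symm_apply_eq.1 e)
    have e2 : σ.symm c ≠ b := fun e => hc'.2.2.2 (σ.symm_apply_eq.1 e)
    simp [e1, e2, hc'.1, hc'.2.1] at h1
    simp [hab, hc.1, hc.2, sub_eq_add_neg, h1] at h2
  have hfix : ∀ a, a ≠ o → σ a = a := by
    intro a ha
    obtain ⟨b, hb⟩ : ∃ b, b ∉ ({o, a} : Finset (Fin (2 * n))) := by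
      by_contra h4
      push Not at h4
      have := (Finset.card_le_card (fun c (_ : c ∈ (Finset.univ : Finset (Fin (2 * n)))) => h4 c)).trans
        Finset.card_le_two
      simp at this
      omega
    simp only [Finset.mem_insert, Finset.mem_singleton, not_or] at hb
    obtain ⟨c, hc⟩ : ∃ c, c ∉ ({o, a, b} : Finset (Fin (2 * n))) := by
      by_contra h4
      push Not at h4
      have := (Finset.card_le_card (fun c (_ : c ∈ (Finset.univ : Finset (Fin (2 * n)))) => h4 c)).trans
        Finset.card_le_three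
      simp at this
      omega
    simp only [Finset.mem_insert, Finset.mem_singleton, not_or] at hc
    rcases key a b ha hb.1 (Ne.symm hb.2) with h | h
    · exact h
    rcases key a c ha hc.1 (Ne.symm hc.2.1) with h' | h'
    · exact h'
    · exact absurd (h'.symm.trans h) hc.2.2
  refine Equiv.ext fun a => ?_
  by_cases ha : a = o
  · subst ha
    by_contra hne
    exact hne (σ.injective (hfix (σ a) hne))
  · exact hfix a ha

/-- `S_{2n}` embeds in `Sp_{2n-2}` over any field of characteristic two. -/
theorem exists_perm_to_sp (n : ℕ) (hn : 3 ≤ n) :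
    ∃ f : Equiv.Perm (Fin (2 * n)) →* symplecticGroup (Fin (n - 1)) F, Function.Injective f := by
  let o : Fin (2 * n) := ⟨0, by omega⟩
  obtain ⟨e⟩ := isom_alt_equiv_sp (heart_isAlt (F := F) o) (heart_nondegenerate o) (n - 1)
    (finrank_heartSpace (by omega))
  exact ⟨e.toMonoidHom.comp (heartHom o), e.injective.comp (heartHom_injective o hn)⟩

end PermModule

end CfsgLib.Classical
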