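import Cfsg.Agent.Lib.Classical.SympMax
import Cfsg.Agent.Lib.Classical.SympModels

/-!
# Stabilisers of orthogonal decompositions in symplectic groups
-/

set_option autoImplicit false
set_option linter.unusedSectionVars false

open Module

namespace CfsgLib.Classical

variable {F : Type*} [Field F] {V : Type*} [AddCommGroup V] [Module F V] [FiniteDimensional F V]

/-- An orthogonal decomposition into non-degenerate subspaces of equal dimension. -/
structure OrthDecomp (B : V →ₗ[F] V →ₗ[F] F) {t : ℕ} (D : Fin t → Submodule F V) (k : ℕ) : Prop where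
  nondeg : ∀ i, NondegOn B (D i)
  orth : ∀ i j, i ≠ j → ∀ u ∈ D i, ∀ v ∈ D j, B u v = 0
  top : iSup D = ⊤
  dim : ∀ i, finrank F (D i) = k

variable {B : V →ₗ[F] V →ₗ[F] F} {t k : ℕ} {D : Fin t → Submodule F V}

namespace OrthDecomp

/-- The component in `D i`. -/
noncomputable def comp (h : OrthDecomp B D k) (i : Fin t) : V →ₗ[F] V :=
  (D i).subtype ∘ₗ (D i).projectionOnto (perp B (D i)) (h.nondeg i).isCompl

theorem comp_mem (h : OrthDecomp B D k) (i : Fin t) (v : V) : h.comp i v ∈ D i :=
  Subtype.prop _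

theorem comp_self (h : OrthDecomp B D k) {i : Fin t} {v : V} (hv : v ∈ D i) : h.comp i v = v := by
  rw [comp, LinearMap.comp_apply, Submodule.projectionOnto_apply_of_mem_left _ hv]; rfl

theorem comp_other (h : OrthDecomp B D k) {i j : Fin t} (hij : i ≠ j) {v : V} (hv : v ∈ D j) :
    h.comp i v = 0 := by
  rw [comp, LinearMap.comp_apply, (Submodule.projectionOnto_apply_eq_zero_iff (h.nondeg i).isCompl).2
    (mem_perp.2 fun w hw => h.orth i j hij w hw v hv)]
  rfl

theorem comp_comp (h : OrthDecomp B D k) (i j : Fin t) (v : V) :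
    h.comp i (h.comp j v) = if i = j then h.comp j v else 0 := by
  split_ifs with hij
  · subst hij; exact h.comp_self (h.comp_mem i v)
  · exact h.comp_other hij (h.comp_mem j v)

theorem sum_comp (h : OrthDecomp B D k) (v : V) : ∑ i, h.comp i v = v := by
  refine Submodule.iSup_induction D (motive := fun v => ∑ i, h.comp i v = v) (h.top ▸ Submodule.mem_top (x := v)) ?_ ?_ ?_
  · intro j x hx
    rw [Finset.sum_eq_single j (fun i _ hij => h.comp_other hij hx) (by simp)]
    exact h.comp_self hx
  · simp
  · intro x y hx hy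
    simp only [map_add, Finset.sum_add_distrib, hx, hy]

theorem form_eq (h : OrthDecomp B D k) (x y : V) : B x y = ∑ i, B (h.comp i x) (h.comp i y) := by
  conv_lhs => rw [← h.sum_comp x, ← h.sum_comp y]
  simp only [map_sum, LinearMap.sum_apply]
  refine Finset.sum_congr rfl fun i _ => ?_
  rw [Finset.sum_eq_single i
    (fun j _ hji => h.orth j i hji _ (h.comp_mem j x) _ (h.comp_mem i y)) (by simp)]

theorem ext_comp (h : OrthDecomp B D k) {x y : V} (e : ∀ i, h.comp i x = h.comp i y) : x = y := by
  rw [← h.sum_comp x, ← h.sum_comp y]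
  exact Finset.sum_congr rfl fun i _ => e i

end OrthDecomp

/-- An isometry permuting the members of `D`. -/
def IsDecompSym (D : Fin t → Submodule F V) (g : isomGroup B) : Prop :=
  ∃ σ : Equiv.Perm (Fin t), ∀ i, (D i).map (g.1 : V →ₗ[F] V) = D (σ i)

theorem isDecompSym_of (g : isomGroup B) (σ : Equiv.Perm (Fin t)) (hd : ∀ i, finrank F (D i) = k)
    (hg : ∀ i, ∀ x ∈ D i, g.1 x ∈ D (σ i)) : IsDecompSym D g := by
  refine ⟨σ, fun i => Submodule.eq_of_le_of_finrank_eq (by rintro _ ⟨x, hx, rfl⟩; exact hg i x hx) ?_⟩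
  rw [(Submodule.equivMapOfInjective _ g.1.injective (D i)).finrank_eq.symm, hd, hd]

namespace OrthDecomp

/-- Every permutation of the members is realised by an isometry. -/
theorem exists_perm (h : OrthDecomp B D k) (hA : B.IsAlt) (hN : B.Nondegenerate)
    (σ : Equiv.Perm (Fin t)) :
    ∃ g : isomGroup B, ∀ i, ∀ x ∈ D i, g.1 x ∈ D (σ i) := by
  have hex : ∀ i, ∃ e : D i ≃ₗ[F] D (σ i), ∀ x y : D i, B (e x : V) (e y : V) = B (x : V) (y : V) := by
    intro i
    have hi := restrictForm_nondegenerate hA.isRefl (h.nondeg i)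
    have hj := restrictForm_nondegenerate hA.isRefl (h.nondeg (σ i))
    obtain ⟨m, b, hb⟩ := exists_sympBasis (restrictForm_isAlt hA (D i)) hi
    obtain ⟨m', b', hb'⟩ := exists_sympBasis (restrictForm_isAlt hA (D (σ i))) hj
    obtain rfl : m' = m := by
      have h1 := Module.finrank_eq_card_basis b
      have h2 := Module.finrank_eq_card_basis b'
      rw [h.dim] at h1 h2
      simp at h1 h2
      omega
    exact ⟨b.equiv b' (Equiv.refl _), fun x y =>
      IsSympFamily.basisEquiv_mem (restrictForm_isAlt hA _) (restrictForm_isAlt hA _) b b' hb hb' x y⟩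
  choose e he using hex
  let ψ : V →ₗ[F] V := ∑ i, (D (σ i)).subtype ∘ₗ (e i).toLinearMap ∘ₗ
    (D i).projectionOnto (perp B (D i)) (h.nondeg i).isCompl
  have hψc : ∀ x i, h.comp (σ i) (ψ x) =
      ((e i ((D i).projectionOnto (perp B (D i)) (h.nondeg i).isCompl x)) : V) := by
    intro x i
    simp only [ψ, LinearMap.sum_apply, LinearMap.comp_apply, map_sum, LinearEquiv.coe_coe,
      Submodule.coe_subtype]
    rw [Finset.sum_eq_single i (fun j _ hji => h.comp_other (σ.injective.ne (Ne.symm hji)) (Subtype.prop _))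
      (by simp)]
    exact h.comp_self (Subtype.prop _)
  have hpres : ∀ x y, B (ψ x) (ψ y) = B x y := by
    intro x y
    rw [h.form_eq (ψ x), h.form_eq x, ← Equiv.sum_comp σ]
    refine Finset.sum_congr rfl fun i _ => ?_
    rw [hψc, hψc, he]
    rfl
  have hinj : Function.Injective ψ := by
    rw [← LinearMap.ker_eq_bot, LinearMap.ker_eq_bot']
    intro x hx
    exact hN.1 x fun y => by rw [← hpres, hx, map_zero, LinearMap.zero_apply]
  refine ⟨⟨LinearEquiv.ofInjectiveEndo ψ hinj, fun x y => hpres x y⟩, fun i x hx => ?_⟩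
  change ψ x ∈ D (σ i)
  simp only [ψ, LinearMap.sum_apply, LinearMap.comp_apply, LinearEquiv.coe_coe, Submodule.coe_subtype]
  refine Submodule.sum_mem _ fun j _ => ?_
  by_cases hji : j = i
  · subst hji; exact Subtype.prop _
  · rw [(Submodule.projectionOnto_apply_eq_zero_iff (h.nondeg j).isCompl).2
      (mem_perp.2 fun w hw => h.orth j i hji w hw x hx), map_zero]
    exact zero_mem _

/-- Changing one component of an axis. -/
theorem isAxis_change (h : OrthDecomp B D k) (hA : B.IsAlt) {M : Subgroup (isomGroup B)}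
    (hM : ∀ g, IsDecompSym D g → g ∈ M) {w : V} (hw : IsAxis hA M w) {i : Fin t}
    (hwi : h.comp i w ≠ 0) {x : V} (hx : x ∈ D i) (hx0 : x ≠ 0) :
    IsAxis hA M (w - h.comp i w + x) := by
  obtain ⟨a, -, ha⟩ := tv_transitive (restrictForm_isAlt hA (D i))
    (restrictForm_nondegenerate hA.isRefl (h.nondeg i)).1
    (u := (⟨h.comp i w, h.comp_mem i w⟩ : D i)) (u' := ⟨x, hx⟩)
    (fun e => hwi (congrArg Subtype.val e)) (fun e => hx0 (congrArg Subtype.val e))
  set s := isomStabEquiv hA.isRefl (h.nondeg i) (a, 1) with hs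
  have hleft : ∀ y, ∀ hy : y ∈ D i, (s.1).1 y = (a.1 ⟨y, hy⟩ : V) := fun y hy =>
    sumEquiv_apply_left (h.nondeg i).isCompl a.1 (1 : perp B (D i) ≃ₗ[F] perp B (D i)) ⟨y, hy⟩
  have hright : ∀ y ∈ perp B (D i), (s.1).1 y = y := fun y hy =>
    sumEquiv_apply_right (h.nondeg i).isCompl a.1 (1 : perp B (D i) ≃ₗ[F] perp B (D i)) ⟨y, hy⟩
  have hsH : IsDecompSym D s.1 := by
    refine isDecompSym_of s.1 1 h.dim fun j y hy => ?_
    by_cases hji : j = i
    · subst hji; rw [hleft y hy]; exact Subtype.prop _
    · rw [hright y (mem_perp.2 fun w hw => h.orth i j (Ne.symm hji) w hw y hy)]; exact hy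
  have hperp : w - h.comp i w ∈ perp B (D i) := by
    refine (Submodule.projectionOnto_apply_eq_zero_iff (h.nondeg i).isCompl).1 (Subtype.ext ?_)
    change h.comp i (w - h.comp i w) = 0
    rw [map_sub, h.comp_self (h.comp_mem i w), sub_self]
  have := hw.map (hM _ hsH)
  rwa [show w = (w - h.comp i w) + h.comp i w by abel, map_add, hright _ hperp,
    hleft _ (h.comp_mem i w), ha] at this

/-- The support of a vector. -/
noncomputable def supp (h : OrthDecomp B D k) (v : V) : Finset (Fin t) :=
  haveI := _root_.Classical.decPred fun i => h.comp i v ≠ 0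
  Finset.univ.filter fun i => h.comp i v ≠ 0

theorem mem_supp (h : OrthDecomp B D k) {v : V} {i : Fin t} : i ∈ h.supp v ↔ h.comp i v ≠ 0 := by
  simp [supp]

/-- All vectors of the same support are axes together. -/
theorem isAxis_of_supp (h : OrthDecomp B D k) (hA : B.IsAlt) {M : Subgroup (isomGroup B)}
    (hM : ∀ g, IsDecompSym D g → g ∈ M) {w v : V} (hw : IsAxis hA M w) (hs : h.supp v = h.supp w) :
    IsAxis hA M v := by
  classical
  induction hd : (Finset.univ.filter fun i => h.comp i w ≠ h.comp i v).card using Nat.strong_induction_on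
    generalizing w with
  | _ d ih =>
    by_cases hall : ∀ i, h.comp i w = h.comp i v
    · rwa [← h.ext_comp hall]
    push Not at hall
    obtain ⟨i, hi⟩ := hall
    have hiff : h.comp i v ≠ 0 ↔ h.comp i w ≠ 0 := by rw [← h.mem_supp, ← h.mem_supp, hs]
    have hwi : h.comp i w ≠ 0 := fun e => hi (by
      rw [e]; by_contra hne; exact hiff.1 (Ne.symm hne) e)
    have hw' := h.isAxis_change hA hM hw hwi (h.comp_mem i v) (hiff.2 hwi)
    set w' := w - h.comp i w + h.comp i v
    have hc : ∀ j, h.comp j w' = if j = i then h.comp i v else h.comp j w := by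
      intro j
      simp only [w', map_add, map_sub, h.comp_comp]
      split_ifs with hji
      · subst hji; abel
      · abel
    refine ih _ ?_ hw' ?_ rfl
    · rw [← hd]
      refine Finset.card_lt_card ⟨fun j hj => ?_, fun hsub => ?_⟩
      · simp only [Finset.mem_filter, Finset.mem_univ, true_and, hc] at hj ⊢
        split_ifs at hj with hji
        · exact absurd (by rw [hji]) hj
        · exact hj
      · have := hsub (Finset.mem_filter.2 ⟨Finset.mem_univ i, hi⟩)
        simp [hc] at this
    · rw [hs]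
      ext j
      rw [h.mem_supp, h.mem_supp, hc]
      split_ifs with hji
      · subst hji; exact ⟨fun _ => hiff.2 hwi, fun _ => hwi⟩
      · rfl

/-- The stabiliser of an orthogonal decomposition is maximal. -/
theorem maximal (h : OrthDecomp B D k) (hA : B.IsAlt) (hN : B.Nondegenerate) (hk : 1 ≤ k)
    (hfield : k = 2 → ∃ μ : F, μ ≠ 0 ∧ μ + 1 ≠ 0) {M : Subgroup (isomGroup B)}
    (hM : ∀ g, IsDecompSym D g → g ∈ M) {g : isomGroup B} (hg : g ∈ M) (hgD : ¬ IsDecompSym D g) :
    M = ⊤ := by
  classical
  have hblock : ∀ i, ∀ v ∈ D i, IsAxis hA M v := fun i v hv c => hM _ <|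
    isDecompSym_of _ 1 h.dim fun j x hx => by
      rw [tv_apply]
      by_cases hji : j = i
      · subst hji; exact add_mem hx ((D _).smul_mem _ hv)
      · rw [h.orth j i hji x hx v hv, mul_zero, zero_smul, add_zero]; exact hx
  have hblockne : ∀ i, ∃ a ∈ D i, a ≠ 0 := fun i => (Submodule.ne_bot_iff _).1 fun e => by
    have := h.dim i; rw [e, finrank_bot] at this; omega
  have hpartner : ∀ i, ∀ a ∈ D i, a ≠ 0 → ∃ b ∈ D i, B a b = 1 := fun i a ha ha0 => by
    obtain ⟨b, hb⟩ := alt_exists_partner (restrictForm_nondegenerate hA.isRefl (h.nondeg i)).1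
      (u := (⟨a, ha⟩ : D i)) fun e => ha0 (congrArg Subtype.val e)
    exact ⟨b, b.2, hb⟩
  -- an axis meeting two members
  obtain ⟨w₀, hw₀, hw₀c⟩ : ∃ w, IsAxis hA M w ∧ 1 < (h.supp w).card := by
    by_contra hc
    push Not at hc
    apply hgD
    have hmem : ∀ i, ∀ v ∈ D i, v ≠ 0 → ∃ j, g.1 v ∈ D j ∧ h.supp (g.1 v) = {j} := by
      intro i v hv hv0
      have hne : (h.supp (g.1 v)).Nonempty := by
        rw [Finset.nonempty_iff_ne_empty]
        intro he
        refine hv0 (g.1.injective ?_)
        rw [map_zero]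
        refine h.ext_comp fun j => ?_
        rw [map_zero]
        by_contra hj
        simpa [he] using h.mem_supp.2 hj
      obtain ⟨j, hj⟩ := Finset.card_eq_one.1 (le_antisymm (hc _ ((hblock i v hv).map hg)) hne.card_pos)
      refine ⟨j, ?_, hj⟩
      rw [← h.sum_comp (g.1 v), Finset.sum_eq_single j (fun l _ hl => by
        by_contra hne'
        have := h.mem_supp.2 hne'
        rw [hj, Finset.mem_singleton] at this
        exact hl this) (by simp)]
      exact h.comp_mem j _
    choose v₀ hv₀ hv₀' using hblockne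
    choose σ hσ hσs using fun i => hmem i (v₀ i) (hv₀ i) (hv₀' i)
    have himg : ∀ i, ∀ x ∈ D i, g.1 x ∈ D (σ i) := by
      intro i x hx
      by_cases hx0 : x = 0
      · simp [hx0]
      obtain ⟨j, hj, hjs⟩ := hmem i x hx hx0
      by_cases hji : j = σ i
      · exact hji ▸ hj
      exfalso
      have hsum : x + v₀ i ≠ 0 := by
        intro e
        have hx' : g.1 x = - g.1 (v₀ i) := by rw [eq_neg_of_add_eq_zero_left e, map_neg]
        have hx'' : h.comp j (g.1 x) ≠ 0 := h.mem_supp.1 (hjs ▸ Finset.mem_singleton_self j)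
        exact hx'' (by rw [hx', map_neg, h.comp_other hji (hσ i), neg_zero])
      obtain ⟨l, hl, hls⟩ := hmem i (x + v₀ i) (add_mem hx (hv₀ i)) hsum
      have h1 : j ∈ h.supp (g.1 (x + v₀ i)) := by
        rw [h.mem_supp, map_add, map_add, h.comp_other hji (hσ i), add_zero]
        exact h.mem_supp.1 (hjs ▸ Finset.mem_singleton_self j)
      have h2 : σ i ∈ h.supp (g.1 (x + v₀ i)) := by
        rw [h.mem_supp, map_add, map_add, h.comp_other (Ne.symm hji) hj, zero_add]
        exact h.mem_supp.1 (hσs i ▸ Finset.mem_singleton_self _)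
      rw [hls, Finset.mem_singleton] at h1 h2
      exact hji (h1.trans h2.symm)
    have hinj : Function.Injective σ := by
      intro a b hab
      by_contra hne
      have hle : ∀ i, (D i).map (g.1 : V →ₗ[F] V) = D (σ i) := fun i =>
        Submodule.eq_of_le_of_finrank_eq (by rintro _ ⟨x, hx, rfl⟩; exact himg i x hx)
          (by rw [(Submodule.equivMapOfInjective _ g.1.injective (D i)).finrank_eq.symm, h.dim, h.dim])
      have : D a = D b := Submodule.map_injective_of_injective (f := (g.1 : V →ₗ[F] V)) g.1.injective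
        (by rw [hle, hle, hab])
      refine hv₀' a ?_
      rw [← h.comp_self (hv₀ a), h.comp_other hne (this ▸ hv₀ a)]
    exact isDecompSym_of g (Equiv.ofBijective σ (Finite.injective_iff_bijective.1 hinj)) h.dim himg
  obtain ⟨j₀, hj₀, l₀, hl₀, hjl₀⟩ := Finset.one_lt_card.1 hw₀c
  -- an axis supported on exactly two members
  obtain ⟨p, hp, hpc⟩ : ∃ p, IsAxis hA M p ∧ h.supp p = {j₀, l₀} := by
    obtain ⟨b₁, hb₁, hb₁'⟩ := hpartner j₀ _ (h.comp_mem j₀ w₀) (h.mem_supp.1 hj₀)
    obtain ⟨x, hx, hx0, hxa, hBx⟩ : ∃ x ∈ D l₀, x ≠ 0 ∧ x + h.comp l₀ w₀ ≠ 0 ∧ B (h.comp l₀ w₀) x = 0 := by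
      rcases eq_or_ne k 2 with hk2 | hk2
      · obtain ⟨μ, hμ, hμ1⟩ := hfield hk2
        refine ⟨μ • h.comp l₀ w₀, (D l₀).smul_mem _ (h.comp_mem l₀ w₀),
          smul_ne_zero hμ (h.mem_supp.1 hl₀), ?_, by rw [map_smul, hA, smul_zero]⟩
        rw [show μ • h.comp l₀ w₀ + h.comp l₀ w₀ = (μ + 1) • h.comp l₀ w₀ by module]
        exact smul_ne_zero hμ1 (h.mem_supp.1 hl₀)
      · have hk3 : 2 < k := by
          rcases Nat.lt_or_ge 2 k with h3 | h3
          · exact h3
          exfalso
          have hk1 : k = 1 := by omega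
          obtain ⟨a, ha, ha0⟩ := hblockne l₀
          obtain ⟨b, hb, hab⟩ := hpartner l₀ a ha ha0
          have hd := h.dim l₀
          rw [hk1, finrank_eq_one_iff_of_nonzero' (⟨a, ha⟩ : D l₀) (fun e => ha0 (congrArg Subtype.val e))] at hd
          obtain ⟨c, hc⟩ := hd ⟨b, hb⟩
          have : b = c • a := (congrArg Subtype.val hc).symm
          rw [this, map_smul, hA, smul_zero] at hab
          exact zero_ne_one hab
        let φ : D l₀ →ₗ[F] F := (B (h.comp l₀ w₀)).comp (D l₀).subtype
        have h1 := φ.finrank_range_add_finrank_ker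
        have h2 := (Submodule.finrank_le (LinearMap.range φ)).trans (Module.finrank_self F).le
        rw [h.dim] at h1
        let a : D l₀ := ⟨h.comp l₀ w₀, h.comp_mem l₀ w₀⟩
        obtain ⟨x, hx, hxn⟩ : ∃ x ∈ LinearMap.ker φ, x ∉ Submodule.span F {a} := by
          refine SetLike.not_le_iff_exists.1 fun hle => ?_
          have h3 := Submodule.finrank_mono hle
          have h4 : finrank F (Submodule.span F {a}) ≤ 1 := by
            rw [finrank_span_singleton fun e : a = 0 => h.mem_supp.1 hl₀ (congrArg Subtype.val e)]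
          omega
        refine ⟨(x : V), x.2, fun e => hxn ?_, fun e => hxn ?_, hx⟩
        · rw [show x = 0 from Subtype.ext e]; exact zero_mem _
        · exact Submodule.mem_span_singleton.2 ⟨-1, Subtype.ext (by
            rw [Submodule.coe_smul, neg_one_smul, eq_neg_of_add_eq_zero_left e])⟩
    let b : V := -w₀ + h.comp j₀ w₀ + b₁ + h.comp l₀ w₀ + x
    have hcb : ∀ i, h.comp i b = if i = j₀ then b₁ else if i = l₀ then x else -h.comp i w₀ := by
      intro i
      simp only [b, map_add, map_neg, h.comp_comp]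
      split_ifs with h1 h2
      · subst h1; exact absurd h2 hjl₀
      · subst h1
        rw [h.comp_self hb₁, h.comp_other hjl₀ hx]
        abel
      · rename_i h2; subst h2
        rw [h.comp_self hx, h.comp_other (Ne.symm hjl₀) hb₁]
        abel
      · rename_i h2
        rw [h.comp_other h1 hb₁, h.comp_other h2 hx]
        abel
    have hb10 : b₁ ≠ 0 := fun e => by simp [e] at hb₁'
    have hb : IsAxis hA M b := h.isAxis_of_supp hA hM hw₀ (Finset.ext fun i => by
      rw [h.mem_supp, h.mem_supp, hcb]
      split_ifs with h1 h2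
      · subst h1; exact ⟨fun _ => h.mem_supp.1 hj₀, fun _ => hb10⟩
      · subst h2; exact ⟨fun _ => h.mem_supp.1 hl₀, fun _ => hx0⟩
      · exact neg_ne_zero)
    have hB : B b w₀ ≠ 0 := by
      intro e
      have e' := hA.isRefl _ _ e
      rw [h.form_eq, Finset.sum_eq_single j₀] at e'
      · rw [hcb, if_pos rfl, hb₁'] at e'; exact one_ne_zero e'
      · intro i _ hi
        rw [hcb, if_neg hi]
        split_ifs with h2
        · subst h2; exact hBx
        · rw [map_neg, hA, neg_zero]
      · simp
    refine ⟨b + (1 : F) • w₀, hw₀.add hb hB 1, ?_⟩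
    ext i
    rw [h.mem_supp, one_smul, map_add, hcb]
    simp only [Finset.mem_insert, Finset.mem_singleton]
    split_ifs with h1 h2
    · subst h1
      refine iff_of_true (fun e => ?_) (Or.inl rfl)
      have h0 := congrArg (B (h.comp i w₀)) e
      rw [map_add, hb₁', hA, add_zero, map_zero] at h0
      exact one_ne_zero h0
    · subst h2; exact iff_of_true hxa (Or.inr rfl)
    · exact iff_of_false (by simp) (by simp [h1, h2])
  -- axes on every pair
  have hpair : ∀ a c, a ≠ c → ∀ v, h.supp v = {a, c} → IsAxis hA M v := by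
    intro a c hac v hv
    let s₁ := Equiv.swap j₀ a
    let σ := Equiv.swap (s₁ l₀) c * s₁
    have hσj : σ j₀ = a := by
      simp only [σ, Equiv.Perm.mul_apply, s₁, Equiv.swap_apply_left]
      refine Equiv.swap_apply_of_ne_of_ne ?_ hac
      intro e
      exact hjl₀ ((Equiv.swap j₀ a).injective (by rw [Equiv.swap_apply_left]; exact e))
    have hσl : σ l₀ = c := by simp [σ, Equiv.Perm.mul_apply]
    obtain ⟨π, hπ⟩ := h.exists_perm hA hN σ
    have hπm : π ∈ M := hM π (isDecompSym_of π σ h.dim hπ)
    refine h.isAxis_of_supp hA hM (hp.map hπm) ?_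
    rw [hv]
    ext i
    obtain ⟨i, rfl⟩ := σ.surjective i
    have hc : h.comp (σ i) (π.1 p) = π.1 (h.comp i p) := by
      conv_lhs => rw [← h.sum_comp p, map_sum, map_sum]
      rw [Finset.sum_eq_single i (fun j _ hj => h.comp_other (σ.injective.ne (Ne.symm hj)) (hπ j _ (h.comp_mem j p)))
        (by simp)]
      exact h.comp_self (hπ i _ (h.comp_mem i p))
    rw [h.mem_supp, hc, map_ne_zero_iff _ π.1.injective, ← h.mem_supp, hpc, ← hσj, ← hσl]
    simp
  have hall : ∀ S : Finset (Fin t), ∀ v, h.supp v = S → IsAxis hA M v := by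
    intro S
    induction S using Finset.induction with
    | empty =>
      intro v hv
      have hv0 : v = 0 := h.ext_comp fun i => by
        rw [map_zero]; by_contra hne; simpa [hv] using h.mem_supp.2 hne
      intro c
      rw [hv0, show tv hA (0 : V) c = 1 from Subtype.ext (LinearEquiv.ext fun x => by simp)]
      exact M.one_mem
    | insert l S hl ih =>
      intro v hv
      rcases S.eq_empty_or_nonempty with rfl | ⟨j, hj⟩
      · refine hblock l v ?_
        rw [← h.sum_comp v, Finset.sum_eq_single l (fun i _ hi => by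
          by_contra hne
          have := h.mem_supp.2 hne
          rw [hv] at this
          simp [hi] at this) (by simp)]
        exact h.comp_mem l v
      have hjl : j ≠ l := fun e => hl (e ▸ hj)
      let a : V := v - h.comp l v
      have hca : ∀ i, h.comp i a = if i = l then 0 else h.comp i v := by
        intro i
        simp only [a, map_sub, h.comp_comp]
        split_ifs with hi
        · subst hi; exact sub_self _
        · exact sub_zero _
      have haS : h.supp a = S := by
        ext i
        rw [h.mem_supp, hca]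
        split_ifs with hi
        · subst hi; simp [hl]
        · rw [← h.mem_supp, hv]; simp [hi]
      have haA := ih a haS
      have haj : h.comp j a ≠ 0 := h.mem_supp.1 (haS ▸ hj)
      obtain ⟨bj, hbj, hB1⟩ := hpartner j _ (h.comp_mem j a) haj
      obtain ⟨bl, hbl, hbl0⟩ := hblockne l
      have hbj0 : bj ≠ 0 := fun e => by simp [e] at hB1
      let b : V := bj + bl
      have hcb : ∀ i, h.comp i b = if i = j then bj else if i = l then bl else 0 := by
        intro i
        simp only [b, map_add]
        split_ifs with h1 h2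
        · subst h1; rw [h.comp_self hbj, h.comp_other hjl hbl, add_zero]
        · subst h2; rw [h.comp_self hbl, h.comp_other (Ne.symm hjl) hbj, zero_add]
        · rw [h.comp_other h1 hbj, h.comp_other h2 hbl, add_zero]
      have hbA : IsAxis hA M b := hpair j l hjl b (Finset.ext fun i => by
        rw [h.mem_supp, hcb]
        split_ifs with h1 h2 <;> simp_all)
      have hBba : B b a ≠ 0 := by
        intro e
        have e' := hA.isRefl _ _ e
        rw [h.form_eq, Finset.sum_eq_single j] at e'
        · rw [hcb, if_pos rfl, hB1] at e'; exact one_ne_zero e'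
        · intro i _ hi
          rw [hca, hcb, if_neg hi]
          split_ifs <;> simp
        · simp
      refine h.isAxis_of_supp hA hM (haA.add hbA hBba 1) ?_
      rw [hv]
      ext i
      rw [h.mem_supp, one_smul, map_add, hcb]
      simp only [Finset.mem_insert]
      split_ifs with h1 h2
      · subst h1
        refine iff_of_true (Or.inr hj) fun e => ?_
        have h0 := congrArg (B (h.comp i a)) e
        rw [map_add, hB1, hA, add_zero, map_zero] at h0
        exact one_ne_zero h0
      · subst h2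
        rw [hca, if_pos rfl, add_zero]
        exact iff_of_true (Or.inl rfl) hbl0
      · rw [zero_add, hca, if_neg h2, ← h.mem_supp, hv]
        simp [h2]
  exact eq_top_of_isAxis hA hN fun v => hall _ v rfl

/-- The stabiliser of a proper decomposition is not the whole group. -/
theorem exists_not_sym (h : OrthDecomp B D k) (hA : B.IsAlt) (hk : 1 ≤ k) (ht : 2 ≤ t) :
    ∃ g : isomGroup B, ¬ IsDecompSym D g := by
  obtain ⟨a, ha, ha0⟩ := (Submodule.ne_bot_iff _).1 (fun e : D ⟨0, by omega⟩ = ⊥ => by
    have := h.dim ⟨0, by omega⟩; rw [e, finrank_bot] at this; omega)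
  obtain ⟨b, hb, hb0⟩ := (Submodule.ne_bot_iff _).1 (fun e : D ⟨1, by omega⟩ = ⊥ => by
    have := h.dim ⟨1, by omega⟩; rw [e, finrank_bot] at this; omega)
  obtain ⟨a', hBaa⟩ := alt_exists_partner (restrictForm_nondegenerate hA.isRefl (h.nondeg _)).1
    (u := (⟨a, ha⟩ : D _)) fun e => ha0 (congrArg Subtype.val e)
  rw [restrictForm_apply] at hBaa
  have h01 : (⟨0, by omega⟩ : Fin t) ≠ ⟨1, by omega⟩ := by simp [Fin.ext_iff]
  refine ⟨tv hA (a + b) 1, fun ⟨σ, hσ⟩ => ?_⟩
  have hmem : (tv hA (a + b) 1).1 (a' : V) ∈ D (σ ⟨0, by omega⟩) := (hσ _).le ⟨_, a'.2, rfl⟩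
  have hB : B (a' : V) (a + b) = -1 := by
    rw [map_add, h.orth _ _ h01 _ a'.2 _ hb, add_zero, alt_swap hA, hBaa]
  rw [tv_apply, hB, one_mul, neg_one_smul] at hmem
  have hcomp : ∀ i, i ≠ σ ⟨0, by omega⟩ → h.comp i ((a' : V) + -(a + b)) = 0 := fun i hi => h.comp_other hi hmem
  have e0 : h.comp ⟨0, by omega⟩ ((a' : V) + -(a + b)) = a' - a := by
    rw [map_add, map_neg, map_add, h.comp_self a'.2, h.comp_self ha, h.comp_other h01 hb, add_zero, sub_eq_add_neg]
  have e1 : h.comp ⟨1, by omega⟩ ((a' : V) + -(a + b)) = -b := by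
    rw [map_add, map_neg, map_add, h.comp_other h01.symm a'.2, h.comp_other h01.symm ha, h.comp_self hb, zero_add, zero_add]
  by_cases h0 : (⟨0, by omega⟩ : Fin t) = σ ⟨0, by omega⟩
  · exact hb0 (neg_eq_zero.1 (e1.symm.trans (hcomp _ fun e => h01 (h0.trans e.symm))))
  · have := e0.symm.trans (hcomp _ h0)
    rw [sub_eq_zero.1 this, hA] at hBaa
    exact zero_ne_one hBaa

end OrthDecomp

end CfsgLib.Classical
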