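import Cfsg.Prelude.Def_GeometricClasses

/-!
# Quadratic subfields of matrix algebras
-/

set_option autoImplicit false
set_option linter.unusedSectionVars false

open Matrix

namespace CfsgLib.Classical.QuadExtension

variable {F : Type*} [Field F] {ι : Type} [Fintype ι] [DecidableEq ι] [Nonempty ι]
  {K : Subalgebra F (Matrix ι ι F)}

theorem exists_repr (hK : Cfsg.Geo.IsFieldSubalgebra 2 K) {J : Matrix ι ι F} (hJ : J ∈ K)
    (hJs : ∀ c : F, J ≠ c • (1 : Matrix ι ι F)) {k : Matrix ι ι F} (hk : k ∈ K) :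
    ∃ a b : F, k = a • (1 : Matrix ι ι F) + b • J := by
  have hli : LinearIndependent F ![(⟨1, one_mem K⟩ : K), ⟨J, hJ⟩] := by
    rw [LinearIndependent.pair_iff]
    intro s t hst
    have h : s • (1 : Matrix ι ι F) + t • J = 0 := congrArg Subtype.val hst
    by_cases ht : t = 0
    · subst ht
      rw [zero_smul, add_zero, smul_eq_zero] at h
      exact ⟨h.resolve_right one_ne_zero, rfl⟩
    · exfalso
      refine hJs (-(t⁻¹ * s)) ?_
      have h' := congrArg (t⁻¹ • ·) h
      simp only [smul_add, inv_smul_smul₀ ht, smul_zero, smul_smul] at h'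
      rw [neg_smul, eq_neg_iff_add_eq_zero, add_comm]
      exact h'
  haveI : FiniteDimensional F K := Module.finite_of_finrank_eq_succ hK.finrank_eq
  have hspan := hli.span_eq_top_of_card_eq_finrank (by rw [hK.finrank_eq]; simp)
  obtain ⟨c, hc⟩ := (Submodule.mem_span_range_iff_exists_fun F).1 (hspan ▸ Submodule.mem_top :
    (⟨k, hk⟩ : K) ∈ Submodule.span F (Set.range ![(⟨1, one_mem K⟩ : K), ⟨J, hJ⟩]))
  refine ⟨c 0, c 1, ?_⟩
  rw [Fin.sum_univ_two] at hc
  exact (congrArg Subtype.val hc).symm

/-- Membership in the normaliser through one generator with scalar square. -/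
theorem mem_normalizer_iff (h2 : (2 : F) ≠ 0) (hK : Cfsg.Geo.IsFieldSubalgebra 2 K) {J : Matrix ι ι F} (hJ : J ∈ K)
    (hJs : ∀ c : F, J ≠ c • (1 : Matrix ι ι F)) {δ : F} (hJJ : J * J = δ • (1 : Matrix ι ι F)) (hδ : δ ≠ 0)
    (g : GL ι F) :
    g ∈ Cfsg.Geo.subalgebraNormalizer K ↔
      (g : Matrix ι ι F) * J = J * (g : Matrix ι ι F) ∨ (g : Matrix ι ι F) * J = -(J * (g : Matrix ι ι F)) := by
  constructor
  · intro hg
    set G := (g : Matrix ι ι F)
    set G' := ((g⁻¹ : GL ι F) : Matrix ι ι F)
    have hGG : G' * G = 1 := by rw [← Units.val_mul, inv_mul_cancel, Units.val_one]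
    have hGG' : G * G' = 1 := by rw [← Units.val_mul, mul_inv_cancel, Units.val_one]
    obtain ⟨a, b, hab⟩ := exists_repr hK hJ hJs ((hg J).1 hJ)
    have hsq : (a • (1 : Matrix ι ι F) + b • J) * (a • (1 : Matrix ι ι F) + b • J) = δ • (1 : Matrix ι ι F) := by
      rw [← hab, show G * J * G' * (G * J * G') = G * J * (G' * G) * J * G' by noncomm_ring, hGG, mul_one,
        mul_assoc G J J, hJJ, Matrix.mul_smul, Matrix.smul_mul, mul_one, hGG']
    simp only [add_mul, mul_add, Matrix.smul_mul, Matrix.mul_smul, one_mul, mul_one, hJJ, smul_smul] at hsq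
    have hb0 : b ≠ 0 := by
      rintro rfl
      apply hJs a
      have h' := congrArg (fun t => G' * t * G) hab
      rw [show G' * (G * J * G') * G = (G' * G) * J * (G' * G) by noncomm_ring, hGG, one_mul, mul_one,
        zero_smul, add_zero, Matrix.mul_smul, Matrix.smul_mul, mul_one, hGG] at h'
      exact h'
    have ha : a = 0 := by
      by_contra ha
      refine hJs ((2 * a * b)⁻¹ * (δ - a * a - b * b * δ)) ?_
      have h' : (2 * a * b) • J = (δ - a * a - b * b * δ) • (1 : Matrix ι ι F) := by
        linear_combination (norm := module) hsq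
      rw [← smul_smul, ← h', inv_smul_smul₀ (mul_ne_zero (mul_ne_zero h2 ha) hb0)]
    subst ha
    have hb : b * b = 1 := by
      have h' : (b * b * δ - δ) • (1 : Matrix ι ι F) = 0 := by linear_combination (norm := module) hsq
      have := (smul_eq_zero.1 h').resolve_right one_ne_zero
      exact mul_right_cancel₀ hδ (by linear_combination this)
    have h' : G * J = b • (J * G) := by
      have := congrArg (· * G) hab
      simp only [zero_smul, zero_add, Matrix.smul_mul] at this
      rwa [mul_assoc, hGG, mul_one] at this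
    rcases mul_self_eq_one_iff.1 hb with h | h
    · left; rw [h', h, one_smul]
    · right; rw [h', h, neg_one_smul]
  · intro hg
    have key : ∀ (h : GL ι F) (e : F), (h : Matrix ι ι F) * J = e • (J * (h : Matrix ι ι F)) → ∀ k ∈ K,
        (h : Matrix ι ι F) * k * ((h⁻¹ : GL ι F) : Matrix ι ι F) ∈ K := by
      intro h e he k hk
      obtain ⟨a, b, rfl⟩ := exists_repr hK hJ hJs hk
      rw [mul_add, add_mul, Matrix.mul_smul, Matrix.mul_smul, Matrix.smul_mul, Matrix.smul_mul, mul_one, he,
        Matrix.smul_mul, mul_assoc J, ← Units.val_mul, mul_inv_cancel, Units.val_one, mul_one]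
      exact K.add_mem (K.smul_mem (K.one_mem) a) (K.smul_mem (K.smul_mem hJ e) b)
    obtain ⟨e, he1, he⟩ : ∃ e : F, e * e = 1 ∧ (g : Matrix ι ι F) * J = e • (J * (g : Matrix ι ι F)) := by
      rcases hg with h | h
      · exact ⟨1, one_mul 1, by rw [one_smul, h]⟩
      · exact ⟨-1, by ring, by rw [neg_one_smul, h]⟩
    have he' : ((g⁻¹ : GL ι F) : Matrix ι ι F) * J = e • (J * ((g⁻¹ : GL ι F) : Matrix ι ι F)) := by
      have h1 := congrArg (fun t => e • (((g⁻¹ : GL ι F) : Matrix ι ι F) * t * ((g⁻¹ : GL ι F) : Matrix ι ι F))) he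
      simp only [Matrix.mul_smul, Matrix.smul_mul, smul_smul, he1, one_smul, ← mul_assoc, ← Units.val_mul,
        inv_mul_cancel, Units.val_one, one_mul] at h1
      rw [h1, mul_assoc _ (g : Matrix ι ι F), ← Units.val_mul g, mul_inv_cancel, Units.val_one, mul_one]
    intro k
    refine ⟨key g e he k, fun hk => ?_⟩
    have := key g⁻¹ e he' _ hk
    simpa [mul_assoc, ← Units.val_mul, ← mul_assoc] using this

end CfsgLib.Classical.QuadExtension
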