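import Cfsg.Agent.Lib.Classical.HermMax

/-!
# Root elements for symplectic and unitary forms, and pairs of complementary totally isotropic subspaces
-/

set_option autoImplicit false
set_option linter.unusedSectionVars false

open Module

namespace CfsgLib.Classical

variable {F : Type*} [Field F] {V : Type*} [AddCommGroup V] [Module F V] {σ : F →+* F}
  {B : V →ₛₗ[σ] V →ₗ[F] F} {e : F}

/-- A symplectic (`e = 1`) or hermitian (`e = -1`) form. -/
structure IsEpsForm (B : V →ₛₗ[σ] V →ₗ[F] F) (e : F) : Prop where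
  invol : ∀ a, σ (σ a) = a
  sq : e * e = 1
  fix : σ e = e
  swap : ∀ x y, B y x = -(e * σ (B x y))
  sep : B.SeparatingRight
  trace : ∃ μ, μ + σ μ ≠ 0
  anti : ∃ δ, δ ≠ 0 ∧ σ δ = e * δ

/-- `g` is the root element with parameters `a`, `b`, `s`. -/
def IsRt (e : F) (g : isomGroup B) (a b : V) (s : F) : Prop :=
  B a a = 0 ∧ B a b = 0 ∧ σ s - e * s + B b b = 0 ∧
    ∀ v, g.1 v = v + B a v • b + (e * B b v + s * B a v) • a

/-- `M` contains the root elements with parameters `a`, `b`, `s`. -/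
def RootIn (e : F) (M : Subgroup (isomGroup B)) (a b : V) (s : F) : Prop := ∀ g, IsRt e g a b s → g ∈ M

theorem IsRt.unique {g g' : isomGroup B} {a b : V} {s : F} (h : IsRt e g a b s) (h' : IsRt e g' a b s) : g = g' :=
  Subtype.ext (LinearEquiv.ext fun v => (h.2.2.2 v).trans (h'.2.2.2 v).symm)

theorem IsRt.conj {g : isomGroup B} {a b : V} {s : F} (h : IsRt e g a b s) (k : isomGroup B) :
    IsRt e (k * g * k⁻¹) (k.1 a) (k.1 b) s := by
  obtain ⟨h1, h2, h3, h4⟩ := h
  refine ⟨by rw [isomGroup_apply]; exact h1, by rw [isomGroup_apply]; exact h2,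
    by rw [isomGroup_apply]; exact h3, fun v => ?_⟩
  obtain ⟨w, rfl⟩ := k.1.surjective v
  change k.1 (g.1 ((k⁻¹ : isomGroup B).1 (k.1 w))) = _
  rw [show (k⁻¹ : isomGroup B).1 (k.1 w) = w from k.1.symm_apply_apply w, h4, isomGroup_apply, isomGroup_apply,
    map_add, map_add, map_smul, map_smul]

theorem IsRt.fix' {g : isomGroup B} {a b v : V} {s : F} (h : IsRt e g a b s) (h1 : B a v = 0) (h2 : B b v = 0) :
    g.1 v = v := by rw [h.2.2.2, h1, h2]; simp

theorem RootIn.conj {M : Subgroup (isomGroup B)} {a b : V} {s : F} (h : RootIn e M a b s) {k : isomGroup B}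
    (hk : k ∈ M) : RootIn e M (k.1 a) (k.1 b) s := fun g hg => by
  have h1 := hg.conj k⁻¹
  rw [show (k⁻¹ : isomGroup B).1 (k.1 a) = a from k.1.symm_apply_apply a,
    show (k⁻¹ : isomGroup B).1 (k.1 b) = b from k.1.symm_apply_apply b, inv_inv] at h1
  have h2 := M.mul_mem (M.mul_mem hk (h _ h1)) (M.inv_mem hk)
  simpa [mul_assoc] using h2

namespace IsEpsForm

variable (h : IsEpsForm B e)
include h

theorem sigma_form (x y : V) : σ (B x y) = -(e * B y x) := by
  linear_combination (e * 1) * h.swap x y - σ (B x y) * h.sq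

theorem orth_symm' {x y : V} (hxy : B x y = 0) : B y x = 0 := by rw [h.swap x y, hxy, map_zero, mul_zero, neg_zero]

theorem exists_rt [Finite F] [FiniteDimensional F V] {a b : V} {s : F} (ha : B a a = 0) (hab : B a b = 0)
    (hs : σ s - e * s + B b b = 0) : ∃ g : isomGroup B, IsRt e g a b s := by
  haveI : Finite V := Module.finite_of_finite F
  set f : V →ₗ[F] V := LinearMap.id + (B a).smulRight b + (e • B b + s • B a).smulRight a with hf
  have hfv : ∀ v, f v = v + B a v • b + (e * B b v + s * B a v) • a := fun v => by simp [hf]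
  have hba := h.orth_symm' hab
  have hpres : ∀ x y, B (f x) (f y) = B x y := fun x y => by
    simp only [hfv, map_add, map_smul, map_smulₛₗ, LinearMap.add_apply, LinearMap.smul_apply, smul_eq_mul, map_mul,
      h.fix, ha, hab, hba, h.swap a x, h.swap b x, RingHom.id_apply]
    linear_combination (σ (B a x) * B a y) * hs - (σ (B a x) * B b y) * h.sq
  have hinj : Function.Injective f := by
    rw [injective_iff_map_eq_zero]
    exact fun x hx => h.sep x fun y => by rw [← hpres, hx, map_zero]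
  exact ⟨⟨LinearEquiv.ofInjectiveEndo f hinj, fun x y => hpres x y⟩, ha, hab, hs, hfv⟩

theorem rt_mul {g g' : isomGroup B} {a b c : V} {s s' : F} (hg : IsRt e g a b s) (hg' : IsRt e g' a c s') :
    IsRt e (g * g') a (b + c) (s + s' + e * B b c) := by
  obtain ⟨ha, hb, hs, hg⟩ := hg
  obtain ⟨-, hc, hs', hg'⟩ := hg'
  refine ⟨ha, by rw [map_add, hb, hc, add_zero], ?_, fun v => ?_⟩
  · simp only [map_add, map_mul, LinearMap.add_apply, h.fix, h.sigma_form b c]
    linear_combination hs + hs' - B c b * h.sq - B b c * h.sq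
  · show g.1 (g'.1 v) = _
    rw [hg, hg']
    simp only [map_add, map_smul, LinearMap.add_apply, smul_eq_mul, ha, hc, h.orth_symm' hb]
    module

theorem rt_one {a : V} (ha : B a a = 0) : IsRt e (1 : isomGroup B) a 0 0 :=
  ⟨ha, by simp, by simp, fun v => by show v = _; simp⟩

theorem rt_inv {g : isomGroup B} {a b : V} {s : F} (hg : IsRt e g a b s) [Finite F] [FiniteDimensional F V] :
    IsRt e g⁻¹ a (-b) (-s + e * B b b) := by
  obtain ⟨g', hg'⟩ := h.exists_rt hg.1 (show B a (-b) = 0 by rw [map_neg, hg.2.1, neg_zero])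
    (show σ (-s + e * B b b) - e * (-s + e * B b b) + B (-b) (-b) = 0 by
      simp only [map_add, map_neg, map_mul, LinearMap.neg_apply, h.fix, h.sigma_form b b]
      linear_combination -hg.2.2.1 - (2 * B b b) * h.sq + B b b * 0)
  have h0 := h.rt_mul hg hg'
  rw [add_neg_cancel, show s + (-s + e * B b b) + e * B b (-b) = 0 by rw [map_neg]; ring] at h0
  rw [← eq_inv_of_mul_eq_one_right (h0.unique (h.rt_one hg.1))]
  exact hg'

theorem rootIn_add [Finite F] [FiniteDimensional F V] {M : Subgroup (isomGroup B)} {a b c : V} {s s' : F}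
    (ha : B a a = 0) (hb : B a b = 0) (hs : σ s - e * s + B b b = 0) (hc : B a c = 0)
    (hs' : σ s' - e * s' + B c c = 0) (h1 : RootIn e M a b s) (h2 : RootIn e M a c s') :
    RootIn e M a (b + c) (s + s' + e * B b c) := by
  intro g hg
  obtain ⟨x, hx⟩ := h.exists_rt ha hb hs
  obtain ⟨y, hy⟩ := h.exists_rt ha hc hs'
  rw [hg.unique (h.rt_mul hx hy)]
  exact M.mul_mem (h1 x hx) (h2 y hy)

theorem rootIn_neg [Finite F] [FiniteDimensional F V] {M : Subgroup (isomGroup B)} {a b : V} {s : F}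
    (ha : B a a = 0) (hb : B a b = 0) (hs : σ s - e * s + B b b = 0) (h1 : RootIn e M a b s) :
    RootIn e M a (-b) (-s + e * B b b) := by
  intro g hg
  obtain ⟨x, hx⟩ := h.exists_rt ha hb hs
  rw [hg.unique (h.rt_inv hx)]
  exact M.inv_mem (h1 x hx)

theorem rt_swap {g : isomGroup B} {a d : V} {l : F} (hd : B d d = 0)
    (hg : IsRt e g d ((e * σ l) • a) 0) (ha : B a a = 0) (hl : l ≠ 0) : IsRt e g a (l • d) 0 := by
  obtain ⟨-, hda, -, hg⟩ := hg
  have hσl : σ l ≠ 0 := fun h0 => hl (by rw [← h.invol l, h0, map_zero])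
  have he : e ≠ 0 := fun h0 => by have := h.sq; simp [h0] at this
  have hda' : B d a = 0 := by simpa [he, hσl] using hda
  refine ⟨ha, by rw [map_smul, h.orth_symm' hda', smul_zero], by simp [hd], fun v => ?_⟩
  rw [hg, map_smulₛₗ, map_smulₛₗ, map_mul, h.fix, h.invol]
  simp only [LinearMap.smul_apply, smul_eq_mul, zero_mul, add_zero]
  match_scalars <;> first | ring1 | linear_combination h.sq * (l * B a v)

end IsEpsForm

/-- Two complementary totally isotropic subspaces. -/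
structure IsoPair (B : V →ₛₗ[σ] V →ₗ[F] F) (U W : Submodule F V) : Prop where
  left : ∀ x ∈ U, ∀ y ∈ U, B x y = 0
  right : ∀ x ∈ W, ∀ y ∈ W, B x y = 0
  sup : U ⊔ W = ⊤
  inf : U ⊓ W = ⊥
  dim : finrank F U = finrank F W

namespace IsoPair

variable {U W : Submodule F V} (hP : IsoPair B U W)
include hP

theorem symm : IsoPair B W U :=
  ⟨hP.right, hP.left, by rw [sup_comm]; exact hP.sup, by rw [inf_comm]; exact hP.inf, hP.dim.symm⟩

theorem decomp (v : V) : ∃ u ∈ U, ∃ w ∈ W, u + w = v :=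
  Submodule.mem_sup.1 (hP.sup ▸ Submodule.mem_top (x := v))

variable [Finite F] [FiniteDimensional F V] (h : IsEpsForm B e)
include h

theorem exists_form_eq' (φ : V →ₗ[F] F) : ∃ z, ∀ v, B z v = φ v := by
  haveI : Finite V := Module.finite_of_finite F
  haveI : Finite (Module.Dual F V) := Module.finite_of_finite F
  have hinj : Function.Injective (fun z => B z) := fun x y hxy => by
    refine sub_eq_zero.1 (h.sep _ fun v => h.orth_symm' ?_)
    rw [map_sub, LinearMap.sub_apply, show B x = B y from hxy, sub_self]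
  obtain ⟨eq⟩ := FiniteDimensional.nonempty_linearEquiv_of_finrank_eq
    (Subspace.dual_finrank_eq (K := F) (V := V)).symm
  have hbij := (Nat.bijective_iff_injective_and_card _).2 ⟨hinj, Nat.card_congr eq.toEquiv⟩
  obtain ⟨z, hz⟩ := hbij.2 φ
  exact ⟨z, fun v => LinearMap.congr_fun hz v⟩

theorem exists_partner {S : Submodule F V} (hS : S ≤ U) {x : V} (hxU : x ∈ U)
    (hx : x ∉ S) (c : F) : ∃ y ∈ W, (∀ s ∈ S, B y s = 0) ∧ B y x = c := by
  obtain ⟨φ, hφx, hφS⟩ := Submodule.exists_dual_map_eq_bot_of_notMem hx inferInstance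
  obtain ⟨z, hz⟩ := hP.exists_form_eq' h ((c * (φ x)⁻¹) • φ)
  obtain ⟨u, hu, w, hw, rfl⟩ := hP.decomp z
  refine ⟨w, hw, fun s hs => ?_, ?_⟩
  · have := hz s
    rw [map_add, LinearMap.add_apply, hP.left u hu s (hS hs), zero_add, LinearMap.smul_apply,
      (Submodule.eq_bot_iff _).1 hφS _ (Submodule.mem_map_of_mem hs), smul_zero] at this
    exact this
  · have := hz x
    rw [map_add, LinearMap.add_apply, hP.left u hu x hxU, zero_add, LinearMap.smul_apply, smul_eq_mul,
      mul_assoc, inv_mul_cancel₀ hφx, mul_one] at this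
    exact this

theorem rt_stab {g : isomGroup B} {d y : V} (hd : d ∈ U) (hy : y ∈ W) (hg : IsRt e g d y 0) :
    U.map (g.1 : V →ₗ[F] V) = U ∧ W.map (g.1 : V →ₗ[F] V) = W := by
  constructor <;> refine Submodule.eq_of_le_of_finrank_eq ?_ (LinearEquiv.finrank_map_eq g.1 _) <;>
    rintro _ ⟨x, hx, rfl⟩
  · show g.1 x ∈ U
    rw [hg.2.2.2, hP.left d hd x hx]
    simp only [zero_smul, add_zero]
    exact U.add_mem hx (U.smul_mem _ hd)
  · show g.1 x ∈ W
    rw [hg.2.2.2, hP.right y hy x hx]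
    simp only [mul_zero, zero_mul, add_zero, zero_smul]
    exact W.add_mem hx (W.smul_mem _ hy)

variable {M : Subgroup (isomGroup B)} (hM : ∀ d ∈ U, ∀ y ∈ W, RootIn e M d y 0)
include hM

omit h in
theorem rootIn_symm (h : IsEpsForm B e) {d y : V} (hd : d ∈ W) (hy : y ∈ U) : RootIn e M d y 0 := by
  intro g hg
  by_cases hy0 : y = 0
  · subst hy0; rw [hg.unique (h.rt_one hg.1)]; exact M.one_mem
  have h1 : IsRt e g y ((1 : F) • (e • d)) 0 := by
    refine ⟨hP.left y hy y hy, by rw [map_smul, map_smul, h.orth_symm' hg.2.1, smul_zero, smul_zero],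
      by simp [hP.right d hd d hd], fun v => ?_⟩
    rw [hg.2.2.2, one_smul, map_smulₛₗ, h.fix]
    simp only [LinearMap.smul_apply, smul_eq_mul, zero_mul, add_zero]
    match_scalars <;> first | ring1 | linear_combination h.sq * (-(B d v)) | linear_combination h.sq * (B d v)
  rw [one_smul] at h1
  exact hM y hy _ (W.smul_mem _ hd) g h1

theorem exists_shear {d y : V} (hd : d ∈ U) (hy : y ∈ W) (hdy : B d y = 0) :
    ∃ k ∈ M, U.map (k.1 : V →ₗ[F] V) = U ∧ ∀ x ∈ U, k.1 x = x + (e * B y x) • d := by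
  obtain ⟨g, hg⟩ := h.exists_rt (hP.left d hd d hd) hdy (s := 0) (by simp [hP.right y hy y hy])
  refine ⟨g, hM d hd y hy g hg, (hP.rt_stab h hd hy hg).1, fun x hx => ?_⟩
  rw [hg.2.2.2, hP.left d hd x hx]
  simp

/-- One radical element gives the whole radical at every point of `U`. -/
theorem rad_of_seed (hk : 3 ≤ finrank F U) {d₀ u₀ : V} {s₀ : F} (hd₀ : d₀ ∈ U) (hu₀ : u₀ ∈ U) (hd₀0 : d₀ ≠ 0)
    (hne : u₀ ∉ F ∙ d₀) (hs₀ : σ s₀ - e * s₀ = 0) (hseed : RootIn e M d₀ u₀ s₀) :
    ∀ x ∈ U, x ≠ 0 → ∀ u ∈ U, RootIn e M x u 0 := by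
  classical
  have hiso : ∀ u ∈ U, σ (0 : F) - e * 0 + B u u = 0 := fun u hu => by simp [hP.left u hu u hu]
  have hseed' : σ s₀ - e * s₀ + B u₀ u₀ = 0 := by rw [hs₀, hP.left u₀ hu₀ u₀ hu₀, add_zero]
  have hall : ∀ u ∈ U, RootIn e M d₀ u 0 := by
    have hker : ∀ y ∈ W, B y d₀ = 0 → B y u₀ = e → ∀ x ∈ U, B y x = 0 → RootIn e M d₀ x 0 := by
      intro y hy h0 h1 x hx hyx
      obtain ⟨k, hk', -, hkf⟩ := hP.exists_shear h hM hx hy (h.orth_symm' hyx)
      have hs := RootIn.conj hseed hk'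
      rw [hkf _ hd₀, hkf _ hu₀, h0, h1, mul_zero, zero_smul, add_zero, h.sq, one_smul] at hs
      have hux : u₀ + x ∈ U := U.add_mem hu₀ hx
      have h2 := h.rootIn_add (hP.left _ hd₀ _ hd₀) (hP.left _ hd₀ _ hux) (by
        rw [hs₀, hP.left _ hux _ hux, add_zero]) (hP.left _ hd₀ _ (U.neg_mem hu₀)) (s' := -s₀ + e * B u₀ u₀) (by
        rw [hP.left _ (U.neg_mem hu₀) _ (U.neg_mem hu₀), hP.left u₀ hu₀ u₀ hu₀, mul_zero, add_zero, add_zero, map_neg]
        linear_combination -hs₀) hs (h.rootIn_neg (hP.left _ hd₀ _ hd₀) (hP.left _ hd₀ _ hu₀) hseed' hseed)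
      rw [hP.left _ hux _ (U.neg_mem hu₀), hP.left u₀ hu₀ u₀ hu₀] at h2
      simpa using h2
    intro u hu
    have hS : (F ∙ d₀) ≤ U := (Submodule.span_singleton_le_iff_mem _ _).2 hd₀
    obtain ⟨y, hy, hy0, hy1⟩ := hP.exists_partner h hS hu₀ hne e
    have hy0' := hy0 d₀ (Submodule.mem_span_singleton_self _)
    obtain ⟨z, hzU, hz⟩ : ∃ z ∈ U, z ∉ Submodule.span F {d₀, u₀} := by
      by_contra! hall
      have h1 := Submodule.finrank_mono (show U ≤ Submodule.span F {d₀, u₀} from hall)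
      have h2 := finrank_span_finset_le_card (R := F) ({d₀, u₀} : Finset V)
      have h3 := Finset.card_le_two (a := d₀) (b := u₀)
      rw [Finset.coe_pair, Set.finrank] at h2
      omega
    obtain ⟨y', hy', hy'0, hy'1⟩ := hP.exists_partner h
      (show Submodule.span F {d₀, u₀} ≤ U from Submodule.span_le.2 (by simp [Set.insert_subset_iff, hd₀, hu₀]))
      hzU hz 1
    have he : e ≠ 0 := fun h0 => by have := h.sq; simp [h0] at this
    set z₀ := z + (-(B y z / e)) • u₀
    have hz₀ : z₀ ∈ U := U.add_mem hzU (U.smul_mem _ hu₀)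
    have hyz₀ : B y z₀ = 0 := by simp only [z₀, map_add, map_smul, smul_eq_mul, hy1]; field_simp; ring
    have hy'u₀ := hy'0 u₀ (Submodule.subset_span (by simp))
    have hy'z₀ : B y' z₀ = 1 := by simp only [z₀, map_add, map_smul, smul_eq_mul, hy'1, hy'u₀]; ring
    set w := y + y'
    have hu₁ : B w u₀ = e := by simp only [w, map_add, LinearMap.add_apply, hy1, hy'u₀, add_zero]
    have hu₂ : B w d₀ = 0 := by
      simp only [w, map_add, LinearMap.add_apply, hy0', hy'0 d₀ (Submodule.subset_span (by simp)), add_zero]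
    set t := B y u / e
    set A := u + (-t) • u₀ + (t * e) • z₀
    have hA : A ∈ U := U.add_mem (U.add_mem hu (U.smul_mem _ hu₀)) (U.smul_mem _ hz₀)
    have hyA : B y A = 0 := by
      simp only [A, t, map_add, map_smul, smul_eq_mul, hy1, hyz₀]; field_simp; ring
    have hB : (t • (u₀ + (-e) • z₀)) ∈ U := U.smul_mem _ (U.add_mem hu₀ (U.smul_mem _ hz₀))
    have hwB : B w (t • (u₀ + (-e) • z₀)) = 0 := by
      simp only [map_smul, map_add, smul_eq_mul, hu₁]
      simp only [w, map_add, LinearMap.add_apply, hyz₀, hy'z₀]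
      ring
    have h2 := h.rootIn_add (hP.left _ hd₀ _ hd₀) (hP.left _ hd₀ _ hA) (hiso _ hA) (hP.left _ hd₀ _ hB) (hiso _ hB)
      (hker y hy hy0' hy1 A hA hyA) (hker w (W.add_mem hy hy') hu₂ hu₁ _ hB hwB)
    rw [hP.left _ hA _ hB, mul_zero, add_zero, add_zero] at h2
    convert h2 using 1
    simp only [A]
    module
  have hmove : ∀ x ∈ U, ∀ x' ∈ U, x' ∉ F ∙ x → x ≠ 0 →
      ∃ k ∈ M, U.map (k.1 : V →ₗ[F] V) = U ∧ k.1 x = x' := by
    intro x hx x' hx' hne hx0
    have hsub : x ∉ F ∙ (x' - x) := fun hmem => by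
      obtain ⟨t, ht⟩ := Submodule.mem_span_singleton.1 hmem
      have ht0 : t ≠ 0 := fun h0 => hx0 (by rw [← ht, h0, zero_smul])
      refine hne (Submodule.mem_span_singleton.2 ⟨t⁻¹ + 1, ?_⟩)
      have e' : t⁻¹ • x = x' - x := by
        conv_lhs => rw [← ht]
        rw [smul_smul, inv_mul_cancel₀ ht0, one_smul]
      rw [add_smul, one_smul, e']
      abel
    obtain ⟨y, hy, hy0, hy1⟩ := hP.exists_partner h
      ((Submodule.span_singleton_le_iff_mem _ _).2 (U.sub_mem hx' hx)) hx hsub e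
    obtain ⟨k, hk', hkU, hkf⟩ := hP.exists_shear h hM (U.sub_mem hx' hx) hy
      (h.orth_symm' (hy0 _ (Submodule.mem_span_singleton_self _)))
    exact ⟨k, hk', hkU, by rw [hkf x hx, hy1, h.sq, one_smul]; abel⟩
  have step : ∀ x ∈ U, ∀ x' ∈ U, x' ∉ F ∙ x → x ≠ 0 → (∀ u ∈ U, RootIn e M x u 0) →
      ∀ u ∈ U, RootIn e M x' u 0 := by
    intro x hx x' hx' hne hx0 hs u hu
    obtain ⟨k, hk', hkU, hkx⟩ := hmove x hx x' hx' hne hx0
    obtain ⟨u', hu', rfl⟩ := (show u ∈ U.map (k.1 : V →ₗ[F] V) from hkU.symm ▸ hu)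
    rw [← hkx]
    exact RootIn.conj (hs u' hu') hk'
  intro x hx hx0
  by_cases hxd : x ∈ F ∙ d₀
  · have hu0 : u₀ ≠ 0 := fun h0 => hne (h0 ▸ Submodule.zero_mem _)
    refine step u₀ hu₀ x hx (fun hxu => ?_) hu0 (step d₀ hd₀ u₀ hu₀ hne hd₀0 hall)
    obtain ⟨a, rfl⟩ := Submodule.mem_span_singleton.1 hxu
    have ha : a ≠ 0 := fun h0 => hx0 (by rw [h0, zero_smul])
    exact hne ((Submodule.smul_mem_iff _ ha).1 hxd)
  · exact step d₀ hd₀ x hx hxd hd₀0 hall

/-- The radical at a point contains all the transvections at that point. -/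
theorem tv_of_rad {x : V} (hx : x ∈ U) (hrad : ∀ u ∈ U, RootIn e M x u 0) (c : F) : RootIn e M x 0 c := by
  intro g hg
  have hc : σ c = e * c := by
    have := hg.2.2.1
    simp only [map_zero, add_zero, sub_eq_zero] at this
    exact this
  obtain ⟨μ, hμ⟩ := h.trace
  set l := c * μ / (μ + σ μ)
  have hl : l + e * σ l = c := by
    simp only [l, map_div₀, map_mul, map_add, h.invol, hc]
    rw [add_comm (σ μ) μ]
    field_simp
    linear_combination (c * σ μ) * h.sq
  refine hrad (l • x) (U.smul_mem _ hx) g ⟨hg.1, hP.left x hx _ (U.smul_mem _ hx), ?_, fun v => ?_⟩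
  · simp [hP.left x hx x hx]
  · rw [hg.2.2.2, ← hl]
    simp only [map_smulₛₗ, map_zero, LinearMap.smul_apply, LinearMap.zero_apply, smul_eq_mul]
    module

/-- The commutator with the root element at a given point. -/
theorem exists_radical_at {aU aW bU bW : V} {s : F} (haU : aU ∈ U) (haW : aW ∈ W) (hbU : bU ∈ U)
    (hbW : bW ∈ W) (ha : B (aU + aW) (aU + aW) = 0) (hab : B (aU + aW) (bU + bW) = 0)
    (hsb : σ s - e * s + B (bU + bW) (bU + bW) = 0) (ha0 : aU ≠ 0) (hne : bU ∉ F ∙ aU)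
    (hs : RootIn e M (aU + aW) (bU + bW) s) {d : V} (hdU : d ∈ U) (hda : B aW d = 0) (hdb : B bW d = 0)
    (hdS : d ∉ Submodule.span F {aU, bU}) :
    ∃ d ∈ U, ∃ u ∈ U, ∃ t, d ≠ 0 ∧ u ∉ F ∙ d ∧ σ t - e * t = 0 ∧ RootIn e M d u t := by
  classical
  have hd0 : d ≠ 0 := fun h0 => hdS (h0 ▸ Submodule.zero_mem _)
  have haUd : aU ∉ F ∙ d := fun h' => by
    obtain ⟨t, ht⟩ := Submodule.mem_span_singleton.1 h'
    have ht0 : t ≠ 0 := fun e => ha0 (by rw [← ht, e, zero_smul])
    exact hdS ((Submodule.smul_mem_iff _ ht0).1 (ht.symm ▸ Submodule.subset_span (by simp)))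
  have hbUd : bU ∉ Submodule.span F {aU, d} := fun h' => by
    obtain ⟨p, q, e'⟩ := Submodule.mem_span_pair.1 h'
    by_cases hq : q = 0
    · exact hne (Submodule.mem_span_singleton.2 ⟨p, by simpa [hq] using e'⟩)
    · refine hdS (Submodule.mem_span_pair.2 ⟨-(p / q), q⁻¹, ?_⟩)
      rw [← e']
      match_scalars <;> field_simp
      ring
  obtain ⟨y, hy, hy0, hy1⟩ := hP.exists_partner h
    (show Submodule.span F {aU, d} ≤ U from Submodule.span_le.2 (by simp [Set.insert_subset_iff, haU, hdU])) hbU hbUd e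
  have hdy : B d y = 0 := h.orth_symm' (hy0 d (Submodule.subset_span (by simp)))
  obtain ⟨k, hk'⟩ := h.exists_rt (hP.left d hdU d hdU) hdy (s := 0) (by simp [hP.right y hy y hy])
  have hdA : B d (aU + aW) = 0 := by rw [map_add, hP.left d hdU aU haU, h.orth_symm' hda, add_zero]
  have hdB : B d (bU + bW) = 0 := by rw [map_add, hP.left d hdU bU hbU, h.orth_symm' hdb, add_zero]
  have hyA : B y (aU + aW) = 0 := by
    rw [map_add, hy0 aU (Submodule.subset_span (by simp)), hP.right y hy aW haW, add_zero]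
  have hyB : B y (bU + bW) = e := by rw [map_add, hy1, hP.right y hy bW hbW, add_zero]
  have hka : k.1 (aU + aW) = aU + aW := hk'.fix' hdA hyA
  have hkb : k.1 (bU + bW) = bU + bW + d := by
    rw [hk'.2.2.2, hdB, hyB, h.sq]; simp
  have h1 := RootIn.conj hs (hM d hdU y hy k hk')
  rw [hka, hkb] at h1
  have hAd : B (aU + aW) d = 0 := h.orth_symm' hdA
  have hBd : B (bU + bW) d = 0 := h.orth_symm' hdB
  set a := aU + aW with haDef
  set b := bU + bW
  have hdd := hP.left d hdU d hdU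
  have hs1 : σ s - e * s + B (b + d) (b + d) = 0 := by
    simp only [map_add, LinearMap.add_apply, hBd, hdB, hdd, add_zero]; exact hsb
  have hs2 : σ (-s + e * B b b) - e * (-s + e * B b b) + B (-b) (-b) = 0 := by
    simp only [map_add, map_neg, map_mul, LinearMap.neg_apply, h.fix, h.sigma_form b b]
    linear_combination -hsb - (2 * B b b) * h.sq
  have h2 := h.rootIn_add ha (by rw [map_add, hab, hAd, add_zero]) hs1 (by rw [map_neg, hab, neg_zero]) hs2 h1
    (h.rootIn_neg ha hab hsb hs)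
  have hz : s + (-s + e * B b b) + e * B (b + d) (-b) = 0 := by
    simp only [map_add, map_neg, LinearMap.add_apply, hdB]; ring
  rw [hz, show b + d + -b = (1 : F) • d by rw [one_smul]; abel] at h2
  have he : e ≠ 0 := fun h0 => by have := h.sq; simp [h0] at this
  have h3 : RootIn e M d (e • a) 0 := fun g hg =>
    h2 g (h.rt_swap hdd (by rw [map_one, mul_one]; exact hg) ha one_ne_zero)
  refine ⟨d, hdU, e • aU, U.smul_mem _ haU, 0 + 0 + e * B (e • a) (-(e • aW)), hd0,
    fun h' => haUd ((Submodule.smul_mem_iff _ he).1 h'), ?_, ?_⟩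
  · have hww := hP.right aW haW aW haW
    have huu := hP.left aU haU aU haU
    have hsum : B aU aW + B aW aU = 0 := by
      simpa [haDef, huu, hww] using ha
    simp only [haDef, map_zero, zero_add, map_smul, map_smulₛₗ, map_neg, map_add, map_mul, LinearMap.smul_apply,
      LinearMap.add_apply, LinearMap.neg_apply, smul_eq_mul, h.fix, hww, h.sigma_form, add_zero]
    linear_combination hsum * e ^ 4
  · have hdW : B d aW = 0 := h.orth_symm' hda
    have h4 := h.rootIn_add hdd (by rw [map_smul, hdA, smul_zero]) (s := 0) (by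
      simp [ha]) (c := -(e • aW)) (by rw [map_neg, map_smul, hdW, smul_zero, neg_zero]) (s' := 0) (by
      simp [hP.right aW haW aW haW]) h3 (hM d hdU _ (W.neg_mem (W.smul_mem _ haW)))
    convert h4 using 1
    simp only [haDef]
    module

/-- The commutator step producing a radical element. -/
theorem exists_radical (hk : 5 ≤ finrank F U) {aU aW bU bW : V} {s : F} (haU : aU ∈ U) (haW : aW ∈ W) (hbU : bU ∈ U)
    (hbW : bW ∈ W) (ha : B (aU + aW) (aU + aW) = 0) (hab : B (aU + aW) (bU + bW) = 0)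
    (hsb : σ s - e * s + B (bU + bW) (bU + bW) = 0) (ha0 : aU ≠ 0) (hne : bU ∉ F ∙ aU)
    (hs : RootIn e M (aU + aW) (bU + bW) s) :
    ∃ d ∈ U, ∃ u ∈ U, ∃ t, d ≠ 0 ∧ u ∉ F ∙ d ∧ σ t - e * t = 0 ∧ RootIn e M d u t := by
  classical
  obtain ⟨d, ⟨hdU, hda, hdb⟩, hdS⟩ : ∃ d, (d ∈ U ∧ B aW d = 0 ∧ B bW d = 0) ∧
      d ∉ Submodule.span F {aU, bU} := by
    by_contra! hall
    set φ := (B aW).prod (B bW)
    have hle : U ⊓ φ.ker ≤ Submodule.span F {aU, bU} := fun x hx => by
      have h2 : φ x = 0 := hx.2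
      simp only [φ, LinearMap.prod_apply, Function.prod, Prod.mk_eq_zero] at h2
      exact hall x ⟨hx.1, h2.1, h2.2⟩
    have h1 := Submodule.finrank_mono hle
    have h2 := LinearMap.finrank_range_add_finrank_ker φ
    have h3 := φ.range.finrank_le
    have h5 := Submodule.finrank_sup_add_finrank_inf_eq U φ.ker
    have h6 := (U ⊔ φ.ker).finrank_le
    have h7 := finrank_span_finset_le_card (R := F) ({aU, bU} : Finset V)
    have h8 := Finset.card_le_two (a := aU) (b := bU)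
    rw [Finset.coe_pair, Set.finrank] at h7
    rw [finrank_prod, finrank_self] at h3
    omega
  exact hP.exists_radical_at h hM haU haW hbU hbW ha hab hsb ha0 hne hs hdU hda hdb hdS

/-- A vector with mixed image produces a radical element on one of the two sides. -/
theorem exists_radical_of_mixed (hk : 5 ≤ finrank F U) {g : isomGroup B} (hg : g ∈ M) {d : V} (hd : d ∈ U)
    (h1 : g.1 d ∉ U) (h2 : g.1 d ∉ W) :
    (∃ d ∈ U, ∃ u ∈ U, ∃ t, d ≠ 0 ∧ u ∉ F ∙ d ∧ σ t - e * t = 0 ∧ RootIn e M d u t) ∨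
      (∃ d ∈ W, ∃ u ∈ W, ∃ t, d ≠ 0 ∧ u ∉ F ∙ d ∧ σ t - e * t = 0 ∧ RootIn e M d u t) := by
  obtain ⟨aU, haU, aW, haW, ha⟩ := hP.decomp (g.1 d)
  have ha0 : aU ≠ 0 := fun h' => h2 (by rw [← ha, h', zero_add]; exact haW)
  have ha0' : aW ≠ 0 := fun h' => h1 (by rw [← ha, h', add_zero]; exact haU)
  have hk' : 5 ≤ finrank F W := hP.dim ▸ hk
  obtain ⟨y, hy, hdy, hout⟩ : ∃ y ∈ W, B d y = 0 ∧ g.1 y ∉ (F ∙ aU) ⊔ (F ∙ aW) := by
    by_contra! hall
    set K := W ⊓ (B d).ker
    have h1 : K.map (g.1 : V →ₗ[F] V) ≤ (F ∙ aU) ⊔ (F ∙ aW) := by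
      rintro _ ⟨y, hy, rfl⟩
      exact hall y hy.1 hy.2
    have h2 := Submodule.finrank_mono h1
    have h3 := Submodule.finrank_add_le_finrank_add_finrank (F ∙ aU) (F ∙ aW)
    rw [LinearEquiv.finrank_map_eq] at h2
    rw [finrank_span_singleton ha0, finrank_span_singleton ha0'] at h3
    have h5 := Submodule.finrank_sup_add_finrank_inf_eq W (B d).ker
    have h6 := (W ⊔ (B d).ker).finrank_le
    have h7 := LinearMap.finrank_range_add_finrank_ker (B d)
    have h8 := (B d).range.finrank_le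
    rw [finrank_self] at h8
    change _ + finrank F K = _ at h5
    omega
  obtain ⟨bU, hbU, bW, hbW, hb⟩ := hP.decomp (g.1 y)
  have hBa : B (aU + aW) (aU + aW) = 0 := by rw [ha, isomGroup_apply]; exact hP.left d hd d hd
  have hab : B (aU + aW) (bU + bW) = 0 := by rw [ha, hb, isomGroup_apply]; exact hdy
  have hsb : σ (0 : F) - e * 0 + B (bU + bW) (bU + bW) = 0 := by
    rw [hb, isomGroup_apply, hP.right y hy y hy]; simp
  have hs : RootIn e M (aU + aW) (bU + bW) 0 := by
    rw [ha, hb]; exact RootIn.conj (hM d hd y hy) hg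
  by_cases hbu : bU ∈ F ∙ aU
  · right
    have hbw : bW ∉ F ∙ aW := fun hbw => hout (hb ▸ Submodule.add_mem_sup hbu hbw)
    exact hP.symm.exists_radical h (fun d' hd' y' hy' => hP.rootIn_symm hM h hd' hy') hk' haW haU hbW hbU
      (by rw [add_comm aW]; exact hBa) (by rw [add_comm aW, add_comm bW]; exact hab)
      (by rw [add_comm bW]; exact hsb) ha0' hbw (by rw [add_comm aW, add_comm bW]; exact hs)
  · exact Or.inl (hP.exists_radical h hM hk haU haW hbU hbW hBa hab hsb ha0 hbu hs)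

omit hM in
/-- An element interchanging the two subspaces, built from transvections. -/
theorem exists_swap {S : Subgroup (isomGroup B)} (hS : ∀ g a c, IsRt e g a 0 c → g ∈ S) :
    ∃ t ∈ S, U.map (t.1 : V →ₗ[F] V) = W ∧ W.map (t.1 : V →ₗ[F] V) = U := by
  classical
  obtain ⟨δ, hδ0, hδ⟩ := h.anti
  have he : e ≠ 0 := fun h0 => by have := h.sq; simp [h0] at this
  let b := Module.finBasis F U
  have hc : ∀ i, ∃ y ∈ W, ∀ j, B y (b j : V) = if i = j then (1 : F) else 0 := by
    intro i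
    have hx : (b i : V) ∉ Submodule.span F ((fun j => (b j : V)) '' {j | j ≠ i}) :=
      (b.linearIndependent.map' U.subtype U.ker_subtype).notMem_span_image (by simp)
    obtain ⟨y, hy, hy0, hy1⟩ := hP.exists_partner h (Submodule.span_le.2 (by rintro _ ⟨j, -, rfl⟩; exact (b j).2))
      (b i).2 hx 1
    refine ⟨y, hy, fun j => ?_⟩
    by_cases hij : i = j
    · subst hij; rw [if_pos rfl, hy1]
    · rw [if_neg hij]; exact hy0 _ (Submodule.subset_span ⟨j, Ne.symm hij, rfl⟩)
  choose c hc hcb using hc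
  have hbc : ∀ i j, B (b i : V) (c j) = if i = j then -e else 0 := fun i j => by
    rw [h.swap (c j) (b i : V), hcb]
    by_cases hij : i = j
    · subst hij; simp
    · simp [hij, Ne.symm hij]
  have hbb : ∀ i j, B (b i : V) (b j : V) = 0 := fun i j => hP.left _ (b i).2 _ (b j).2
  have hcc : ∀ i j, B (c i) (c j) = 0 := fun i j => hP.right _ (hc i) _ (hc j)
  -- in each plane the product of three transvections interchanges the two lines up to scalars
  have hplane : ∀ i, ∃ w ∈ S, w.1 (b i : V) = (e * δ⁻¹) • c i ∧ (∃ l : F, l ≠ 0 ∧ w.1 (c i) = l • (b i : V)) ∧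
      ∀ j, j ≠ i → w.1 (b j : V) = (b j : V) ∧ w.1 (c j) = c j := by
    intro i
    have h1 : σ δ - e * δ + B (0 : V) 0 = 0 := by simp [hδ]
    have h2 : σ (e * δ⁻¹) - e * (e * δ⁻¹) + B (0 : V) 0 = 0 := by
      simp only [map_mul, map_inv₀, h.fix, hδ, mul_inv, inv_eq_of_mul_eq_one_right h.sq, map_zero, add_zero,
        sub_self]
    obtain ⟨p, hp⟩ := h.exists_rt (hbb i i) (by simp) h1
    obtain ⟨q, hq⟩ := h.exists_rt (hcc i i) (by simp) h2
    refine ⟨p * q * p, S.mul_mem (S.mul_mem (hS _ _ _ hp) (hS _ _ _ hq)) (hS _ _ _ hp), ?_, ⟨-(e * δ), ?_, ?_⟩,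
      fun j hj => ⟨?_, ?_⟩⟩
    · change p.1 (q.1 (p.1 (b i : V))) = _
      simp only [hp.2.2.2, hq.2.2.2, map_zero, LinearMap.zero_apply, map_add, map_smul, smul_eq_mul, hbb, hcc, hcb,
        hbc, if_true]
      match_scalars <;> field_simp <;> first
        | ring1
        | linear_combination h.sq * (-δ)
        | linear_combination -h.sq
        | linear_combination h.sq
    · exact neg_ne_zero.2 (mul_ne_zero he hδ0)
    · change p.1 (q.1 (p.1 (c i))) = _
      simp only [hp.2.2.2, hq.2.2.2, map_zero, LinearMap.zero_apply, map_add, map_smul, smul_eq_mul, hbb, hcc, hcb,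
        hbc, if_true]
      match_scalars <;> field_simp <;>
        first
          | ring1
          | linear_combination h.sq * (-δ)
          | linear_combination h.sq * (e * δ * δ)
          | linear_combination -h.sq
          | linear_combination h.sq
    all_goals
      change p.1 (q.1 (p.1 _)) = _
      simp [hp.2.2.2, hq.2.2.2, hbb, hcc, hcb, hbc, Ne.symm hj]
  have key : ∀ l : List (Fin (finrank F U)), l.Nodup → ∃ t ∈ S,
      (∀ j, t.1 (b j : V) = if j ∈ l then (e * δ⁻¹) • c j else (b j : V)) ∧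
      ∀ j, ∃ m : F, m ≠ 0 ∧ t.1 (c j) = if j ∈ l then m • (b j : V) else c j := by
    intro l hl
    induction l with
    | nil => exact ⟨1, S.one_mem, fun j => rfl, fun j => ⟨1, one_ne_zero, rfl⟩⟩
    | cons i l ih =>
      obtain ⟨hil, hl'⟩ := List.nodup_cons.1 hl
      obtain ⟨t, htS, ht1, ht2⟩ := ih hl'
      obtain ⟨w, hwS, hw1, ⟨m₀, hm₀, hw2⟩, hw3⟩ := hplane i
      refine ⟨w * t, S.mul_mem hwS htS, fun j => ?_, fun j => ?_⟩
      · show w.1 (t.1 (b j : V)) = _
        by_cases hij : j = i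
        · subst hij; rw [ht1, if_neg hil, if_pos (List.mem_cons_self ..)]; exact hw1
        · simp only [ht1, List.mem_cons, hij, false_or]
          by_cases hjl : j ∈ l
          · rw [if_pos hjl, map_smul, (hw3 j hij).2]
          · rw [if_neg hjl]; exact (hw3 j hij).1
      · obtain ⟨m, hm, htc⟩ := ht2 j
        by_cases hij : j = i
        · subst hij
          refine ⟨m₀, hm₀, ?_⟩
          show w.1 (t.1 (c j)) = _
          rw [htc, if_neg hil, if_pos (List.mem_cons_self ..)]; exact hw2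
        · refine ⟨m, hm, ?_⟩
          show w.1 (t.1 (c j)) = _
          simp only [htc, List.mem_cons, hij, false_or]
          by_cases hjl : j ∈ l
          · rw [if_pos hjl, map_smul, (hw3 j hij).1]
          · rw [if_neg hjl]; exact (hw3 j hij).2
  obtain ⟨t, htS, ht1, ht2⟩ := key _ (List.nodup_finRange (finrank F U))
  simp only [List.mem_finRange, if_true] at ht1 ht2
  have hU : Submodule.span F (Set.range fun i => (b i : V)) = U := by
    rw [show (fun i => (b i : V)) = U.subtype ∘ b from rfl, Set.range_comp, Submodule.span_image, b.span_eq,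
      Submodule.map_top, Submodule.range_subtype]
  refine ⟨t, htS, Submodule.eq_of_le_of_finrank_eq ?_ (by rw [LinearEquiv.finrank_map_eq, hP.dim]),
    (Submodule.eq_of_le_of_finrank_eq ?_ (by rw [LinearEquiv.finrank_map_eq, hP.dim])).symm⟩
  · conv_lhs => rw [← hU]
    rw [Submodule.map_span_le]
    rintro _ ⟨i, rfl⟩
    show t.1 (b i : V) ∈ W
    rw [ht1]; exact W.smul_mem _ (hc i)
  · conv_lhs => rw [← hU]
    rw [Submodule.span_le]
    rintro _ ⟨i, rfl⟩
    obtain ⟨m, hm, htc⟩ := ht2 i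
    exact ⟨m⁻¹ • c i, W.smul_mem _ (hc i), by
      show t.1 (m⁻¹ • c i) = _
      rw [map_smul, htc, smul_smul, inv_mul_cancel₀ hm, one_smul]⟩

end IsoPair

namespace IsEpsForm

variable [Finite F] [FiniteDimensional F V]

/-- Once one radical element is known, every axis is reached. -/
theorem pair_axes_of_radical (h : IsEpsForm B e) {U W : Submodule F V} (hP : IsoPair B U W) (hk : 3 ≤ finrank F U)
    {S M : Subgroup (isomGroup B)} (hS : ∀ g a b c, IsRt e g a b c → B b b = 0 → g ∈ S)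
    (hM : ∀ g ∈ S, (U.map (g.1 : V →ₗ[F] V) = U ∧ W.map (g.1 : V →ₗ[F] V) = W) ∨
      (U.map (g.1 : V →ₗ[F] V) = W ∧ W.map (g.1 : V →ₗ[F] V) = U) → g ∈ M)
    (hrad : (∃ d ∈ U, ∃ u ∈ U, ∃ t, d ≠ 0 ∧ u ∉ F ∙ d ∧ σ t - e * t = 0 ∧ RootIn e M d u t) ∨
      (∃ d ∈ W, ∃ u ∈ W, ∃ t, d ≠ 0 ∧ u ∉ F ∙ d ∧ σ t - e * t = 0 ∧ RootIn e M d u t)) :
    ∀ (v : V) (c : F), RootIn e M v 0 c := by
  have hM' : ∀ d ∈ U, ∀ y ∈ W, RootIn e M d y 0 := fun d hd y hy x hx =>
    hM x (hS x d y 0 hx (hP.right y hy y hy)) (Or.inl (hP.rt_stab h hd hy hx))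
  have hk' : 3 ≤ finrank F W := hP.dim ▸ hk
  have hMs : ∀ d ∈ W, ∀ y ∈ U, RootIn e M d y 0 := fun d hd y hy => hP.rootIn_symm hM' h hd hy
  obtain ⟨t, htS, htU, htW⟩ := hP.exists_swap h (S := S) fun g a c hg => hS g a 0 c hg (by simp)
  have htM : t ∈ M := hM t htS (Or.inr ⟨htU, htW⟩)
  -- the transvections of the two subspaces
  have hconj : ∀ {x : V}, (∀ c, RootIn e M x 0 c) → ∀ c, RootIn e M (t.1 x) 0 c := fun hx c => by
    have := RootIn.conj (hx c) htM
    rwa [map_zero] at this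
  have hzero : ∀ c, RootIn e M (0 : V) 0 c := fun c x hx => by
    rw [show x = 1 from Subtype.ext (LinearEquiv.ext fun v => by rw [hx.2.2.2]; show _ = v; simp)]
    exact M.one_mem
  have hside : ∀ {A C : Submodule F V}, IsoPair B A C → (∀ d ∈ A, ∀ y ∈ C, RootIn e M d y 0) →
      3 ≤ finrank F A → (∃ d ∈ A, ∃ u ∈ A, ∃ t, d ≠ 0 ∧ u ∉ F ∙ d ∧ σ t - e * t = 0 ∧ RootIn e M d u t) →
      ∀ x ∈ A, ∀ c, RootIn e M x 0 c := by
    rintro A C hAC hMA hkA ⟨d, hd, u, hu, s, hd0, hne, hs0, hs⟩ x hx c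
    by_cases hx0 : x = 0
    · subst hx0; exact hzero c
    exact hAC.tv_of_rad h hMA hx (hAC.rad_of_seed h hMA hkA hd hu hd0 hne hs0 hs x hx hx0) c
  have hboth : (∀ x ∈ U, ∀ c, RootIn e M x 0 c) ∧ ∀ x ∈ W, ∀ c, RootIn e M x 0 c := by
    rcases hrad with hh | hh
    · have hU := hside hP hM' (by omega) hh
      refine ⟨hU, fun x hx => ?_⟩
      obtain ⟨u, hu, rfl⟩ := (show x ∈ U.map (t.1 : V →ₗ[F] V) from htU.symm ▸ hx)
      exact hconj (hU u hu)
    · have hW := hside hP.symm hMs (by omega) hh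
      refine ⟨fun x hx => ?_, hW⟩
      obtain ⟨w, hw, rfl⟩ := (show x ∈ W.map (t.1 : V →ₗ[F] V) from htW.symm ▸ hx)
      exact hconj (hW w hw)
  obtain ⟨hU, hW⟩ := hboth
  have hmove : ∀ {a b : V} (c : F), σ c = e * c → B a a = 0 → (∀ c, RootIn e M a 0 c) → (∀ c, RootIn e M b 0 c) →
      ∀ c', RootIn e M (b + (c * B a b) • a) 0 c' := by
    intro a b c hc haa ha hb c'
    obtain ⟨k, hk⟩ := h.exists_rt haa (b := 0) (by simp) (s := c) (by simp [hc])
    have := RootIn.conj (hb c') (ha c k hk)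
    rw [map_zero, hk.2.2.2] at this
    simpa using this
  intro v c x hx
  obtain ⟨u, hu, w, hw, rfl⟩ := hP.decomp v
  by_cases hw0 : w = 0
  · subst hw0; rw [add_zero] at hx; exact hU u hu c x hx
  have hiso := hx.1
  have he : e ≠ 0 := fun h0 => by have := h.sq; simp [h0] at this
  simp only [map_add, LinearMap.add_apply, hP.left u hu u hu, hP.right w hw w hw, zero_add, add_zero] at hiso
  have hscal : ∀ r : F, σ r = e * r → σ r⁻¹ = e * r⁻¹ := fun r hr => by
    rw [map_inv₀, hr, mul_inv, inv_eq_of_mul_eq_one_right h.sq]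
  by_cases hβ : B u w = 0
  · obtain ⟨δ, hδ0, hδ⟩ := h.anti
    obtain ⟨u', hu', -, hu'w⟩ := hP.symm.exists_partner h (S := ⊥) bot_le hw (by simpa using hw0) δ
    have h1 : ∀ c', RootIn e M (u' + w) 0 c' := fun c' => by
      have := hmove δ⁻¹ (hscal δ hδ) (hP.left u' hu' u' hu') (hU u' hu') (hW w hw) c'
      rw [hu'w, inv_mul_cancel₀ hδ0, one_smul] at this
      rwa [add_comm]
    have hB : B (u - u') (u' + w) = -δ := by
      simp only [map_sub, map_add, LinearMap.sub_apply, hβ, hu'w, hP.left u hu u' hu', hP.left u' hu' u' hu']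
      ring
    have h2 := hmove (-δ)⁻¹ (hscal _ (by rw [map_neg, hδ]; ring)) (hP.left _ (U.sub_mem hu hu') _ (U.sub_mem hu hu'))
      (hU _ (U.sub_mem hu hu')) h1 c
    rw [hB, inv_mul_cancel₀ (neg_ne_zero.2 hδ0), one_smul, show u' + w + (u - u') = u + w by abel] at h2
    exact h2 x hx
  · have hσ : σ (B u w) = e * B u w := by
      rw [h.sigma_form, show B w u = -B u w by linear_combination hiso]; ring
    have h1 := hmove (B u w)⁻¹ (hscal _ hσ) (hP.left u hu u hu) (hU u hu) (hW w hw) c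
    rw [inv_mul_cancel₀ hβ, one_smul, add_comm w u] at h1
    exact h1 x hx

/-- The stabiliser of a pair of complementary totally isotropic subspaces is maximal: every axis is reached. -/
theorem pair_axes (h : IsEpsForm B e) {U W : Submodule F V} (hP : IsoPair B U W) (hk : 5 ≤ finrank F U)
    {S M : Subgroup (isomGroup B)} (hS : ∀ g a b c, IsRt e g a b c → B b b = 0 → g ∈ S)
    (hM : ∀ g ∈ S, (U.map (g.1 : V →ₗ[F] V) = U ∧ W.map (g.1 : V →ₗ[F] V) = W) ∨
      (U.map (g.1 : V →ₗ[F] V) = W ∧ W.map (g.1 : V →ₗ[F] V) = U) → g ∈ M)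
    {g : isomGroup B} (hg : g ∈ M)
    (hgU : ¬ ((U.map (g.1 : V →ₗ[F] V) = U ∧ W.map (g.1 : V →ₗ[F] V) = W) ∨
      (U.map (g.1 : V →ₗ[F] V) = W ∧ W.map (g.1 : V →ₗ[F] V) = U))) :
    ∀ (v : V) (c : F), RootIn e M v 0 c := by
  have hM' : ∀ d ∈ U, ∀ y ∈ W, RootIn e M d y 0 := fun d hd y hy x hx =>
    hM x (hS x d y 0 hx (hP.right y hy y hy)) (Or.inl (hP.rt_stab h hd hy hx))
  have hk' : 5 ≤ finrank F W := hP.dim ▸ hk
  have hMs : ∀ d ∈ W, ∀ y ∈ U, RootIn e M d y 0 := fun d hd y hy => hP.rootIn_symm hM' h hd hy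
  obtain ⟨t, htS, htU, htW⟩ := hP.exists_swap h (S := S) fun g a c hg => hS g a 0 c hg (by simp)
  have htM : t ∈ M := hM t htS (Or.inr ⟨htU, htW⟩)
  have pure : ∀ (A : Submodule F V), finrank F A = finrank F U →
      (∀ d ∈ A, g.1 d ∈ U ∨ g.1 d ∈ W) → A.map (g.1 : V →ₗ[F] V) = U ∨ A.map (g.1 : V →ₗ[F] V) = W := by
    intro A hA hp
    by_cases hc : A.map (g.1 : V →ₗ[F] V) ≤ U
    · exact Or.inl (Submodule.eq_of_le_of_finrank_eq hc (by rw [LinearEquiv.finrank_map_eq, hA]))
    refine Or.inr (Submodule.eq_of_le_of_finrank_eq ?_ (by rw [LinearEquiv.finrank_map_eq, hA, hP.dim]))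
    obtain ⟨_, ⟨x, hx, rfl⟩, hxU⟩ := SetLike.not_le_iff_exists.1 hc
    rintro _ ⟨y, hy, rfl⟩
    rcases hp y hy with h1 | h1
    swap
    · exact h1
    have h2 := (hp x hx).resolve_left hxU
    rcases hp (x + y) (A.add_mem hx hy) with h3 | h3
    · exact absurd (by rw [map_add] at h3; simpa using U.sub_mem h3 h1) hxU
    · rw [map_add] at h3; simpa using W.sub_mem h3 h2
  have hrad : (∃ d ∈ U, ∃ u ∈ U, ∃ t, d ≠ 0 ∧ u ∉ F ∙ d ∧ σ t - e * t = 0 ∧ RootIn e M d u t) ∨
      (∃ d ∈ W, ∃ u ∈ W, ∃ t, d ≠ 0 ∧ u ∉ F ∙ d ∧ σ t - e * t = 0 ∧ RootIn e M d u t) := by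
    by_contra hnone
    have hA : ∀ d ∈ U, g.1 d ∈ U ∨ g.1 d ∈ W := fun d hd => by
      by_contra hc
      push Not at hc
      exact hnone (hP.exists_radical_of_mixed h hM' hk hg hd hc.1 hc.2)
    have hB : ∀ d ∈ W, g.1 d ∈ U ∨ g.1 d ∈ W := fun d hd => by
      by_contra hc
      push Not at hc
      exact hnone (Or.symm (hP.symm.exists_radical_of_mixed h hMs hk' hg hd hc.2 hc.1))
    have hinj : U.map (g.1 : V →ₗ[F] V) ≠ W.map (g.1 : V →ₗ[F] V) := fun e' => by
      have e'' : U = W := Submodule.map_injective_of_injective g.1.injective e'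
      have := hP.inf
      rw [← e'', inf_idem] at this
      rw [this, finrank_bot] at hk
      omega
    rcases pure U rfl hA with h1 | h1 <;> rcases pure W hP.dim.symm hB with h2 | h2
    · exact hinj (h1.trans h2.symm)
    · exact hgU (Or.inl ⟨h1, h2⟩)
    · exact hgU (Or.inr ⟨h1, h2⟩)
    · exact hinj (h1.trans h2.symm)
  exact h.pair_axes_of_radical hP (by omega) hS hM hrad

end IsEpsForm

end CfsgLib.Classical

namespace CfsgLib.Classical

variable {F : Type*} [Field F] {V : Type*} [AddCommGroup V] [Module F V] {σ : F →+* F}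
  {B : V →ₛₗ[σ] V →ₗ[F] F} {e : F}

theorem IsRt.det_eq_one {g : isomGroup B} {a b : V} {s : F} (hg : IsRt e g a b s) (hb : B b b = 0)
    [FiniteDimensional F V] (hba : B b a = 0) : LinearMap.det (g.1 : V →ₗ[F] V) = 1 := by
  have h : (g.1 : V →ₗ[F] V) =
      (LinearMap.transvection (e • B b + s • B a) a).comp (LinearMap.transvection (B a) b) := by
    refine LinearMap.ext fun x => ?_
    show g.1 x = _
    rw [hg.2.2.2, LinearMap.comp_apply, LinearMap.transvection.apply, LinearMap.transvection.apply]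
    simp [hb, hg.2.1]
  rw [h, LinearMap.det_comp, LinearMap.transvection.det, LinearMap.transvection.det]
  simp [hba, hg.1, hg.2.1]

namespace IsEpsForm

variable [Finite F] [FiniteDimensional F V]

/-- An element of `S` which does not permute the two subspaces. -/
theorem exists_not_perm (h : IsEpsForm B e) {U W : Submodule F V} (hP : IsoPair B U W) (hk : 2 ≤ finrank F U)
    {S : Subgroup (isomGroup B)} (hS : ∀ g a b c, IsRt e g a b c → B b b = 0 → g ∈ S) :
    ∃ g ∈ S, ¬ ((U.map (g.1 : V →ₗ[F] V) = U ∧ W.map (g.1 : V →ₗ[F] V) = W) ∨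
      (U.map (g.1 : V →ₗ[F] V) = W ∧ W.map (g.1 : V →ₗ[F] V) = U)) := by
  obtain ⟨d, hd, hd0⟩ := Submodule.exists_mem_ne_zero_of_ne_bot (p := U) (fun e' => by
    rw [e', finrank_bot] at hk; omega)
  obtain ⟨u, hu, hud⟩ : ∃ u ∈ U, u ∉ F ∙ d := by
    by_contra! hall
    have := Submodule.finrank_mono (show U ≤ F ∙ d from hall)
    rw [finrank_span_singleton hd0] at this
    omega
  obtain ⟨f, hf, -, hf1⟩ := hP.exists_partner h (S := ⊥) bot_le hd (by simpa using hd0) 1
  have he : e ≠ 0 := fun h0 => by have := h.sq; simp [h0] at this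
  have hdf : B d f = -e := by rw [h.swap f d, hf1, map_one, mul_one]
  obtain ⟨g, hg⟩ := h.exists_rt (hP.left d hd d hd) (hP.left d hd u hu) (s := 0) (by simp [hP.left u hu u hu])
  refine ⟨g, hS g d u 0 hg (hP.left u hu u hu), ?_⟩
  have hgd : g.1 d = d := hg.fix' (hP.left d hd d hd) (hP.left u hu d hd)
  rintro (⟨-, h1⟩ | ⟨h0, -⟩)
  · have hgf : g.1 f ∈ W := h1 ▸ ⟨f, hf, rfl⟩
    rw [hg.2.2.2, hdf, add_assoc] at hgf
    have hmem : (-e) • u + (e * B u f + 0 * -e) • d ∈ U ⊓ W :=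
      ⟨U.add_mem (U.smul_mem _ hu) (U.smul_mem _ hd), by simpa using W.sub_mem hgf hf⟩
    rw [hP.inf, Submodule.mem_bot] at hmem
    refine hud (Submodule.mem_span_singleton.2 ⟨B u f, ?_⟩)
    have h2 : (-e) • (u - B u f • d) = 0 := by rw [← hmem]; module
    exact (sub_eq_zero.1 ((smul_eq_zero.1 h2).resolve_left (neg_ne_zero.2 he))).symm
  · have hmem : d ∈ U ⊓ W := ⟨hd, h0 ▸ ⟨d, hd, hgd⟩⟩
    rw [hP.inf, Submodule.mem_bot] at hmem
    exact hd0 hmem

end IsEpsForm

end CfsgLib.Classical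

namespace CfsgLib.Classical

theorem perm_two_iff {F : Type*} [Field F] {V : Type*} [AddCommGroup V] [Module F V] (D : Fin 2 → Submodule F V)
    (f : V →ₗ[F] V) (_hD : D 0 ⊓ D 1 = ⊥) : (∃ σ : Equiv.Perm (Fin 2), ∀ i, (D i).map f = D (σ i)) ↔
      ((D 0).map f = D 0 ∧ (D 1).map f = D 1) ∨ ((D 0).map f = D 1 ∧ (D 1).map f = D 0) := by
  constructor
  · rintro ⟨σ, hσ⟩
    rcases Fin.exists_fin_two.1 (⟨σ 0, rfl⟩ : ∃ i, σ 0 = i) with h | h <;>
      rcases Fin.exists_fin_two.1 (⟨σ 1, rfl⟩ : ∃ i, σ 1 = i) with h' | h'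
    · exact absurd (σ.injective (h.trans h'.symm)) (by decide)
    · exact Or.inl ⟨(hσ 0).trans (congrArg D h), (hσ 1).trans (congrArg D h')⟩
    · exact Or.inr ⟨(hσ 0).trans (congrArg D h), (hσ 1).trans (congrArg D h')⟩
    · exact absurd (σ.injective (h.trans h'.symm)) (by decide)
  · rintro (⟨h0, h1⟩ | ⟨h0, h1⟩)
    · exact ⟨1, Fin.forall_fin_two.2 ⟨h0, h1⟩⟩
    · exact ⟨Equiv.swap 0 1, Fin.forall_fin_two.2 ⟨by simpa using h0, by simpa using h1⟩⟩

end CfsgLib.Classical
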