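import Cfsg.Agent.Lib.Classical.RootPair

/-!
# Pairs of complementary totally isotropic subspaces of dimension at least three, symplectic forms in odd characteristic
-/

set_option autoImplicit false
set_option linter.unusedSectionVars false

open Module

namespace CfsgLib.Classical.IsoPair

variable {F : Type*} [Field F] {V : Type*} [AddCommGroup V] [Module F V] [Finite F] [FiniteDimensional F V]
  {B : V →ₗ[F] V →ₗ[F] F} {U W : Submodule F V} {M : Subgroup (isomGroup B)}

/-- A radical element on a given subspace. -/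
def HasRad (M : Subgroup (isomGroup B)) (U : Submodule F V) : Prop :=
  ∃ d ∈ U, ∃ u ∈ U, ∃ t, d ≠ 0 ∧ u ∉ F ∙ d ∧ (RingHom.id F) t - 1 * t = 0 ∧ RootIn (1 : F) M d u t

variable (hP : IsoPair B U W) (h : IsEpsForm B (1 : F)) (hA : ∀ x, B x x = 0) (h2 : (2 : F) ≠ 0)
  (hk : 3 ≤ finrank F U)
  (hM : ∀ g : isomGroup B, U.map (g.1 : V →ₗ[F] V) = U ∧ W.map (g.1 : V →ₗ[F] V) = W → g ∈ M)
include hP h hA h2 hk hM

omit hA h2 hk in
theorem shears_mem : ∀ d ∈ U, ∀ y ∈ W, RootIn (1 : F) M d y 0 :=
  fun _ hd _ hy g hg => hM g (hP.rt_stab h hd hy hg)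

/-- A transvection on `U` gives a radical element. -/
theorem hasRad_of_tv {d : V} (hd : d ∈ U) (hd0 : d ≠ 0) {c : F} (hc : c ≠ 0)
    (htv : RootIn (1 : F) M d 0 c) : HasRad M U := by
  classical
  have hM' := shears_mem hP h hM
  obtain ⟨u, hu, hud⟩ : ∃ u ∈ U, u ∉ F ∙ d := by
    by_contra! hall
    have h1 := Submodule.finrank_mono (show U ≤ F ∙ d from hall)
    rw [finrank_span_singleton hd0] at h1
    omega
  have hu0 : u ≠ 0 := fun e => hud (e ▸ Submodule.zero_mem _)
  have hdu : d ∉ F ∙ u := fun h' => by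
    obtain ⟨t, ht⟩ := Submodule.mem_span_singleton.1 h'
    have ht0 : t ≠ 0 := fun e => hd0 (by rw [← ht, e, zero_smul])
    exact hud (Submodule.mem_span_singleton.2 ⟨t⁻¹, by rw [← ht, inv_smul_smul₀ ht0]⟩)
  obtain ⟨y, hy, hy0, hy1⟩ := hP.exists_partner h ((Submodule.span_singleton_le_iff_mem _ _).2 hu) hd hdu 1
  have huy : B u y = 0 := h.orth_symm' (hy0 u (Submodule.mem_span_singleton_self u))
  have key : ∀ r : F, RootIn (1 : F) M (d + r • u) 0 c := fun r => by
    obtain ⟨k, hk', -, hkf⟩ := hP.exists_shear h hM' (U.smul_mem r hu) hy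
      (by rw [map_smul, LinearMap.smul_apply, huy, smul_zero])
    have h1 := RootIn.conj htv hk'
    rwa [map_zero, hkf d hd, hy1, one_mul, one_smul] at h1
  have hiso : ∀ r : F, B (d + r • u) (d + r • u) = 0 := fun r => hA _
  refine ⟨d, hd, (2 * c) • u, U.smul_mem _ hu, 0, hd0, fun h' => hud ((Submodule.smul_mem_iff _
    (mul_ne_zero h2 hc)).1 h'), by simp, fun g hg => ?_⟩
  obtain ⟨p, hp⟩ := h.exists_rt (hiso 1) (b := 0) (by simp) (s := c) (by simp)
  obtain ⟨q, hq⟩ := h.exists_rt (hiso (-1)) (b := 0) (by simp) (s := c) (by simp)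
  have e : g = p * q⁻¹ := by
    rw [eq_mul_inv_iff_mul_eq]
    refine Subtype.ext (LinearEquiv.ext fun v => ?_)
    show g.1 (q.1 v) = p.1 v
    have hdu' : B d u = 0 := hP.left d hd u hu
    have hud' : B u d = 0 := hP.left u hu d hd
    rw [hg.2.2.2, hq.2.2.2, hp.2.2.2]
    simp only [map_add, map_smul, map_zero, LinearMap.add_apply, LinearMap.smul_apply, LinearMap.zero_apply,
      smul_eq_mul, hA d, hA u, hdu', hud', mul_zero, zero_smul, add_zero, zero_add]
    match_scalars <;> ring
  rw [e]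
  exact M.mul_mem (key 1 p hp) (M.inv_mem (key (-1) q hq))

/-- A root element at `a` directed into `U` gives a radical element. -/
theorem hasRad_of_pure {d aU aW : V} (hd : d ∈ U) (hd0 : d ≠ 0) (haU : aU ∈ U) (haW : aW ∈ W)
    (ha0 : aU ≠ 0) (hda : B d (aU + aW) = 0) (hs : RootIn (1 : F) M (aU + aW) d 0) : HasRad M U := by
  classical
  have hM' := shears_mem hP h hM
  have hdd := hA d
  have h3 : RootIn (1 : F) M d (aU + aW) 0 := fun g hg => by
    have := h.rt_swap (l := (1 : F)) hdd (by simpa using hg) (hA (aU + aW)) one_ne_zero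
    rw [one_smul] at this
    exact hs g this
  have hdW : B d aW = 0 := by
    have := hda
    rwa [map_add, hP.left d hd aU haU, zero_add] at this
  have h4 := h.rootIn_add hdd hda (s := 0) (by rw [hA]; simp) (c := -aW) (by rw [map_neg, hdW, neg_zero]) (s' := 0)
    (by rw [hA]; simp) h3 (hM' d hd _ (W.neg_mem haW))
  rw [add_neg_cancel_right, zero_add, zero_add, one_mul, map_neg, map_add, LinearMap.add_apply,
    hP.right aW haW aW haW, add_zero] at h4
  by_cases hmem : aU ∈ F ∙ d
  · obtain ⟨γ, hγ⟩ := Submodule.mem_span_singleton.1 hmem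
    have hγ0 : γ ≠ 0 := fun e => ha0 (by rw [← hγ, e, zero_smul])
    have hz : B aU aW = 0 := by rw [← hγ, map_smul, LinearMap.smul_apply, hdW, smul_zero]
    rw [hz, neg_zero, ← hγ] at h4
    refine hasRad_of_tv hP h hA h2 hk hM hd hd0 (mul_ne_zero h2 hγ0) fun g hg => h4 g
      ⟨hdd, by rw [map_smul, hdd, smul_zero], by simp [hA], fun v => ?_⟩
    rw [hg.2.2.2]
    simp only [map_zero, map_smul, LinearMap.zero_apply, LinearMap.smul_apply, smul_eq_mul]
    module
  · exact ⟨d, hd, aU, haU, _, hd0, hmem, by simp, h4⟩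

/-- The commutator step in dimension at least three. -/
theorem exists_radical_three {aU aW bU bW : V} (haU : aU ∈ U) (haW : aW ∈ W) (hbU : bU ∈ U) (hbW : bW ∈ W)
    (hab : B (aU + aW) (bU + bW) = 0) (ha0 : aU ≠ 0) (hne : bU ∉ F ∙ aU)
    (hs : RootIn (1 : F) M (aU + aW) (bU + bW) 0) : HasRad M U := by
  classical
  have hM' := shears_mem hP h hM
  obtain ⟨d, ⟨hdU, hda, hdb⟩, hd0⟩ : ∃ d, (d ∈ U ∧ B aW d = 0 ∧ B bW d = 0) ∧ d ≠ 0 := by
    by_contra! hall
    set φ := (B aW).prod (B bW)
    have hle : U ⊓ φ.ker ≤ (⊥ : Submodule F V) := fun x hx => by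
      have h2 : φ x = 0 := hx.2
      simp only [φ, LinearMap.prod_apply, Function.prod, Prod.mk_eq_zero] at h2
      exact (Submodule.mem_bot F).2 (hall x ⟨hx.1, h2.1, h2.2⟩)
    have h1 := Submodule.finrank_mono hle
    have h2 := LinearMap.finrank_range_add_finrank_ker φ
    have h3 := φ.range.finrank_le
    have h5 := Submodule.finrank_sup_add_finrank_inf_eq U φ.ker
    have h6 := (U ⊔ φ.ker).finrank_le
    rw [finrank_prod, finrank_self] at h3
    rw [finrank_bot] at h1
    omega
  have hdA : B d (aU + aW) = 0 := by rw [map_add, hP.left d hdU aU haU, h.orth_symm' hda, add_zero]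
  have hdB : B d (bU + bW) = 0 := by rw [map_add, hP.left d hdU bU hbU, h.orth_symm' hdb, add_zero]
  -- an element of `M` fixing `a` and translating `b` along `d`
  suffices hstep : ∀ (k : isomGroup B) (r : F), k ∈ M → r ≠ 0 → k.1 (aU + aW) = aU + aW →
      k.1 (bU + bW) = bU + bW + r • d → HasRad M U by
    by_cases hdaU : d ∈ F ∙ aU
    · obtain ⟨y, hy, hy0, hy1⟩ := hP.exists_partner h ((Submodule.span_singleton_le_iff_mem _ _).2 haU) hbU hne 1
      obtain ⟨t, ht⟩ := Submodule.mem_span_singleton.1 hdaU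
      have ht0 : t ≠ 0 := fun e => hd0 (by rw [← ht, e, zero_smul])
      have hya : B y aU = 0 := hy0 aU (Submodule.mem_span_singleton_self _)
      have hdy : B d y = 0 := by rw [← ht, map_smul, LinearMap.smul_apply, h.orth_symm' hya, smul_zero]
      obtain ⟨k, hk'⟩ := h.exists_rt (hA d) hdy (s := 0) (by simp [hA])
      refine hstep k 1 (hM' d hdU y hy k hk') one_ne_zero
        (hk'.fix' hdA (by rw [map_add, hya, hP.right y hy aW haW, add_zero])) ?_
      rw [hk'.2.2.2, hdB, map_add, hy1, hP.right y hy bW hbW]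
      simp
    by_cases hb : bU ∈ Submodule.span F {aU, d}
    · obtain ⟨p, r, hpr⟩ := Submodule.mem_span_pair.1 hb
      have hr : r ≠ 0 := fun e => hne (Submodule.mem_span_singleton.2 ⟨p, by simpa [e] using hpr⟩)
      obtain ⟨y, hy, hy0, hy1⟩ := hP.exists_partner h ((Submodule.span_singleton_le_iff_mem _ _).2 haU) hdU hdaU 1
      have hya : B y aU = 0 := hy0 aU (Submodule.mem_span_singleton_self _)
      have hdy : B d y = -1 := by
        have := h.swap y d
        rw [this, RingHom.id_apply, hy1, one_mul]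
      let f : V →ₗ[F] V := LinearMap.id + (-2 : F) • ((B y).smulRight d - (B d).smulRight y)
      have hf : ∀ v, f v = v + (-2 : F) • (B y v • d - B d v • y) := fun v => rfl
      have hinv : Function.Involutive f := fun v => by
        simp only [hf, map_add, map_sub, map_smul, smul_eq_mul, hA, hy1, hdy, mul_zero, sub_zero, zero_sub]
        module
      let k : isomGroup B := ⟨LinearEquiv.ofInvolutive f hinv, fun a b => by
        show B (f a) (f b) = B a b
        simp only [hf, map_add, map_sub, map_smul, LinearMap.add_apply, LinearMap.sub_apply, LinearMap.smul_apply,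
          smul_eq_mul, hA, hy1, hdy, h.swap y a, h.swap d a, RingHom.id_apply]
        ring⟩
      have hkU : U.map (k.1 : V →ₗ[F] V) = U := by
        refine Submodule.eq_of_le_of_finrank_eq ?_ (LinearEquiv.finrank_map_eq k.1 _)
        rintro _ ⟨x, hx, rfl⟩
        show f x ∈ U
        rw [hf, hP.left d hdU x hx, zero_smul, sub_zero]
        exact U.add_mem hx (U.smul_mem _ (U.smul_mem _ hdU))
      have hkW : W.map (k.1 : V →ₗ[F] V) = W := by
        refine Submodule.eq_of_le_of_finrank_eq ?_ (LinearEquiv.finrank_map_eq k.1 _)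
        rintro _ ⟨x, hx, rfl⟩
        show f x ∈ W
        rw [hf, hP.right y hy x hx, zero_smul, zero_sub]
        exact W.add_mem hx (W.smul_mem _ (W.neg_mem (W.smul_mem _ hy)))
      refine hstep k (-2 * r) (hM k ⟨hkU, hkW⟩) (mul_ne_zero (neg_ne_zero.2 h2) hr) ?_ ?_
      · show f (aU + aW) = _
        simp [hf, hdA, hya, hP.right y hy aW haW]
      · show f (bU + bW) = _
        rw [hf, hdB, map_add, hP.right y hy bW hbW, ← hpr, map_add, map_smul, map_smul, hya, hy1]
        simp only [smul_eq_mul, mul_zero, zero_add, mul_one, add_zero, zero_smul, sub_zero, smul_smul]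
    · obtain ⟨y, hy, hy0, hy1⟩ := hP.exists_partner h
        (show Submodule.span F {aU, d} ≤ U from Submodule.span_le.2 (by simp [Set.insert_subset_iff, haU, hdU]))
        hbU hb 1
      obtain ⟨k, hk'⟩ := h.exists_rt (hA d) (h.orth_symm' (hy0 d (Submodule.subset_span (by simp)))) (s := 0)
        (by simp [hA])
      refine hstep k 1 (hM' d hdU y hy k hk') one_ne_zero (hk'.fix' hdA
        (by rw [map_add, hy0 aU (Submodule.subset_span (by simp)), hP.right y hy aW haW, add_zero])) ?_
      rw [hk'.2.2.2, hdB, map_add, hy1, hP.right y hy bW hbW]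
      simp
  intro k r hk' hr hka hkb
  have h1 := RootIn.conj hs hk'
  rw [hka, hkb] at h1
  have had : B (aU + aW) d = 0 := h.orth_symm' hdA
  have h2' := h.rootIn_add (hA (aU + aW)) (by rw [map_add, hab, map_smul, had, smul_zero, add_zero])
    (by rw [hA]; simp) (c := -(bU + bW)) (by rw [map_neg, hab, neg_zero]) (by rw [hA, hA]; simp) h1
    (h.rootIn_neg (hA (aU + aW)) hab (by rw [hA]; simp) hs)
  rw [show bU + bW + r • d + -(bU + bW) = r • d by abel,
    show (0 : F) + (-0 + 1 * B (bU + bW) (bU + bW)) + 1 * B (bU + bW + r • d) (-(bU + bW)) = 0 by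
      rw [hA, map_neg (B (bU + bW + r • d)), map_add B (bU + bW) (r • d), LinearMap.add_apply, hA, map_smul B r d,
        LinearMap.smul_apply, hdB]
      simp] at h2'
  exact hasRad_of_pure hP h hA h2 hk hM (U.smul_mem r hdU) (smul_ne_zero hr hd0) haU haW ha0
    (by rw [map_smul, LinearMap.smul_apply, hdA, smul_zero]) h2'

/-- A vector with mixed image produces a radical element on one of the two sides. -/
theorem exists_radical_of_mixed_symp {g : isomGroup B} (hg : g ∈ M) {d : V} (hd : d ∈ U)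
    (h1 : g.1 d ∉ U) (h2' : g.1 d ∉ W) : HasRad M U ∨ HasRad M W := by
  classical
  have hM' := shears_mem hP h hM
  obtain ⟨aU, haU, aW, haW, ha⟩ := hP.decomp (g.1 d)
  have ha0 : aU ≠ 0 := fun h' => h2' (by rw [← ha, h', zero_add]; exact haW)
  have ha0' : aW ≠ 0 := fun h' => h1 (by rw [← ha, h', add_zero]; exact haU)
  have hk' : 3 ≤ finrank F W := hP.dim ▸ hk
  obtain ⟨y, hy, hdy, hout⟩ : ∃ y ∈ W, B d y = 0 ∧ g.1 y ∉ (F ∙ aU) ⊔ (F ∙ aW) := by
    by_contra! hall
    set K := W ⊓ (B d).ker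
    have h1' : K.map (g.1 : V →ₗ[F] V) ≤ (F ∙ aU) ⊔ (F ∙ aW) := by
      rintro _ ⟨y, hy, rfl⟩
      exact hall y hy.1 hy.2
    have h3 := Submodule.finrank_add_le_finrank_add_finrank (F ∙ aU) (F ∙ aW)
    rw [finrank_span_singleton ha0, finrank_span_singleton ha0'] at h3
    have h5 := Submodule.finrank_sup_add_finrank_inf_eq W (B d).ker
    have h6 := (W ⊔ (B d).ker).finrank_le
    have h7 := LinearMap.finrank_range_add_finrank_ker (B d)
    have h8 := (B d).range.finrank_le
    rw [finrank_self] at h8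
    change _ + finrank F K = _ at h5
    have heq := Submodule.eq_of_le_of_finrank_le h1' (by rw [LinearEquiv.finrank_map_eq]; omega)
    have hmem : g.1 d ∈ K.map (g.1 : V →ₗ[F] V) :=
      heq.symm ▸ ha ▸ Submodule.add_mem_sup (Submodule.mem_span_singleton_self _) (Submodule.mem_span_singleton_self _)
    obtain ⟨x, hx, hxd⟩ := hmem
    have hxd' : x = d := g.1.injective hxd
    have hz : d ∈ U ⊓ W := ⟨hd, hxd' ▸ hx.1⟩
    rw [hP.inf, Submodule.mem_bot] at hz
    subst hz
    exact h1 (by simp)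
  obtain ⟨bU, hbU, bW, hbW, hb⟩ := hP.decomp (g.1 y)
  have hab : B (aU + aW) (bU + bW) = 0 := by rw [ha, hb, isomGroup_apply]; exact hdy
  have hs : RootIn (1 : F) M (aU + aW) (bU + bW) 0 := by
    rw [ha, hb]; exact RootIn.conj (hM' d hd y hy) hg
  by_cases hbu : bU ∈ F ∙ aU
  · right
    have hbw : bW ∉ F ∙ aW := fun hbw => hout (hb ▸ Submodule.add_mem_sup hbu hbw)
    exact exists_radical_three hP.symm h hA h2 hk' (fun k hk => hM k hk.symm) haW haU hbW hbU
      (by rw [add_comm aW, add_comm bW]; exact hab) ha0' hbw (by rw [add_comm aW, add_comm bW]; exact hs)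
  · exact Or.inl (exists_radical_three hP h hA h2 hk hM haU haW hbU hbW hab ha0 hbu hs)

omit hM in
/-- The stabiliser of a pair of complementary totally isotropic subspaces of dimension at least three. -/
theorem pair_axes_three
    (hM : ∀ g : isomGroup B, (U.map (g.1 : V →ₗ[F] V) = U ∧ W.map (g.1 : V →ₗ[F] V) = W) ∨
      (U.map (g.1 : V →ₗ[F] V) = W ∧ W.map (g.1 : V →ₗ[F] V) = U) → g ∈ M)
    {g : isomGroup B} (hg : g ∈ M)
    (hgU : ¬ ((U.map (g.1 : V →ₗ[F] V) = U ∧ W.map (g.1 : V →ₗ[F] V) = W) ∨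
      (U.map (g.1 : V →ₗ[F] V) = W ∧ W.map (g.1 : V →ₗ[F] V) = U))) :
    ∀ (v : V) (c : F), RootIn (1 : F) M v 0 c := by
  have hk' : 3 ≤ finrank F W := hP.dim ▸ hk
  refine h.pair_axes_of_radical hP hk (S := ⊤) (fun _ _ _ _ _ _ => Subgroup.mem_top _) (fun k _ hk => hM k hk) ?_
  by_contra hnone
  have pure : ∀ (A : Submodule F V), finrank F A = finrank F U →
      (∀ d ∈ A, g.1 d ∈ U ∨ g.1 d ∈ W) → A.map (g.1 : V →ₗ[F] V) = U ∨ A.map (g.1 : V →ₗ[F] V) = W := by
    intro A hA hp
    by_cases hc : A.map (g.1 : V →ₗ[F] V) ≤ U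
    · exact Or.inl (Submodule.eq_of_le_of_finrank_eq hc (by rw [LinearEquiv.finrank_map_eq, hA]))
    refine Or.inr (Submodule.eq_of_le_of_finrank_eq ?_ (by rw [LinearEquiv.finrank_map_eq, hA, hP.dim]))
    obtain ⟨_, ⟨x, hx, rfl⟩, hxU⟩ := SetLike.not_le_iff_exists.1 hc
    rintro _ ⟨y, hy, rfl⟩
    rcases hp y hy with h1 | h1
    swap
    · exact h1
    have h2 := (hp x hx).resolve_left hxU
    rcases hp (x + y) (A.add_mem hx hy) with h3 | h3
    · exact absurd (by rw [map_add] at h3; simpa using U.sub_mem h3 h1) hxU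
    · rw [map_add] at h3; simpa using W.sub_mem h3 h2
  have hA' : ∀ d ∈ U, g.1 d ∈ U ∨ g.1 d ∈ W := fun d hd => by
    by_contra hc
    push Not at hc
    exact hnone (exists_radical_of_mixed_symp hP h hA h2 hk (fun k hk => hM k (Or.inl hk)) hg hd hc.1 hc.2)
  have hB' : ∀ d ∈ W, g.1 d ∈ U ∨ g.1 d ∈ W := fun d hd => by
    by_contra hc
    push Not at hc
    exact hnone (Or.symm (exists_radical_of_mixed_symp hP.symm h hA h2 hk' (fun k hk => hM k (Or.inl hk.symm))
      hg hd hc.2 hc.1))
  have hinj : U.map (g.1 : V →ₗ[F] V) ≠ W.map (g.1 : V →ₗ[F] V) := fun e' => by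
    have e'' : U = W := Submodule.map_injective_of_injective g.1.injective e'
    have := hP.inf
    rw [← e'', inf_idem] at this
    rw [this, finrank_bot] at hk
    omega
  rcases pure U rfl hA' with h1 | h1 <;> rcases pure W hP.dim.symm hB' with h3 | h3
  · exact hinj (h1.trans h3.symm)
  · exact hgU (Or.inl ⟨h1, h3⟩)
  · exact hgU (Or.inr ⟨h1, h3⟩)
  · exact hinj (h1.trans h3.symm)

end CfsgLib.Classical.IsoPair
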