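import Cfsg.Prelude.Def_GeometricClasses

/-!
# Tensor stabilisers inside decomposition stabilisers
-/

set_option autoImplicit false
set_option linter.unusedSectionVars false

open Matrix Module
open scoped Kronecker MatrixGroups

namespace CfsgLib.Classical.TensorNonMax

variable {F : Type*} [Field F] {ι : Type} [Fintype ι] [DecidableEq ι]

section TensorMap

variable {n₁ n₂ : ℕ} (e : ι ≃ Fin n₁ × Fin n₂) (P : GL ι F)

/-- The pure tensor of two coordinate vectors. -/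
def tmap : (Fin n₁ → F) →ₗ[F] (Fin n₂ → F) →ₗ[F] (ι → F) :=
  LinearMap.mk₂ F (fun u w => (P : Matrix ι ι F) *ᵥ ((fun p : Fin n₁ × Fin n₂ => u p.1 * w p.2) ∘ e))
    (fun u u' w => by rw [← Matrix.mulVec_add]; congr 1; ext i; simp [add_mul])
    (fun c u w => by rw [← Matrix.mulVec_smul]; congr 1; ext i; simp [mul_assoc])
    (fun u w w' => by rw [← Matrix.mulVec_add]; congr 1; ext i; simp [mul_add])
    (fun c u w => by rw [← Matrix.mulVec_smul]; congr 1; ext i; simp [mul_left_comm])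

theorem tmap_apply (u : Fin n₁ → F) (w : Fin n₂ → F) :
    tmap e P u w = (P : Matrix ι ι F) *ᵥ ((fun p : Fin n₁ × Fin n₂ => u p.1 * w p.2) ∘ e) := rfl

theorem tmap_mul {h : GL ι F} (hh : h ∈ Cfsg.Geo.tensorProductSubgroup n₁ n₂ e P) :
    ∃ (a : GL (Fin n₁) F) (b : GL (Fin n₂) F), ∀ u w, (h : Matrix ι ι F) *ᵥ tmap e P u w =
      tmap e P ((a : Matrix _ _ F) *ᵥ u) ((b : Matrix _ _ F) *ᵥ w) := by
  obtain ⟨_, ⟨g, ⟨a, b, hg⟩, rfl⟩, rfl⟩ := hh
  refine ⟨a, b, fun u w => ?_⟩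
  simp only [MulEquiv.coe_toMonoidHom, MulAut.conj_apply, Units.val_mul, tmap_apply]
  rw [Matrix.mulVec_mulVec, Matrix.mul_assoc, ← Units.val_mul P⁻¹, inv_mul_cancel, Units.val_one, Matrix.mul_one,
    ← Matrix.mulVec_mulVec]
  congr 1
  show (Matrix.reindexAlgEquiv F F e.symm (g : Matrix _ _ F)) *ᵥ _ = _
  rw [Matrix.reindexAlgEquiv_apply, Matrix.reindex_apply, hg]
  funext i
  simp only [Matrix.mulVec, dotProduct, Matrix.submatrix_apply, Equiv.symm_symm, Function.comp_apply,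
    Matrix.kroneckerMap_apply]
  rw [Finset.sum_mul_sum, ← Finset.sum_product', ← e.symm.sum_comp]
  refine Finset.sum_congr rfl fun p _ => ?_
  simp only [Equiv.apply_symm_apply]
  ring

theorem tmap_indep {κ : Type*} [Fintype κ] {v : κ → Fin n₁ → F} (hv : LinearIndependent F v) {w : κ → Fin n₂ → F}
    (h : ∑ i, tmap e P (v i) (w i) = 0) : ∀ i, w i = 0 := by
  have hinj : Function.Injective ((P : Matrix ι ι F).mulVec) :=
    Function.LeftInverse.injective (g := ((P⁻¹ : GL ι F) : Matrix ι ι F).mulVec) fun x => by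
      rw [Matrix.mulVec_mulVec, ← Units.val_mul, inv_mul_cancel, Units.val_one, Matrix.one_mulVec]
  have h0 : ∑ i, ((fun p : Fin n₁ × Fin n₂ => v i p.1 * w i p.2) ∘ e) = 0 :=
    hinj (by rw [Matrix.mulVec_sum, Matrix.mulVec_zero]; exact h)
  intro i
  funext p
  refine Fintype.linearIndependent_iff.1 hv (fun j => w j p) ?_ i
  funext p₁
  have := congrFun h0 (e.symm (p₁, p))
  simp only [Finset.sum_apply, Function.comp_apply, Equiv.apply_symm_apply, Pi.zero_apply] at this ⊢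
  simpa [mul_comm] using this

variable {σ : F → F} {f : (ι → F) → (ι → F) → F} {f₁ : (Fin n₁ → F) → (Fin n₁ → F) → F}
  {f₂ : (Fin n₂ → F) → (Fin n₂ → F) → F}

theorem tmap_form (hσ : ∀ a b, σ (a * b) = σ a * σ b) (hT : Cfsg.Geo.IsTensorFormStructure σ f f₁ f₂ e P) :
    ∃ c : F, c ≠ 0 ∧ ∀ u u' w w', f (tmap e P u w) (tmap e P u' w') =
      c * (Cfsg.Geo.formOfGram σ (Cfsg.Geo.gramMatrix f₁) u u' * Cfsg.Geo.formOfGram σ (Cfsg.Geo.gramMatrix f₂) w w') := by
  obtain ⟨c, hc, hf⟩ := hT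
  refine ⟨c, hc, fun u u' w w' => ?_⟩
  rw [tmap_apply, tmap_apply, hf]
  simp only [Cfsg.Geo.formOfGram, Fintype.sum_prod_type, Matrix.kroneckerMap_apply, hσ, Finset.sum_mul,
    Finset.mul_sum]
  rw [Finset.sum_comm]
  refine Finset.sum_congr rfl fun a₂ _ => ?_
  conv_lhs =>
    enter [2, a₁]
    rw [Finset.sum_comm]
  rw [Finset.sum_comm]
  refine Finset.sum_congr rfl fun b₂ _ => Finset.sum_congr rfl fun a₁ _ => Finset.sum_congr rfl fun b₁ _ => ?_
  ring

end TensorMap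

/-! ### Forms given by their Gram matrix -/

theorem gram_expand {n : ℕ} {g : (Fin n → F) → (Fin n → F) → F} {τ : F → F}
    (haddl : ∀ x y v, g (x + y) v = g x v + g y v) (hsmull : ∀ (c : F) x v, g (c • x) v = c * g x v)
    (haddr : ∀ v x y, g v (x + y) = g v x + g v y) (hsmulr : ∀ (c : F) v x, g v (c • x) = τ c * g v x)
    (x y : Fin n → F) : Cfsg.Geo.formOfGram τ (Cfsg.Geo.gramMatrix g) x y = g x y := by
  let A : (Fin n → F) → (Fin n → F) →+ F := fun v => AddMonoidHom.mk' (fun x => g x v) fun a b => haddl a b v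
  let B : (Fin n → F) → (Fin n → F) →+ F := fun x => AddMonoidHom.mk' (g x) (haddr x)
  conv_rhs => rw [pi_eq_sum_univ' x]
  rw [show g (∑ a, x a • Pi.single a 1) y = ∑ a, g (x a • Pi.single a 1) y from map_sum (A y) _ _]
  refine Finset.sum_congr rfl fun a _ => ?_
  rw [hsmull]
  conv_rhs => rw [pi_eq_sum_univ' y]
  rw [show g (Pi.single a 1) (∑ b, y b • Pi.single b 1) = ∑ b, g (Pi.single a 1) (y b • Pi.single b 1) from
    map_sum (B _) _ _, Finset.mul_sum]
  refine Finset.sum_congr rfl fun b _ => ?_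
  rw [hsmulr, Cfsg.Geo.gramMatrix]
  ring

/-! ### The core -/

variable {k : ℕ} {W : Type*} [AddCommGroup W] [Module F W] [FiniteDimensional F W]
variable (L : (Fin k → F) →ₗ[F] W →ₗ[F] (ι → F)) (v : Fin k → Fin k → F)

/-- The member at a basis vector. -/
def block (i : Fin k) : Submodule F (ι → F) := LinearMap.range (L (v i))

/-- The data of a monomial element. -/
def IsMono (h : GL ι F) : Prop :=
  ∃ (π : Fin k → Fin k) (α : Fin k → F) (b : W →ₗ[F] W), Function.Injective π ∧ (∀ i, α i ≠ 0) ∧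
    Function.Surjective b ∧ ∀ i w, (h : Matrix ι ι F) *ᵥ L (v i) w = L (v (π i)) (α i • b w)

variable {L v}

theorem isMono_of (hv : LinearIndependent F v) (hL : ∀ w : Fin k → W, ∑ i, L (v i) (w i) = 0 → ∀ i, w i = 0)
    {h : GL ι F} (a : GL (Fin k) F) (b : W →ₗ[F] W) (hb : Function.Surjective b)
    (hab : ∀ u w, (h : Matrix ι ι F) *ᵥ L u w = L ((a : Matrix _ _ F) *ᵥ u) (b w))
    (ha : ∀ i, ∃ j α, (a : Matrix _ _ F) *ᵥ v i = (α : F) • v j) : IsMono L v h := by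
  choose π α hπ using ha
  have hainj : Function.Injective ((a : Matrix (Fin k) (Fin k) F).mulVec) :=
    Function.LeftInverse.injective (g := ((a⁻¹ : GL (Fin k) F) : Matrix _ _ F).mulVec) fun x => by
      rw [Matrix.mulVec_mulVec, ← Units.val_mul, inv_mul_cancel, Units.val_one, Matrix.one_mulVec]
  have hα : ∀ i, α i ≠ 0 := fun i e => hv.ne_zero i (hainj (by rw [hπ, e, zero_smul, Matrix.mulVec_zero]))
  refine ⟨π, α, b, fun i j e => ?_, hα, hb, fun i w => ?_⟩
  · by_contra hne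
    have h1 : (a : Matrix (Fin k) (Fin k) F) *ᵥ (α j • v i - α i • v j) = 0 := by
      rw [Matrix.mulVec_sub, Matrix.mulVec_smul, Matrix.mulVec_smul, hπ, hπ, e, smul_smul, smul_smul, mul_comm,
        sub_self]
    have h2 : α j • v i - α i • v j = 0 := hainj (h1.trans (Matrix.mulVec_zero _).symm)
    have h3 := Fintype.linearIndependent_iff.1 hv (Pi.single i (α j) - Pi.single j (α i)) (by
      simp only [Pi.sub_apply, sub_smul, Finset.sum_sub_distrib]
      rw [Finset.sum_eq_single i (fun l _ hl => by rw [Pi.single_eq_of_ne hl, zero_smul]) (by simp),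
        Finset.sum_eq_single j (fun l _ hl => by rw [Pi.single_eq_of_ne hl, zero_smul]) (by simp),
        Pi.single_eq_same, Pi.single_eq_same, h2]) i
    exact hα j (by simpa [Pi.single_eq_of_ne hne] using h3)
  · rw [hab, hπ, map_smul, LinearMap.smul_apply, map_smul]

theorem mem_decomp_of_isMono {h : GL ι F} (hh : IsMono L v h) :
    h ∈ Cfsg.Geo.decompositionStabilizer (block L v) := by
  obtain ⟨π, α, b, hπ, hα, hb, hh⟩ := hh
  refine ⟨Equiv.ofBijective π (Finite.injective_iff_bijective.1 hπ), fun i => le_antisymm ?_ ?_⟩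
  · rintro _ ⟨_, ⟨w, rfl⟩, rfl⟩
    exact ⟨α i • b w, by rw [Equiv.ofBijective_apply, Matrix.toLin'_apply, hh]⟩
  · rintro _ ⟨w, rfl⟩
    obtain ⟨w', hw'⟩ := hb ((α i)⁻¹ • w)
    refine ⟨L (v i) w', ⟨w', rfl⟩, ?_⟩
    rw [Matrix.toLin'_apply, hh, hw', smul_inv_smul₀ (hα i)]
    rfl

theorem exists_between (hL : ∀ w : Fin k → W, ∑ i, L (v i) (w i) = 0 → ∀ i, w i = 0) {G H : Subgroup (GL ι F)}
    (hH : ∀ h ∈ H ⊓ G, ∃ (a : GL (Fin k) F) (b : W →ₗ[F] W), (∀ u w, (h : Matrix ι ι F) *ᵥ L u w =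
      L ((a : Matrix _ _ F) *ᵥ u) (b w)) ∧ IsMono L v h)
    {g₁ : GL ι F} (hg₁ : g₁ ∈ G) {i₀ i₁ : Fin k} (hne : i₁ ≠ i₀)
    (hfix : ∀ i, i ≠ i₀ → ∀ w, (g₁ : Matrix ι ι F) *ᵥ L (v i) w = L (v i) w)
    (hin : ∀ w, ∃ w', (g₁ : Matrix ι ι F) *ᵥ L (v i₀) w = L (v i₀) w')
    (hmove : ∃ w, (g₁ : Matrix ι ι F) *ᵥ L (v i₀) w ≠ L (v i₀) w)
    (hfixed : ∃ w, w ≠ 0 ∧ (g₁ : Matrix ι ι F) *ᵥ L (v i₀) w = L (v i₀) w)
    {g₂ : GL ι F} (hg₂ : g₂ ∈ G) (hout : ∃ i, ∃ x ∈ block L v i, ∀ j, (g₂ : Matrix ι ι F) *ᵥ x ∉ block L v j) :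
    ∃ K : Subgroup (GL ι F), H ⊓ G < K ∧ K < G := by
  classical
  have hinj : ∀ i, ∀ w w', L (v i) w = L (v i) w' → w = w' := fun i w w' h => by
    have := hL (Pi.single i (w - w')) (by
      rw [Finset.sum_eq_single i (fun j _ hj => by rw [Pi.single_eq_of_ne hj, map_zero]) (by simp),
        Pi.single_eq_same, map_sub, h, sub_self]) i
    rwa [Pi.single_eq_same, sub_eq_zero] at this
  have hdisj : ∀ i j, i ≠ j → ∀ w w', L (v i) w = L (v j) w' → w = 0 := fun i j hij w w' h => by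
    have := hL (Pi.single i w + Pi.single j (-w')) (by
      simp only [Pi.add_apply, map_add, Finset.sum_add_distrib]
      rw [Finset.sum_eq_single i (fun l _ hl => by rw [Pi.single_eq_of_ne hl, map_zero]) (by simp),
        Finset.sum_eq_single j (fun l _ hl => by rw [Pi.single_eq_of_ne hl, map_zero]) (by simp),
        Pi.single_eq_same, Pi.single_eq_same, map_neg, h, add_neg_cancel]) i
    simpa [Pi.single_eq_of_ne hij] using this
  refine ⟨Cfsg.Geo.decompositionStabilizer (block L v) ⊓ G, lt_of_le_not_ge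
    (fun h hh => ⟨mem_decomp_of_isMono (hH h hh).choose_spec.choose_spec.2, hh.2⟩) fun hle => ?_,
    lt_of_le_not_ge inf_le_right fun hle => ?_⟩
  · have hg₁D : g₁ ∈ Cfsg.Geo.decompositionStabilizer (block L v) := by
      refine ⟨1, fun i => ?_⟩
      refine Submodule.eq_of_le_of_finrank_eq ?_
        ((Submodule.equivMapOfInjective _ (fun x y hxy => ?_) _).finrank_eq).symm
      · rintro _ ⟨_, ⟨w, rfl⟩, rfl⟩
        rw [Matrix.toLin'_apply, Equiv.Perm.one_apply]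
        by_cases hi : i = i₀
        · subst hi; obtain ⟨w', hw'⟩ := hin w; exact ⟨w', hw'.symm⟩
        · exact ⟨w, (hfix i hi w).symm⟩
      · rw [Matrix.toLin'_apply, Matrix.toLin'_apply] at hxy
        have := congrArg (((g₁⁻¹ : GL ι F) : Matrix ι ι F).mulVec) hxy
        rwa [Matrix.mulVec_mulVec, Matrix.mulVec_mulVec, ← Units.val_mul, inv_mul_cancel, Units.val_one,
          Matrix.one_mulVec, Matrix.one_mulVec] at this
    obtain ⟨a, b, hab, π, α, b', hπ, hα, -, hm⟩ := hH g₁ (hle ⟨hg₁D, hg₁⟩)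
    obtain ⟨w₀, hw₀, hw₀fix⟩ := hfixed
    have hπ₁ : π i₁ = i₁ := by
      by_contra hne'
      exact hw₀ (hdisj i₁ (π i₁) (Ne.symm hne') w₀ _ ((hfix i₁ hne w₀).symm.trans (hm i₁ w₀)))
    have hb' : ∀ w, α i₁ • b' w = w := fun w => by
      have := (hfix i₁ hne w).symm.trans (hm i₁ w)
      rw [hπ₁] at this
      exact (hinj i₁ _ _ this).symm
    have hπ₀ : π i₀ = i₀ := by
      by_contra hne'
      exact hw₀ (hdisj i₀ (π i₀) (Ne.symm hne') w₀ _ (hw₀fix.symm.trans (hm i₀ w₀)))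
    obtain ⟨w, hw⟩ := hmove
    apply hw
    have e0 := hm i₀ w₀
    rw [hw₀fix, hπ₀] at e0
    have e0' := hinj _ _ _ e0
    have e : ∀ w, b' w = (α i₁)⁻¹ • w := fun w => by rw [eq_inv_smul_iff₀ (hα i₁), hb']
    rw [e, smul_smul] at e0'
    have hc : α i₀ * (α i₁)⁻¹ = 1 := by
      by_contra hc
      refine hw₀ ((smul_eq_zero.1 (show (1 - α i₀ * (α i₁)⁻¹) • w₀ = 0 by
        rw [sub_smul, one_smul, ← e0', sub_self])).resolve_left (sub_ne_zero.2 (Ne.symm hc)))
    rw [hm i₀ w, hπ₀, e, smul_smul, hc, one_smul]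
  · obtain ⟨i, x, hx, hxo⟩ := hout
    obtain ⟨τ, hτ⟩ := (hle hg₂).1
    exact hxo (τ i) ((hτ i).le ⟨x, hx, Matrix.toLin'_apply _ _⟩)

end CfsgLib.Classical.TensorNonMax
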