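import Mathlib

/-!
# Small powers of a primitive element generate a finite field
-/

set_option autoImplicit false

namespace CfsgLib.Classical.UnipotentGen

variable {F : Type*} [Field F] [Fintype F]

theorem subfield_top_or (S : Subfield F) :
    S = ⊤ ∨ (2 ≤ Nat.card S ∧ Nat.card S * Nat.card S ≤ Fintype.card F) := by
  classical
  obtain ⟨d, hd⟩ : ∃ d, Fintype.card F = Nat.card S ^ d := by
    exact ⟨Module.finrank S F, by rw [← Nat.card_eq_fintype_card, Module.natCard_eq_pow_finrank (K := S)]⟩
  have h2 : 2 ≤ Nat.card S := Finite.one_lt_card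
  have hd0 : d ≠ 0 := fun h => by
    rw [h, pow_zero] at hd
    have := Fintype.one_lt_card (α := F)
    omega
  rcases Nat.lt_or_ge d 2 with h | h
  · left
    rw [show d = 1 by omega, pow_one, ← Nat.card_eq_fintype_card] at hd
    have : (S : Set F) = Set.univ := Set.eq_of_subset_of_ncard_le (Set.subset_univ _)
      (by rw [Set.ncard_univ, hd]; exact le_of_eq rfl) Set.finite_univ
    exact SetLike.coe_injective (this.trans Subfield.coe_top.symm)
  · refine Or.inr ⟨h2, ?_⟩
    rw [hd, ← pow_two]
    exact Nat.pow_le_pow_right (by omega) h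

theorem subfield_top_of_prime (hp : (Fintype.card F).Prime) (S : Subfield F) : S = ⊤ := by
  rcases subfield_top_or S with h | ⟨h2, hle⟩
  · exact h
  exfalso
  obtain ⟨d, hd⟩ : ∃ d, Fintype.card F = Nat.card S ^ d := by
    exact ⟨Module.finrank S F, by rw [← Nat.card_eq_fintype_card, Module.natCard_eq_pow_finrank (K := S)]⟩
  rcases hp.eq_one_or_self_of_dvd (Nat.card S) (by
    rw [hd]; refine dvd_pow_self _ ?_
    rintro rfl
    rw [pow_zero] at hd
    exact Nat.not_prime_one (hd ▸ hp)) with h | h
  · omega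
  · rw [h] at hle
    have := hp.two_le
    nlinarith

/-- The square and, over fields with at least five elements, the cube of a primitive element generate. -/
theorem subfield_top_of_pow (z : Fˣ) (hz : ∀ x, x ∈ Subgroup.zpowers z) (k : ℕ)
    (hk : k ≤ 2 ∨ (k = 3 ∧ 5 ≤ Fintype.card F)) (hk0 : 1 ≤ k)
    (S : Subfield F) (hS : ((z ^ k : Fˣ) : F) ∈ S) : S = ⊤ := by
  classical
  rcases subfield_top_or S with h | ⟨h2, hle⟩
  · exact h
  exfalso
  haveI : Fintype S := Fintype.ofFinite S
  have h1 : (⟨_, hS⟩ : S) ^ (Fintype.card S - 1) = 1 :=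
    FiniteField.pow_card_sub_one_eq_one _ (fun e => (z ^ k).ne_zero (congrArg Subtype.val e))
  have h1' : z ^ (k * (Nat.card S - 1)) = 1 := by
    have := congrArg Subtype.val h1
    refine Units.ext ?_
    rw [Nat.card_eq_fintype_card, pow_mul, Units.val_pow_eq_pow_val]
    exact this
  have hord : orderOf z = Fintype.card F - 1 := by
    rw [orderOf_eq_card_of_forall_mem_zpowers hz, Nat.card_units, Nat.card_eq_fintype_card]
  have hdvd := orderOf_dvd_of_pow_eq_one h1'
  have hle' : Fintype.card F - 1 ≤ k * (Nat.card S - 1) := by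
    rw [← hord]
    exact Nat.le_of_dvd (Nat.mul_pos hk0 (by omega)) hdvd
  obtain ⟨s, hs⟩ : ∃ s, Nat.card S = s + 1 := ⟨Nat.card S - 1, by omega⟩
  rw [hs, Nat.add_sub_cancel] at hle'
  rw [hs] at hle h2
  rcases hk with hk | ⟨rfl, h5⟩
  · have : k * s ≤ 2 * s := Nat.mul_le_mul_right _ hk
    nlinarith [Nat.sub_add_cancel (Fintype.card_pos : 1 ≤ Fintype.card F)]
  · have hs1 : s = 1 := by
      nlinarith [Nat.sub_add_cancel (Fintype.card_pos : 1 ≤ Fintype.card F)]
    subst hs1
    omega

end CfsgLib.Classical.UnipotentGen
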