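import Cfsg.Agent.Lib.Classical.HermBasic
import Cfsg.Agent.Lib.Classical.SubfieldGen

/-!
# Generators of the fixed field of a conjugation
-/

set_option autoImplicit false

namespace CfsgLib.Classical.SUUnipotent

variable {F : Type*} [Field F] [Fintype F] {σ : F →+* F}

/-- The fixed field. -/
def fixedField (σ : F →+* F) : Subfield F := σ.eqLocusField (RingHom.id F)

theorem mem_fixedField {x : F} : x ∈ fixedField σ ↔ σ x = x := Iff.rfl

/-- A fixed element can be moved to a generator of the fixed field by a fixed square. -/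
theorem exists_gen_square {C : F} (hC : σ C = C) (hC0 : C ≠ 0) :
    ∃ ν : F, σ ν = ν ∧ ν ≠ 0 ∧ ∀ S : Subfield F, ν ^ 2 * C ∈ S → ∀ x, σ x = x → x ∈ S := by
  classical
  haveI : Fintype (fixedField σ) := Fintype.ofFinite _
  obtain ⟨z, hz⟩ := IsCyclic.exists_generator (α := (fixedField σ)ˣ)
  obtain ⟨k, hk⟩ := Subgroup.mem_zpowers_iff.1
    (hz (Units.mk0 ⟨C, hC⟩ fun e => hC0 (congrArg Subtype.val e)))
  obtain ⟨e, he, j, hj⟩ : ∃ e : ℕ, (e = 1 ∨ e = 2) ∧ ∃ j : ℤ, 2 * j + k = e := by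
    rcases Int.even_or_odd k with ⟨i, hi⟩ | ⟨i, hi⟩
    · exact ⟨2, Or.inr rfl, 1 - i, by push_cast; omega⟩
    · exact ⟨1, Or.inl rfl, -i, by push_cast; omega⟩
  refine ⟨((z ^ j : (fixedField σ)ˣ) : fixedField σ).1, ((z ^ j : (fixedField σ)ˣ) : fixedField σ).2,
    fun h => (z ^ j).ne_zero (Subtype.ext h), fun S hS x hx => ?_⟩
  have heq : (z ^ j : (fixedField σ)ˣ) ^ 2 * Units.mk0 (⟨C, hC⟩ : fixedField σ)
      (fun e => hC0 (congrArg Subtype.val e)) = z ^ e := by
    rw [← hk, ← zpow_natCast (z ^ j) 2, ← zpow_mul, ← zpow_add, mul_comm, Nat.cast_ofNat, hj, zpow_natCast]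
  have htop : S.comap (fixedField σ).subtype = ⊤ := by
    refine UnipotentGen.subfield_top_of_pow z hz e (Or.inl (by omega)) (by omega) _ ?_
    rw [← heq]
    exact hS
  have : (⟨x, hx⟩ : fixedField σ) ∈ S.comap (fixedField σ).subtype := by rw [htop]; trivial
  exact this

/-- A set of trace-zero scalars with two multipliers whose ratio generates. -/
theorem imag_all (X : AddSubgroup F) {c Q C : F} (hc : c ∈ X) (hc0 : c ≠ 0) (hcσ : c + σ c = 0)
    (hQ0 : Q ≠ 0) (hQ : ∀ y ∈ X, Q * y ∈ X) (hQC : ∀ y ∈ X, Q * C * y ∈ X)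
    (hC : ∀ S : Subfield F, C ∈ S → ∀ x, σ x = x → x ∈ S) : ∀ x, x + σ x = 0 → x ∈ X := by
  let G : Subring F :=
    { carrier := {g | ∀ y ∈ X, g * y ∈ X}
      mul_mem' := fun {g g'} hg hg' y hy => by rw [mul_assoc]; exact hg _ (hg' y hy)
      one_mem' := fun y hy => by rw [one_mul]; exact hy
      add_mem' := fun {g g'} hg hg' y hy => by rw [add_mul]; exact add_mem (hg y hy) (hg' y hy)
      zero_mem' := fun y _ => by rw [zero_mul]; exact zero_mem X
      neg_mem' := fun {g} hg y hy => by rw [neg_mul]; exact neg_mem (hg y hy) }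
  have hinv : ∀ g ∈ G, g⁻¹ ∈ G := by
    intro g hg
    rcases eq_or_ne g 0 with rfl | hg0
    · rw [_root_.inv_zero]; exact zero_mem G
    have h2 : g ^ (Fintype.card F - 1) = 1 := FiniteField.pow_card_sub_one_eq_one g hg0
    have h1 : g⁻¹ = g ^ (Fintype.card F - 1 - 1) := by
      refine inv_eq_of_mul_eq_one_right ?_
      rw [← pow_succ', Nat.sub_add_cancel (by have := Fintype.one_lt_card (α := F); omega), h2]
    rw [h1]; exact pow_mem hg _
  let S : Subfield F := { G with inv_mem' := hinv }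
  have hCS : C ∈ S := by
    have : C = Q⁻¹ * (Q * C) := by rw [← mul_assoc, inv_mul_cancel₀ hQ0, one_mul]
    rw [this]
    exact mul_mem (hinv Q hQ) hQC
  intro x hx
  have hxS : x / c ∈ S := hC S hCS _ (by
    rw [map_div₀, eq_neg_of_add_eq_zero_right hx, eq_neg_of_add_eq_zero_right hcσ, neg_div_neg_eq])
  have := hxS c hc
  rwa [div_mul_cancel₀ x hc0] at this

end CfsgLib.Classical.SUUnipotent
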