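import Cfsg.Agent.Lib.Classical.HermBasic

/-!
# Unitary transvections generate the special unitary group
-/

set_option autoImplicit false
set_option linter.unusedSectionVars false

open Module

namespace CfsgLib.Classical

variable {F : Type*} [Field F] {V : Type*} [AddCommGroup V] [Module F V] {σ : F →+* F}
  {B : V →ₛₗ[σ] V →ₗ[F] F}

/-- `g` is the transvection `x ↦ x + c B(v, x) v` with isotropic centre. -/
def IsUTv (g : isomGroup B) (v : V) (c : F) : Prop :=
  B v v = 0 ∧ c + σ c = 0 ∧ ∀ x, g.1 x = x + (c * B v x) • v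

/-- The subgroup generated by the unitary transvections. -/
def tGroup (B : V →ₛₗ[σ] V →ₗ[F] F) : Subgroup (isomGroup B) :=
  Subgroup.closure {g | ∃ v c, IsUTv g v c}

theorem IsUTv.mem {g : isomGroup B} {v : V} {c : F} (h : IsUTv g v c) : g ∈ tGroup B :=
  Subgroup.subset_closure ⟨v, c, h⟩

theorem IsUTv.conj {g : isomGroup B} {v : V} {c : F} (h : IsUTv g v c) (k : isomGroup B) :
    IsUTv (k * g * k⁻¹) (k.1 v) c := by
  refine ⟨by rw [isomGroup_apply]; exact h.1, h.2.1, fun x => ?_⟩
  change k.1 (g.1 ((k⁻¹ : isomGroup B).1 x)) = _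
  have hx : k.1 ((k⁻¹ : isomGroup B).1 x) = x := k.1.apply_symm_apply x
  rw [h.2.2, map_add, map_smul, hx, show B v ((k⁻¹ : isomGroup B).1 x) = B (k.1 v) x by
    rw [← isomGroup_apply k v, hx]]

theorem tGroup_normal : (tGroup B).Normal := by
  refine ⟨fun n hn g => ?_⟩
  have hle : tGroup B ≤ (tGroup B).comap (MulAut.conj g).toMonoidHom := (Subgroup.closure_le _).2 (by
    rintro x ⟨v, c, hx⟩
    exact (hx.conj g).mem)
  exact hle hn

/-- The isometries fixing `S` pointwise. -/
def fixSub (B : V →ₛₗ[σ] V →ₗ[F] F) (S : Submodule F V) : Subgroup (isomGroup B) where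
  carrier := {g | ∀ x ∈ S, g.1 x = x}
  one_mem' := fun _ _ => rfl
  mul_mem' {a b} ha hb x hx := by
    change a.1 (b.1 x) = x
    rw [hb x hx, ha x hx]
  inv_mem' {a} ha x hx := by
    change a.1.symm x = x
    rw [LinearEquiv.symm_apply_eq, ha x hx]

theorem mem_fixSub {S : Submodule F V} {g : isomGroup B} : g ∈ fixSub B S ↔ ∀ x ∈ S, g.1 x = x := Iff.rfl

theorem fixSub_antitone {S T : Submodule F V} (h : S ≤ T) : fixSub B T ≤ fixSub B S :=
  fun _ hg x hx => hg x (h hx)

/-- The determinant of an isometry. -/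
noncomputable def idet (B : V →ₛₗ[σ] V →ₗ[F] F) : isomGroup B →* F where
  toFun g := LinearMap.det (g.1 : V →ₗ[F] V)
  map_one' := LinearMap.det_id
  map_mul' a b := map_mul LinearMap.det (a.1 : V →ₗ[F] V) (b.1 : V →ₗ[F] V)

namespace IsHermitian

variable [Finite F] [FiniteDimensional F V] (h : IsHermitian B)
include h

theorem exists_of_preserving (hN : B.SeparatingRight) (L : V →ₗ[F] V) (hL : ∀ x y, B (L x) (L y) = B x y) :
    ∃ g : isomGroup B, ∀ x, g.1 x = L x := by
  have hinj : Function.Injective L := by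
    rw [injective_iff_map_eq_zero]
    intro x hx
    exact hN x fun y => by rw [← hL, hx, map_zero]
  exact ⟨⟨LinearEquiv.ofInjectiveEndo L hinj, hL⟩, fun x => rfl⟩

theorem exists_uTv (hN : B.SeparatingRight) {v : V} {c : F} (hv : B v v = 0) (hc : c + σ c = 0) :
    ∃ g : isomGroup B, IsUTv g v c := by
  obtain ⟨g, hg⟩ := h.exists_of_preserving hN (LinearMap.transvection (c • B v) v) fun x y => by
    simp only [LinearMap.transvection.apply, LinearMap.smul_apply, smul_eq_mul, map_add, map_smul, map_smulₛₗ,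
      LinearMap.add_apply, map_mul, hv, h.symm, RingHom.id_apply]
    linear_combination (B v y * B x v) * hc
  exact ⟨g, hv, hc, fun x => by rw [hg, LinearMap.transvection.apply]; rfl⟩

theorem idet_uTv {g : isomGroup B} {v : V} {c : F} (hg : IsUTv g v c) : idet B g = 1 := by
  have e : (g.1 : V →ₗ[F] V) = LinearMap.transvection (c • B v) v := LinearMap.ext fun x => by
    rw [LinearMap.transvection.apply]; exact hg.2.2 x
  change LinearMap.det (g.1 : V →ₗ[F] V) = 1
  rw [e, LinearMap.transvection.det, LinearMap.smul_apply, hg.1, smul_zero, add_zero]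

theorem idet_tGroup {g : isomGroup B} (hg : g ∈ tGroup B) : idet B g = 1 := by
  refine (Subgroup.closure_le (K := (idet B).ker)).2 ?_ hg
  rintro x ⟨v, c, hx⟩
  exact MonoidHom.mem_ker.2 (h.idet_uTv hx)

theorem idet_norm (hN : B.SeparatingRight) (g : isomGroup B) : idet B g * σ (idet B g) = 1 := by
  obtain ⟨b, hb⟩ := h.exists_orthonormal hN
  set M := LinearMap.toMatrix b b (g.1 : V →ₗ[F] V) with hM
  have hMM : (M.map σ).transpose * M = 1 := by
    ext i j
    rw [Matrix.mul_apply, Matrix.one_apply, ← hb i j, ← g.2 (b i) (b j)]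
    conv_rhs => rw [← b.sum_repr (g.1 (b i)), ← b.sum_repr (g.1 (b j))]
    simp [-isomGroup_apply, -Basis.sum_repr, map_smulₛₗ, hb, hM, LinearMap.toMatrix_apply, mul_comm]
  have h' := congrArg Matrix.det hMM
  rw [Matrix.det_mul, Matrix.det_transpose, Matrix.det_one, ← RingHom.mapMatrix_apply, ← RingHom.map_det,
    hM, LinearMap.det_toMatrix] at h'
  rw [mul_comm]
  exact h'

/-- Quasi-reflections. -/
theorem exists_qr (hN : B.SeparatingRight) {z : V} (hz : B z z ≠ 0) {l : F} (hl : l * σ l = 1) :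
    ∃ g : isomGroup B, (∀ x, g.1 x = x + ((l - 1) / B z z * B z x) • z) ∧ idet B g = l := by
  obtain ⟨g, hg⟩ := h.exists_of_preserving hN (LinearMap.transvection (((l - 1) / B z z) • B z) z) fun x y => by
    simp only [LinearMap.transvection.apply, LinearMap.smul_apply, smul_eq_mul, map_add, map_smul, map_smulₛₗ,
      LinearMap.add_apply, map_mul, map_div₀, map_sub, map_one, h.symm, RingHom.id_apply]
    field_simp
    linear_combination (B z y * B x z) * hl
  refine ⟨g, fun x => by rw [hg, LinearMap.transvection.apply]; rfl, ?_⟩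
  have e : (g.1 : V →ₗ[F] V) = LinearMap.transvection (((l - 1) / B z z) • B z) z := LinearMap.ext hg
  change LinearMap.det (g.1 : V →ₗ[F] V) = l
  rw [e, LinearMap.transvection.det, LinearMap.smul_apply, smul_eq_mul, div_mul_cancel₀ _ hz]
  ring

/-- Tori of hyperbolic planes. -/
theorem exists_torus (hN : B.SeparatingRight) {r s : V} (hr : B r r = 0) (hs : B s s = 0) (hrs : B r s = 1)
    {l : F} (hl : l ≠ 0) :
    ∃ g : isomGroup B, g.1 r = l • r ∧ g.1 s = (σ l)⁻¹ • s ∧
      (∀ x, B r x = 0 → B s x = 0 → g.1 x = x) ∧ idet B g = l / σ l := by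
  have hsr : B s r = 1 := by rw [← h.symm, hrs, map_one]
  have hl' : σ l ≠ 0 := fun e => hl (by rw [← h.conj.invol l, e, map_zero])
  set T₁ := LinearMap.transvection ((l - 1) • B s) r
  set T₂ := LinearMap.transvection (((σ l)⁻¹ - 1) • B r) s
  obtain ⟨g, hg⟩ := h.exists_of_preserving hN (T₁ * T₂) fun x y => by
    simp only [T₁, T₂, Module.End.mul_apply, LinearMap.transvection.apply, LinearMap.smul_apply, smul_eq_mul,
      map_add, map_smul, map_smulₛₗ, LinearMap.add_apply, map_mul, map_sub, map_one, map_inv₀, h.symm,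
      h.conj.invol, RingHom.id_apply, hr, hs, hrs, hsr, map_zero]
    field_simp
    ring
  refine ⟨g, ?_, ?_, fun x h1 h2 => ?_, ?_⟩
  · rw [hg]
    simp [T₁, T₂, LinearMap.transvection.apply, hr, hsr, sub_smul]
  · rw [hg]
    simp [T₁, T₂, LinearMap.transvection.apply, hs, hrs, sub_smul]
  · rw [hg]
    simp [T₁, T₂, LinearMap.transvection.apply, h1, h2]
  · change LinearMap.det (g.1 : V →ₗ[F] V) = _
    rw [show (g.1 : V →ₗ[F] V) = T₁ * T₂ from LinearMap.ext hg, map_mul]
    simp only [T₁, T₂, LinearMap.transvection.det, LinearMap.smul_apply, smul_eq_mul, hsr, hrs, mul_one]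
    field_simp
    ring

/-! ### Hyperbolic pairs and planes -/

theorem exists_isotropic {W : Submodule F V} (hW : NondegOn B W) (hd : 2 ≤ finrank F W) :
    ∃ r ∈ W, r ≠ 0 ∧ B r r = 0 := by
  obtain ⟨b, hb⟩ := (h.restrict W).exists_orthonormal (restrictForm_separatingRight hW)
  obtain ⟨c, hc⟩ := h.conj.exists_norm_eq (a := -1) (by rw [map_neg, map_one])
  let i : Fin (finrank F W) := ⟨0, by omega⟩
  let j : Fin (finrank F W) := ⟨1, by omega⟩
  have hij : i ≠ j := by simp [i, j]
  refine ⟨(b i + c • b j : W), Submodule.coe_mem _, fun e => ?_, ?_⟩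
  · have e' : b i + c • b j = 0 := Subtype.ext e
    have := congrArg (restrictForm B W (b i)) e'
    rw [map_add, map_smul, hb, hb, if_pos rfl, if_neg hij] at this
    simp at this
  · change restrictForm B W (b i + c • b j) (b i + c • b j) = 0
    rw [(h.restrict W).add_self, (h.restrict W).smul_self, map_smul, hb, hb, hb, if_pos rfl, if_pos rfl,
      if_neg hij, hc]
    simp

theorem exists_partner {W : Submodule F V} (hW : NondegOn B W) {r : V} (hrW : r ∈ W) (hr0 : r ≠ 0)
    (hr : B r r = 0) : ∃ s ∈ W, B s s = 0 ∧ B r s = 1 := by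
  obtain ⟨z, hzW, hz⟩ : ∃ z ∈ W, B r z ≠ 0 := by
    by_contra! hall
    exact hr0 (nondegOn_iff.1 hW r hrW fun w hw => h.isRefl _ _ (hall w hw))
  set z' := (B r z)⁻¹ • z with hz'
  have hrz : B r z' = 1 := by rw [hz', map_smul, smul_eq_mul, inv_mul_cancel₀ hz]
  obtain ⟨c, hc⟩ := h.conj.exists_trace_eq (a := -B z' z') (by rw [map_neg, h.self_fixed])
  refine ⟨z' + c • r, W.add_mem (W.smul_mem _ hzW) (W.smul_mem _ hrW), ?_, ?_⟩
  · rw [h.add_self, h.smul_self c r, hr, map_smul (B z') c r, ← h.symm r z', hrz, map_one, smul_eq_mul, mul_one, hc]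
    ring
  · rw [map_add, map_smul (B r) c r, hr, hrz, smul_zero, add_zero]

theorem span_pair_eq {W : Submodule F V} (hd : finrank F W = 2) {r s : V} (hrW : r ∈ W) (hsW : s ∈ W)
    (hr : B r r = 0) (hrs : B r s = 1) : Submodule.span F {r, s} = W := by
  refine Submodule.eq_of_le_of_finrank_eq (Submodule.span_le.2 ?_) ?_
  · rintro x (rfl | rfl) <;> assumption
  rw [hd]
  have hli : LinearIndependent F ![r, s] := by
    rw [LinearIndependent.pair_iff]
    intro a b hab
    have h1 := congrArg (B r) hab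
    simp [map_add, hr, hrs] at h1
    subst h1
    simp only [zero_smul, add_zero, smul_eq_zero] at hab
    exact ⟨hab.resolve_right fun e => by simp [e] at hrs, rfl⟩
  have := finrank_span_eq_card hli
  rw [show Set.range ![r, s] = {r, s} by simp [Matrix.range_cons, Matrix.range_empty, Set.pair_comm]] at this
  simpa using this

theorem ext_plane {r s : V} (hr : B r r = 0) (hs : B s s = 0) (hrs : B r s = 1) {g k : isomGroup B}
    (h1 : g.1 r = k.1 r) (h2 : g.1 s = k.1 s) (h3 : ∀ x, B r x = 0 → B s x = 0 → g.1 x = k.1 x) : g = k := by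
  have hsr : B s r = 1 := by rw [← h.symm, hrs, map_one]
  refine Subtype.ext (LinearEquiv.ext fun x => ?_)
  have h4 := h3 (x - B s x • r - B r x • s) (by simp [hr, hrs]) (by simp [hs, hsr])
  simp only [map_sub, map_smul, h1, h2] at h4
  exact sub_left_inj.1 (sub_left_inj.1 h4)

/-- A special isometry of a hyperbolic plane is a product of transvections. -/
theorem plane_mem (hN : B.SeparatingRight) {r s : V} (hr : B r r = 0) (hs : B s s = 0) (hrs : B r s = 1)
    {g : isomGroup B} (hg : ∀ x, B r x = 0 → B s x = 0 → g.1 x = x) (hd : idet B g = 1) : g ∈ tGroup B := by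
  have hsr : B s r = 1 := by rw [← h.symm, hrs, map_one]
  have gen : ∀ {v : V} {c : F}, B v v = 0 → c + σ c = 0 → ∃ t ∈ tGroup B, ∀ x, t.1 x = x + (c * B v x) • v :=
    fun hv hc => by obtain ⟨t, ht⟩ := h.exists_uTv hN hv hc; exact ⟨t, ht.mem, ht.2.2⟩
  -- bring `g r` to a multiple of `r`
  suffices key : ∀ k : isomGroup B, (∀ x, B r x = 0 → B s x = 0 → k.1 x = x) → idet B k = 1 →
      (∃ a, k.1 r = a • r) → k ∈ tGroup B by
    set a := B s (g.1 r) with ha
    set b := B r (g.1 r) with hb
    have hdec : g.1 r = a • r + b • s := by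
      set w := g.1 r - a • r - b • s with hw
      have h1 : B r w = 0 := by simp [hw, hb, hr, hrs]
      have h2 : B s w = 0 := by simp [hw, ha, hs, hsr]
      have hperp : ∀ x, B r x = 0 → B s x = 0 → B w x = 0 := fun x hx hx' => by
        have e1 : B (g.1 r) x = 0 := by
          rw [← hg x hx hx', isomGroup_apply]; exact hx
        simp [hw, map_smulₛₗ, e1, hx, hx']
      have hw0 : w = 0 := hN w fun y => by
        have h5 := hperp (y - B s y • r - B r y • s) (by simp [hr, hrs]) (by simp [hs, hsr])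
        simp [map_sub, h.isRefl _ _ h1, h.isRefl _ _ h2] at h5
        exact h.isRefl _ _ h5
      rw [hw, sub_sub, sub_eq_zero] at hw0
      exact hw0
    by_cases hb0 : b = 0
    · exact key g hg hd ⟨a, by rw [hdec, hb0]; simp⟩
    have hab : σ a * b + σ b * a = 0 := by
      have := g.2 r r
      rw [hdec, hr] at this
      simp [map_smulₛₗ, hr, hs, hrs, hsr] at this
      linear_combination this
    have hσb : σ b ≠ 0 := fun e => hb0 (by rw [← h.conj.invol b, e, map_zero])
    obtain ⟨t₁, ht₁, ht₁'⟩ := gen (v := r) (c := -(a / b)) hr (by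
      rw [map_neg, map_div₀]
      field_simp
      linear_combination -hab)
    obtain ⟨c₀, hc₀, hc₀'⟩ := h.conj.exists_trace_zero
    obtain ⟨t₂, ht₂, ht₂'⟩ := gen (v := r) (c := c₀) hr hc₀'
    obtain ⟨t₃, ht₃, ht₃'⟩ := gen (v := s) (c := -c₀⁻¹) hs (by
      have hσc : σ c₀ = -c₀ := eq_neg_of_add_eq_zero_right hc₀'
      rw [map_neg, map_inv₀, hσc, inv_neg]
      ring)
    have hk : t₃ * t₂ * t₁ * g ∈ tGroup B := by
      refine key _ (fun x hx hx' => ?_) ?_ ⟨c₀ * b, ?_⟩
      · change t₃.1 (t₂.1 (t₁.1 (g.1 x))) = x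
        rw [hg x hx hx', ht₁', hx, mul_zero, zero_smul, add_zero, ht₂', hx, mul_zero, zero_smul, add_zero, ht₃',
          hx', mul_zero, zero_smul, add_zero]
      · rw [map_mul, map_mul, map_mul, h.idet_tGroup ht₁, h.idet_tGroup ht₂, h.idet_tGroup ht₃, hd]
        simp
      · change t₃.1 (t₂.1 (t₁.1 (g.1 r))) = _
        rw [hdec, ht₁', show a • r + b • s + (-(a / b) * B r (a • r + b • s)) • r = b • s by
            simp [hr, hrs, hb0], ht₂',
          show b • s + (c₀ * B r (b • s)) • r = b • s + (c₀ * b) • r by simp [hrs], ht₃',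
          show B s (b • s + (c₀ * b) • r) = c₀ * b by simp [hs, hsr]]
        have : -c₀⁻¹ * (c₀ * b) = -b := by field_simp
        rw [this]
        module
    have := mul_mem (inv_mem (mul_mem (mul_mem ht₃ ht₂) ht₁)) hk
    simpa [mul_assoc] using this
  intro k hk hkd ⟨a, ha⟩
  have hks : B r (k.1 s) * σ a = 1 := by
    have := k.2 r s
    rw [ha, hrs, map_smulₛₗ, LinearMap.smul_apply, smul_eq_mul] at this
    linear_combination this
  have hσa : σ a ≠ 0 := fun e => by simp [e] at hks
  have ha0 : a ≠ 0 := fun e => hσa (by rw [e, map_zero])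
  obtain ⟨H, hHr, hHs, hHx, hHd⟩ := h.exists_torus hN hr hs hrs ha0
  set m := H⁻¹ * k with hm
  have hmr : m.1 r = r := by
    change H.1.symm (k.1 r) = r
    rw [LinearEquiv.symm_apply_eq, ha, hHr]
  have hmx : ∀ x, B r x = 0 → B s x = 0 → m.1 x = x := fun x hx hx' => by
    change H.1.symm (k.1 x) = x
    rw [LinearEquiv.symm_apply_eq, hk x hx hx', hHx x hx hx']
  have hrm : B r (m.1 s) = 1 := by
    have := m.2 r s
    rwa [hmr, hrs] at this
  set e := B s (m.1 s) with he
  have hms : m.1 s = s + e • r := by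
    set w := m.1 s - e • r - s with hw
    have h1 : B r w = 0 := by simp [hw, hrm, hr, hrs]
    have h2 : B s w = 0 := by simp [hw, he, hs, hsr]
    have hperp : ∀ x, B r x = 0 → B s x = 0 → B w x = 0 := fun x hx hx' => by
      have e1 : B (m.1 s) x = 0 := by
        rw [← hmx x hx hx', isomGroup_apply]; exact hx'
      simp [hw, map_smulₛₗ, e1, hx, hx']
    have hw0 : w = 0 := hN w fun y => by
      have h5 := hperp (y - B s y • r - B r y • s) (by simp [hr, hrs]) (by simp [hs, hsr])
      simp [map_sub, h.isRefl _ _ h1, h.isRefl _ _ h2] at h5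
      exact h.isRefl _ _ h5
    rw [hw, sub_sub, sub_eq_zero] at hw0
    rw [hw0, add_comm]
  have het : e + σ e = 0 := by
    have := m.2 s s
    rw [hms, hs] at this
    simp [map_smulₛₗ, hr, hs, hrs, hsr] at this
    linear_combination this
  obtain ⟨t, ht, ht'⟩ := gen (v := r) hr het
  have hmt : m = t := h.ext_plane hr hs hrs (by rw [hmr, ht', hr, mul_zero, zero_smul, add_zero])
    (by rw [hms, ht', hrs, mul_one]) fun x hx hx' => by rw [hmx x hx hx', ht', hx, mul_zero, zero_smul, add_zero]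
  have hkH : k = H * t := by rw [← hmt, hm, mul_inv_cancel_left]
  have hfix : σ a = a := by
    rw [hkH, map_mul, h.idet_tGroup ht, mul_one, hHd, div_eq_one_iff_eq hσa] at hkd
    exact hkd.symm
  -- the torus for a fixed parameter
  obtain ⟨x₀, hx₀, hx₀'⟩ := h.conj.exists_trace_zero
  have weyl : ∀ x : F, x ≠ 0 → x + σ x = 0 → ∃ w ∈ tGroup B, w.1 r = (-x⁻¹) • s ∧ w.1 s = x • r ∧
      ∀ y, B r y = 0 → B s y = 0 → w.1 y = y := by
    intro x hx hx'
    obtain ⟨p, hp, hp'⟩ := gen (v := r) hr hx'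
    obtain ⟨p', hp₂, hp₂'⟩ := gen (v := s) (c := -x⁻¹) hs (by
      rw [map_neg, map_inv₀, eq_neg_of_add_eq_zero_right hx', inv_neg]
      ring)
    refine ⟨p * p' * p, mul_mem (mul_mem hp hp₂) hp, ?_, ?_, fun y hy hy' => ?_⟩
    · change p.1 (p'.1 (p.1 r)) = _
      rw [hp' r, hr, mul_zero, zero_smul, add_zero, hp₂' r, hsr, mul_one, hp', map_add, map_smul, hr, hrs]
      match_scalars <;> simp [hx]
    · change p.1 (p'.1 (p.1 s)) = _
      rw [hp' s, hrs, mul_one, hp₂' (s + x • r), hp']
      simp only [map_add, map_smul, hr, hs, hrs, hsr, smul_eq_mul]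
      match_scalars <;> field_simp <;> ring
    · change p.1 (p'.1 (p.1 y)) = y
      rw [hp' y, hy, mul_zero, zero_smul, add_zero, hp₂' y, hy', mul_zero, zero_smul, add_zero, hp' y, hy, mul_zero,
        zero_smul, add_zero]
  obtain ⟨w₀, hw₀, hw₀r, hw₀s, hw₀x⟩ := weyl x₀ hx₀ hx₀'
  obtain ⟨w₁, hw₁, hw₁r, hw₁s, hw₁x⟩ := weyl (-a * x₀) (mul_ne_zero (neg_ne_zero.2 ha0) hx₀) (by
    rw [map_mul, map_neg, hfix]; linear_combination (-a) * hx₀')
  have hHw : H = w₁ * w₀ := h.ext_plane hr hs hrs
    (by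
      change _ = w₁.1 (w₀.1 r)
      rw [hHr, hw₀r, map_smul, hw₁s, smul_smul]
      congr 1
      field_simp)
    (by
      change _ = w₁.1 (w₀.1 s)
      rw [hHs, hw₀s, map_smul, hw₁r, smul_smul, hfix]
      congr 1
      field_simp)
    fun y hy hy' => by
      change _ = w₁.1 (w₀.1 y)
      rw [hHx y hy hy', hw₀x y hy hy', hw₁x y hy hy']
  rw [hkH, hHw]
  exact mul_mem (mul_mem hw₁ hw₀) ht

/-- A special isometry moving only a non-degenerate plane is a product of transvections. -/
theorem plane_mem' (hN : B.SeparatingRight) {P : Submodule F V} (hP : NondegOn B P) (hd : finrank F P = 2)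
    {g : isomGroup B} (hg : g ∈ fixSub B (perp B P)) (hdet : idet B g = 1) : g ∈ tGroup B := by
  obtain ⟨r, hrP, hr0, hr⟩ := h.exists_isotropic hP hd.ge
  obtain ⟨s, hsP, hs, hrs⟩ := h.exists_partner hP hrP hr0 hr
  refine h.plane_mem hN hr hs hrs (fun x hx hx' => hg x ?_) hdet
  rw [← h.span_pair_eq hd hrP hsP hr hrs]
  exact mem_perp_span.2 (by rintro w (rfl | rfl) <;> assumption)

/-! ### Transitivity on vectors of a fixed length -/

theorem finrank_span_pair_of {x y : V} (hx : B x x ≠ 0) (hy : y ∉ Submodule.span F {x}) :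
    finrank F (Submodule.span F {x, y}) = 2 := by
  have hli : LinearIndependent F ![x, y] := by
    rw [LinearIndependent.pair_iff]
    intro a b hab
    by_cases hb : b = 0
    · subst hb
      simp only [zero_smul, add_zero, smul_eq_zero] at hab
      exact ⟨hab.resolve_right fun e => hx (by simp [e]), rfl⟩
    · exact absurd (Submodule.mem_span_singleton.2 ⟨-(a / b), by
        have h1 : b • ((-(a / b)) • x) = b • y := by
          rw [smul_smul, mul_neg, mul_div_cancel₀ _ hb, neg_smul, eq_comm, ← add_eq_zero_iff_eq_neg', hab]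
        exact smul_right_injective V hb h1⟩) hy
  have := finrank_span_eq_card hli
  rw [show Set.range ![x, y] = {x, y} by simp [Matrix.range_cons, Matrix.range_empty, Set.pair_comm]] at this
  simpa using this

theorem nondegOn_pair {x y : V} (hd : B x x * B y y - B x y * σ (B x y) ≠ 0) :
    NondegOn B (Submodule.span F {x, y}) := by
  refine nondegOn_iff.2 fun w hw hw' => ?_
  obtain ⟨a, b, rfl⟩ := Submodule.mem_span_pair.1 hw
  have h1 := hw' x (Submodule.subset_span (by simp))
  have h2 := hw' y (Submodule.subset_span (by simp))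
  simp only [map_add, map_smul, smul_eq_mul, ← h.symm x y] at h1 h2
  have ha : a * (B x x * B y y - B x y * σ (B x y)) = 0 := by linear_combination B y y * h1 - B x y * h2
  have hb : b * (B x x * B y y - B x y * σ (B x y)) = 0 := by linear_combination B x x * h2 - σ (B x y) * h1
  rw [(mul_eq_zero.1 ha).resolve_right hd, (mul_eq_zero.1 hb).resolve_right hd, zero_smul, zero_smul, add_zero]

/-- Moving inside a non-degenerate plane. -/
theorem trans_plane (hN : B.SeparatingRight) {P : Submodule F V} (hP : NondegOn B P) (hd : finrank F P = 2)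
    {x y : V} (hx : x ∈ P) (hy : y ∈ P) (hxy : B x x = B y y) (hx0 : B x x ≠ 0) :
    ∃ t ∈ tGroup B ⊓ fixSub B (perp B P), t.1 x = y := by
  let φ : Submodule.span F {(⟨x, hx⟩ : P)} →ₗ[F] P :=
    (LinearMap.toSpanSingleton F P ⟨y, hy⟩).comp
      (LinearEquiv.toSpanNonzeroSingleton F P ⟨x, hx⟩ (fun e => hx0 (by
        rw [show x = 0 from congrArg Subtype.val e, map_zero]))).symm.toLinearMap
  have hx' : (⟨x, hx⟩ : P) ≠ 0 := fun e => hx0 (by rw [show x = 0 from congrArg Subtype.val e, map_zero])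
  have hy' : (⟨y, hy⟩ : P) ≠ 0 := fun e => hx0 (by rw [hxy, show y = 0 from congrArg Subtype.val e, map_zero])
  let e := LinearEquiv.toSpanNonzeroSingleton F P ⟨x, hx⟩ hx'
  have he : ∀ a : Submodule.span F {(⟨x, hx⟩ : P)}, a.1 = e.symm a • (⟨x, hx⟩ : P) := fun a => by
    conv_lhs => rw [← e.apply_symm_apply a]
    rfl
  have hφ : ∀ a, φ a = e.symm a • (⟨y, hy⟩ : P) := fun a => rfl
  obtain ⟨g₀, hg₀⟩ := (h.restrict P).witt (restrictForm_separatingRight hP) _ φ (fun a b hab => by
      rw [hφ, hφ] at hab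
      exact e.symm.injective (smul_left_injective F hy' hab))
    (fun a b => by
      rw [hφ, hφ, he a, he b]
      simp [map_smulₛₗ, hxy])
  let g : isomGroup B := isomSum hP.isCompl (fun _ hw _ hu => mem_perp.1 hu _ hw)
    (fun _ hw _ hu => orth_symm h.isRefl hw hu) (g₀, 1)
  have hgx : g.1 x = y := by
    have h1 := hg₀ ⟨⟨x, hx⟩, Submodule.mem_span_singleton_self _⟩
    rw [hφ, show e.symm ⟨⟨x, hx⟩, Submodule.mem_span_singleton_self _⟩ = 1 from
      e.symm_apply_eq.2 (Subtype.ext (one_smul F _).symm), one_smul] at h1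
    change sumEquiv hP.isCompl g₀.1 _ ((⟨x, hx⟩ : P) : V) = y
    rw [sumEquiv_apply_left]
    exact congrArg Subtype.val h1
  have hgfix : g ∈ fixSub B (perp B P) := fun u hu => sumEquiv_apply_right hP.isCompl _ _ ⟨u, hu⟩
  -- an orthogonal vector of the plane
  have hndy : B y y ≠ 0 := hxy ▸ hx0
  obtain ⟨z, hzP, hzy, hz⟩ : ∃ z ∈ P, B y z = 0 ∧ B z z ≠ 0 := by
    obtain ⟨p, hp, hp'⟩ : ∃ p ∈ P, p ∉ Submodule.span F {y} := by
      by_contra! hall
      have := Submodule.finrank_mono (R := F) (s := P) (t := Submodule.span F {y}) hall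
      rw [hd, finrank_span_singleton (fun e => hndy (by simp [e]))] at this
      omega
    refine ⟨p - (B y p / B y y) • y, P.sub_mem hp (P.smul_mem _ hy), by simp [hndy], fun hz => ?_⟩
    set z := p - (B y p / B y y) • y with hzdef
    have hzy : B y z = 0 := by simp [hzdef, hndy]
    have hz0 : z ≠ 0 := fun e => hp' (by
      rw [sub_eq_zero.1 e]; exact Submodule.smul_mem _ _ (Submodule.mem_span_singleton_self y))
    refine hz0 (nondegOn_iff.1 hP z (P.sub_mem hp (P.smul_mem _ hy)) fun w hw => ?_)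
    have hsp : Submodule.span F {y, z} = P := by
      refine Submodule.eq_of_le_of_finrank_eq (Submodule.span_le.2 ?_) ?_
      · rintro v (rfl | rfl)
        · exact hy
        · exact P.sub_mem hp (P.smul_mem _ hy)
      · rw [hd, h.finrank_span_pair_of hndy]
        intro hmem
        obtain ⟨t, ht⟩ := Submodule.mem_span_singleton.1 hmem
        rw [← ht, map_smul, smul_eq_mul, mul_eq_zero] at hzy
        exact hz0 (by rw [← ht, hzy.resolve_right hndy, zero_smul])
    obtain ⟨a, b, rfl⟩ := Submodule.mem_span_pair.1 (hsp.symm ▸ hw : w ∈ Submodule.span F {y, z})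
    simp [map_smulₛₗ, hzy, hz]
  have hl : (idet B g)⁻¹ * σ ((idet B g)⁻¹) = 1 := by
    rw [map_inv₀, ← mul_inv, h.idet_norm hN, inv_one]
  obtain ⟨q, hq, hqd⟩ := h.exists_qr hN hz hl
  have hqfix : q ∈ fixSub B (perp B P) := fun u hu => by
    rw [hq, mem_perp.1 hu z hzP, mul_zero, zero_smul, add_zero]
  have hdet : idet B (q * g) = 1 := by
    rw [map_mul, hqd, inv_mul_cancel₀]
    intro e
    simpa [e] using h.idet_norm hN g
  refine ⟨q * g, ⟨h.plane_mem' hN hP hd (mul_mem hqfix hgfix) hdet, mul_mem hqfix hgfix⟩, ?_⟩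
  change q.1 (g.1 x) = y
  rw [hgx, hq, h.isRefl _ _ hzy, mul_zero, zero_smul, add_zero]

/-- Pairs spanning a non-degenerate plane, and proportional pairs. -/
theorem trans_easy (hN : B.SeparatingRight) {W : Submodule F V} (hW : NondegOn B W) (hd : 2 ≤ finrank F W)
    {x y : V} (hx : x ∈ W) (hy : y ∈ W) (hxy : B x x = B y y) (hx0 : B x x ≠ 0)
    (hc : y ∈ Submodule.span F {x} ∨ B x x * B y y - B x y * σ (B x y) ≠ 0) :
    ∃ t ∈ tGroup B ⊓ fixSub B (perp B W), t.1 x = y := by
  have mono : ∀ {P : Submodule F V}, P ≤ W → tGroup B ⊓ fixSub B (perp B P) ≤ tGroup B ⊓ fixSub B (perp B W) :=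
    fun hPW => inf_le_inf_left _ (fixSub_antitone (perp_antitone hPW))
  by_cases hsp : y ∈ Submodule.span F {x}
  · -- any non-degenerate plane through `x`
    set W' := W ⊓ perp B (Submodule.span F {x}) with hW'
    obtain ⟨w, hw, hw0⟩ : ∃ w ∈ W', B w w ≠ 0 := by
      by_contra! hall
      obtain ⟨p, hp, hp'⟩ : ∃ p ∈ W, p ∉ Submodule.span F {x} := by
        by_contra! hall'
        have := Submodule.finrank_mono (R := F) (s := W) (t := Submodule.span F {x}) hall'
        rw [finrank_span_singleton (fun e => hx0 (by simp [e]))] at this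
        omega
      set z := p - (B x p / B x x) • x
      have hmem : ∀ v ∈ W, v - (B x v / B x x) • x ∈ W' := fun v hv =>
        ⟨W.sub_mem hv (W.smul_mem _ hx), mem_perp_span.2 fun u hu => by
          rw [Set.mem_singleton_iff.1 hu]; simp [hx0]⟩
      have hz0 : z ≠ 0 := fun e => hp' (by
        rw [sub_eq_zero.1 e]; exact Submodule.smul_mem _ _ (Submodule.mem_span_singleton_self x))
      refine hz0 (nondegOn_iff.1 hW z (hmem p hp).1 fun v hv => ?_)
      have hxz : B x z = 0 := mem_perp_span.1 (hmem p hp).2 x rfl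
      have hvz : B (v - (B x v / B x x) • x) z = 0 := by
        by_contra hne
        obtain h' | h' | ⟨c, h'⟩ := h.exists_self_ne_zero hne
        · exact h' (hall _ (hmem v hv))
        · exact h' (hall _ (hmem p hp))
        · exact h' (hall _ (W'.add_mem (hmem v hv) (W'.smul_mem _ (hmem p hp))))
      simpa [map_smulₛₗ, hxz] using hvz
    have hxw : B x w = 0 := mem_perp_span.1 hw.2 x rfl
    have hne : w ∉ Submodule.span F {x} := fun hmem => by
      obtain ⟨t, ht⟩ := Submodule.mem_span_singleton.1 hmem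
      rw [← ht, map_smul, smul_eq_mul, mul_eq_zero] at hxw
      exact hw0 (by rw [← ht, hxw.resolve_right hx0]; simp)
    have hnd : NondegOn B (Submodule.span F {x, w}) :=
      h.nondegOn_pair (by rw [hxw, zero_mul, sub_zero]; exact mul_ne_zero hx0 hw0)
    obtain ⟨t, ht, e⟩ := h.trans_plane hN hnd (h.finrank_span_pair_of hx0 hne)
      (Submodule.subset_span (by simp)) (Submodule.span_mono (by simp) hsp) hxy hx0
    exact ⟨t, mono (Submodule.span_le.2 (by rintro v (rfl | rfl); exacts [hx, hw.1])) ht, e⟩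
  · have hnd := h.nondegOn_pair (hc.resolve_left hsp)
    obtain ⟨t, ht, e⟩ := h.trans_plane hN hnd (h.finrank_span_pair_of hx0 hsp)
      (Submodule.subset_span (by simp)) (Submodule.subset_span (by simp)) hxy hx0
    exact ⟨t, mono (Submodule.span_le.2 (by rintro v (rfl | rfl); exacts [hx, hy])) ht, e⟩

end IsHermitian

end CfsgLib.Classical
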