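import Cfsg.Agent.Lib.Classical.OrthMaxND

/-!
# Stabilisers of non-singular points in even characteristic
-/

set_option autoImplicit false
set_option linter.unusedSectionVars false
set_option backward.isDefEq.respectTransparency false

open Module QuadraticMap CfsgLib.Orth

namespace CfsgLib.Classical.PointMax

variable {F V : Type*} [Field F] [Fintype F] [AddCommGroup V] [Module F V] [FiniteDimensional F V]
  {Q : QuadraticForm F V} (hQ : (QuadraticMap.polarBilin Q).Nondegenerate)
include hQ

/-- A singular hyperbolic pair orthogonal to two vectors and outside their span. -/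
theorem exists_good_pair (hn : 8 ≤ finrank F V) (v w : V) :
    ∃ e f, Q e = 0 ∧ Q f = 0 ∧ polar Q e f = 1 ∧ polar Q v e = 0 ∧ polar Q w e = 0 ∧ polar Q v f = 0 ∧
      polar Q w f = 0 ∧ e ∉ Submodule.span F {v, w} ∧ f ∉ Submodule.span F {v, w} := by
  classical
  set S := Submodule.span F {v, w}
  set X := qperp Q S
  have hS : finrank F S ≤ 2 := by
    have h5 := finrank_span_finset_le_card (R := F) ({v, w} : Finset V)
    have h6 := Finset.card_le_two (a := v) (b := w)
    rw [Finset.coe_pair, Set.finrank] at h5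
    exact h5.trans h6
  obtain ⟨Z, hZ⟩ := (Submodule.comap X.subtype S).exists_isCompl
  set Y := Z.map X.subtype
  have hYX : Y ≤ X := Submodule.map_subtype_le X Z
  have hYS : ∀ y ∈ Y, y ∈ S → y = 0 := by
    rintro _ ⟨z, hz, rfl⟩ hzS
    have h0 : z = 0 := Submodule.disjoint_def.1 hZ.disjoint z hzS hz
    rw [h0, map_zero]
  have hnd : NdSub Q Y := by
    refine ndSub_of_on fun y hy hy0 => ?_
    by_contra hall
    push Not at hall
    refine hy0 (hYS y hy ?_)
    rw [← qperp_qperp hQ S]
    intro x hx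
    obtain ⟨a, ha, b, hb, hab⟩ := Submodule.mem_sup.1
      (show (⟨x, hx⟩ : X) ∈ Submodule.comap X.subtype S ⊔ Z from hZ.sup_eq_top.symm ▸ Submodule.mem_top)
    have hx' : (a : V) + (b : V) = x := congrArg Subtype.val hab
    show polar Q x y = 0
    rw [← hx', polar_add_left, polar_qperp (show (a : V) ∈ S from ha) (hYX hy), polar_comm, show polar Q y (b : V) = 0 from hall _ ⟨b, hb, rfl⟩, add_zero]
  have hdim : 3 ≤ finrank F Y := by
    have h1 : finrank F X + finrank F S = finrank F V := finrank_qperp hQ S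
    have h2 := Submodule.finrank_add_eq_of_isCompl hZ
    have h3 : finrank F (Submodule.comap X.subtype S) ≤ finrank F S := by
      rw [← Submodule.finrank_map_subtype_eq]
      exact Submodule.finrank_mono (Submodule.map_comap_le _ _)
    have h4 : finrank F Y = finrank F Z := Submodule.finrank_map_subtype_eq _ _
    omega
  obtain ⟨e, he0, he⟩ := exists_singular hnd hdim
  have he' : Q (e : V) = 0 := he
  obtain ⟨y, hy⟩ : ∃ y : Y, polar Q (e : V) (y : V) ≠ 0 := by
    by_contra hall
    push Not at hall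
    exact he0 (hnd.1 e fun z => by
      rw [QuadraticMap.polarBilin_apply_apply]
      simpa [QuadraticMap.polar] using hall z)
  obtain ⟨y₁, hy₁Y, hy₁⟩ : ∃ y₁ ∈ Y, polar Q (e : V) y₁ = 1 :=
    ⟨(polar Q (e : V) (y : V))⁻¹ • (y : V), Y.smul_mem _ y.2, by rw [polar_smul_r', inv_mul_cancel₀ hy]⟩
  obtain ⟨f, hfd⟩ : ∃ f, f = y₁ + (-(Q y₁)) • (e : V) := ⟨_, rfl⟩
  have hfY : f ∈ Y := hfd ▸ Y.add_mem hy₁Y (Y.smul_mem _ e.2)
  have hf : Q f = 0 := by
    rw [hfd, quad_add', quad_smul', polar_smul_r', he', polar_comm _ y₁ (e : V), hy₁]; ring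
  have hef : polar Q (e : V) f = 1 := by
    rw [hfd, polar_add_right, polar_smul_r', hy₁, polar_self', he']; ring
  have hv : v ∈ S := Submodule.subset_span (by simp)
  have hw : w ∈ S := Submodule.subset_span (by simp)
  refine ⟨e, f, he', hf, hef, polar_qperp hv (hYX e.2), polar_qperp hw (hYX e.2),
    polar_qperp hv (hYX hfY), polar_qperp hw (hYX hfY), fun h => ?_, fun h => ?_⟩
  · exact he0 (Subtype.ext (hYS _ e.2 h))
  · rw [hYS _ hfY h, polar_zero_right] at hef
    exact zero_ne_one hef

/-- A Siegel axis orthogonal to both vectors is complete. -/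
theorem ax_of_two {M : Subgroup (orthGroup Q)} {v w d : V} (hv : Q v ≠ 0)
    (hsv : ∀ d u, Q d = 0 → polar Q v d = 0 → polar Q v u = 0 → SiegelIn M d u)
    (hsw : ∀ d u, Q d = 0 → polar Q w d = 0 → polar Q w u = 0 → SiegelIn M d u)
    (hwv : w ∉ F ∙ v) (hd : Q d = 0) (hdv : polar Q v d = 0) (hdw : polar Q w d = 0)
    (hdS : d ∉ Submodule.span F {v, w}) : AxIn M d := by
  classical
  intro u g hg
  have hvS : v ∉ Submodule.span F {w, d} := by
    intro h
    obtain ⟨α, β, h⟩ := Submodule.mem_span_pair.1 h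
    rcases eq_or_ne β 0 with hb | hb
    · rw [hb, zero_smul, add_zero] at h
      rcases eq_or_ne α 0 with ha | ha
      · rw [ha, zero_smul] at h; exact hv (by rw [← h, QuadraticMap.map_zero])
      · exact hwv (Submodule.mem_span_singleton.2 ⟨α⁻¹, by rw [← h, inv_smul_smul₀ ha]⟩)
    · refine hdS (Submodule.mem_span_pair.2 ⟨β⁻¹, -(β⁻¹ * α), ?_⟩)
      rw [← h, smul_add, smul_smul, inv_smul_smul₀ hb, neg_smul]
      abel
  obtain ⟨z, hz, hzv⟩ := exists_polar_one hQ hvS
  have hzd : polar Q d z = 0 := by rw [polar_comm]; exact hz d (Submodule.subset_span (by simp))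
  have hzw : polar Q w z = 0 := by rw [polar_comm]; exact hz w (Submodule.subset_span (by simp))
  have hdu : polar Q d u = 0 := hg.2.1
  set a := polar Q v u with ha
  refine (SiegelIn.add hQ hd (u := u + (-a) • z) (w := a • z) ?_ ?_ ?_ ?_) g ?_
  · rw [polar_add_right, polar_smul_r', hdu, hzd]; ring
  · rw [polar_smul_r', hzd, mul_zero]
  · refine hsv _ _ hd hdv ?_
    rw [polar_add_right, polar_smul_r', ← ha, polar_comm _ v z, hzv]; ring
  · exact hsw _ _ hd hdw (by rw [polar_smul_r', hzw, mul_zero])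
  · rwa [neg_smul, neg_add_cancel_right]

theorem ax_all {M : Subgroup (orthGroup Q)} {e f : V} (he : Q e = 0) (hf : Q f = 0) (hef : polar Q e f = 1)
    (hae : AxIn M e) (haf : AxIn M f) {y : V} (hy : Q y = 0) : AxIn M y := by
  have hfe : polar Q f e = 1 := by rw [polar_comm]; exact hef
  by_cases h1 : polar Q e y = 0
  swap
  · exact ax_move hQ hae he hf hy (by rw [hef]; exact one_ne_zero) h1 haf
  by_cases h2 : polar Q f y = 0
  swap
  · exact ax_move hQ haf hf he hy (by rw [hfe]; exact one_ne_zero) h2 hae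
  by_cases hy0 : y = 0
  · subst hy0; exact AxIn.zero M
  obtain ⟨t, ht⟩ : ∃ t, polar Q y t ≠ 0 := by
    by_contra hall
    push Not at hall
    exact hy0 (hQ.1 y fun t => hall t)
  obtain ⟨z, hz⟩ : ∃ z, z = t + (-(polar Q f t)) • e + (-(polar Q e t)) • f := ⟨_, rfl⟩
  have hze : polar Q e z = 0 := by
    rw [hz, polar_add_right, polar_add_right, polar_smul_r', polar_smul_r', polar_self', he, hef]; ring
  have hzf : polar Q f z = 0 := by
    rw [hz, polar_add_right, polar_add_right, polar_smul_r', polar_smul_r', polar_self', hf, hfe]; ring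
  have hzy : polar Q y z = polar Q y t := by
    rw [hz, polar_add_right, polar_add_right, polar_smul_r', polar_smul_r', polar_comm _ y e, h1,
      polar_comm _ y f, h2]
    ring
  obtain ⟨x, hx⟩ : ∃ x, x = f + z + (-(Q z)) • e := ⟨_, rfl⟩
  have hxQ : Q x = 0 := by
    rw [hx, quad_add', quad_add', quad_smul', polar_add_left, polar_smul_r', polar_smul_r', hf, he, hfe, hzf,
      polar_comm _ z e, hze]
    ring
  have hex : polar Q e x = 1 := by
    rw [hx, polar_add_right, polar_add_right, polar_smul_r', polar_self', he, hef, hze]; ring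
  have hax : AxIn M x := ax_move hQ hae he hf hxQ (by rw [hef]; exact one_ne_zero) (by rw [hex]; exact one_ne_zero) haf
  refine ax_move hQ hax hxQ he hy (by rw [polar_comm, hex]; exact one_ne_zero) ?_ hae
  rw [hx, polar_add_left, polar_add_left, polar_smul_l', h2, h1, polar_comm _ z y, hzy]
  simpa using ht

theorem point_top (h4 : Good F V) (hp : HypPairs Q) (hn : 8 ≤ finrank F V) (h2 : (2 : F) = 0) {v : V}
    (hv : Q v ≠ 0) {M : Subgroup (orthGroup Q)} (hM : stab (Q := Q) (F ∙ v) ⊓ commutator (orthGroup Q) ≤ M)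
    {g : orthGroup Q} (hg : g ∈ M) (hgv : g ∉ stab (Q := Q) (F ∙ v)) : commutator (orthGroup Q) ≤ M := by
  have hv0 : v ≠ 0 := fun h => hv (by rw [h, QuadraticMap.map_zero])
  have hgv' : g.1 v ∉ F ∙ v := fun h => hgv (mem_stab_of_le fun x hx => by
    obtain ⟨t, rfl⟩ := Submodule.mem_span_singleton.1 hx
    rw [map_smul]; exact Submodule.smul_mem _ _ h)
  have hsv : ∀ d u, Q d = 0 → polar Q v d = 0 → polar Q v u = 0 → SiegelIn M d u := fun d u hd hdv huv s hs =>
    hM ⟨mem_stab_of_le fun x hx => by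
      obtain ⟨t, rfl⟩ := Submodule.mem_span_singleton.1 hx
      rw [map_smul, hs.fix (by rw [polar_comm]; exact hdv) (by rw [polar_comm]; exact huv)]
      exact Submodule.smul_mem _ _ (Submodule.mem_span_singleton_self v),
      hs.mem_commutator hQ h4 hp (by omega)⟩
  have hsw : ∀ d u, Q d = 0 → polar Q (g.1 v) d = 0 → polar Q (g.1 v) u = 0 → SiegelIn M d u := by
    intro d u hd hdv huv
    obtain ⟨d', rfl⟩ := g.1.surjective d
    obtain ⟨u', rfl⟩ := g.1.surjective u
    rw [polar_isom] at hdv huv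
    rw [apply_quad] at hd
    exact (hsv d' u' hd hdv huv).conj hg
  obtain ⟨e, f, he, hf, hef, hve, hwe, hvf, hwf, heS, hfS⟩ := exists_good_pair hQ hn v (g.1 v)
  rw [commutator_eq_siegelGroup hQ h4 hp (by omega)]
  exact siegelGroup_le_of_ax fun y hy => ax_all hQ he hf hef
    (ax_of_two hQ hv hsv hsw hgv' he hve hwe heS) (ax_of_two hQ hv hsv hsw hgv' hf hvf hwf hfS) hy

theorem exists_not_stab_point (h4 : Good F V) (hp : HypPairs Q) (hn : 5 ≤ finrank F V) {v : V} (hv0 : v ≠ 0) :
    ∃ k ∈ commutator (orthGroup Q), k ∉ stab (Q := Q) (F ∙ v) := by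
  classical
  obtain ⟨d, -, hd, hdv⟩ := exists_singular_polar hQ (U := (⊤ : Submodule F V))
    (ndSub_of_on fun w _ hw => by
      by_contra hall
      push Not at hall
      exact hw (hQ.1 w fun t => hall t Submodule.mem_top))
    (e := hp.e₀) Submodule.mem_top hp.he₀ hp.e₀_ne_zero (c := v) Submodule.mem_top hv0
  obtain ⟨u, hdu, huS⟩ : ∃ u, polar Q d u = 0 ∧ u ∉ Submodule.span F {v, d} := by
    by_contra hall
    push Not at hall
    have h1 : qperp Q (F ∙ d) ≤ Submodule.span F {v, d} := fun u hu =>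
      hall u (hu d (Submodule.mem_span_singleton_self d))
    have h2 := Submodule.finrank_mono h1
    have h3 := finrank_qperp hQ (F ∙ d)
    have h4 : finrank F (F ∙ d) ≤ 1 := finrank_span_le_card ({d} : Set V) |>.trans (by simp)
    have h5 := finrank_span_finset_le_card (R := F) ({v, d} : Finset V)
    have h6 := Finset.card_le_two (a := v) (b := d)
    rw [Finset.coe_pair, Set.finrank] at h5
    omega
  obtain ⟨k, hk⟩ := exists_isSiegel hQ hd hdu
  refine ⟨k, hk.mem_commutator hQ h4 hp hn, fun h => huS ?_⟩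
  have hkv : k.1 v ∈ F ∙ v := by
    rw [← (show (F ∙ v).map (k.1 : V →ₗ[F] V) = F ∙ v from h)]
    exact ⟨v, Submodule.mem_span_singleton_self v, rfl⟩
  obtain ⟨t, ht⟩ := Submodule.mem_span_singleton.1 hkv
  rw [hk.2.2] at ht
  set p := polar Q d v
  set r := -(polar Q u v) - Q u * p
  refine Submodule.mem_span_pair.2 ⟨p⁻¹ * (t - 1), p⁻¹ * (-r), ?_⟩
  have : p • u = (t - 1) • v + (-r) • d := by linear_combination (norm := module) -ht
  rw [← smul_smul, ← smul_smul, ← smul_add, ← this, inv_smul_smul₀ hdv]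

end CfsgLib.Classical.PointMax
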