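import Cfsg.Agent.Lib.Classical.OrthND10
import Cfsg.Agent.Lib.Classical.PointMax
import Cfsg.Agent.Lib.Classical.DecompOrth.Main

/-!
# Pieces shared by the geometric subgroups of the ten-dimensional orthogonal groups
-/

set_option autoImplicit false

open Module QuadraticMap CfsgLib.Orth

namespace CfsgLib.Classical.GeometricTen

variable {F : Type*} [Field F] [Fintype F] (Q : QuadraticForm F (Fin 10 → F))
  (hQ : (QuadraticMap.polarBilin Q).Nondegenerate)
include hQ

theorem nd_of {W : Submodule F (Fin 10 → F)} (hW : Cfsg.Geo.IsNondegenerateOn (QuadraticMap.polar ⇑Q) W) :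
    NdSub Q W := ndSub_of_on fun w hw hw0 => (hW w hw hw0).2

theorem odd_nondeg (W : Submodule F (Fin 10 → F)) (hW0 : W ≠ ⊥) (hW1 : W ≠ ⊤) (hWo : Odd (finrank F W))
    (hne : 2 * finrank F W ≠ 10) (hW : Cfsg.Geo.IsNondegenerateOn (QuadraticMap.polar ⇑Q) W) :
    Cfsg.Geo.IsMaximalIn (Cfsg.Geo.omegaGL ⇑Q) (Cfsg.Geo.subspaceStabilizer W ⊓ Cfsg.Geo.omegaGL ⇑Q) := by
  classical
  have hn : finrank F (Fin 10 → F) = 10 := Module.finrank_fin_fun F
  refine nondeg10_isMaximalIn Q (fun _ => rfl) hQ (Or.inr (by omega)) (by omega) W (nd_of Q hQ hW) hW0 hW1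
    (by omega) fun P hP hP2 => Or.inr ?_
  have hPn : NdSub Q P := by
    rcases hP with rfl | rfl
    · exact nd_of Q hQ hW
    · exact ndSub_qperp hQ (nd_of Q hQ hW)
  have hP1 : finrank F P ≤ 1 := by
    obtain ⟨j, hj⟩ := hWo
    have h1 := finrank_qperp hQ W
    rcases hP with rfl | rfl <;> omega
  intro v hv hv0
  by_contra hne'
  have hspan : F ∙ v = P := Submodule.eq_of_le_of_finrank_le ((Submodule.span_singleton_le_iff_mem _ _).2 hv)
    (by rw [finrank_span_singleton hne']; exact hP1)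
  refine hne' (ndSub_eq_zero hPn hv fun x hx => ?_)
  rw [← hspan] at hx
  obtain ⟨t, rfl⟩ := Submodule.mem_span_singleton.1 hx
  show QuadraticMap.polar Q (t • v) v = 0
  rw [polar_smul_l', polar_self', hv0]; ring

theorem minus_plane (W : Submodule F (Fin 10 → F)) (hW2 : finrank F W = 2)
    (hW : Cfsg.Geo.IsNondegenerateOn (QuadraticMap.polar ⇑Q) W) (hWm : ¬ Cfsg.Geo.IsPlusTypeOn ⇑Q W) :
    Cfsg.Geo.IsMaximalIn (Cfsg.Geo.omegaGL ⇑Q) (Cfsg.Geo.subspaceStabilizer W ⊓ Cfsg.Geo.omegaGL ⇑Q) := by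
  classical
  have hn : finrank F (Fin 10 → F) = 10 := Module.finrank_fin_fun F
  refine nondeg10_isMaximalIn Q (fun _ => rfl) hQ (Or.inr (by omega)) (by omega) W (nd_of Q hQ hW)
    (fun e => by rw [e, finrank_bot] at hW2; omega) (fun e => by rw [e, finrank_top] at hW2; omega) (by omega)
    fun P hP hP2 => ?_
  rcases hP with rfl | rfl
  · refine Or.inr fun v hv hv0 => by_contra fun hne => hWm ⟨F ∙ v, (Submodule.span_singleton_le_iff_mem _ _).2 hv,
      fun x hx => ?_, by rw [finrank_span_singleton hne, hW2]⟩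
    obtain ⟨t, rfl⟩ := Submodule.mem_span_singleton.1 hx
    rw [quad_smul', hv0, mul_zero]
  · have h1 := finrank_qperp hQ W; omega

theorem plus_plane (hq : 4 ≤ Fintype.card F) (W : Submodule F (Fin 10 → F)) (hW2 : finrank F W = 2)
    (hW : Cfsg.Geo.IsNondegenerateOn (QuadraticMap.polar ⇑Q) W) :
    Cfsg.Geo.IsMaximalIn (Cfsg.Geo.omegaGL ⇑Q) (Cfsg.Geo.subspaceStabilizer W ⊓ Cfsg.Geo.omegaGL ⇑Q) := by
  classical
  have hn : finrank F (Fin 10 → F) = 10 := Module.finrank_fin_fun F
  exact nondeg10_isMaximalIn Q (fun _ => rfl) hQ (Or.inr (by omega)) (by omega) W (nd_of Q hQ hW)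
    (fun e => by rw [e, finrank_bot] at hW2; omega) (fun e => by rw [e, finrank_top] at hW2; omega) (by omega)
    fun _ _ _ => Or.inl hq

theorem four_space (W : Submodule F (Fin 10 → F)) (hW4 : finrank F W = 4)
    (hW : Cfsg.Geo.IsNondegenerateOn (QuadraticMap.polar ⇑Q) W) :
    Cfsg.Geo.IsMaximalIn (Cfsg.Geo.omegaGL ⇑Q) (Cfsg.Geo.subspaceStabilizer W ⊓ Cfsg.Geo.omegaGL ⇑Q) := by
  classical
  have hn : finrank F (Fin 10 → F) = 10 := Module.finrank_fin_fun F
  refine nondeg10_isMaximalIn Q (fun _ => rfl) hQ (Or.inr (by omega)) (by omega) W (nd_of Q hQ hW)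
    (fun e => by rw [e, finrank_bot] at hW4; omega) (fun e => by rw [e, finrank_top] at hW4; omega) (by omega)
    fun P hP hP2 => ?_
  have h1 := finrank_qperp hQ W
  rcases hP with rfl | rfl <;> omega

theorem point (hchar : ¬ Odd (Fintype.card F)) (v : Fin 10 → F) (hv : Q v ≠ 0) :
    Cfsg.Geo.IsMaximalIn (Cfsg.Geo.omegaGL ⇑Q)
      (Cfsg.Geo.subspaceStabilizer (Submodule.span F {v}) ⊓ Cfsg.Geo.omegaGL ⇑Q) := by
  classical
  have hn : finrank F (Fin 10 → F) = 10 := Module.finrank_fin_fun F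
  have h4 : Good F (Fin 10 → F) := Or.inr (by omega)
  obtain ⟨hp⟩ := exists_hypPairs hQ (by omega)
  have h2 : (2 : F) = 0 := by
    have hev := Nat.not_odd_iff_even.1 hchar
    obtain ⟨p, hpc⟩ := CharP.exists F
    obtain ⟨k, hk, hc⟩ := FiniteField.card F p
    have hp2 : p = 2 := by
      rw [hc] at hev
      exact ((Nat.even_pow.1 hev).1 |> even_iff_two_dvd.1 |> (Nat.prime_dvd_prime_iff_eq Nat.prime_two hk).1).symm
    subst hp2
    exact_mod_cast (CharP.cast_eq_zero F 2)
  exact omega_isMaximalIn Q (fun _ => rfl) _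
    (PointMax.exists_not_stab_point hQ h4 hp (by omega) (fun h => hv (by rw [h, QuadraticMap.map_zero])))
    fun M hM g hg _ hgW => PointMax.point_top hQ h4 hp (by omega) h2 hv hM hg hgW

omit hQ

omit [Fintype F] in
/-- An orthogonal decomposition into hyperbolic planes makes the whole space of plus type. -/
theorem plus_of_planes {D : Fin 5 → Submodule F (Fin 10 → F)} (hD : Cfsg.Geo.IsOrthogonalMDecomposition ⇑Q 2 D)
    (hall : ∀ i, Cfsg.Geo.IsPlusTypeOn ⇑Q (D i)) : Cfsg.Geo.IsPlusTypeOn ⇑Q ⊤ := by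
  classical
  choose U hU hUs hUd using hall
  have hdi := hD.decomp.decomp.finrank_eq
  have hsing : ∀ s : Finset (Fin 5), ∀ v ∈ s.sup U, Q v = 0 := by
    intro s
    induction s using Finset.induction with
    | empty => intro v hv; rw [Finset.sup_empty] at hv; rw [(Submodule.mem_bot F).1 hv, QuadraticMap.map_zero]
    | insert a s ha ih =>
      intro v hv
      rw [Finset.sup_insert] at hv
      obtain ⟨x, hx, y, hy, rfl⟩ := Submodule.mem_sup.1 hv
      have hle : s.sup U ≤ LinearMap.ker (QuadraticMap.polarBilin Q x) := Finset.sup_le fun i hi z hz =>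
        hD.decomp.orthogonal a i (fun e => ha (e ▸ hi)) x (hU a hx) z (hU i hz)
      rw [quad_add', hUs a x hx, ih y hy, show QuadraticMap.polar Q x y = 0 from hle hy]
      ring
  have hdim : ∀ s : Finset (Fin 5), finrank F ↥(s.sup U) = s.card := by
    intro s
    induction s using Finset.induction with
    | empty => rw [Finset.sup_empty, finrank_bot, Finset.card_empty]
    | insert a s ha ih =>
      rw [Finset.sup_insert]
      have hdis : U a ⊓ s.sup U = ⊥ := by
        refine (Submodule.eq_bot_iff _).2 fun x hx => ?_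
        have h1 : s.sup U ≤ ⨆ (j) (_ : j ≠ a), D j := Finset.sup_le fun i hi =>
          (hU i).trans (le_iSup₂_of_le i (fun e => ha (e ▸ hi)) le_rfl)
        exact Submodule.disjoint_def.1 (hD.decomp.decomp.indep a) x (hU a hx.1) (h1 hx.2)
      have h2 := Submodule.finrank_sup_add_finrank_inf_eq (U a) (s.sup U)
      rw [hdis, finrank_bot, ih] at h2
      have h3 := hUd a
      have h4 := hdi a
      rw [Finset.card_insert_of_notMem ha]
      omega
  refine ⟨Finset.univ.sup U, le_top, hsing _, ?_⟩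
  rw [hdim, finrank_top, Module.finrank_fin_fun, Finset.card_univ, Fintype.card_fin]

end CfsgLib.Classical.GeometricTen
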