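import Cfsg.Agent.Lib.Classical.HermTransv

/-!
# The special unitary group: generation by transvections and perfectness
-/

set_option autoImplicit false
set_option linter.unusedSectionVars false

open Module
open scoped commutatorElement

namespace CfsgLib.Classical

variable {F : Type*} [Field F] {V : Type*} [AddCommGroup V] [Module F V] {σ : F →+* F}
  {B : V →ₛₗ[σ] V →ₗ[F] F}

/-- The fixed field has more than two elements. -/
def BigFixed (σ : F →+* F) : Prop := ∃ t, σ t = t ∧ t ≠ 0 ∧ t ≠ 1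

/-- The special isometry group. -/
noncomputable def sIsom (B : V →ₛₗ[σ] V →ₗ[F] F) : Subgroup (isomGroup B) := (idet B).ker

theorem fixed_eq_one (hb : ¬ BigFixed σ) {t : F} (ht : σ t = t) (h0 : t ≠ 0) : t = 1 := by
  by_contra h1
  exact hb ⟨t, ht, h0, h1⟩

theorem small_facts (hc : IsConjugation σ) (hb : ¬ BigFixed σ) :
    (2 : F) = 0 ∧ (∀ a : F, a ≠ 0 → a * σ a = 1) ∧ (∀ c : F, c + σ c = 0 → c ≠ 0 → c = 1) ∧
      ∃ w : F, w ≠ 0 ∧ w + σ w = 1 := by
  have h2 : (2 : F) = 0 := by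
    by_contra h
    exact one_ne_zero (α := F) (by linear_combination fixed_eq_one hb (map_ofNat σ 2) h)
  obtain ⟨c, hc'⟩ := hc.exists_trace_eq (map_one σ)
  refine ⟨h2, fun a ha => fixed_eq_one hb (hc.norm_fixed a) (mul_ne_zero ha fun e => ha (by
    rw [← hc.invol a, e, map_zero])), fun c hc0 hne => fixed_eq_one hb ?_ hne, c, fun e => ?_, hc'⟩
  · linear_combination hc0 - c * h2
  · simp [e] at hc'

namespace IsHermitian

variable [Finite F] [FiniteDimensional F V] (h : IsHermitian B)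
include h

theorem finrank_inf_perp {P W : Submodule F V} (hP : NondegOn B P) (hW : NondegOn B W) (hle : P ≤ W) :
    NondegOn B (W ⊓ perp B P) ∧ finrank F ↥(W ⊓ perp B P) + finrank F P = finrank F W := by
  have hsup : (W ⊓ perp B P) ⊔ P = W := by
    refine le_antisymm (sup_le inf_le_left hle) fun x hx => ?_
    obtain ⟨p, u, rfl⟩ := exists_add_eq hP.isCompl x
    refine add_comm (u : V) p ▸ Submodule.add_mem_sup ⟨?_, u.2⟩ p.2
    have : (u : V) = ((p : V) + u) - p := by abel
    rw [this]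
    exact W.sub_mem hx (hle p.2)
  refine ⟨nondegOn_iff.2 fun y hy hy' => nondegOn_iff.1 hW y hy.1 fun w hw => ?_, ?_⟩
  · rw [← hsup] at hw
    obtain ⟨a, ha, b, hb, rfl⟩ := Submodule.mem_sup.1 hw
    rw [map_add, LinearMap.add_apply, hy' a ha, mem_perp.1 hy.2 b hb, add_zero]
  · have h1 := Submodule.finrank_sup_add_finrank_inf_eq (W ⊓ perp B P) P
    have h2 : (W ⊓ perp B P) ⊓ P = ⊥ := by
      rw [eq_bot_iff]
      exact le_trans (le_inf inf_le_right (inf_le_left.trans inf_le_right)) hP.le_bot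
    rw [hsup, h2, finrank_bot] at h1
    omega

theorem exists_unit_in {W : Submodule F V} (hW : NondegOn B W) (hd : 0 < finrank F W) {a : F} (ha : σ a = a) :
    ∃ z ∈ W, B z z = a := by
  have : Nontrivial W := Module.nontrivial_of_finrank_pos hd
  obtain ⟨x, hx⟩ := (h.restrict W).exists_unit (restrictForm_separatingRight hW)
  obtain ⟨c, hc⟩ := h.exists_scaled (x := (x : V)) (by rw [← restrictForm_apply (B := B) W x x, hx]; exact one_ne_zero) ha
  exact ⟨_, W.smul_mem c x.2, hc⟩

theorem nondegOn_hyp {r s : V} (hr : B r r = 0) (hrs : B r s = 1) : NondegOn B (Submodule.span F {r, s}) :=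
  h.nondegOn_pair (by rw [hr, hrs, zero_mul, zero_sub, map_one, mul_one]; exact neg_ne_zero.2 one_ne_zero)

theorem finrank_hyp {r s : V} (hr : B r r = 0) (hrs : B r s = 1) :
    finrank F (Submodule.span F {r, s}) = 2 := by
  have hr0 : r ≠ 0 := fun e => by simp [e] at hrs
  have hli : LinearIndependent F ![r, s] := by
    rw [LinearIndependent.pair_iff]
    intro a b hab
    have h1 := congrArg (B r) hab
    simp [hr, hrs] at h1
    subst h1
    simpa [hr0] using hab
  have := finrank_span_eq_card hli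
  rw [show Set.range ![r, s] = {r, s} by simp [Matrix.range_cons, Matrix.range_empty, Set.pair_comm]] at this
  simpa using this

theorem trans_small (hN : B.SeparatingRight) (hb : ¬ BigFixed σ) {W : Submodule F V} (hW : NondegOn B W)
    (hd : finrank F W = 3) (hn : 4 ≤ finrank F V) {e₂ y : V} (h2W : e₂ ∈ W) (hyW : y ∈ W)
    (h22 : B e₂ e₂ = 1) (hyy : B y y = 1) (hdeg : B e₂ y * σ (B e₂ y) = 1) (hy : y ∉ Submodule.span F {e₂}) :
    ∃ t ∈ tGroup B ⊓ fixSub B (perp B W), t.1 e₂ = y := by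
  obtain ⟨h2, hnorm, -, ω, hω0, hω⟩ := small_facts h.conj hb
  have hP := nondegOn_perp hN hW
  obtain ⟨e₁, he₁, h11⟩ := h.exists_unit_in hP (by have := hW.finrank_perp; omega) (map_one σ)
  have hS2 := h.nondegOn_span_singleton (x := e₂) (by rw [h22]; exact one_ne_zero)
  have hle2 : Submodule.span F {e₂} ≤ W := (Submodule.span_singleton_le_iff_mem _ _).2 h2W
  obtain ⟨hW', hdW'⟩ := h.finrank_inf_perp hS2 hW hle2
  rw [finrank_span_singleton (fun e => by simp [e] at h22), hd] at hdW'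
  obtain ⟨b, hb'⟩ := (h.restrict _).exists_orthonormal (restrictForm_separatingRight hW')
  let i : Fin (finrank F ↥(W ⊓ perp B (Submodule.span F {e₂}))) := ⟨0, by omega⟩
  let j : Fin (finrank F ↥(W ⊓ perp B (Submodule.span F {e₂}))) := ⟨1, by omega⟩
  set e₃ : V := (b i : V) with he₃
  set e₄ : V := (b j : V) with he₄
  have h33 : B e₃ e₃ = 1 := by rw [← restrictForm_apply (B := B), hb']; simp
  have h44 : B e₄ e₄ = 1 := by rw [← restrictForm_apply (B := B), hb']; simp
  have h34 : B e₃ e₄ = 0 := by rw [← restrictForm_apply (B := B), hb']; simp [i, j]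
  have h43 := h.isRefl _ _ h34
  have h23 : B e₂ e₃ = 0 := mem_perp_span.1 (b i).2.2 e₂ rfl
  have h24 : B e₂ e₄ = 0 := mem_perp_span.1 (b j).2.2 e₂ rfl
  have h32 := h.isRefl _ _ h23
  have h42 := h.isRefl _ _ h24
  have h21 : B e₂ e₁ = 0 := mem_perp.1 he₁ _ h2W
  have h31 : B e₃ e₁ = 0 := mem_perp.1 he₁ _ (b i).2.1
  have h41 : B e₄ e₁ = 0 := mem_perp.1 he₁ _ (b j).2.1
  have h12 := h.isRefl _ _ h21
  have h13 := h.isRefl _ _ h31
  have h14 := h.isRefl _ _ h41
  -- the coordinates of `y`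
  set c₂ := B e₂ y with hc₂
  set c₃ := B e₃ y with hc₃
  set c₄ := B e₄ y with hc₄
  have hdec : y = c₂ • e₂ + c₃ • e₃ + c₄ • e₄ := by
    refine sub_eq_zero.1 (nondegOn_iff.1 hW _ (W.sub_mem hyW (W.add_mem (W.add_mem (W.smul_mem _ h2W)
      (W.smul_mem _ (b i).2.1)) (W.smul_mem _ (b j).2.1))) fun w hw => ?_)
    have hsp : Submodule.span F {e₂} ⊔ (W ⊓ perp B (Submodule.span F {e₂})) = W := by
      refine Submodule.eq_of_le_of_finrank_eq (sup_le hle2 inf_le_left) ?_
      have h1 := Submodule.finrank_sup_add_finrank_inf_eq (Submodule.span F {e₂})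
        (W ⊓ perp B (Submodule.span F {e₂}))
      have h2' : Submodule.span F {e₂} ⊓ (W ⊓ perp B (Submodule.span F {e₂})) = ⊥ := by
        rw [eq_bot_iff]
        exact le_trans (inf_le_inf_left _ inf_le_right) hS2.le_bot
      rw [h2', finrank_bot, finrank_span_singleton (fun e => by simp [e] at h22)] at h1
      omega
    obtain ⟨p, hp, u, hu, rfl⟩ := Submodule.mem_sup.1 (hsp.symm ▸ hw : w ∈ _)
    obtain ⟨k, rfl⟩ := Submodule.mem_span_singleton.1 hp
    rw [map_add, LinearMap.add_apply]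
    have h1 : B e₂ (y - (c₂ • e₂ + c₃ • e₃ + c₄ • e₄)) = 0 := by simp [h22, h23, h24, hc₂]
    have h2' : (restrictForm B _).comp (LinearMap.id) ⟨u, hu⟩ = restrictForm B _ ⟨u, hu⟩ := rfl
    have h3 : B u (y - (c₂ • e₂ + c₃ • e₃ + c₄ • e₄)) = 0 := by
      have hu' : ∃ p q : F, u = p • e₃ + q • e₄ := by
        have hij : i ≠ j := by simp [i, j]
        refine ⟨b.repr ⟨u, hu⟩ i, b.repr ⟨u, hu⟩ j, ?_⟩
        conv_lhs => rw [show u = ((⟨u, hu⟩ : ↥(W ⊓ perp B (Submodule.span F {e₂}))) : V) from rfl,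
          ← b.sum_repr ⟨u, hu⟩]
        rw [← Finset.add_sum_erase _ _ (Finset.mem_univ i), ← Finset.add_sum_erase _ _
          (Finset.mem_erase.2 ⟨hij.symm, Finset.mem_univ j⟩), Finset.sum_eq_zero fun k hk => ?_]
        · simp [he₃, he₄]
        · simp only [Finset.mem_erase, ne_eq, i, j, Fin.ext_iff] at hk
          have := k.2
          omega
      obtain ⟨p, q, rfl⟩ := hu'
      simp [map_smulₛₗ, h33, h34, h43, h44, h32, h42, hc₃, hc₄]
    rw [h3, add_zero, map_smulₛₗ, LinearMap.smul_apply, h1, smul_zero]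
  have hc34 : c₃ ≠ 0 ∧ c₄ ≠ 0 := by
    have hsum : c₃ * σ c₃ + c₄ * σ c₄ = 0 := by
      have := hyy
      rw [hdec] at this
      simp [map_smulₛₗ, h22, h23, h24, h32, h33, h34, h42, h43, h44] at this
      linear_combination this - hdeg
    constructor
    · intro e
      rcases eq_or_ne c₄ 0 with e' | e'
      · exact hy (Submodule.mem_span_singleton.2 ⟨c₂, by conv_rhs => rw [hdec, e, e']; simp⟩)
      · rw [e, zero_mul, zero_add, hnorm _ e'] at hsum; exact one_ne_zero hsum
    · intro e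
      rcases eq_or_ne c₃ 0 with e' | e'
      · exact hy (Submodule.mem_span_singleton.2 ⟨c₂, by conv_rhs => rw [hdec, e, e']; simp⟩)
      · rw [e, zero_mul, add_zero, hnorm _ e'] at hsum; exact one_ne_zero hsum
  have hc2 : c₂ ≠ 0 := fun e => by simp [e] at hdeg
  obtain ⟨hc3, hc4⟩ := hc34
  have hω' : σ ω ≠ 0 := fun e => hω0 (by rw [← h.conj.invol ω, e, map_zero])
  have hωω : σ ω * ω = 1 := by rw [mul_comm]; exact hnorm _ hω0
  have hω2 : 1 + σ ω = ω := by linear_combination σ ω * h2 - hω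
  -- the two transvections
  have h1c : (1 : F) + σ 1 = 0 := by rw [map_one, one_add_one_eq_two]; exact h2
  set v := e₁ + e₂ + e₃ + e₄ with hv
  set v' := ω • e₁ + e₂ + e₃ + e₄ with hv'
  have hvv : B v v = 0 := by
    simp [hv, h11, h12, h13, h14, h21, h22, h23, h24, h31, h32, h33, h34, h41, h42, h43, h44]
    linear_combination (2 : F) * h2
  have hv'v' : B v' v' = 0 := by
    simp [hv', map_smulₛₗ, h11, h12, h13, h14, h21, h22, h23, h24, h31, h32, h33, h34, h41, h42, h43, h44]
    linear_combination (2 : F) * h2 + hωω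
  obtain ⟨t, ht⟩ := h.exists_uTv hN hvv h1c
  obtain ⟨t', ht'⟩ := h.exists_uTv hN hv'v' h1c
  have hs1 : t'.1 (t.1 e₁) = ω • e₁ := by
    rw [ht.2.2, map_add, map_smul, ht'.2.2, ht'.2.2]
    simp [hv, hv', map_smulₛₗ, h11, h12, h13, h14, h21, h22, h23, h24, h31, h32, h33, h34, h41, h42, h43, h44]
    match_scalars
    · linear_combination (1 + σ ω * ω + ω : F) * h2
    all_goals linear_combination (2 + σ ω : F) * h2
  have hs2 : t'.1 (t.1 e₂) = σ ω • e₂ + ω • e₃ + ω • e₄ := by
    rw [ht.2.2, map_add, map_smul, ht'.2.2, ht'.2.2]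
    simp [hv, hv', map_smulₛₗ, h11, h12, h13, h14, h21, h22, h23, h24, h31, h32, h33, h34, h41, h42, h43, h44]
    match_scalars
    · linear_combination (3 : F) * h2
    · linear_combination hωω + (1 + 2 * ω : F) * h2
    · linear_combination hω2 + (2 : F) * h2
    · linear_combination hω2 + (2 : F) * h2
  -- turn the scalar on `e₁` back
  have hnd14 : NondegOn B (Submodule.span F {e₁, e₄}) :=
    h.nondegOn_pair (by rw [h11, h44, h14]; simp)
  have hn4 : e₄ ∉ Submodule.span F {e₁} := fun hm => by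
    obtain ⟨k, hk⟩ := Submodule.mem_span_singleton.1 hm
    rw [← hk, map_smul, map_smulₛₗ, LinearMap.smul_apply] at h44
    rw [← hk, map_smul, h11, smul_eq_mul, mul_one] at h14
    simp [h14] at h44
  obtain ⟨q₁, hq₁, hq₁d⟩ := h.exists_qr hN (z := e₁) (by rw [h11]; exact one_ne_zero)
    (show σ ω * σ (σ ω) = 1 by rw [h.conj.invol]; exact hωω)
  obtain ⟨q₄, hq₄, hq₄d⟩ := h.exists_qr hN (z := e₄) (by rw [h44]; exact one_ne_zero) (hnorm ω hω0)
  have hd14 : q₁ * q₄ ∈ tGroup B := by
    refine h.plane_mem' hN hnd14 (h.finrank_span_pair_of (by rw [h11]; exact one_ne_zero) hn4) (fun x hx => ?_) ?_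
    · change q₁.1 (q₄.1 x) = x
      rw [hq₄, mem_perp_span.1 hx e₄ (by simp), mul_zero, zero_smul, add_zero, hq₁, mem_perp_span.1 hx e₁ (by simp),
        mul_zero, zero_smul, add_zero]
    · rw [map_mul, hq₁d, hq₄d, hωω]
  have happ : ∀ p₁ p₂ p₃ p₄ : F, (q₁ * q₄).1 (p₁ • e₁ + p₂ • e₂ + p₃ • e₃ + p₄ • e₄) =
      (σ ω * p₁) • e₁ + p₂ • e₂ + p₃ • e₃ + (ω * p₄) • e₄ := fun p₁ p₂ p₃ p₄ => by
    change q₁.1 (q₄.1 _) = _
    rw [hq₄, hq₁]
    simp [h11, h12, h13, h14, h41, h42, h43, h44]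
    module
  set s := q₁ * q₄ * (t' * t) with hs
  have hsT : s ∈ tGroup B := mul_mem hd14 (mul_mem ht'.mem ht.mem)
  have hse1 : s.1 e₁ = e₁ := by
    change (q₁ * q₄).1 (t'.1 (t.1 e₁)) = e₁
    rw [hs1]
    simpa [hωω] using happ ω 0 0 0
  have hse2 : s.1 e₂ = σ ω • e₂ + ω • e₃ + (ω * ω) • e₄ := by
    change (q₁ * q₄).1 (t'.1 (t.1 e₂)) = _
    rw [hs2]
    simpa using happ 0 (σ ω) ω ω
  have hsfix : s ∈ fixSub B (perp B W) := by
    have hfix : ∀ x, B e₁ x = 0 → B e₂ x = 0 → B e₃ x = 0 → B e₄ x = 0 → s.1 x = x := fun x a1 a2 a3 a4 => by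
      change q₁.1 (q₄.1 (t'.1 (t.1 x))) = x
      simp [ht.2.2, ht'.2.2, hq₁, hq₄, hv, hv', map_smulₛₗ, a1, a2, a3, a4]
    intro x hx
    have hx1 : B e₁ (x - B e₁ x • e₁) = 0 := by simp [h11]
    have hrest : s.1 (x - B e₁ x • e₁) = x - B e₁ x • e₁ := hfix _ hx1
      (by simp [mem_perp.1 hx e₂ h2W, h21]) (by simp [mem_perp.1 hx e₃ (b i).2.1, h31])
      (by simp [mem_perp.1 hx e₄ (b j).2.1, h41])
    rw [map_sub, map_smul, hse1, sub_left_inj] at hrest
    exact hrest
  -- conjugate by a diagonal isometry and correct by a plane element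
  set x := c₂ / σ ω with hx
  have hx0 : x ≠ 0 := div_ne_zero hc2 hω'
  have hl3 : c₃ * x / ω ≠ 0 := div_ne_zero (mul_ne_zero hc3 hx0) hω0
  have hl4 : c₄ / (ω * ω) ≠ 0 := div_ne_zero hc4 (mul_ne_zero hω0 hω0)
  obtain ⟨d₃, hd₃, -⟩ := h.exists_qr hN (z := e₃) (by rw [h33]; exact one_ne_zero) (hnorm _ hl3)
  obtain ⟨d₄, hd₄, -⟩ := h.exists_qr hN (z := e₄) (by rw [h44]; exact one_ne_zero) (hnorm _ hl4)
  obtain ⟨p₂, hp₂, hp₂d⟩ := h.exists_qr hN (z := e₂) (by rw [h22]; exact one_ne_zero) (hnorm _ hx0)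
  obtain ⟨p₃, hp₃, hp₃d⟩ := h.exists_qr hN (z := e₃) (by rw [h33]; exact one_ne_zero) (hnorm _ (inv_ne_zero hx0))
  have hnd23 : NondegOn B (Submodule.span F {e₂, e₃}) :=
    h.nondegOn_pair (by rw [h22, h33, h23]; simp)
  have hn3 : e₃ ∉ Submodule.span F {e₂} := fun hm => by
    obtain ⟨k, hk⟩ := Submodule.mem_span_singleton.1 hm
    rw [← hk, map_smul, map_smulₛₗ, LinearMap.smul_apply] at h33
    rw [← hk, map_smul, h22, smul_eq_mul, mul_one] at h23
    simp [h23] at h33
  have hp23 : p₂ * p₃ ∈ tGroup B := by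
    refine h.plane_mem' hN hnd23 (h.finrank_span_pair_of (by rw [h22]; exact one_ne_zero) hn3) (fun z hz => ?_) ?_
    · change p₂.1 (p₃.1 z) = z
      rw [hp₃, mem_perp_span.1 hz e₃ (by simp), mul_zero, zero_smul, add_zero, hp₂, mem_perp_span.1 hz e₂ (by simp),
        mul_zero, zero_smul, add_zero]
    · rw [map_mul, hp₂d, hp₃d, mul_inv_cancel₀ hx0]
  have hfixW : ∀ q : isomGroup B, ∀ z ∈ W, ∀ l : F, (∀ u, q.1 u = u + ((l - 1) / B z z * B z u) • z) →
      q ∈ fixSub B (perp B W) := fun q z hz l hq u hu => by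
    rw [hq, mem_perp.1 hu z hz, mul_zero, zero_smul, add_zero]
  have hDfix : d₃ * d₄ ∈ fixSub B (perp B W) :=
    mul_mem (hfixW _ _ (b i).2.1 _ hd₃) (hfixW _ _ (b j).2.1 _ hd₄)
  refine ⟨p₂ * p₃ * (d₃ * d₄ * s * (d₃ * d₄)⁻¹), Subgroup.mem_inf.2 ⟨mul_mem hp23 (tGroup_normal.conj_mem _ hsT _),
    mul_mem (mul_mem (hfixW _ _ h2W _ hp₂) (hfixW _ _ (b i).2.1 _ hp₃))
      (mul_mem (mul_mem hDfix hsfix) ((fixSub B (perp B W)).inv_mem hDfix))⟩, ?_⟩
  have hD2 : ((d₃ * d₄)⁻¹ : isomGroup B).1 e₂ = e₂ := by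
    change (d₃ * d₄).1.symm e₂ = e₂
    rw [LinearEquiv.symm_apply_eq]
    change e₂ = d₃.1 (d₄.1 e₂)
    rw [hd₄, h42, mul_zero, zero_smul, add_zero, hd₃, h32, mul_zero, zero_smul, add_zero]
  change p₂.1 (p₃.1 (d₃.1 (d₄.1 (s.1 (((d₃ * d₄)⁻¹ : isomGroup B).1 e₂))))) = y
  rw [hD2, hse2, hdec, hd₄, hd₃, hp₃, hp₂]
  simp only [map_add, map_smul, smul_eq_mul, h22, h23, h24, h32, h33, h34, h42, h43, h44, div_one, mul_zero,
    mul_one, add_zero, zero_add, zero_smul]
  match_scalars
  · linear_combination (div_mul_cancel₀ c₂ hω' : x * σ ω = c₂)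
  all_goals (field_simp; ring)

/-- Transitivity of the transvection group on vectors of a given length. -/
theorem trans_length (hN : B.SeparatingRight) {W : Submodule F V} (hW : NondegOn B W)
    (hd : 3 ≤ finrank F W) (hex : BigFixed σ ∨ 4 ≤ finrank F V) {x y : V} (hx : x ∈ W) (hy : y ∈ W)
    (hxy : B x x = B y y) (hx0 : B x x ≠ 0) : ∃ t ∈ tGroup B ⊓ fixSub B (perp B W), t.1 x = y := by
  by_cases hc : y ∈ Submodule.span F {x} ∨ B x x * B y y - B x y * σ (B x y) ≠ 0
  · exact h.trans_easy hN hW (by omega) hx hy hxy hx0 hc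
  push Not at hc
  obtain ⟨hsp, hdeg⟩ := hc
  set a := B x x with ha
  set lam := B x y / a with hlam
  set r := y - lam • x with hr
  have hxr : B x r = 0 := by simp [hr, hlam, ← ha, hx0]
  have hBxy : B x y = lam * a := by rw [hlam, div_mul_cancel₀ _ hx0]
  have hyx : B y x = σ lam * a := by rw [← h.symm x y, hBxy, map_mul, ha, h.self_fixed]
  have hrr : B r r = 0 := by
    have e : B r r = a - lam * σ lam * a := by
      rw [hr]
      simp [map_smulₛₗ, ← ha, ← hxy, hBxy, hyx]
      ring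
    rw [← hxy, hBxy, map_mul, ha, h.self_fixed, ← ha] at hdeg
    refine (mul_eq_zero.1 (?_ : B r r * a = 0)).resolve_right hx0
    linear_combination a * e + hdeg
  have hr0 : r ≠ 0 := fun e => hsp (by rw [sub_eq_zero.1 e]; exact Submodule.smul_mem _ _ (Submodule.mem_span_singleton_self x))
  have hle : Submodule.span F {x} ≤ W := (Submodule.span_singleton_le_iff_mem _ _).2 hx
  obtain ⟨hW', hdW'⟩ := h.finrank_inf_perp (h.nondegOn_span_singleton hx0) hW hle
  rw [finrank_span_singleton (fun e => hx0 (by simp [ha, e]))] at hdW'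
  set W' := W ⊓ perp B (Submodule.span F {x})
  have hrW' : r ∈ W' := ⟨W.sub_mem hy (W.smul_mem _ hx), mem_perp_span.2 fun w hw => by
    rw [Set.mem_singleton_iff.1 hw]; exact hxr⟩
  obtain ⟨s, hsW', hs, hrs⟩ := h.exists_partner hW' hrW' hr0 hrr
  have finish : ∀ z ∈ W', B z z = a → B r z * σ (B r z) ≠ a * a →
      ∃ t ∈ tGroup B ⊓ fixSub B (perp B W), t.1 x = y := by
    intro z hz hzz hne
    have hxz : B x z = 0 := mem_perp_span.1 hz.2 x rfl
    obtain ⟨t₁, ht₁, e₁⟩ := h.trans_easy hN hW (by omega) hx hz.1 hzz.symm hx0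
      (Or.inr (by rw [hxz, zero_mul, sub_zero, hzz]; exact mul_ne_zero hx0 hx0))
    have hzy : B z y = σ (B r z) := by
      rw [h.symm, ← sub_add_cancel y (lam • x), map_add, map_smul, h.isRefl _ _ hxz, smul_zero, add_zero]
    obtain ⟨t₂, ht₂, e₂⟩ := h.trans_easy hN hW (by omega) hz.1 hy (hzz.trans hxy) (by rw [hzz]; exact hx0)
      (Or.inr (by
        rw [hzz, ← hxy, hzy, h.conj.invol, sub_ne_zero]
        exact fun e => hne (by rw [e]; ring)))
    exact ⟨t₂ * t₁, mul_mem ht₂ ht₁, by change t₂.1 (t₁.1 x) = y; rw [e₁, e₂]⟩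
  by_cases h4 : 4 ≤ finrank F W
  · have hP := h.nondegOn_hyp hrr hrs
    obtain ⟨hU, hdU⟩ := h.finrank_inf_perp hP hW' (Submodule.span_le.2 (by rintro v (rfl | rfl) <;> assumption))
    rw [h.finrank_hyp hrr hrs] at hdU
    obtain ⟨z, hz, hzz⟩ := h.exists_unit_in hU (by omega) (a := a) (h.self_fixed x)
    refine finish z hz.1 hzz ?_
    rw [mem_perp_span.1 hz.2 r (by simp), zero_mul]
    exact (mul_ne_zero hx0 hx0).symm
  by_cases hbig : BigFixed σ
  · obtain ⟨t, ht, ht0, ht1⟩ := hbig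
    obtain ⟨d, hd'⟩ := h.conj.exists_norm_eq (a := t * (a * a)) (by rw [map_mul, map_mul, ht, h.self_fixed])
    have hd0 : d ≠ 0 := fun e => mul_ne_zero ht0 (mul_ne_zero hx0 hx0) (by rw [← hd', e, zero_mul])
    have hσd : σ d ≠ 0 := fun e => hd0 (by rw [← h.conj.invol d, e, map_zero])
    obtain ⟨e, he⟩ := h.conj.exists_trace_eq (a := a) (h.self_fixed x)
    have hsr : B s r = 1 := by rw [← h.symm, hrs, map_one]
    refine finish ((e / σ d) • r + d • s) (W'.add_mem (W'.smul_mem _ hrW') (W'.smul_mem _ hsW')) ?_ ?_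
    · simp [map_smulₛₗ, hrr, hs, hrs, hsr, map_div₀, h.conj.invol]
      field_simp
      linear_combination he
    · rw [show B r ((e / σ d) • r + d • s) = d by simp [hrr, hrs], hd']
      intro he'
      exact ht1 (mul_right_cancel₀ (mul_ne_zero hx0 hx0) (he'.trans (one_mul _).symm))
  · have ha1 : a = 1 := fixed_eq_one hbig (h.self_fixed x) hx0
    refine h.trans_small hN hbig hW (by omega) (hex.resolve_left hbig) hx hy (ha ▸ ha1) (by rw [← hxy, ha1]) ?_ hsp
    rw [← hxy, ha1] at hdeg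
    linear_combination -hdeg

/-- Special isometries moving only `W` are products of transvections. -/
theorem mem_tGroup_of_fix (hN : B.SeparatingRight) : ∀ (k : ℕ) (W : Submodule F V), NondegOn B W → finrank F W = k →
    (3 ≤ k → BigFixed σ ∨ 4 ≤ finrank F V) → ∀ g ∈ fixSub B (perp B W), idet B g = 1 → g ∈ tGroup B := by
  intro k
  induction k using Nat.strong_induction_on with
  | _ k ih =>
  intro W hW hd hex g hg hdet
  rcases k with _ | _ | _ | k
  · have hbot : W = ⊥ := Submodule.finrank_eq_zero.1 hd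
    have hall : ∀ x : V, x ∈ perp B W := fun x => mem_perp.2 fun w hw => by
      rw [hbot, Submodule.mem_bot] at hw
      simp [hw]
    have : g = 1 := Subtype.ext (LinearEquiv.ext fun x => hg x (hall x))
    rw [this]; exact one_mem _
  · have : Nontrivial W := Module.nontrivial_of_finrank_pos (R := F) (by omega)
    obtain ⟨x, hxW, hx⟩ := h.exists_unit_in hW (by omega) (map_one σ)
    have hx0 : x ≠ 0 := fun e => by simp [e] at hx
    have hsp : Submodule.span F {x} = W := Submodule.eq_of_le_of_finrank_eq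
      ((Submodule.span_singleton_le_iff_mem _ _).2 hxW) (by rw [finrank_span_singleton hx0, hd])
    have hgx : ∃ l : F, g.1 x = l • x := by
      have hmap : g.1 x ∈ perp B (perp B W) := mem_perp.2 fun u hu => by
        rw [← hg u hu, isomGroup_apply]; exact h.isRefl _ _ (mem_perp.1 hu x hxW)
      have hpp : perp B (perp B W) = W := by
        have h1 := (nondegOn_perp hN hW).finrank_perp
        have h2 := hW.finrank_perp
        exact (Submodule.eq_of_le_of_finrank_eq (fun w hw => mem_perp.2 fun u hu => orth_symm h.isRefl hw hu)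
          (by omega)).symm
      rw [hpp, ← hsp, Submodule.mem_span_singleton] at hmap
      exact ⟨hmap.choose, hmap.choose_spec.symm⟩
    obtain ⟨l, hl⟩ := hgx
    have hln : l * σ l = 1 := by
      have := g.2 x x
      rw [hl, h.smul_self, hx, mul_one] at this
      exact this
    obtain ⟨q, hq, hqd⟩ := h.exists_qr hN (z := x) (by rw [hx]; exact one_ne_zero) hln
    have hgq : g = q := Subtype.ext (LinearEquiv.ext fun v => by
      have hperp : v - B x v • x ∈ perp B W := by
        rw [← hsp]; exact mem_perp_span.2 fun w hw => by rw [Set.mem_singleton_iff.1 hw]; simp [hx]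
      have h1 := hg _ hperp
      rw [map_sub, map_smul, hl] at h1
      rw [hq, hx, div_one, ← sub_add_cancel (g.1 v) (B x v • l • x), h1]
      module)
    have hl1 : l = 1 := by rw [← hqd, ← hgq, hdet]
    have : g = 1 := Subtype.ext (LinearEquiv.ext fun v => by rw [hgq, hq, hl1]; simp)
    rw [this]; exact one_mem _
  · exact h.plane_mem' hN hW hd hg hdet
  · obtain ⟨x, hxW, hx⟩ := h.exists_unit_in hW (by omega) (map_one σ)
    have hgW : g.1 x ∈ W := by
      have hmap : g.1 x ∈ perp B (perp B W) := mem_perp.2 fun u hu => by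
        rw [← hg u hu, isomGroup_apply]; exact h.isRefl _ _ (mem_perp.1 hu x hxW)
      have hpp : perp B (perp B W) = W := by
        have h1 := (nondegOn_perp hN hW).finrank_perp
        have h2 := hW.finrank_perp
        exact (Submodule.eq_of_le_of_finrank_eq (fun w hw => mem_perp.2 fun u hu => orth_symm h.isRefl hw hu)
          (by omega)).symm
      rwa [hpp] at hmap
    obtain ⟨t, ⟨htT, htF⟩, ht⟩ := h.trans_length hN hW (by omega) (hex (by omega)) hgW hxW
      (isomGroup_apply g x x) (by rw [isomGroup_apply, hx]; exact one_ne_zero)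
    have hx0 : x ≠ 0 := fun e => by simp [e] at hx
    obtain ⟨hW', hdW'⟩ := h.finrank_inf_perp (h.nondegOn_span_singleton (x := x) (by rw [hx]; exact one_ne_zero)) hW
      ((Submodule.span_singleton_le_iff_mem _ _).2 hxW)
    rw [finrank_span_singleton hx0] at hdW'
    have hfix : t * g ∈ fixSub B (perp B (W ⊓ perp B (Submodule.span F {x}))) := by
      intro v hv
      have hperp : v - B x v • x ∈ perp B W := mem_perp.2 fun w hw => by
        have hwmem : w - B x w • x ∈ W ⊓ perp B (Submodule.span F {x}) :=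
          ⟨W.sub_mem hw (W.smul_mem _ hxW), mem_perp_span.2 fun u hu => by
            rw [Set.mem_singleton_iff.1 hu]; simp [hx]⟩
        have := mem_perp.1 hv _ hwmem
        simp [map_smulₛₗ, h.symm, hx] at this ⊢
        linear_combination this
      have h1 := (mul_mem htF hg : t * g ∈ fixSub B (perp B W)) _ hperp
      rw [map_sub, map_smul, show (t * g).1 x = x from ht] at h1
      simpa using h1
    have := ih (k + 2) (by omega) _ hW' (by omega) (fun _ => hex (by omega)) (t * g) hfix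
      (by rw [map_mul, h.idet_tGroup htT, hdet, one_mul])
    simpa using mul_mem ((tGroup B).inv_mem htT) this

/-- The special isometry group is generated by transvections. -/
theorem sIsom_eq_tGroup (hN : B.SeparatingRight) (hex : 3 ≤ finrank F V → BigFixed σ ∨ 4 ≤ finrank F V) :
    sIsom B = tGroup B := by
  refine le_antisymm (fun g hg => ?_) fun g hg => MonoidHom.mem_ker.2 (h.idet_tGroup hg)
  refine h.mem_tGroup_of_fix hN _ ⊤ ?_ (finrank_top F V) hex g (fun x hx => ?_) (MonoidHom.mem_ker.1 hg)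
  · exact nondegOn_iff.2 fun x _ hx => hN x fun w => hx w trivial
  · rw [show x = 0 from hN x fun w => mem_perp.1 hx w trivial, map_zero]

/-! ### Adjusting the determinant and families -/

theorem witt_family (hN : B.SeparatingRight) {ι : Type*} {a b : ι → V} (ha : LinearIndependent F a)
    (hb : LinearIndependent F b) (hab : ∀ i j, B (a i) (a j) = B (b i) (b j)) :
    ∃ g : isomGroup B, ∀ i, g.1 (a i) = b i := by
  let c := Basis.span ha
  let φ := c.constr F b
  have hφ : ∀ i, φ (c i) = b i := fun i => c.constr_basis F b i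
  have hc : ∀ i, ((c i : Submodule.span F (Set.range a)) : V) = a i := fun i => congrArg Subtype.val (Basis.span_apply ha i)
  obtain ⟨g, hg⟩ := h.witt hN _ φ (fun x y e => c.repr.injective (hb (by
    simpa [φ, Basis.constr_apply, Finsupp.linearCombination_apply] using e))) (by
    intro x x'
    refine LinearMap.congr_fun (LinearMap.congr_fun (f := (B.comp φ).compl₂ φ)
      (g := (restrictForm B (Submodule.span F (Set.range a)))) (c.ext fun i => c.ext fun j => ?_) x) x'
    change B (φ (c i)) (φ (c j)) = B (c i : V) (c j : V)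
    rw [hφ, hφ, hc, hc, hab])
  exact ⟨g, fun i => by rw [← hc, hg, hφ]⟩

/-- Realise a determinant on a hyperbolic plane. -/
theorem exists_det_torus (hN : B.SeparatingRight) {r s : V} (hr : B r r = 0) (hs : B s s = 0) (hrs : B r s = 1)
    {δ : F} (hδ : δ * σ δ = 1) :
    ∃ g : isomGroup B, idet B g = δ ∧ ∃ l, l ≠ 0 ∧ g.1 r = l • r ∧ g.1 s = (σ l)⁻¹ • s ∧
      ∀ x, B r x = 0 → B s x = 0 → g.1 x = x := by
  obtain ⟨z, hz0, hz⟩ := h.conj.exists_div_eq hδ
  have hσz : σ z ≠ 0 := fun e => hz0 (by rw [← h.conj.invol z, e, map_zero])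
  obtain ⟨g, h1, h2, h3, h4⟩ := h.exists_torus hN hr hs hrs hz0
  refine ⟨g, ?_, z, hz0, h1, h2, h3⟩
  rw [h4, div_eq_iff hσz]
  exact hz

/-! ### Transvections are commutators -/

theorem uTv_mem_commutatorSet (hN : B.SeparatingRight) (hd : BigFixed σ ∧ 3 ≤ finrank F V ∨ 4 ≤ finrank F V)
    (g : sIsom B) {v : V} {c : F} (hg : IsUTv g.1 v c) : g ∈ commutatorSet (sIsom B) := by
  have hd3 : 3 ≤ finrank F V := by omega
  by_cases h0 : v = 0 ∨ c = 0
  · have : g = 1 := Subtype.ext (Subtype.ext (LinearEquiv.ext fun x => by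
      rw [hg.2.2]; rcases h0 with rfl | rfl <;> simp))
    exact ⟨1, 1, by rw [this]; simp⟩
  push Not at h0
  obtain ⟨hv0, hc0⟩ := h0
  have htop : NondegOn B (⊤ : Submodule F V) := nondegOn_iff.2 fun x _ hx => hN x fun w => hx w trivial
  obtain ⟨s, -, hs, hvs⟩ := h.exists_partner htop trivial hv0 hg.1
  have hsv : B s v = 1 := by rw [← h.symm, hvs, map_one]
  have hP := h.nondegOn_hyp hg.1 hvs
  have hP' := nondegOn_perp hN hP
  have hdP := hP.finrank_perp
  rw [h.finrank_hyp hg.1 hvs] at hdP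
  by_cases hbig : BigFixed σ
  · obtain ⟨t, ht, ht0, ht1⟩ := hbig
    obtain ⟨a, ha⟩ := h.conj.exists_norm_eq ht
    have ha0 : a ≠ 0 := fun e => ht0 (by rw [← ha, e, zero_mul])
    have hσa : σ a ≠ 0 := fun e => ha0 (by rw [← h.conj.invol a, e, map_zero])
    obtain ⟨z, hz, hzz⟩ := h.exists_unit_in hP' (by omega) (map_one σ)
    obtain ⟨H, hH1, hH2, -, hHd⟩ := h.exists_torus hN hg.1 hs hvs ha0
    obtain ⟨q, hq, hqd⟩ := h.exists_qr hN (z := z) (by rw [hzz]; exact one_ne_zero) (l := σ a / a)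
      (by rw [map_div₀, h.conj.invol]; field_simp)
    have hzv : B z v = 0 := h.isRefl _ _ (mem_perp_span.1 hz v (by simp))
    set K := q * H with hK
    have hKv : K.1 v = a • v := by
      change q.1 (H.1 v) = a • v
      rw [hH1, hq, map_smul, hzv, smul_zero, mul_zero, zero_smul, add_zero]
    have hKd : K ∈ sIsom B := MonoidHom.mem_ker.2 (by rw [hK, map_mul, hqd, hHd]; field_simp)
    have ht1' : t - 1 ≠ 0 := sub_ne_zero.2 ht1
    obtain ⟨g₀, hg₀⟩ := h.exists_uTv hN (c := c / (t - 1)) hg.1 (by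
      rw [map_div₀, map_sub, ht, map_one, ← add_div, hg.2.1, zero_div])
    refine ⟨⟨K, hKd⟩, ⟨g₀, MonoidHom.mem_ker.2 (h.idet_uTv hg₀)⟩, Subtype.ext ?_⟩
    change ⁅K, g₀⁆ = g.1
    have e : K * g₀ * K⁻¹ = g.1 * g₀ := Subtype.ext (LinearEquiv.ext fun x => by
      rw [(hg₀.conj K).2.2]
      change _ = g.1.1 (g₀.1 x)
      rw [hg₀.2.2, hg.2.2, hKv, map_smulₛₗ, LinearMap.smul_apply, smul_eq_mul, map_add, map_smul, hg.1,
        smul_zero, add_zero, smul_smul]
      have hcd : c / (t - 1) * (t - 1) = c := div_mul_cancel₀ _ ht1'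
      generalize c / (t - 1) = d at hcd ⊢
      match_scalars
      · rfl
      rw [← hcd, ← ha]
      ring)
    rw [commutatorElement_def, e, mul_inv_cancel_right]
  · obtain ⟨h2, hnorm, hone, ω, hω0, hω⟩ := small_facts h.conj hbig
    obtain rfl := hone c hg.2.1 hc0
    have h4 : 4 ≤ finrank F V := by
      rcases hd with ⟨hb, -⟩ | h4
      · exact absurd hb hbig
      · exact h4
    obtain ⟨r', hr', hr'0, hr'r'⟩ := h.exists_isotropic hP' (by omega)
    have hvr : B v r' = 0 := mem_perp_span.1 hr' v (by simp)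
    have hsr : B s r' = 0 := mem_perp_span.1 hr' s (by simp)
    have hrv := h.isRefl _ _ hvr
    have hli : ∀ a b : F, a • v + b • r' = 0 → a = 0 ∧ b = 0 := by
      intro a b hab
      have h1 := congrArg (B s) hab
      simp [hsv, hsr] at h1
      subst h1
      simpa [hr'0] using hab
    have hσω : 1 + σ ω = ω := by linear_combination σ ω * h2 - hω
    have hωω : ω * σ ω = 1 := hnorm _ hω0
    set r'' := v + ω • r' with hr''
    set u := v + r' with hu
    set w := v + σ ω • r' with hw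
    have iso : ∀ a b : F, B (a • v + b • r') (a • v + b • r') = 0 := fun a b => by
      simp [map_smulₛₗ, hg.1, hr'r', hvr, hrv]
    have hiso'' : B r'' r'' = 0 := by simpa [hr''] using iso 1 ω
    have hisou : B u u = 0 := by simpa [hu] using iso 1 1
    have hisow : B w w = 0 := by simpa [hw] using iso 1 (σ ω)
    have huw : B u w = 0 := by simp [hu, hw, hg.1, hr'r', hvr, hrv]
    have h1c : (1 : F) + σ 1 = 0 := by rw [map_one, one_add_one_eq_two]; exact h2
    obtain ⟨t₁, ht₁⟩ := h.exists_uTv hN hr'r' h1c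
    obtain ⟨t₂, ht₂⟩ := h.exists_uTv hN hiso'' h1c
    obtain ⟨k, hk⟩ := h.witt_family hN (a := ![r', r'']) (b := ![u, w])
      (by
        rw [LinearIndependent.pair_iff]
        intro p q hpq
        obtain ⟨h1, h2'⟩ := hli q (p + q * ω) (by rw [← hpq, hr'']; module)
        subst h1
        simpa using h2')
      (by
        rw [LinearIndependent.pair_iff]
        intro p q hpq
        obtain ⟨h1, h2'⟩ := hli (p + q) (p + q * σ ω) (by rw [← hpq, hu, hw]; module)
        have hne : σ ω - 1 ≠ 0 := fun e => hω0 (by linear_combination e + h2 - hσω)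
        have hq : q * (σ ω - 1) = 0 := by linear_combination h2' - h1
        obtain rfl := (mul_eq_zero.1 hq).resolve_right hne
        exact ⟨by simpa using h1, rfl⟩)
      (fun i j => by
        fin_cases i <;> fin_cases j <;>
          simp [hr'', hu, hw, map_smulₛₗ, hg.1, hr'r', hvr, hrv])
    -- an isotropic partner of `u` orthogonal to `w`
    obtain ⟨z, hzw, hz⟩ : ∃ z, B w z = 0 ∧ B u z ≠ 0 := by
      obtain ⟨φ, hφu, hφw⟩ := Submodule.exists_dual_map_eq_bot_of_notMem (p := Submodule.span F {w}) (x := u) (by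
        rw [Submodule.mem_span_singleton]
        rintro ⟨p, hp⟩
        obtain ⟨h1, h2'⟩ := hli (p - 1) (p * σ ω - 1) (by
          rw [hu, hw] at hp
          rw [← sub_eq_zero.2 hp]; module)
        exact hω0 (by linear_combination h2' - σ ω * h1 - hσω + h2)) inferInstance
      obtain ⟨z, hz⟩ := h.exists_form_eq hN φ
      have hzw' : φ w = 0 := (Submodule.eq_bot_iff _).1 hφw _
        (Submodule.mem_map_of_mem (Submodule.mem_span_singleton_self w))
      exact ⟨z, h.isRefl _ _ ((hz w).trans hzw'), fun e => hφu ((hz u).symm.trans (h.isRefl _ _ e))⟩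
    set z' := (B u z)⁻¹ • z with hz'
    have huz' : B u z' = 1 := by rw [hz', map_smul, smul_eq_mul, inv_mul_cancel₀ hz]
    obtain ⟨e, he⟩ := h.conj.exists_trace_eq (a := -B z' z') (by rw [map_neg, h.self_fixed])
    set u' := z' + e • u with hu'
    have hu'u' : B u' u' = 0 := by
      rw [hu', h.add_self, h.smul_self e u, hisou, map_smul (B z') e u, ← h.symm u z', huz', map_one, smul_eq_mul,
        mul_one, he]
      ring
    have huu' : B u u' = 1 := by rw [hu', map_add, map_smul (B u) e u, hisou, huz', smul_zero, add_zero]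
    have hwu' : B w u' = 0 := by simp [hu', hz', hzw, h.isRefl _ _ huw]
    obtain ⟨H, hHd, l, hl, hHu, -, hHx⟩ := h.exists_det_torus hN hisou hu'u' huu' (δ := (idet B k)⁻¹)
      (by rw [map_inv₀, ← mul_inv, h.idet_norm hN, inv_one])
    have hHw : H.1 w = w := hHx w huw (h.isRefl _ _ hwu')
    set K := H * k with hK
    have hKd : K ∈ sIsom B := MonoidHom.mem_ker.2 (by
      rw [hK, map_mul, hHd, inv_mul_cancel₀]
      intro e'
      simpa [e'] using h.idet_norm hN k)
    have hK1 : K.1 r' = l • u := by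
      change H.1 (k.1 r') = _
      rw [show k.1 r' = u from hk 0, hHu]
    have hK2 : K.1 r'' = w := by
      change H.1 (k.1 r'') = _
      rw [show k.1 r'' = w from hk 1, hHw]
    refine ⟨⟨K, hKd⟩, ⟨t₁ * t₂, MonoidHom.mem_ker.2 (by rw [map_mul, h.idet_uTv ht₁, h.idet_uTv ht₂, mul_one])⟩,
      Subtype.ext ?_⟩
    change ⁅K, t₁ * t₂⁆ = g.1
    have e' : K * (t₁ * t₂) * K⁻¹ = g.1 * (t₁ * t₂) := by
      rw [conj_mul.symm]
      refine Subtype.ext (LinearEquiv.ext fun x => ?_)
      change (K * t₁ * K⁻¹).1 ((K * t₂ * K⁻¹).1 x) = g.1.1 (t₁.1 (t₂.1 x))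
      rw [(ht₂.conj K).2.2, (ht₁.conj K).2.2, ht₂.2.2, ht₁.2.2, hg.2.2, hK1, hK2]
      simp [hu, hw, hr'', map_smulₛₗ, hg.1, hr'r', hvr, hrv, h.conj.invol]
      have hl' : σ l * l = 1 := by rw [mul_comm]; exact hnorm l hl
      match_scalars
      · rfl
      · linear_combination (B v x + B r' x) * hl' + B r' x * h2 - B r' x * hσω
      · linear_combination (B v x + B r' x) * hl' + B v x * hσω
    rw [commutatorElement_def, e', mul_inv_cancel_right]

theorem sIsom_perfect (hN : B.SeparatingRight) (hd : BigFixed σ ∧ 3 ≤ finrank F V ∨ 4 ≤ finrank F V) :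
    commutator (sIsom B) = ⊤ := by
  rw [eq_top_iff]
  rintro ⟨g, hg⟩ -
  have hg' : g ∈ tGroup B := by
    rw [← h.sIsom_eq_tGroup hN (fun _ => by
      rcases hd with ⟨hb, -⟩ | h4
      · exact Or.inl hb
      · exact Or.inr h4)]
    exact hg
  have hle : tGroup B ≤ (commutator (sIsom B)).map (sIsom B).subtype := (Subgroup.closure_le _).2 (by
    rintro x ⟨v, c, hx⟩
    refine ⟨⟨x, MonoidHom.mem_ker.2 (h.idet_uTv hx)⟩, ?_, rfl⟩
    rw [commutator_eq_closure]
    exact Subgroup.subset_closure (h.uTv_mem_commutatorSet hN hd ⟨x, MonoidHom.mem_ker.2 (h.idet_uTv hx)⟩ hx))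
  obtain ⟨y, hy, e⟩ := hle hg'
  exact (Subtype.ext e : y = ⟨g, hg⟩) ▸ hy

end IsHermitian

end CfsgLib.Classical
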