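import Cfsg.Agent.Lib.Classical.HermGen
import Cfsg.Agent.Lib.Classical.HermCount
import Mathlib.LinearAlgebra.Matrix.GeneralLinearGroup.Card

/-!
# Totally isotropic subspaces of Hermitian forms: counts and stabilisers
-/

set_option autoImplicit false
set_option linter.unusedSectionVars false

open Module

namespace CfsgLib.Classical

universe uF uV

variable {F : Type uF} [Field F] {σ : F →+* F} {V : Type uV} [AddCommGroup V] [Module F V]

/-- Linearly independent tuples of pairwise orthogonal isotropic vectors. -/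
def Frames (B : V →ₛₗ[σ] V →ₗ[F] F) (k : ℕ) : Type uV :=
  {v : Fin k → V // LinearIndependent F v ∧ ∀ i j, B (v i) (v j) = 0}

/-- Totally isotropic subspaces of dimension `k`. -/
def TSub (B : V →ₛₗ[σ] V →ₗ[F] F) (k : ℕ) : Type uV :=
  {W : Submodule F V // finrank F W = k ∧ ∀ u ∈ W, ∀ v ∈ W, B u v = 0}

instance [Finite V] (B : V →ₛₗ[σ] V →ₗ[F] F) (k : ℕ) : Finite (Frames B k) :=
  inferInstanceAs (Finite (Subtype _))

instance [Finite V] (B : V →ₛₗ[σ] V →ₗ[F] F) (k : ℕ) : Finite (TSub B k) :=
  inferInstanceAs (Finite (Subtype _))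

/-- The product giving the order of an isometry group. -/
noncomputable def hermOrder (σ : F →+* F) (n : ℕ) : ℕ := ∏ i ∈ Finset.range n, lengthCount σ (i + 1) 1

namespace IsHermitian

variable [Fintype F] [FiniteDimensional F V] {B : V →ₛₗ[σ] V →ₗ[F] F} (h : IsHermitian B)
include h

theorem card_frames_fibre {k : ℕ} (hN : B.SeparatingRight) {r : V} (hr0 : r ≠ 0) (hr : B r r = 0) :
    ∃ P : Submodule F V, NondegOn B P ∧ finrank F P = 2 ∧
      Nat.card {f : Frames B (k + 1) // f.1 0 = r} =
        Fintype.card F ^ k * Nat.card (Frames (restrictForm B (perp B P)) k) := by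
  obtain ⟨s, -, hs, hrs⟩ := h.exists_partner (nondegOn_iff.2 fun y _ hy => hN y fun w => hy w trivial :
    NondegOn B (⊤ : Submodule F V)) trivial hr0 hr
  have hsr : B s r = 1 := by rw [← h.symm, hrs, map_one]
  set P := Submodule.span F {r, s} with hP
  refine ⟨P, h.nondegOn_hyp hr hrs, h.finrank_hyp hr hrs, ?_⟩
  set W := perp B P with hW
  have hrP : r ∈ P := Submodule.subset_span (by simp)
  have hsP : s ∈ P := Submodule.subset_span (by simp)
  have hWr : ∀ w : W, B r (w : V) = 0 := fun w => mem_perp.1 w.2 r hrP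
  have hWs : ∀ w : W, B s (w : V) = 0 := fun w => mem_perp.1 w.2 s hsP
  have hrW : ∀ w : W, B (w : V) r = 0 := fun w => h.isRefl _ _ (hWr w)
  let mkf : (Fin k → F) × Frames (restrictForm B W) k → {f : Frames B (k + 1) // f.1 0 = r} := fun x =>
    ⟨⟨Fin.cons r fun i => x.1 i • r + (x.2.1 i : V), by
        refine ⟨Fintype.linearIndependent_iff.2 fun g hg => ?_, fun i j => ?_⟩
        · simp only [Fin.sum_univ_succ, Fin.cons_zero, Fin.cons_succ, smul_add, Finset.sum_add_distrib,
            smul_smul, ← Finset.sum_smul, ← add_assoc, ← add_smul] at hg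
          have h1 := congrArg (B s) hg
          simp [hsr, hWs] at h1
          rw [h1, zero_smul, zero_add] at hg
          have h2 : ∀ i : Fin k, g i.succ = 0 := Fintype.linearIndependent_iff.1 x.2.2.1 (fun i => g i.succ)
            (Subtype.ext (by simpa using hg))
          intro i
          induction i using Fin.cases with
          | zero => simpa [h2] using h1
          | succ i => exact h2 i
        · induction i using Fin.cases with
          | zero =>
            induction j using Fin.cases with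
            | zero => simpa using hr
            | succ j => simp [hr, hWr]
          | succ i =>
            induction j using Fin.cases with
            | zero => simp [hr, hrW]
            | succ j =>
              have h3 : B (x.2.1 i : V) (x.2.1 j : V) = 0 := x.2.2.2 i j
              simp [hr, hWr, hrW, h3]⟩, rfl⟩
  have hbij : Function.Bijective mkf := by
    constructor
    · rintro ⟨c, w⟩ ⟨c', w'⟩ he
      have h1 : ∀ i : Fin k, c i • r + (w.1 i : V) = c' i • r + (w'.1 i : V) := fun i => by
        have := congrFun (congrArg (fun f => f.1.1) he) i.succ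
        simpa [mkf] using this
      have h2 : c = c' := funext fun i => by
        have := congrArg (B s) (h1 i)
        simpa [hsr, hWs] using this
      subst h2
      exact Prod.ext rfl (Subtype.ext (funext fun i => Subtype.ext (add_left_cancel (h1 i))))
    · rintro ⟨f, hf⟩
      have hm : ∀ i : Fin k, f.1 i.succ - B s (f.1 i.succ) • r ∈ W := fun i => by
        have e : B r (f.1 i.succ) = 0 := hf ▸ f.2.2 0 i.succ
        refine mem_perp.2 fun z hz => ?_
        obtain ⟨a, b, rfl⟩ := Submodule.mem_span_pair.1 hz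
        simp [e, hr, hsr]
      let w : Fin k → W := fun i => ⟨_, hm i⟩
      have hfr : ∀ j : Fin (k + 1), B r (f.1 j) = 0 := fun j => hf ▸ f.2.2 0 j
      have hrf : ∀ j : Fin (k + 1), B (f.1 j) r = 0 := fun j => hf ▸ f.2.2 j 0
      refine ⟨(fun i => B s (f.1 i.succ), ⟨w, ?_, fun i j => ?_⟩), Subtype.ext (Subtype.ext (funext fun j => ?_))⟩
      · refine Fintype.linearIndependent_iff.2 fun g hg => ?_
        have hg' : ∑ i, g i • (f.1 i.succ - B s (f.1 i.succ) • r) = 0 := by
          simpa [w] using congrArg Subtype.val hg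
        have := Fintype.linearIndependent_iff.1 f.2.1
          (Fin.cons (-∑ i, g i * B s (f.1 i.succ)) g) (by
            rw [Fin.sum_univ_succ]
            simp only [Fin.cons_zero, Fin.cons_succ, hf]
            rw [← hg', neg_smul, Finset.sum_smul]
            simp [smul_sub, Finset.sum_sub_distrib, smul_smul]
            abel)
        intro i
        simpa using this i.succ
      · change B _ _ = 0
        simp [w, hr, hfr, hrf, f.2.2 i.succ j.succ]
      · induction j using Fin.cases with
        | zero => simpa [mkf] using hf.symm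
        | succ j => simp [mkf, w]
  rw [← Nat.card_congr (Equiv.ofBijective mkf hbij), Nat.card_prod, Nat.card_fun, Nat.card_eq_fintype_card,
    Nat.card_fin]

theorem card_frames_zero : Nat.card (Frames B 0) = 1 :=
  Nat.card_eq_one_iff_unique.2 ⟨⟨fun _ _ => Subtype.ext (Subsingleton.elim _ _)⟩,
    ⟨⟨Fin.elim0, linearIndependent_empty_type, fun i => i.elim0⟩⟩⟩

theorem card_isotropic [Finite V] (hN : B.SeparatingRight) :
    Nat.card {v : V // v ≠ 0 ∧ B v v = 0} = lengthCount σ (finrank F V) 0 - 1 := by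
  rw [← card_length_eq h hN]
  change Nat.card {v : V | v ≠ 0 ∧ B v v = 0} = Nat.card {v : V | B v v = 0} - 1
  rw [Nat.card_coe_set_eq, Nat.card_coe_set_eq,
    show {v : V | v ≠ 0 ∧ B v v = 0} = {v : V | B v v = 0} \ {0} by ext; simp [and_comm],
    Set.ncard_diff_singleton_of_mem (by simp)]

end IsHermitian

theorem hermOrder_add_two [Fintype F] {q : ℕ} (hF : Fintype.card F = q ^ 2) (hσ : ∀ x, σ x = x ^ q)
    (hc : IsConjugation σ) (m : ℕ) :
    hermOrder σ (m + 2) = (lengthCount σ (m + 2) 0 - 1) * q ^ (2 * m + 1) * hermOrder σ m := by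
  have hq := two_le_of_card_sq hF
  rw [hermOrder, Finset.prod_range_succ, Finset.prod_range_succ, ← hermOrder, mul_assoc, mul_comm (hermOrder σ m)]
  congr 1
  have h0 : 1 ≤ lengthCount σ (m + 2) 0 := Nat.one_le_iff_ne_zero.2 (Nat.card_ne_zero.2
    ⟨⟨0, by simp⟩, inferInstance⟩)
  have hq0 : (q : ℤ) ≠ 0 := by exact_mod_cast (by omega : q ≠ 0)
  refine Int.natCast_inj.1 (mul_left_cancel₀ (pow_ne_zero 2 hq0) ?_)
  push_cast [Nat.cast_sub h0]
  have a := (lengthCount_closed hF hσ hc (m + 1)).1
  obtain ⟨b, c⟩ := lengthCount_closed hF hσ hc (m + 2)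
  have e2 : ((-1 : ℤ) ^ m) * (-1) ^ m = 1 := by rw [← mul_pow]; norm_num
  simp only [pow_succ, mul_comm 2 (m + 2)] at a b c ⊢
  linear_combination ((q : ℤ) * lengthCount σ (m + 2) 1) * a +
    ((q : ℤ) ^ m * q * ((q : ℤ) ^ m * q - (-1) ^ m * -1)) * b - ((q : ℤ) ^ (2 * m) * q * q) * c +
    (-((q : ℤ) ^ (2 * m) * q ^ 3)) * e2

theorem card_isom_frames [Fintype F] {q : ℕ} (hF : Fintype.card F = q ^ 2) (hσ : ∀ x, σ x = x ^ q) :
    ∀ (k d : ℕ) {V : Type uV} [AddCommGroup V] [Module F V] [FiniteDimensional F V] {B : V →ₛₗ[σ] V →ₗ[F] F},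
      IsHermitian B → B.SeparatingRight → finrank F V = 2 * k + d →
      hermOrder σ (2 * k + d) = Nat.card (Frames B k) * q ^ (k * (k + 2 * d)) * hermOrder σ d := by
  intro k
  induction k with
  | zero =>
    intro d V _ _ _ B h hN hd
    rw [h.card_frames_zero]
    simp
  | succ k ih =>
    intro d V _ _ _ B h hN hd
    classical
    have : Finite V := Module.finite_of_finite F
    have := Fintype.ofFinite {v : V // v ≠ 0 ∧ B v v = 0}
    rw [show 2 * (k + 1) + d = 2 * k + d + 2 by omega, hermOrder_add_two hF hσ h.conj]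
    have key : Nat.card (Frames B (k + 1)) * (q ^ (k * (k + 2 * d)) * hermOrder σ d) =
        (lengthCount σ (2 * k + d + 2) 0 - 1) * ((q ^ 2) ^ k * hermOrder σ (2 * k + d)) := by
      let φ : Frames B (k + 1) → {v : V // v ≠ 0 ∧ B v v = 0} := fun f =>
        ⟨f.1 0, f.2.1.ne_zero 0, f.2.2 0 0⟩
      rw [← Nat.card_congr (Equiv.sigmaFiberEquiv φ), Nat.card_sigma, Finset.sum_mul]
      have hfib : ∀ r, Nat.card {f : Frames B (k + 1) // φ f = r} * (q ^ (k * (k + 2 * d)) * hermOrder σ d) =
          (q ^ 2) ^ k * hermOrder σ (2 * k + d) := by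
        intro r
        obtain ⟨P, hP, hP2, hcard⟩ := h.card_frames_fibre (k := k) hN r.2.1 r.2.2
        have hp := hP.finrank_perp
        rw [Nat.card_congr ((Equiv.refl (Frames B (k + 1))).subtypeEquiv (p := fun f => φ f = r) (q := fun f => f.1 0 = r.1)
            fun f => Subtype.ext_iff), hcard,
          ih d (h.restrict _) (restrictForm_separatingRight (nondegOn_perp hN hP)) (by omega), hF]
        ring
      rw [Finset.sum_congr rfl fun r _ => hfib r, Finset.sum_const, Finset.card_univ, smul_eq_mul,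
        ← Nat.card_eq_fintype_card, h.card_isotropic hN, hd, show 2 * (k + 1) + d = 2 * k + d + 2 by omega]
    calc _ = (lengthCount σ (2 * k + d + 2) 0 - 1) * ((q ^ 2) ^ k * hermOrder σ (2 * k + d)) *
          q ^ (2 * k + 2 * d + 1) := by ring
      _ = _ := by rw [← key]; ring

theorem card_frames_tsub [Fintype F] [FiniteDimensional F V] (B : V →ₛₗ[σ] V →ₗ[F] F) (k : ℕ) :
    Nat.card (Frames B k) = Nat.card (TSub B k) * ∏ i : Fin k, (Fintype.card F ^ k - Fintype.card F ^ (i : ℕ)) := by
  classical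
  have : Finite V := Module.finite_of_finite F
  have := Fintype.ofFinite (TSub B k)
  let φ : Frames B k → TSub B k := fun f => ⟨Submodule.span F (Set.range f.1),
    (finrank_span_eq_card f.2.1).trans (Fintype.card_fin k), by
      intro u hu v hv
      have hle : ∀ i, Submodule.span F (Set.range f.1) ≤ LinearMap.ker (B (f.1 i)) := fun i =>
        Submodule.span_le.2 (by rintro _ ⟨j, rfl⟩; exact f.2.2 i j)
      induction hu using Submodule.span_induction with
      | mem x hx => obtain ⟨i, rfl⟩ := hx; exact hle i hv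
      | zero => simp
      | add x y _ _ hx hy => simp [hx, hy]
      | smul a x _ hx => simp [hx]⟩
  rw [← Nat.card_congr (Equiv.sigmaFiberEquiv φ), Nat.card_sigma, ← Nat.card_eq_fintype_card (α := F)]
  have hfib : ∀ W : TSub B k, Nat.card {f : Frames B k // φ f = W} =
      ∏ i : Fin k, (Nat.card F ^ k - Nat.card F ^ (i : ℕ)) := by
    intro W
    have e : {f : Frames B k // φ f = W} ≃ {g : Fin k → W.1 // LinearIndependent F g} :=
      { toFun := fun f => ⟨fun i => ⟨f.1.1 i, by
            have := congrArg Subtype.val f.2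
            exact this ▸ Submodule.subset_span ⟨i, rfl⟩⟩,
          LinearIndependent.of_comp W.1.subtype f.1.2.1⟩
        invFun := fun g => ⟨⟨fun i => (g.1 i : V), g.2.map' W.1.subtype (Submodule.ker_subtype _),
            fun i j => W.2.2 _ (g.1 i).2 _ (g.1 j).2⟩, Subtype.ext (by
              refine Submodule.eq_of_le_of_finrank_eq (Submodule.span_le.2 ?_) ?_
              · rintro _ ⟨i, rfl⟩; exact (g.1 i).2
              · exact ((finrank_span_eq_card (g.2.map' W.1.subtype (Submodule.ker_subtype _))).trans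
                  (Fintype.card_fin k)).trans W.2.1.symm)⟩
        left_inv := fun f => rfl
        right_inv := fun g => rfl }
    rw [Nat.card_congr e, card_linearIndependent (by rw [W.2.1]), W.2.1, Nat.card_eq_fintype_card]
  rw [Finset.sum_congr rfl fun W _ => hfib W, Finset.sum_const, Finset.card_univ, smul_eq_mul,
    ← Nat.card_eq_fintype_card]

theorem card_isom_tsub [Fintype F] [FiniteDimensional F V] {q : ℕ} (hF : Fintype.card F = q ^ 2)
    (hσ : ∀ x, σ x = x ^ q) {B : V →ₛₗ[σ] V →ₗ[F] F} (h : IsHermitian B) (hN : B.SeparatingRight)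
    {k d : ℕ} (hd : finrank F V = 2 * k + d) :
    Nat.card (isomGroup B) = Nat.card (TSub B k) *
      (q ^ (k * (k + 2 * d)) * (∏ i : Fin k, ((q ^ 2) ^ k - (q ^ 2) ^ (i : ℕ))) * hermOrder σ d) := by
  rw [card_isom_herm h hN, ← hermOrder, hd, card_isom_frames hF hσ k d h hN hd, card_frames_tsub, hF]
  ring

namespace IsHermitian

variable [Fintype F] [FiniteDimensional F V] {B : V →ₛₗ[σ] V →ₗ[F] F} (h : IsHermitian B)
include h

theorem exists_map_tsub (hN : B.SeparatingRight) {k : ℕ} (W W' : TSub B k) :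
    ∃ g : isomGroup B, W.1.map (g.1 : V →ₗ[F] V) = W'.1 := by
  obtain ⟨e⟩ := FiniteDimensional.nonempty_linearEquiv_of_finrank_eq (W.2.1.trans W'.2.1.symm)
  obtain ⟨g, hg⟩ := h.witt hN W.1 (W'.1.subtype.comp e.toLinearMap)
    (Subtype.val_injective.comp e.injective) fun a b => by
      rw [W.2.2 a a.2 b b.2]
      exact W'.2.2 (e a) (e a).2 (e b) (e b).2
  refine ⟨g, le_antisymm ?_ fun y hy => ?_⟩
  · rintro _ ⟨x, hx, rfl⟩
    change g.1 x ∈ W'.1
    have : g.1 x = (e ⟨x, hx⟩ : V) := hg ⟨x, hx⟩
    exact this ▸ (e ⟨x, hx⟩).2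
  · refine ⟨(e.symm ⟨y, hy⟩ : V), (e.symm ⟨y, hy⟩).2, ?_⟩
    have : g.1 (e.symm ⟨y, hy⟩ : V) = (e (e.symm ⟨y, hy⟩) : V) := hg _
    rw [e.apply_symm_apply] at this
    exact this

theorem card_isom_eq_stab (hN : B.SeparatingRight) {k : ℕ} (W : TSub B k) :
    Nat.card (isomGroup B) = Nat.card (TSub B k) * Nat.card (isomStab B W.1) := by
  have hφ : ∀ g : isomGroup B, finrank F (W.1.map (g.1 : V →ₗ[F] V)) = k ∧
      ∀ u ∈ W.1.map (g.1 : V →ₗ[F] V), ∀ v ∈ W.1.map (g.1 : V →ₗ[F] V), B u v = 0 := fun g => by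
    refine ⟨(LinearEquiv.finrank_map_eq g.1 W.1).trans W.2.1, ?_⟩
    rintro _ ⟨u, hu, rfl⟩ _ ⟨v, hv, rfl⟩
    exact (g.2 u v).trans (W.2.2 u hu v hv)
  let φ : isomGroup B ⧸ isomStab B W.1 → TSub B k := Quotient.lift (fun g => ⟨_, hφ g⟩) (fun a b hab => by
    have h1 := QuotientGroup.leftRel_apply.1 hab
    refine Subtype.ext ?_
    change W.1.map _ = W.1.map _
    conv_lhs => rw [← mem_isomStab.1 h1]
    rw [← Submodule.map_comp]
    congr 1
    exact LinearMap.ext fun x => a.1.apply_symm_apply _)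
  have hbij : Function.Bijective φ := by
    refine ⟨?_, fun W' => ?_⟩
    · intro x y
      induction x using QuotientGroup.induction_on with
      | H a =>
        induction y using QuotientGroup.induction_on with
        | H b =>
          intro he
          refine QuotientGroup.eq.2 (mem_isomStab.2 ?_)
          have he' : W.1.map (a.1 : V →ₗ[F] V) = W.1.map (b.1 : V →ₗ[F] V) := congrArg Subtype.val he
          calc W.1.map ((a⁻¹ * b : isomGroup B).1 : V →ₗ[F] V)
              = (W.1.map (b.1 : V →ₗ[F] V)).map (a.1.symm : V →ₗ[F] V) := Submodule.map_comp _ _ _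
            _ = W.1 := by
                rw [← he', ← Submodule.map_comp, show (a.1.symm : V →ₗ[F] V).comp (a.1 : V →ₗ[F] V) = LinearMap.id
                  from LinearMap.ext fun x => a.1.symm_apply_apply x, Submodule.map_id]
    · obtain ⟨g, hg⟩ := h.exists_map_tsub hN W W'
      exact ⟨(g : isomGroup B ⧸ isomStab B W.1), Subtype.ext hg⟩
  rw [← Nat.card_congr (Equiv.ofBijective φ hbij), mul_comm]
  exact ((isomStab B W.1).card_mul_index).symm

/-- The determinant takes every value of norm one on the stabiliser of a totally isotropic subspace. -/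
theorem exists_stab_det (hN : B.SeparatingRight) {k : ℕ} (hn : 1 ≤ finrank F V) (W : TSub B k) {l : F}
    (hl : l * σ l = 1) : ∃ g ∈ isomStab B W.1, idet B g = l := by
  have hmem : ∀ g : isomGroup B, (∀ x ∈ W.1, g.1 x ∈ W.1) → g ∈ isomStab B W.1 := fun g hg => by
    refine Submodule.eq_of_le_of_finrank_eq ?_ (LinearEquiv.finrank_map_eq g.1 W.1)
    rintro _ ⟨x, hx, rfl⟩
    exact hg x hx
  by_cases hz : ∃ z, (∀ x ∈ W.1, B x z = 0) ∧ B z z ≠ 0
  · obtain ⟨z, hzW, hz⟩ := hz
    obtain ⟨g, hg, hd⟩ := h.exists_qr hN hz hl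
    refine ⟨g, hmem g fun x hx => ?_, hd⟩
    rw [hg, h.isRefl _ _ (hzW x hx), mul_zero, zero_smul, add_zero]
    exact hx
  · push_neg at hz
    obtain ⟨r, hr, hr0⟩ : ∃ r ∈ W.1, r ≠ 0 := by
      by_contra! hall
      have : Nontrivial V := Module.nontrivial_of_finrank_pos (R := F) (by omega)
      obtain ⟨x, hx⟩ := h.exists_unit hN
      exact one_ne_zero (hx.symm.trans (hz x fun y hy => by rw [hall y hy]; simp))
    obtain ⟨s, -, hs, hrs⟩ := h.exists_partner (nondegOn_iff.2 fun y _ hy => hN y fun w => hy w trivial :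
      NondegOn B (⊤ : Submodule F V)) trivial hr0 (W.2.2 r hr r hr)
    obtain ⟨c, hc0, hc⟩ := h.conj.exists_div_eq hl
    obtain ⟨g, hg1, -, hg3, hgd⟩ := h.exists_torus hN (W.2.2 r hr r hr) hs hrs hc0
    refine ⟨g, hmem g fun x hx => ?_, ?_⟩
    · have hsr : B s r = 1 := by rw [← h.symm, hrs, map_one]
      have e : x = B s x • r + (x - B s x • r) := by abel
      rw [e, map_add, map_smul, hg1, hg3 (x - B s x • r) (by simp [W.2.2 r hr x hx, W.2.2 r hr r hr])
        (by simp [hsr])]
      exact W.1.add_mem (W.1.smul_mem _ (W.1.smul_mem _ hr)) (W.1.sub_mem hx (W.1.smul_mem _ hr))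
    · have hc' : σ c ≠ 0 := fun e => hc0 (by rw [← h.conj.invol c, e, map_zero])
      rw [hgd, div_eq_iff hc', ← hc]

theorem norm_mul_card_stab (hN : B.SeparatingRight) {k : ℕ} (hn : 1 ≤ finrank F V) (W : TSub B k) :
    Nat.card (normHom σ).ker * Nat.card (sIsom B ⊓ isomStab B W.1 : Subgroup (isomGroup B)) =
      Nat.card (isomStab B W.1) := by
  let f : isomStab B W.1 →* Fˣ := (idet B).toHomUnits.comp (isomStab B W.1).subtype
  have hfr : f.range = (normHom σ).ker := by
    ext u
    constructor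
    · rintro ⟨g, rfl⟩
      exact MonoidHom.mem_ker.2 (Units.ext (h.idet_norm hN g.1))
    · intro hu
      obtain ⟨g, hg, hd⟩ := h.exists_stab_det hN hn W (congrArg Units.val (MonoidHom.mem_ker.1 hu))
      exact ⟨⟨g, hg⟩, Units.ext hd⟩
  have hk : f.ker = (sIsom B ⊓ isomStab B W.1).subgroupOf (isomStab B W.1) := by
    ext g
    rw [MonoidHom.mem_ker, Subgroup.mem_subgroupOf, Subgroup.mem_inf]
    exact ⟨fun e => ⟨MonoidHom.mem_ker.2 (congrArg Units.val e), g.2⟩,
      fun e => Units.ext (MonoidHom.mem_ker.1 e.1)⟩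
  rw [← hfr, ← Subgroup.index_ker, ← Nat.card_congr (Subgroup.subgroupOfEquivOfLe
    (inf_le_right : sIsom B ⊓ isomStab B W.1 ≤ isomStab B W.1)).toEquiv, ← hk, mul_comm]
  exact f.ker.card_mul_index

end IsHermitian

end CfsgLib.Classical
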