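import Cfsg.Agent.Lib.Classical.WreathGL
import Cfsg.Agent.Lib.Classical.SL2Tori
import Cfsg.Agent.Lib.Classical.SLOrders
import Cfsg.Agent.Lib.Classical.SympMatrix
import Cfsg.Agent.Lib.Involution.GL2SylowTwo

/-!
# Sylow 2-subgroups of symplectic and special linear groups in odd characteristic

They are wreath products of Sylow subgroups of `GL_2` (or monomial), and the square of each of
their elements lies in the derived subgroup.
-/

set_option autoImplicit false
set_option linter.unusedSectionVars false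

namespace CfsgLib.Classical.LinearTwoSylow

open Matrix CfsgLib.Classical CfsgLib.Classical.WreathGL CfsgLib.Perm.SylowGen
open scoped commutatorElement MatrixGroups

section Valuation

theorem sum_val_succ (n : ℕ) :
    ∑ i ∈ Finset.range n, padicValNat 2 (i + 1) = padicValNat 2 n.factorial := by
  induction n with
  | zero => simp
  | succ n ih =>
    rw [Finset.sum_range_succ, ih, Nat.factorial_succ,
      padicValNat.mul (Nat.succ_ne_zero n) (Nat.factorial_ne_zero n), add_comm]

variable {q : ℕ}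

theorem val_odd_pow (hq1 : 1 < q) (hq : q % 2 = 1) (k : ℕ) :
    padicValNat 2 (q ^ (2 * k + 1) - 1) = padicValNat 2 (q - 1) := by
  have h := geom_sum_mul_of_one_le (x := q) hq1.le (2 * k + 1)
  set g := ∑ i ∈ Finset.range (2 * k + 1), q ^ i with hgdef
  have hodd : g % 2 = 1 := by
    rw [hgdef, Finset.sum_nat_mod]
    simp [Nat.pow_mod, hq]
  rw [← h, padicValNat.mul (by omega) (by omega), padicValNat.eq_zero_of_not_dvd (by omega),
    zero_add]

theorem val_even_pow (hq1 : 1 < q) (hq : q % 2 = 1) {i : ℕ} (hi : i ≠ 0) :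
    padicValNat 2 (q ^ (2 * i) - 1) = padicValNat 2 (q ^ 2 - 1) + padicValNat 2 i := by
  have h1 := padicValNat.pow_two_sub_one hq1 (by omega) (n := 2 * i) (by omega) (even_two_mul i)
  have h2 : padicValNat 2 (q ^ 2 - 1) = padicValNat 2 (q + 1) + padicValNat 2 (q - 1) := by
    rw [← padicValNat.mul (by omega) (by omega), ← Nat.sq_sub_sq, one_pow]
  rw [padicValNat.mul two_ne_zero hi, padicValNat.self one_lt_two] at h1
  omega

theorem val_pow (hq1 : 1 < q) (hq : q % 4 = 1) {k : ℕ} (hk : k ≠ 0) :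
    padicValNat 2 (q ^ k - 1) = padicValNat 2 (q - 1) + padicValNat 2 k := by
  rcases Nat.even_or_odd k with ⟨i, hi⟩ | ⟨i, hi⟩
  · subst hi
    have hi0 : i ≠ 0 := by omega
    rw [← two_mul, val_even_pow hq1 (by omega) hi0, padicValNat.mul two_ne_zero hi0,
      padicValNat.self one_lt_two, show q ^ 2 - 1 = (q + 1) * (q - 1) by
        rw [← Nat.sq_sub_sq, one_pow], padicValNat.mul (by omega) (by omega)]
    have h2 : padicValNat 2 (q + 1) = 1 := by
      obtain ⟨c, hc⟩ : ∃ c, q = 4 * c + 1 := ⟨q / 4, by omega⟩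
      rw [show q + 1 = 2 * (2 * c + 1) by omega, padicValNat.mul two_ne_zero (by omega),
        padicValNat.self one_lt_two, padicValNat.eq_zero_of_not_dvd (by omega)]
    omega
  · subst hi
    rw [val_odd_pow hq1 (by omega), padicValNat.eq_zero_of_not_dvd (n := 2 * i + 1) (by omega),
      add_zero]

end Valuation

variable {F : Type*} [Field F] [Fintype F]

theorem q_facts (hF : Odd (Fintype.card F)) : 1 < Fintype.card F ∧ Fintype.card F % 2 = 1 :=
  ⟨Fintype.one_lt_card, Nat.odd_iff.1 hF⟩

theorem val_gl (n : ℕ) :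
    (Nat.card (GL (Fin n) F)).factorization 2
      = padicValNat 2 (Fintype.card F ^ (n * (n - 1) / 2))
        + ∑ k ∈ Finset.range n, padicValNat 2 (Fintype.card F ^ (k + 1) - 1) := by
  set q := Fintype.card F
  have hq1 : 1 < q := Fintype.one_lt_card
  have h : Nat.card (GL (Fin n) F)
      = q ^ (n * (n - 1) / 2) * ∏ k ∈ Finset.range n, (q ^ (k + 1) - 1) := by
    rw [Matrix.card_GL_field, ← Finset.prod_range_reflect (fun k => q ^ (k + 1) - 1) n,
      ← Finset.sum_range_id, ← Finset.prod_pow_eq_pow_sum, ← Finset.prod_mul_distrib,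
      ← Fin.prod_univ_eq_prod_range]
    refine Finset.prod_congr rfl fun i _ => ?_
    rw [Nat.mul_sub, mul_one, ← pow_add]
    congr 2
    omega
  have hne : ∀ k : ℕ, q ^ (k + 1) - 1 ≠ 0 := fun k =>
    Nat.sub_ne_zero_of_lt (Nat.one_lt_pow (by omega) hq1)
  rw [h, Nat.factorization_mul (pow_ne_zero _ (by omega))
    (Finset.prod_ne_zero_iff.2 fun k _ => hne k), Finsupp.add_apply,
    Nat.factorization_prod_apply (fun k _ => hne k), Nat.factorization_def _ Nat.prime_two]
  congr 1

theorem val_pow_card (hF : Odd (Fintype.card F)) (e : ℕ) :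
    padicValNat 2 (Fintype.card F ^ e) = 0 :=
  padicValNat.eq_zero_of_not_dvd fun h => by
    have := Nat.odd_iff.1 (hF.pow (n := e))
    omega

theorem val_gl_even (hF : Odd (Fintype.card F)) (m : ℕ) :
    (Nat.card (GL (Fin (2 * m)) F)).factorization 2
      = m * (padicValNat 2 (Fintype.card F - 1) + padicValNat 2 (Fintype.card F ^ 2 - 1))
        + padicValNat 2 m.factorial := by
  obtain ⟨hq1, hq⟩ := q_facts hF
  rw [val_gl, val_pow_card hF, zero_add]
  induction m with
  | zero => simp
  | succ m ih =>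
    rw [show 2 * (m + 1) = 2 * m + 1 + 1 by ring, Finset.sum_range_succ, Finset.sum_range_succ, ih,
      val_odd_pow hq1 hq, show 2 * m + 1 + 1 = 2 * (m + 1) by ring,
      val_even_pow hq1 hq (Nat.succ_ne_zero m), Nat.factorial_succ,
      padicValNat.mul (Nat.succ_ne_zero m) (Nat.factorial_ne_zero m)]
    ring

theorem val_gl_odd (hF : Odd (Fintype.card F)) (m : ℕ) :
    (Nat.card (GL (Fin (2 * m + 1)) F)).factorization 2
      = (Nat.card (GL (Fin (2 * m)) F)).factorization 2 + padicValNat 2 (Fintype.card F - 1) := by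
  obtain ⟨hq1, hq⟩ := q_facts hF
  rw [val_gl, val_gl, val_pow_card hF, val_pow_card hF, Finset.sum_range_succ, val_odd_pow hq1 hq,
    zero_add, zero_add]

theorem val_units (F : Type*) [Field F] [Fintype F] :
    (Nat.card Fˣ).factorization 2 = padicValNat 2 (Fintype.card F - 1) := by
  rw [Nat.card_units, Nat.card_eq_fintype_card, Nat.factorization_def _ Nat.prime_two]

theorem val_sl_add (n : ℕ) (hn : 1 ≤ n) :
    padicValNat 2 (Fintype.card F - 1)
        + (Nat.card (SpecialLinearGroup (Fin n) F)).factorization 2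
      = (Nat.card (GL (Fin n) F)).factorization 2 := by
  haveI : Nonempty (Fin n) := ⟨⟨0, hn⟩⟩
  rw [← card_units_mul_card_sl, Nat.factorization_mul Nat.card_pos.ne' Nat.card_pos.ne',
    Finsupp.add_apply, val_units]

theorem val_sl_two (hF : Odd (Fintype.card F)) :
    (Nat.card SL(2, F)).factorization 2 = padicValNat 2 (Fintype.card F ^ 2 - 1) := by
  have h := val_sl_add (F := F) 2 (by omega)
  have h2 : (Nat.card (GL (Fin 2) F)).factorization 2
      = 1 * (padicValNat 2 (Fintype.card F - 1) + padicValNat 2 (Fintype.card F ^ 2 - 1))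
        + padicValNat 2 (Nat.factorial 1) := val_gl_even hF 1
  simp only [Nat.factorial_one, padicValNat.one, one_mul, add_zero] at h2
  omega

theorem val_sp (hF : Odd (Fintype.card F)) (n : ℕ) :
    (Nat.card (symplecticGroup (Fin n) F)).factorization 2
      = n * padicValNat 2 (Fintype.card F ^ 2 - 1) + padicValNat 2 n.factorial := by
  obtain ⟨hq1, hq⟩ := q_facts hF
  have hne : ∀ i : ℕ, Fintype.card F ^ (2 * (i + 1)) - 1 ≠ 0 := fun i =>
    Nat.sub_ne_zero_of_lt (Nat.one_lt_pow (by omega) hq1)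
  rw [card_symplecticGroup, Nat.factorization_mul (pow_ne_zero _ (by omega))
    (Finset.prod_ne_zero_iff.2 fun i _ => hne i), Finsupp.add_apply,
    Nat.factorization_prod_apply (fun i _ => hne i), Nat.factorization_def _ Nat.prime_two,
    val_pow_card hF, zero_add, ← sum_val_succ,
    Finset.sum_congr rfl fun i _ => (Nat.factorization_def _ Nat.prime_two).trans
      (val_even_pow hq1 hq (Nat.succ_ne_zero i)),
    Finset.sum_add_distrib, Finset.sum_const, Finset.card_range, smul_eq_mul]

/-- The Sylow `2`-subgroups of `SL(2, q)`. -/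
theorem sl2_sylow_sq (hF : Odd (Fintype.card F)) (P : Sylow 2 SL(2, F)) :
    sqComm (P : Subgroup SL(2, F)) = ⊤ := by
  obtain ⟨k, hk, -, ⟨e⟩⟩ := sl2_sylow_two hF P
  refine eq_top_iff.2 fun x _ => ?_
  have h : e x ∈ sqComm (QuaternionGroup (2 ^ k)) := by
    rw [quaternion_sqComm hk]; exact Subgroup.mem_top _
  simpa using map_sqComm e.symm.toMonoidHom h

theorem gl2_kernel_part (hF : Odd (Fintype.card F)) (hq : Fintype.card F % 4 = 3) :
    ∃ (S Q : Subgroup (GL (Fin 2) F)) (dd : GL (Fin 2) F), dd ∈ S ∧ dd * dd = 1 ∧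
      GeneralLinearGroup.det dd = -1 ∧ Q ≤ S ∧ sqComm Q = ⊤ ∧
      (∀ g ∈ S, GeneralLinearGroup.det g = 1 ∨ GeneralLinearGroup.det g = -1) ∧
      (∀ g ∈ S, GeneralLinearGroup.det g = 1 → g ∈ Q) ∧
      (∀ g ∈ Q, GeneralLinearGroup.det g = 1) ∧
      Nat.card S = 2 ^ (padicValNat 2 (Fintype.card F - 1) + padicValNat 2 (Fintype.card F ^ 2 - 1)) := by
  classical
  obtain ⟨hq1, hq2⟩ := q_facts hF
  set dd : GL (Fin 2) F := Involution.GL2SylowTwo.dg ((-1 : Fˣ), (1 : Fˣ))
  have hdd : dd * dd = 1 := by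
    rw [← map_mul, show ((-1 : Fˣ), (1 : Fˣ)) * ((-1 : Fˣ), (1 : Fˣ)) = 1 by ext <;> simp, map_one]
  obtain ⟨S, hS⟩ := (show IsPGroup 2 (Subgroup.zpowers dd) from fun x => ⟨1, by
    obtain ⟨k, hk⟩ := Subgroup.mem_zpowers_iff.1 x.2
    refine Subtype.ext ?_
    rw [Subgroup.coe_pow, pow_one, sq, ← hk, ← (Commute.refl dd).mul_zpow, hdd, _root_.one_zpow]
    rfl⟩).exists_le_sylow
  have hdet : GeneralLinearGroup.det dd = -1 := Units.ext (by
    simp [dd, Involution.GL2SylowTwo.dg, Matrix.det_fin_two])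
  have hpm : ∀ g ∈ (S : Subgroup (GL (Fin 2) F)),
      GeneralLinearGroup.det g = 1 ∨ GeneralLinearGroup.det g = -1 := by
    intro g hg
    obtain ⟨i, hi⟩ := S.isPGroup' ⟨g, hg⟩
    have h1 : (GeneralLinearGroup.det g) ^ 2 ^ i = 1 := by
      rw [← map_pow, show g ^ 2 ^ i = 1 from congrArg Subtype.val hi, map_one]
    have h2 : (GeneralLinearGroup.det g) ^ (Fintype.card F - 1) = 1 := by
      rw [← Fintype.card_units, pow_card_eq_one]
    have h3 := pow_gcd_eq_one.2 ⟨h1, h2⟩
    have h4 : (GeneralLinearGroup.det g) ^ 2 = 1 := by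
      obtain ⟨j, -, hj⟩ := (Nat.dvd_prime_pow Nat.prime_two).1
        (Nat.gcd_dvd_left (2 ^ i) (Fintype.card F - 1))
      rw [hj] at h3
      have hd := Nat.gcd_dvd_right (2 ^ i) (Fintype.card F - 1)
      rw [hj] at hd
      rcases Nat.lt_or_ge j 2 with hjlt | hjge
      · interval_cases j
        · rw [pow_zero, pow_one] at h3; rw [h3, one_pow]
        · exact h3
      · have := (pow_dvd_pow 2 hjge).trans hd
        omega
    have h5 : ((GeneralLinearGroup.det g : Fˣ) : F) ^ 2 = 1 := by
      rw [← Units.val_pow_eq_pow_val, h4, Units.val_one]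
    rcases sq_eq_one_iff.1 h5 with h | h
    · exact Or.inl (Units.ext h)
    · exact Or.inr (Units.ext (by simpa using h))
  set Q₀ : Subgroup SL(2, F) := (S : Subgroup (GL (Fin 2) F)).comap SpecialLinearGroup.toGL
  set Q : Subgroup (GL (Fin 2) F) := Q₀.map SpecialLinearGroup.toGL
  have hQmem : ∀ g ∈ (S : Subgroup (GL (Fin 2) F)), GeneralLinearGroup.det g = 1 → g ∈ Q := by
    intro g hg hd
    have : g ∈ (GeneralLinearGroup.det : GL (Fin 2) F →* Fˣ).ker := hd
    rw [ker_glDet_eq_range_toGL] at this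
    obtain ⟨y, rfl⟩ := this
    exact ⟨y, hg, rfl⟩
  have hScard : Nat.card S
      = 2 ^ (padicValNat 2 (Fintype.card F - 1) + padicValNat 2 (Fintype.card F ^ 2 - 1)) := by
    rw [Sylow.card_eq_multiplicity, show (Nat.card (GL (Fin 2) F)).factorization 2
      = 1 * (padicValNat 2 (Fintype.card F - 1) + padicValNat 2 (Fintype.card F ^ 2 - 1))
        + padicValNat 2 (Nat.factorial 1) from val_gl_even hF 1]
    simp
  have hs : padicValNat 2 (Fintype.card F - 1) = 1 := by
    obtain ⟨c, hc⟩ : ∃ c, Fintype.card F - 1 = 2 * (2 * c + 1) :=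
      ⟨Fintype.card F / 4, by omega⟩
    rw [hc, padicValNat.mul two_ne_zero (by omega), padicValNat.self one_lt_two,
      padicValNat.eq_zero_of_not_dvd (by omega)]
  have hle : Nat.card S ≤ 2 * Nat.card Q₀ := by
    have hQc : Nat.card Q = Nat.card Q₀ := Subgroup.card_map_of_injective toGL_inj
    have hB : Nat.card (Q × Bool) = 2 * Nat.card Q₀ := by
      rw [Nat.card_prod, hQc, mul_comm, Nat.card_eq_fintype_card (α := Bool), Fintype.card_bool]
    rw [← hB]
    refine Nat.card_le_card_of_injective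
      (fun g : S => if h : GeneralLinearGroup.det (g : GL (Fin 2) F) = 1
        then ((⟨g, hQmem _ g.2 h⟩, false) : Q × Bool)
        else (⟨(g : GL (Fin 2) F) * dd, hQmem _ (mul_mem g.2 (hS (Subgroup.mem_zpowers dd))) (by
          rw [map_mul, hdet, (hpm _ g.2).resolve_left h, neg_mul_neg, one_mul])⟩, true)) ?_
    intro g g' h
    by_cases h1 : GeneralLinearGroup.det (g : GL (Fin 2) F) = 1 <;>
      by_cases h2 : GeneralLinearGroup.det (g' : GL (Fin 2) F) = 1
    · simp only [dif_pos h1, dif_pos h2] at h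
      exact Subtype.ext (congrArg (fun t => ((t : Q × Bool).1 : GL (Fin 2) F)) h)
    · simp [dif_pos h1, dif_neg h2] at h
    · simp [dif_neg h1, dif_pos h2] at h
    · simp only [dif_neg h1, dif_neg h2] at h
      exact Subtype.ext (mul_right_cancel (congrArg (fun t => ((t : Q × Bool).1 : GL (Fin 2) F)) h))
  have hQ₀p : IsPGroup 2 Q₀ := S.isPGroup'.comap_of_injective _ toGL_inj
  obtain ⟨T, hT⟩ := hQ₀p.exists_le_sylow
  have hQT : Q₀ = (T : Subgroup SL(2, F)) := by
    refine Subgroup.eq_of_le_of_card_ge hT ?_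
    rw [Sylow.card_eq_multiplicity, val_sl_two hF]
    rw [hScard, hs, pow_add, pow_one] at hle
    omega
  refine ⟨S, Q, dd, hS (Subgroup.mem_zpowers dd), hdd, hdet, Subgroup.map_comap_le _ _, ?_, hpm,
    hQmem, fun g hg => ?_, hScard⟩
  swap
  · obtain ⟨y, -, rfl⟩ := hg
    exact Units.ext y.2
  refine eq_top_iff.2 fun x _ => ?_
  obtain ⟨y, hy, hyx⟩ := x.2
  have hQ₀ : sqComm Q₀ = ⊤ := by rw [hQT]; exact sl2_sylow_sq hF T
  have h1 : (⟨y, hy⟩ : Q₀) ∈ sqComm Q₀ := by
    rw [hQ₀]
    exact Subgroup.mem_top _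
  have h2 := map_sqComm ((SpecialLinearGroup.toGL (n := Fin 2) (R := F)).subgroupMap Q₀) h1
  rwa [show x = (SpecialLinearGroup.toGL (n := Fin 2) (R := F)).subgroupMap Q₀ ⟨y, hy⟩ from
    Subtype.ext hyx.symm]

/-- Transport to a Sylow subgroup. -/
theorem sq_mem_of_hom {G : Type*} [Group G] [Finite G] {H₀ : Type*} [Group H₀] {K : Subgroup H₀}
    (ψ : K →* G) (hψ : Function.Injective ψ)
    (hcard : Nat.card K = 2 ^ (Nat.card G).factorization 2) (hsq : sqComm K = ⊤) (P : Sylow 2 G)
    (x : (P : Subgroup G)) : x ^ 2 ∈ commutator (P : Subgroup G) := by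
  refine sq_mem_sylow ψ hψ (⊤ : Subgroup K) (by rw [Subgroup.card_top, hcard]) ?_ P x
  refine eq_top_iff.2 fun y _ => ?_
  have h : (y : K) ∈ sqComm K := by rw [hsq]; exact Subgroup.mem_top _
  exact map_sqComm (Subgroup.topEquiv (G := K)).symm.toMonoidHom h

/-- The determinant on the wreath product. -/
noncomputable def detTot {d n : ℕ} : Wr F d n →* Fˣ :=
  (GeneralLinearGroup.det (n := Fin d × Fin n) (R := F)).comp toGL

theorem detTot_eq {d n : ℕ} (x : Wr F d n) :
    detTot x = (∏ i, GeneralLinearGroup.det (x.left i))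
      * (Units.map (Int.castRingHom F).toMonoidHom (Equiv.Perm.sign x.right)) ^ d := by
  refine Units.ext ?_
  show (mat x).det = _
  rw [det_mat]
  push_cast
  rfl

/-- The order of the elements of determinant one. -/
theorem card_inf_ker {d n : ℕ} (hn : 1 ≤ n) (S : Subgroup (GL (Fin d) F))
    (W : Subgroup (Equiv.Perm (Fin n)))
    (hsign : ∀ σ ∈ W, (Units.map (Int.castRingHom F).toMonoidHom (Equiv.Perm.sign σ)) ^ d
      ∈ S.map GeneralLinearGroup.det) :
    Nat.card (sub (full S) W (fun σ _ _ hg => act_mem_full S σ hg) ⊓ (detTot (F := F)).ker :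
        Subgroup (Wr F d n)) * Nat.card (S.map GeneralLinearGroup.det)
      = Nat.card S ^ n * Nat.card W := by
  classical
  set U := sub (full S) W (fun σ _ _ hg => act_mem_full S σ hg) with hU
  rw [← card_full, ← card_sub (hB := fun σ _ _ hg => act_mem_full S σ hg), ← hU]
  set φ := (detTot (F := F) (d := d) (n := n)).comp U.subtype
  have hk : Nat.card φ.ker = Nat.card (U ⊓ (detTot (F := F)).ker : Subgroup (Wr F d n)) := by
    refine Nat.card_congr
      { toFun := fun x => ⟨x.1.1, x.1.2, x.2⟩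
        invFun := fun x => ⟨⟨x.1, x.2.1⟩, x.2.2⟩
        left_inv := fun _ => rfl
        right_inv := fun _ => rfl }
  have hr : φ.range = S.map GeneralLinearGroup.det := by
    refine le_antisymm ?_ ?_
    · rintro _ ⟨x, rfl⟩
      show detTot (x : Wr F d n) ∈ _
      rw [detTot_eq]
      exact mul_mem (Subgroup.prod_mem _ fun i _ => Subgroup.mem_map_of_mem _
        ((Subgroup.mem_pi Set.univ).1 x.2.1 i trivial)) (hsign _ x.2.2)
    · rintro _ ⟨s, hs, rfl⟩
      refine ⟨⟨SemidirectProduct.inl (Pi.mulSingle ⟨0, hn⟩ s), ?_, one_mem _⟩, ?_⟩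
      · rw [SemidirectProduct.left_inl]
        refine (Subgroup.mem_pi Set.univ).2 fun j _ => ?_
        by_cases h : j = (⟨0, hn⟩ : Fin n)
        · subst h; simpa using hs
        · simp [h, one_mem]
      · show detTot _ = _
        rw [detTot_eq]
        simp [Pi.apply_mulSingle (fun _ : Fin n => (GeneralLinearGroup.det :
          GL (Fin d) F → Fˣ)) (fun _ => map_one _)]
  rw [← hk, ← hr, ← Subgroup.index_ker, Subgroup.card_mul_index]

theorem card_closure_gens {n : ℕ} (G : Gens 2 (Fin n)) :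
    Nat.card (Subgroup.closure G.S) = 2 ^ padicValNat 2 n.factorial := by
  rw [G.card, Fintype.card_fin]

/-- The wreath product with kernel part `Q` and an involution of determinant `-1`. -/
theorem sqComm_wreath_det {m : ℕ} (G : Gens 2 (Fin m)) {S Q : Subgroup (GL (Fin 2) F)}
    {dd : GL (Fin 2) F} (hdS : dd ∈ S) (hdd : dd * dd = 1)
    (hdet : GeneralLinearGroup.det dd = -1) (hQS : Q ≤ S) (hQ : sqComm Q = ⊤)
    (hpm : ∀ g ∈ S, GeneralLinearGroup.det g = 1 ∨ GeneralLinearGroup.det g = -1)
    (hQmem : ∀ g ∈ S, GeneralLinearGroup.det g = 1 → g ∈ Q)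
    (hQdet : ∀ g ∈ Q, GeneralLinearGroup.det g = 1) :
    sqComm (sub (full S) (Subgroup.closure G.S) (fun σ _ _ hg => act_mem_full S σ hg)
      ⊓ (detTot (F := F)).ker : Subgroup (Wr F 2 m)) = ⊤ := by
  classical
  set U := sub (full S) (Subgroup.closure G.S) (fun σ _ _ hg => act_mem_full S σ hg) with hU
  set K := U ⊓ (detTot (F := F)).ker with hKdef
  have hsgn : ∀ σ : Equiv.Perm (Fin m),
      (Units.map (Int.castRingHom F).toMonoidHom (Equiv.Perm.sign σ)) ^ 2 = 1 := fun σ => by
    rw [← map_pow, Int.units_sq, map_one]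
  have hinr : ∀ σ ∈ Subgroup.closure G.S, (SemidirectProduct.inr σ : Wr F 2 m) ∈ K := fun σ hσ => by
    refine ⟨⟨by simp [one_mem], hσ⟩, ?_⟩
    show detTot _ = 1
    rw [detTot_eq, hsgn]
    simp
  refine sqComm_eq_top_of fun x hx => ?_
  rw [← SemidirectProduct.inl_left_mul_inr_right x]
  refine mul_mem ?_ ?_
  · set g := x.left with hg
    set e : Fin m → GL (Fin 2) F := fun i => if GeneralLinearGroup.det (g i) = 1 then 1 else dd
    have hgS : ∀ i, g i ∈ S := fun i => (Subgroup.mem_pi Set.univ).1 hx.1.1 i trivial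
    have he2 : ∀ i, e i * e i = 1 := fun i => by
      simp only [e]; split_ifs <;> simp [hdd]
    have hdetge : ∀ i, GeneralLinearGroup.det (g i) = GeneralLinearGroup.det (e i) := fun i => by
      simp only [e]
      split_ifs with h
      · rw [h, map_one]
      · rw [(hpm _ (hgS i)).resolve_left h, hdet]
    have heK : (SemidirectProduct.inl e : Wr F 2 m) ∈ K := by
      refine ⟨⟨(Subgroup.mem_pi Set.univ).2 fun i _ => ?_, one_mem _⟩, ?_⟩
      · simp only [SemidirectProduct.left_inl, e]
        split_ifs <;> first | exact one_mem _ | exact hdS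
      · show detTot _ = 1
        have h : detTot x = 1 := hx.2
        rw [detTot_eq, hsgn, mul_one] at h
        rw [detTot_eq]
        simpa [← hdetge] using h
    have hq : ∀ i, g i * e i ∈ Q := fun i => by
      refine hQmem _ (mul_mem (hgS i) ?_) ?_
      · simp only [e]; split_ifs <;> first | exact one_mem _ | exact hdS
      · rw [map_mul, hdetge, ← map_mul, he2, map_one]
    have h1 : (SemidirectProduct.inl (g * e) : Wr F 2 m) ∈ sqIn K := by
      suffices h : full Q ≤ (sqIn K).comap (SemidirectProduct.inl (φ := act)) from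
        h ((Subgroup.mem_pi Set.univ).2 fun i _ => hq i)
      rw [Subgroup.pi_le_iff]
      rintro i _ ⟨z, hz, rfl⟩
      refine map_mem_sqIn (K := K) ((SemidirectProduct.inl (φ := act)).comp
        (MonoidHom.mulSingle (fun _ : Fin m => GL (Fin 2) F) i)) (fun w hw => ?_) hQ hz
      refine ⟨⟨(Subgroup.mem_pi Set.univ).2 fun j _ => ?_, one_mem _⟩, ?_⟩
      · by_cases h : j = i
        · subst h; simpa using hQS hw
        · simp [h, one_mem]
      · show detTot _ = 1
        rw [detTot_eq]
        have hw1 := hQdet w hw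
        simp [Pi.apply_mulSingle (fun _ : Fin m => (GeneralLinearGroup.det :
          GL (Fin 2) F → Fˣ)) (fun _ => map_one _), hw1]
    have h2 : (SemidirectProduct.inl e : Wr F 2 m) ∈ sqIn K :=
      mem_sqIn_of_mul_self heK (by
        rw [← map_mul, show e * e = 1 from funext he2, map_one])
    have h3 := mul_mem h1 h2
    rwa [← map_mul, mul_assoc, show e * e = 1 from funext he2, mul_one] at h3
  · suffices h : Subgroup.closure G.S
        ≤ (sqIn K).comap (SemidirectProduct.inr (φ := act)) from h hx.1.2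
    exact (Subgroup.closure_le _).2 fun t ht => mem_sqIn_of_mul_self
      (hinr t (Subgroup.subset_closure ht)) (by rw [← map_mul, ← sq, G.pow t ht, map_one])

end CfsgLib.Classical.LinearTwoSylow
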