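import Cfsg.Agent.Lib.Classical.LinearTwoSylow

/-!
# The wreath products inside symplectic and special linear groups
-/

set_option autoImplicit false
set_option linter.unusedSectionVars false

namespace CfsgLib.Classical.LinearTwoSylow

open Matrix CfsgLib.Classical CfsgLib.Classical.WreathGL CfsgLib.Perm.SylowGen
open scoped commutatorElement MatrixGroups

variable {F : Type*} [Field F] [Fintype F]

section Symplectic

variable {n : ℕ}

/-- Coordinates for `n` hyperbolic pairs. -/
def pairSum (n : ℕ) : Fin 2 × Fin n ≃ Fin n ⊕ Fin n where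
  toFun t := if t.1 = 0 then Sum.inl t.2 else Sum.inr t.2
  invFun := Sum.elim (fun i => (0, i)) fun i => (1, i)
  left_inv := fun ⟨a, i⟩ => by fin_cases a <;> simp
  right_inv := fun s => by cases s <;> simp

variable (F) in
/-- The form of a hyperbolic pair. -/
def j2 : GL (Fin 2) F :=
  ⟨!![0, -1; 1, 0], !![0, 1; -1, 0], by simp [Matrix.one_fin_two], by simp [Matrix.one_fin_two]⟩

theorem mat_transpose_inr (σ : Equiv.Perm (Fin n)) :
    (mat (SemidirectProduct.inr σ : Wr F 2 n))ᵀ = mat (SemidirectProduct.inr σ⁻¹ : Wr F 2 n) := by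
  ext ⟨a, i⟩ ⟨b, j⟩
  rw [Matrix.transpose_apply, mat_apply, mat_apply]
  show (if j = σ i then ((1 : Matrix (Fin 2) (Fin 2) F)) b a else 0)
    = if i = σ⁻¹ j then ((1 : Matrix (Fin 2) (Fin 2) F)) a b else 0
  by_cases h : j = σ i
  · subst h; simp [Matrix.one_apply, eq_comm]
  · have h' : i ≠ σ⁻¹ j := fun e => h (by simp [e])
    rw [if_neg h, if_neg h']

theorem reindex_j2 :
    Matrix.reindex (pairSum n) (pairSum n)
      (mat (SemidirectProduct.inl (fun _ => j2 F) : Wr F 2 n)) = Matrix.J (Fin n) F := by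
  ext s t
  rw [Matrix.reindex_apply, Matrix.submatrix_apply, mat_inl, blockDiagonal_apply]
  rcases s with i | i <;> rcases t with j | j <;> by_cases h : i = j <;>
    simp [pairSum, j2, Matrix.J, h]

theorem mul_j2_transpose (g : GL (Fin 2) F) :
    (g : Matrix (Fin 2) (Fin 2) F) * (j2 F : Matrix (Fin 2) (Fin 2) F)
        * (g : Matrix (Fin 2) (Fin 2) F)ᵀ
      = (g : Matrix (Fin 2) (Fin 2) F).det • (j2 F : Matrix (Fin 2) (Fin 2) F) := by
  ext a b
  fin_cases a <;> fin_cases b <;>
    simp [j2, Matrix.mul_apply, Fin.sum_univ_two, Matrix.det_fin_two, Matrix.transpose_apply] <;>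
    ring

theorem preserves (x : Wr F 2 n) (hx : ∀ i, GeneralLinearGroup.det (x.left i) = 1) :
    mat x * mat (SemidirectProduct.inl (fun _ => j2 F) : Wr F 2 n) * (mat x)ᵀ
      = mat (SemidirectProduct.inl (fun _ => j2 F) : Wr F 2 n) := by
  have hconj : (SemidirectProduct.inr x.right : Wr F 2 n) * SemidirectProduct.inl (fun _ => j2 F)
      * SemidirectProduct.inr x.right⁻¹ = SemidirectProduct.inl (fun _ => j2 F) := by
    rw [← SemidirectProduct.inl_aut]
    rfl
  have hx' : mat x = mat (SemidirectProduct.inl x.left : Wr F 2 n)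
      * mat (SemidirectProduct.inr x.right : Wr F 2 n) := by
    rw [← mat_mul, SemidirectProduct.inl_left_mul_inr_right]
  rw [hx', Matrix.transpose_mul, mat_transpose_inr]
  calc _ = mat (SemidirectProduct.inl x.left : Wr F 2 n)
        * (mat (SemidirectProduct.inr x.right : Wr F 2 n)
          * mat (SemidirectProduct.inl (fun _ => j2 F) : Wr F 2 n)
          * mat (SemidirectProduct.inr x.right⁻¹ : Wr F 2 n))
        * (mat (SemidirectProduct.inl x.left : Wr F 2 n))ᵀ := by simp only [Matrix.mul_assoc]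
    _ = _ := by
      rw [← mat_mul, ← mat_mul, hconj, mat_inl, mat_inl, blockDiagonal_transpose,
        ← blockDiagonal_mul, ← blockDiagonal_mul]
      congr 1
      funext i
      have hd : (x.left i : Matrix (Fin 2) (Fin 2) F).det = 1 := congrArg Units.val (hx i)
      rw [mul_j2_transpose, hd, one_smul]

/-- The symplectic embedding. -/
def toSp (K : Subgroup (Wr F 2 n)) (hK : ∀ x ∈ K, ∀ i, GeneralLinearGroup.det (x.left i) = 1) :
    K →* symplecticGroup (Fin n) F :=
  MonoidHom.mk' (fun x => ⟨Matrix.reindex (pairSum n) (pairSum n) (mat (x : Wr F 2 n)), by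
    rw [SymplecticGroup.mem_iff, ← reindex_j2]
    simp only [Matrix.reindex_apply, Matrix.transpose_submatrix, Matrix.submatrix_mul_equiv]
    rw [preserves _ (hK x x.2)]⟩) fun x y => Subtype.ext (by
      show Matrix.reindex _ _ (mat ((x : Wr F 2 n) * (y : Wr F 2 n)))
        = Matrix.reindex _ _ (mat (x : Wr F 2 n)) * Matrix.reindex _ _ (mat (y : Wr F 2 n))
      rw [mat_mul]
      simp [Matrix.submatrix_mul_equiv])

theorem toSp_injective (K : Subgroup (Wr F 2 n))
    (hK : ∀ x ∈ K, ∀ i, GeneralLinearGroup.det (x.left i) = 1) :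
    Function.Injective (toSp K hK) := fun _ _ h =>
  Subtype.ext (mat_injective (by omega) ((Matrix.reindex _ _).injective (congrArg Subtype.val h)))

end Symplectic

/-- The Sylow `2`-subgroups of `Sp_{2n}(q)`. -/
theorem symplectic_sylow_sq (hF : Odd (Fintype.card F)) (n : ℕ)
    (P : Sylow 2 (symplecticGroup (Fin n) F)) (x : (P : Subgroup (symplecticGroup (Fin n) F))) :
    x ^ 2 ∈ commutator (P : Subgroup (symplecticGroup (Fin n) F)) := by
  classical
  obtain ⟨G⟩ := exists_gens (p := 2) n
  obtain ⟨Q₀⟩ := (inferInstance : Nonempty (Sylow 2 SL(2, F)))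
  set Q : Subgroup (GL (Fin 2) F) := (Q₀ : Subgroup SL(2, F)).map SpecialLinearGroup.toGL
  have hQ : sqComm Q = ⊤ := by
    refine eq_top_iff.2 fun y _ => ?_
    obtain ⟨z, hz, hzy⟩ := y.2
    have h1 : (⟨z, hz⟩ : (Q₀ : Subgroup SL(2, F))) ∈ sqComm (Q₀ : Subgroup SL(2, F)) := by
      rw [sl2_sylow_sq hF Q₀]; exact Subgroup.mem_top _
    have h2 := map_sqComm
      ((SpecialLinearGroup.toGL (n := Fin 2) (R := F)).subgroupMap (Q₀ : Subgroup SL(2, F))) h1
    rwa [show y = (SpecialLinearGroup.toGL (n := Fin 2) (R := F)).subgroupMap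
      (Q₀ : Subgroup SL(2, F)) ⟨z, hz⟩ from Subtype.ext hzy.symm]
  set K := sub (full (n := n) Q) (Subgroup.closure G.S) (fun σ _ _ hg => act_mem_full Q σ hg)
  have hK : ∀ x ∈ K, ∀ i, GeneralLinearGroup.det ((x : Wr F 2 n).left i) = 1 := fun x hx i => by
    obtain ⟨z, -, hz⟩ := (Subgroup.mem_pi Set.univ).1 hx.1 i trivial
    rw [← hz]
    exact Units.ext z.2
  refine sq_mem_of_hom (toSp K hK) (toSp_injective K hK) ?_
    (sqComm_sub G _ fun g hg => inl_mem_sqIn_full hQ le_rfl hg) P x
  rw [card_sub, card_full, Subgroup.card_map_of_injective toGL_inj, card_closure_gens,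
    Sylow.card_eq_multiplicity, val_sl_two hF, val_sp hF, ← pow_mul, ← pow_add, mul_comm n]

section SpecialLinear

variable {d n : ℕ} {ι : Type*} [Fintype ι] [DecidableEq ι]

/-- The embedding of the elements of determinant one. -/
noncomputable def toSL (e : Fin d × Fin n ≃ ι) (K : Subgroup (Wr F d n))
    (hK : K ≤ (detTot (F := F)).ker) : K →* SpecialLinearGroup ι F :=
  MonoidHom.mk' (fun x => ⟨Matrix.reindex e e (mat (x : Wr F d n)), by
    rw [Matrix.det_reindex_self]
    exact congrArg Units.val (hK x.2)⟩) fun x y => Subtype.ext (by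
      show Matrix.reindex e e (mat ((x : Wr F d n) * (y : Wr F d n)))
        = Matrix.reindex e e (mat (x : Wr F d n)) * Matrix.reindex e e (mat (y : Wr F d n))
      rw [mat_mul]
      simp [Matrix.submatrix_mul_equiv])

theorem toSL_injective (hd : 1 ≤ d) (e : Fin d × Fin n ≃ ι) (K : Subgroup (Wr F d n))
    (hK : K ≤ (detTot (F := F)).ker) : Function.Injective (toSL e K hK) := fun _ _ h =>
  Subtype.ext (mat_injective hd ((Matrix.reindex e e).injective (congrArg Subtype.val h)))

/-- One more coordinate carrying the inverse determinant. -/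
noncomputable def toSLSucc (e : (Fin d × Fin n) ⊕ Unit ≃ ι) :
    Wr F d n →* SpecialLinearGroup ι F :=
  MonoidHom.mk' (fun x => ⟨Matrix.reindex e e (Matrix.fromBlocks (mat x) 0 0
      (Matrix.diagonal fun _ : Unit => (((detTot x)⁻¹ : Fˣ) : F))), by
    rw [Matrix.det_reindex_self, Matrix.det_fromBlocks_zero₂₁, Matrix.det_diagonal]
    simp only [Finset.univ_unique, Finset.prod_singleton]
    exact (detTot x).mul_inv⟩) fun x y => Subtype.ext (by
      show Matrix.reindex e e _ = Matrix.reindex e e _ * Matrix.reindex e e _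
      simp only [Matrix.reindex_apply, Matrix.submatrix_mul_equiv, Matrix.fromBlocks_multiply,
        Matrix.diagonal_mul_diagonal, mat_mul, map_mul, mul_inv, Units.val_mul, zero_mul, mul_zero,
        add_zero, zero_add, Matrix.mul_zero, Matrix.zero_mul])

theorem toSLSucc_injective (hd : 1 ≤ d) (e : (Fin d × Fin n) ⊕ Unit ≃ ι) :
    Function.Injective (toSLSucc (F := F) e) := fun x y h => by
  have h' := (Matrix.reindex e e).injective (congrArg Subtype.val h)
  exact mat_injective hd ((Matrix.fromBlocks_inj.1 h').1)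

end SpecialLinear

theorem val_pred_three (hq : Fintype.card F % 4 = 3) :
    padicValNat 2 (Fintype.card F - 1) = 1 := by
  obtain ⟨c, hc⟩ : ∃ c, Fintype.card F - 1 = 2 * (2 * c + 1) := ⟨Fintype.card F / 4, by omega⟩
  rw [hc, padicValNat.mul two_ne_zero (by omega), padicValNat.self one_lt_two,
    padicValNat.eq_zero_of_not_dvd (by omega)]

/-- The Sylow `2`-subgroups of `SL_{2m}(q)`, `q ≡ 3 (mod 4)`. -/
theorem sl_even_sylow_sq (hF : Odd (Fintype.card F)) (hq : Fintype.card F % 4 = 3) (m : ℕ)
    (hm : 1 ≤ m) (P : Sylow 2 (SpecialLinearGroup (Fin (2 * m)) F))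
    (x : (P : Subgroup (SpecialLinearGroup (Fin (2 * m)) F))) :
    x ^ 2 ∈ commutator (P : Subgroup (SpecialLinearGroup (Fin (2 * m)) F)) := by
  classical
  obtain ⟨G⟩ := exists_gens (p := 2) m
  obtain ⟨S, Q, dd, hdS, hdd, hdet, hQS, hQ, hpm, hQmem, hQdet, hScard⟩ := gl2_kernel_part hF hq
  have hne : (-1 : Fˣ) ≠ 1 := fun h => by
    have h2 := congrArg (fun u : Fˣ => (u : F)) h
    simp only [Units.val_neg, Units.val_one] at h2
    refine Ring.two_ne_zero (R := F) (fun hc => ?_) (by linear_combination -h2)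
    have := FiniteField.even_card_of_char_two hc
    omega
  have hD : S.map GeneralLinearGroup.det = Subgroup.zpowers (-1 : Fˣ) := by
    refine le_antisymm ?_ ((Subgroup.zpowers_le).2 ⟨dd, hdS, hdet⟩)
    rintro _ ⟨g, hg, rfl⟩
    rcases hpm g hg with h | h <;> rw [h]
    · exact one_mem _
    · exact Subgroup.mem_zpowers _
  set K := sub (full (n := m) S) (Subgroup.closure G.S) (fun σ _ _ hg => act_mem_full S σ hg)
    ⊓ (detTot (F := F)).ker
  refine sq_mem_of_hom (toSL finProdFinEquiv K inf_le_right) (toSL_injective (by omega) _ _ _) ?_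
    (sqComm_wreath_det G hdS hdd hdet hQS hQ hpm hQmem hQdet) P x
  have h := card_inf_ker (F := F) hm S (Subgroup.closure G.S) fun σ _ => by
    rw [← map_pow, Int.units_sq, map_one]
    exact one_mem _
  rw [card_closure_gens, hScard, hD, Nat.card_zpowers,
    orderOf_eq_prime (p := 2) (by rw [sq, neg_mul_neg, one_mul]) hne, ← pow_mul, ← pow_add,
    val_pred_three hq] at h
  have hv := val_sl_add (F := F) (2 * m) (by omega)
  rw [val_gl_even hF, val_pred_three hq] at hv
  refine Nat.eq_of_mul_eq_mul_right two_pos (h.trans ?_)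
  rw [← pow_succ]
  congr 1
  rw [mul_comm m] at hv
  omega

/-- The Sylow `2`-subgroups of `SL_{2m+1}(q)`, `q ≡ 3 (mod 4)`. -/
theorem sl_odd_sylow_sq (hF : Odd (Fintype.card F)) (hq : Fintype.card F % 4 = 3) (m : ℕ)
    (P : Sylow 2 (SpecialLinearGroup (Fin (2 * m + 1)) F))
    (x : (P : Subgroup (SpecialLinearGroup (Fin (2 * m + 1)) F))) :
    x ^ 2 ∈ commutator (P : Subgroup (SpecialLinearGroup (Fin (2 * m + 1)) F)) := by
  classical
  obtain ⟨G⟩ := exists_gens (p := 2) m
  obtain ⟨S, Q, dd, hdS, hdd, hdet, hQS, hQ, hpm, hQmem, hQdet, hScard⟩ := gl2_kernel_part hF hq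
  have hS : sqComm S = ⊤ := by
    refine sqComm_eq_top_of fun g hg => ?_
    have hQin : ∀ z ∈ Q, z ∈ sqIn S := fun z hz =>
      map_mem_sqIn (K := S) (MonoidHom.id _) hQS hQ hz
    rcases hpm g hg with h | h
    · exact hQin g (hQmem g hg h)
    · rw [show g = g * dd * dd by rw [mul_assoc, hdd, mul_one]]
      exact mul_mem (hQin _ (hQmem _ (mul_mem hg hdS) (by rw [map_mul, h, hdet, neg_mul_neg,
        one_mul]))) (mem_sqIn_of_mul_self hdS hdd)
  set K := sub (full (n := m) S) (Subgroup.closure G.S) (fun σ _ _ hg => act_mem_full S σ hg)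
  let e : (Fin 2 × Fin m) ⊕ Unit ≃ Fin (2 * m + 1) :=
    (Equiv.sumCongr finProdFinEquiv (Equiv.ofUnique Unit (Fin 1))).trans finSumFinEquiv
  refine sq_mem_of_hom ((toSLSucc e).comp K.subtype)
    ((toSLSucc_injective (by omega) e).comp K.subtype_injective) ?_
    (sqComm_sub G _ fun g hg => inl_mem_sqIn_full hS le_rfl hg) P x
  rw [card_sub, card_full, hScard, card_closure_gens, ← pow_mul, ← pow_add]
  congr 1
  have hv := val_sl_add (F := F) (2 * m + 1) (by omega)
  rw [val_gl_odd hF, val_gl_even hF, mul_comm m] at hv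
  omega

section Monomial

/-- Scalars as `1 × 1` matrices. -/
def scal : Fˣ →* GL (Fin 1) F := Units.map (Matrix.scalar (Fin 1)).toMonoidHom

theorem det_scal (u : Fˣ) : GeneralLinearGroup.det (scal u) = u := Units.ext (by simp [scal])

theorem gl1_comm (a b : GL (Fin 1) F) : a * b = b * a := by
  refine Units.ext (Matrix.ext fun i j => ?_)
  fin_cases i; fin_cases j
  simp [Matrix.mul_apply, mul_comm]

set_option maxHeartbeats 2000000 in
/-- The Sylow `2`-subgroups of `SL_N(q)`, `q ≡ 1 (mod 4)`, `N` a power of `2` at least `4`. -/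
theorem sl_monomial_sylow_sq (hq : Fintype.card F % 4 = 1) (j : ℕ) (hj : 2 ≤ j) {N : ℕ}
    (hN : N = 2 ^ j) (P : Sylow 2 (SpecialLinearGroup (Fin N) F))
    (x : (P : Subgroup (SpecialLinearGroup (Fin N) F))) :
    x ^ 2 ∈ commutator (P : Subgroup (SpecialLinearGroup (Fin N) F)) := by
  classical
  letI : CommGroup (GL (Fin 1) F) := { (inferInstance : Group (GL (Fin 1) F)) with
    mul_comm := gl1_comm }
  have hN4 : 4 ∣ N := hN ▸ (show (4 : ℕ) = 2 ^ 2 by norm_num) ▸ pow_dvd_pow 2 hj
  have hN1 : 1 ≤ N := hN ▸ Nat.one_le_two_pow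
  haveI : NeZero N := ⟨by omega⟩
  obtain ⟨G⟩ := exists_gens (p := 2) N
  obtain ⟨Z⟩ := (inferInstance : Nonempty (Sylow 2 Fˣ))
  set S : Subgroup (GL (Fin 1) F) := (Z : Subgroup Fˣ).map scal
  have hD : S.map GeneralLinearGroup.det = (Z : Subgroup Fˣ) := by
    rw [Subgroup.map_map, show GeneralLinearGroup.det.comp scal = MonoidHom.id Fˣ from
      MonoidHom.ext det_scal, Subgroup.map_id]
  have hscal : Function.Injective (scal (F := F)) := fun a b h => by
    rw [← det_scal a, h, det_scal]
  have hdetinj : ∀ g ∈ S, GeneralLinearGroup.det g = 1 → g = 1 := by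
    rintro _ ⟨u, -, rfl⟩ h
    rw [det_scal] at h
    rw [h, map_one]
  have hZcard : Nat.card (Z : Subgroup Fˣ) = 2 ^ padicValNat 2 (Fintype.card F - 1) := by
    rw [Sylow.card_eq_multiplicity, val_units]
  have hneg : (-1 : Fˣ) ∈ (Z : Subgroup Fˣ) := by
    haveI : (Z : Subgroup Fˣ).Normal := Subgroup.normal_of_comm _
    have hp : IsPGroup 2 (Subgroup.zpowers (-1 : Fˣ)) := fun y => ⟨1, by
      obtain ⟨k, hk⟩ := Subgroup.mem_zpowers_iff.1 y.2
      refine Subtype.ext ?_
      rw [Subgroup.coe_pow, pow_one, sq, ← hk, ← _root_.mul_zpow, neg_mul_neg, one_mul,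
        _root_.one_zpow]
      rfl⟩
    have h := Z.is_maximal' (hp.to_sup_of_normal_right Z.isPGroup') le_sup_right
    exact h ▸ (le_sup_left : _ ≤ Subgroup.zpowers (-1 : Fˣ) ⊔ (Z : Subgroup Fˣ))
      (Subgroup.mem_zpowers _)
  set W := Subgroup.closure G.S
  set K := sub (full (n := N) S) W (fun σ _ _ hg => act_mem_full S σ hg) ⊓ (detTot (F := F)).ker
  have hcard : Nat.card K = 2 ^ (Nat.card (SpecialLinearGroup (Fin N) F)).factorization 2 := by
    have h := card_inf_ker (F := F) hN1 S W fun σ _ => by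
      rw [hD, pow_one]
      rcases Int.units_eq_one_or (Equiv.Perm.sign σ) with hs | hs <;> rw [hs]
      · rw [map_one]; exact one_mem _
      · convert hneg
        exact Units.ext (by simp)
    rw [card_closure_gens, Subgroup.card_map_of_injective hscal, hD, hZcard, ← pow_mul,
      ← pow_add] at h
    have hv := val_sl_add (F := F) N hN1
    rw [val_gl, Finset.sum_congr rfl fun k _ => val_pow Fintype.one_lt_card hq (Nat.succ_ne_zero k),
      Finset.sum_add_distrib, sum_val_succ, Finset.sum_const, Finset.card_range, smul_eq_mul,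
      val_pow_card (Nat.odd_iff.2 (by omega)), zero_add, mul_comm N] at hv
    refine Nat.eq_of_mul_eq_mul_right (pow_pos two_pos _) (h.trans ?_)
    rw [← pow_add]
    congr 1
    omega
  -- the elements exchanged by the permutations
  let pr : Fin N → Fin N → GL (Fin 1) F → (Fin N → GL (Fin 1) F) := fun a b z =>
    Pi.mulSingle a z * (Pi.mulSingle b z)⁻¹
  have hprK : ∀ a b z, z ∈ S → (SemidirectProduct.inl (pr a b z) : Wr F 1 N) ∈ K := by
    intro a b z hz
    have hm : ∀ c, (Pi.mulSingle c z : Fin N → GL (Fin 1) F) ∈ full S := fun c => by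
      refine (Subgroup.mem_pi Set.univ).2 fun i _ => ?_
      by_cases h : i = c
      · subst h; simpa using hz
      · simp [h, one_mem]
    refine ⟨⟨mul_mem (hm a) (inv_mem (hm b)), one_mem _⟩, ?_⟩
    show detTot _ = 1
    rw [detTot_eq]
    simp [pr, Finset.prod_mul_distrib, Pi.apply_mulSingle
      (fun _ : Fin N => (GeneralLinearGroup.det : GL (Fin 1) F → Fˣ)) (fun _ => map_one _)]
  have hfix : ∀ t : Equiv.Perm (Fin N), t * t = 1 → Equiv.Perm.sign t = -1 → ∃ i, t i = i := by
    intro t ht hs
    by_contra hne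
    push Not at hne
    have h := Equiv.Perm.sign_of_pow_two_eq_one (σ := t) (by rw [sq, ht])
    have h0 : Fintype.card (Function.fixedPoints t) = 0 :=
      Fintype.card_eq_zero_iff.2 ⟨fun i => hne i.1 i.2⟩
    rw [hs, h0, Fintype.card_fin, Nat.sub_zero,
      Even.neg_one_pow (show Even (N / 2) by obtain ⟨c, rfl⟩ := hN4; exact ⟨c, by omega⟩)] at h
    exact absurd h (by decide)
  have hlift : ∀ t ∈ G.S, ∃ δ : Fin N → GL (Fin 1) F,
      (⟨δ, t⟩ : Wr F 1 N) ∈ K ∧ (⟨δ, t⟩ : Wr F 1 N) * ⟨δ, t⟩ = 1 := by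
    intro t ht
    have htt : t * t = 1 := by rw [← sq, G.pow t ht]
    have htW : t ∈ W := Subgroup.subset_closure ht
    rcases Int.units_eq_one_or (Equiv.Perm.sign t) with hs | hs
    · refine ⟨1, ⟨⟨one_mem _, htW⟩, ?_⟩, ?_⟩
      · show detTot _ = 1
        rw [detTot_eq]
        simp [hs]
      · exact SemidirectProduct.ext (by simp [SemidirectProduct.mul_left])
          (by simp [SemidirectProduct.mul_right, htt])
    · obtain ⟨i, hi⟩ := hfix t htt hs
      refine ⟨Pi.mulSingle i (scal (-1)), ⟨⟨?_, htW⟩, ?_⟩, ?_⟩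
      · refine (Subgroup.mem_pi Set.univ).2 fun k _ => ?_
        by_cases h : k = i
        · subst h
          show (Pi.mulSingle k (scal (-1)) : Fin N → GL (Fin 1) F) k ∈ S
          rw [Pi.mulSingle_eq_same]
          exact Subgroup.mem_map_of_mem scal hneg
        · simp [h, one_mem]
      · show detTot _ = 1
        rw [detTot_eq]
        simp only [hs, pow_one, Pi.apply_mulSingle
          (fun _ : Fin N => (GeneralLinearGroup.det : GL (Fin 1) F → Fˣ)) (fun _ => map_one _),
          Finset.prod_pi_mulSingle', Finset.mem_univ, if_true, det_scal]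
        exact Units.ext (by simp)
      · refine SemidirectProduct.ext (funext fun k => ?_) (by simp [SemidirectProduct.mul_right, htt])
        rw [SemidirectProduct.mul_left, SemidirectProduct.one_left, Pi.mul_apply, act_apply,
          Pi.one_apply]
        have hsi : t.symm i = i := by rw [Equiv.symm_apply_eq, hi]
        show (Pi.mulSingle i (scal (-1)) : Fin N → GL (Fin 1) F) k
          * (Pi.mulSingle i (scal (-1)) : Fin N → GL (Fin 1) F) (t.symm k) = 1
        by_cases h : k = i
        · subst h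
          rw [hsi, Pi.mulSingle_eq_same, ← map_mul, neg_mul_neg, one_mul, map_one]
        · have h' : t.symm k ≠ i := fun e => h (by rw [← hi, ← e, Equiv.apply_symm_apply])
          simp [h, h']
  let R : Fin N → Fin N → Prop := fun a b =>
    ∀ z ∈ S, (SemidirectProduct.inl (pr a b z) : Wr F 1 N) ∈ sqIn K
  have hrefl : ∀ a, R a a := fun a z _ => by simp [pr, one_mem]
  have hsymm : ∀ a b, R a b → R b a := fun a b h z hz => by
    have := inv_mem (h z hz)
    rwa [← map_inv, show (pr a b z)⁻¹ = pr b a z by simp [pr, mul_comm]] at this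
  have htrans : ∀ a b c, R a b → R b c → R a c := fun a b c h h' z hz => by
    have := mul_mem (h z hz) (h' z hz)
    rwa [← map_mul, show pr a b z * pr b c z = pr a c z by simp [pr, mul_assoc]] at this
  have hedge : ∀ t ∈ G.S, ∀ a, R a (t a) := by
    intro t ht a z hz
    obtain ⟨δ, hδK, -⟩ := hlift t ht
    have htt : t * t = 1 := by rw [← sq, G.pow t ht]
    set y : Wr F 1 N := SemidirectProduct.inl (pr a (t a) z) with hy
    have hyK : y ∈ K := hprK a (t a) z hz
    refine mem_sqIn_of_comm hyK ?_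
    have hc := Subgroup.commutator_mem_commutator hyK hδK
    set v := pr a (t a) z with hv
    have htinv : ∀ k, t (t k) = k := fun k => by
      have := congrArg (fun w : Equiv.Perm (Fin N) => w k) htt
      simpa using this
    have hts : ∀ k, t.symm k = t k := fun k => by rw [Equiv.symm_apply_eq, htinv]
    have hflip : act t v⁻¹ = v := by
      funext k
      rw [act_apply, hts, hv]
      have h1 : t k = a ↔ k = t a := ⟨fun h => by rw [← h, htinv], fun h => by rw [h, htinv]⟩
      have h2 : t k = t a ↔ k = a := t.injective.eq_iff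
      simp only [pr, Pi.inv_apply, Pi.mul_apply, Pi.mulSingle_apply, h1, h2]
      split_ifs <;> simp
    have hd : (⟨δ, t⟩ : Wr F 1 N) = SemidirectProduct.inl δ * SemidirectProduct.inr t :=
      (SemidirectProduct.inl_left_mul_inr_right (⟨δ, t⟩ : Wr F 1 N)).symm
    have e : ⁅y, (⟨δ, t⟩ : Wr F 1 N)⁆ = y ^ 2 := by
      rw [commutatorElement_def, hd, _root_.mul_inv_rev, hy]
      calc _ = SemidirectProduct.inl v * (SemidirectProduct.inl δ
            * (SemidirectProduct.inr t * SemidirectProduct.inl v⁻¹ * SemidirectProduct.inr t⁻¹)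
            * (SemidirectProduct.inl δ)⁻¹) := by
            simp only [map_inv, mul_assoc]
        _ = SemidirectProduct.inl v * SemidirectProduct.inl (δ * v * δ⁻¹) := by
            rw [← SemidirectProduct.inl_aut, hflip]
            simp only [map_mul, map_inv]
        _ = SemidirectProduct.inl v ^ 2 := by
            rw [show δ * v * δ⁻¹ = v from funext fun k => by
              rw [Pi.mul_apply, Pi.mul_apply, Pi.inv_apply, gl1_comm (δ k), mul_inv_cancel_right],
              sq]
    rwa [e] at hc
  have hRW : ∀ w ∈ W, ∀ a, R a (w a) := fun w hw => by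
    refine Subgroup.closure_induction (p := fun w _ => ∀ a, R a (w a)) (fun t ht a => hedge t ht a)
      (fun a => by rw [Equiv.Perm.one_apply]; exact hrefl a)
      (fun u v _ _ hu hv a => by
        rw [Equiv.Perm.mul_apply]
        exact htrans a (v a) (u (v a)) (hv a) (hu (v a))) (fun u _ hu a => ?_) hw
    have := hu (u⁻¹ a)
    rw [← Equiv.Perm.mul_apply, mul_inv_cancel, Equiv.Perm.one_apply] at this
    exact hsymm _ _ this
  have htransW : ∀ a : Fin N, ∃ w ∈ W, w 0 = a := by
    have horb := MulAction.card_orbit_mul_card_stabilizer_eq_card_group W (0 : Fin N)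
    rw [← Nat.card_eq_fintype_card, ← Nat.card_eq_fintype_card, ← Nat.card_eq_fintype_card,
      card_closure_gens] at horb
    have hdvd : Nat.card (MulAction.stabilizer W (0 : Fin N)) ∣ (N - 1).factorial := by
      have h1 : Nat.card (MulAction.stabilizer (Equiv.Perm (Fin N)) (0 : Fin N))
          = (N - 1).factorial := by
        have h := MulAction.card_orbit_mul_card_stabilizer_eq_card_group (Equiv.Perm (Fin N))
          (0 : Fin N)
        simp only [← Nat.card_eq_fintype_card, MulAction.orbit_eq_univ, Nat.card_perm,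
          Nat.card_congr (Equiv.Set.univ (Fin N)), Nat.card_fin] at h
        rw [← Nat.mul_factorial_pred (show N ≠ 0 by omega)] at h
        exact Nat.eq_of_mul_eq_mul_left (by omega) h
      rw [← h1]
      exact Subgroup.card_dvd_of_injective
        ((W.subtype.comp (MulAction.stabilizer W (0 : Fin N)).subtype).codRestrict
          (MulAction.stabilizer (Equiv.Perm (Fin N)) (0 : Fin N)) fun g => g.2)
        fun g h e => Subtype.ext (Subtype.ext (congrArg
          (fun w : MulAction.stabilizer (Equiv.Perm (Fin N)) (0 : Fin N) => (w : Equiv.Perm (Fin N))) e))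
    obtain ⟨i, -, hi⟩ := (Nat.dvd_prime_pow Nat.prime_two).1 (horb ▸ Dvd.intro_left _ rfl)
    rw [hi] at hdvd horb
    have hib : i ≤ padicValNat 2 (N - 1).factorial :=
      (padicValNat_dvd_iff_le (Nat.factorial_ne_zero _)).1 hdvd
    have hNf : padicValNat 2 N.factorial = j + padicValNat 2 (N - 1).factorial := by
      rw [← Nat.mul_factorial_pred (show N ≠ 0 by omega),
        padicValNat.mul (by omega) (Nat.factorial_ne_zero _), hN, padicValNat.prime_pow]
    have hle : N ≤ Nat.card (MulAction.orbit W (0 : Fin N)) := by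
      by_contra hlt
      have h2 := Nat.mul_lt_mul_of_lt_of_le (not_le.1 hlt)
        (Nat.pow_le_pow_right two_pos hib) (pow_pos two_pos _)
      rw [horb, hNf, pow_add, hN] at h2
      exact lt_irrefl _ h2
    intro a
    have huniv : MulAction.orbit W (0 : Fin N) = Set.univ := by
      refine Set.eq_univ_of_forall fun b => ?_
      by_contra hb
      have hlt := Set.ncard_lt_card (α := Fin N) (s := MulAction.orbit W (0 : Fin N))
        (fun h => hb (h ▸ Set.mem_univ b))
      rw [Nat.card_coe_set_eq] at hle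
      rw [Nat.card_fin] at hlt
      omega
    obtain ⟨w, hw⟩ : a ∈ MulAction.orbit W (0 : Fin N) := huniv ▸ Set.mem_univ a
    exact ⟨w, w.2, hw⟩
  refine sq_mem_of_hom (toSL ((Equiv.prodComm _ _).trans (Equiv.prodUnique (Fin N) (Fin 1))) K
    inf_le_right) (toSL_injective le_rfl _ _ _) hcard (sqComm_eq_top_of fun y hy => ?_) P x
  have hWle : W ≤ ((sqIn K).map (SemidirectProduct.rightHom (φ := act))) :=
    (Subgroup.closure_le _).2 fun t ht => by
      obtain ⟨δ, hK, hsq⟩ := hlift t ht
      exact ⟨_, mem_sqIn_of_mul_self hK hsq, rfl⟩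
  obtain ⟨v, hv, hvr⟩ := hWle hy.1.2
  have hvK : v ∈ K := by
    obtain ⟨z, -, rfl⟩ := hv
    exact z.2
  set u := y * v⁻¹ with hu
  have huK : u ∈ K := mul_mem hy (inv_mem hvK)
  suffices h : u ∈ sqIn K by
    have := mul_mem h hv
    rwa [hu, inv_mul_cancel_right] at this
  have hur : u.right = 1 := by
    show SemidirectProduct.rightHom u = 1
    rw [map_mul, map_inv, hvr]
    exact mul_inv_cancel _
  rw [← SemidirectProduct.inl_left_mul_inr_right u, hur, map_one, mul_one]
  have huS : ∀ i, u.left i ∈ S := fun i => (Subgroup.mem_pi Set.univ).1 huK.1.1 i trivial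
  have hprod : ∏ i, u.left i = 1 := by
    refine hdetinj _ (Subgroup.prod_mem _ fun i _ => huS i) ?_
    have h : detTot u = 1 := huK.2
    rw [detTot_eq, hur] at h
    simpa [map_prod] using h
  have hdec : u.left = ∏ i, pr i 0 (u.left i) := by
    funext k
    simp only [pr, Finset.prod_apply, Pi.mul_apply, Pi.inv_apply, Finset.prod_mul_distrib,
      Finset.prod_inv_distrib]
    by_cases hk : k = 0
    · subst hk
      simp [Pi.mulSingle_apply, hprod]
    · simp [Pi.mulSingle_apply, hk]
  rw [hdec]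
  show (∏ i, pr i 0 (u.left i)) ∈ (sqIn K).comap (SemidirectProduct.inl (φ := act))
  refine Subgroup.prod_mem _ fun i _ => ?_
  obtain ⟨w, hw, hw0⟩ := htransW i
  exact hsymm _ _ (hw0 ▸ hRW w hw 0) _ (huS i)

end Monomial

end CfsgLib.Classical.LinearTwoSylow
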