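import Cfsg.Agent.Lib.Classical.SympSimple
import Cfsg.Agent.Lib.Classical.SympMatrix

/-!
# The symplectic group: perfectness, simplicity of `PSp`, primitivity on points
-/

set_option autoImplicit false
set_option linter.unusedSectionVars false

open scoped LinearAlgebra.Projectivization

namespace CfsgLib.Classical

variable {F : Type*} [Field F] (m : ℕ)

theorem sympBil_inl (i j : Fin m) :
    sympBil F m (Pi.single (Sum.inl i) 1) (Pi.single (Sum.inl j) 1) = 0 := by
  rw [sympBil_apply, sympForm_eq]
  exact Finset.sum_eq_zero fun k _ => by simp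

theorem sp_inl_indep {k : ℕ} (f : Fin k → Fin m) (hf : Function.Injective f) :
    LinearIndependent F fun i => (Pi.single (Sum.inl (f i)) (1 : F) : Fin m ⊕ Fin m → F) := by
  have h := (Pi.basisFun F (Fin m ⊕ Fin m)).linearIndependent.comp _ (Sum.inl_injective.comp hf)
  convert h using 1
  ext i
  simp

theorem sp_isom_perfect [Fintype F] (hm : m ≠ 0)
    (h : 3 ≤ m ∨ (m = 2 ∧ 3 ≤ Fintype.card F) ∨ 4 ≤ Fintype.card F) :
    commutator (isomGroup (sympBil F m)) = ⊤ := by
  classical
  have hA := sympBil_isAlt (F := F) m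
  have hN := sympBil_nondegenerate (F := F) m
  by_cases h4 : ∃ a : F, a ≠ 0 ∧ a ^ 2 ≠ 1
  · obtain ⟨a, ha, ha2⟩ := h4
    exact isom_perfect_of_four hA hN (u := Pi.single (Sum.inl ⟨0, by omega⟩) 1) (by simp) ha ha2
  push Not at h4
  have hsub : (Finset.univ : Finset F) ⊆ {0, 1, -1} := fun a _ => by
    rcases eq_or_ne a 0 with rfl | ha
    · simp
    · rcases sq_eq_one_iff.1 (h4 a ha) with rfl | rfl <;> simp
  have hc3 := (Finset.card_le_card hsub).trans Finset.card_le_three
  rw [Finset.card_univ] at hc3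
  by_cases h3 : 3 ≤ m
  · let f : Fin 3 → Fin m := fun i => ⟨i, lt_of_lt_of_le i.2 h3⟩
    have hf : Function.Injective f := fun i j hij => Fin.ext (by simpa [f] using hij)
    have hi := sp_inl_indep (F := F) m f hf
    refine isom_perfect_of_three hA hN (u := Pi.single (Sum.inl (f 0)) 1)
      (v := Pi.single (Sum.inl (f 1)) 1) (w := Pi.single (Sum.inl (f 2)) 1) ?_
      (sympBil_inl m _ _) (sympBil_inl m _ _) (sympBil_inl m _ _)
    have e : (fun i => (Pi.single (Sum.inl (f i)) (1 : F) : Fin m ⊕ Fin m → F)) =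
        ![Pi.single (Sum.inl (f 0)) 1, Pi.single (Sum.inl (f 1)) 1, Pi.single (Sum.inl (f 2)) 1] := by
      funext i
      fin_cases i <;> rfl
    rw [e] at hi
    exact hi
  · obtain ⟨hm2, hq⟩ : m = 2 ∧ 3 ≤ Fintype.card F := by omega
    have h2 : (2 : F) ≠ 0 := by
      intro h2
      have hneg : (-1 : F) = 1 := by linear_combination -h2
      have := (Finset.card_le_card hsub).trans_eq (by rw [hneg, Finset.pair_eq_singleton])
      rw [Finset.card_univ] at this
      have := this.trans Finset.card_le_two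
      omega
    let f : Fin 2 → Fin m := fun i => ⟨i, lt_of_lt_of_le i.2 hm2.ge⟩
    have hf : Function.Injective f := fun i j hij => Fin.ext (by simpa [f] using hij)
    have hi := sp_inl_indep (F := F) m f hf
    refine isom_perfect_of_two_ne_zero hA hN h2 (u := Pi.single (Sum.inl (f 0)) 1)
      (v := Pi.single (Sum.inl (f 1)) 1) ?_ (sympBil_inl m _ _)
    have e : (fun i => (Pi.single (Sum.inl (f i)) (1 : F) : Fin m ⊕ Fin m → F)) =
        ![Pi.single (Sum.inl (f 0)) 1, Pi.single (Sum.inl (f 1)) 1] := by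
      funext i
      fin_cases i <;> rfl
    rw [e] at hi
    exact hi

theorem sp_perfect [Fintype F] (h : 3 ≤ m ∨ (m = 2 ∧ 3 ≤ Fintype.card F) ∨ 4 ≤ Fintype.card F) :
    commutator (Matrix.symplecticGroup (Fin m) F) = ⊤ := by
  rcases eq_or_ne m 0 with rfl | hm
  · have : Subsingleton (Matrix.symplecticGroup (Fin 0) F) :=
      ⟨fun a b => Subtype.ext (Matrix.ext fun i => (i.elim Fin.elim0 Fin.elim0))⟩
    exact Subsingleton.elim _ _
  have hp := sp_isom_perfect m hm h
  have h2 := congrArg (Subgroup.map (spEquiv (F := F) m).symm.toMonoidHom) hp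
  rw [commutator_def, Subgroup.map_commutator,
    Subgroup.map_top_of_surjective _ (spEquiv (F := F) m).symm.surjective] at h2
  rwa [commutator_def]

theorem psp_isSimpleGroup [Fintype F] (hm : 2 ≤ m) (h : m = 2 → 3 ≤ Fintype.card F) :
    IsSimpleGroup (Cfsg.PSp m F) := by
  have h' : 3 ≤ m ∨ (m = 2 ∧ 3 ≤ Fintype.card F) ∨ 4 ≤ Fintype.card F := by
    rcases Nat.lt_or_ge m 3 with h3 | h3
    · exact Or.inr (Or.inl ⟨by omega, h (by omega)⟩)
    · exact Or.inl h3
  have hA := sympBil_isAlt (F := F) m
  have hN := sympBil_nondegenerate (F := F) m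
  have hp := sp_isom_perfect m (by omega) h'
  have : Nontrivial (isomGroup (sympBil F m)) := by
    let u : Fin m ⊕ Fin m → F := Pi.single (Sum.inl ⟨0, by omega⟩) 1
    have hu : u ≠ 0 := by simp [u]
    obtain ⟨v, hv⟩ := alt_exists_partner hN.1 hu
    refine ⟨⟨tv hA u 1, 1, fun he => hu ?_⟩⟩
    have := congrArg (fun g : isomGroup (sympBil F m) => g.1 v) he
    simp [alt_swap hA v u, hv] at this
    exact this
  have : Nontrivial (Matrix.symplecticGroup (Fin m) F) := (spEquiv (F := F) m).toEquiv.nontrivial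
  refine quotient_center_isSimpleGroup (sp_perfect m h') fun N hNn => ?_
  have : (N.map (spEquiv (F := F) m).toMonoidHom).Normal :=
    Subgroup.Normal.map hNn _ (spEquiv (F := F) m).surjective
  rcases isom_normal_le_center_or_top hA hN hp (N.map (spEquiv (F := F) m).toMonoidHom) with h1 | h1
  · left
    intro g hg
    refine Subgroup.mem_center_iff.2 fun k => (spEquiv (F := F) m).injective ?_
    rw [map_mul, map_mul]
    exact Subgroup.mem_center_iff.1 (h1 ⟨g, hg, rfl⟩) _
  · right
    rw [eq_top_iff]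
    intro g _
    obtain ⟨g', hg', he⟩ := (h1 ▸ Subgroup.mem_top (spEquiv m g) :
      spEquiv m g ∈ N.map (spEquiv (F := F) m).toMonoidHom)
    rwa [← (spEquiv (F := F) m).injective he]

theorem spGL_isPreprimitive :
    MulAction.IsPreprimitive (Cfsg.spGL m F) (ℙ F (Fin m ⊕ Fin m → F)) := by
  let φ : isomGroup (sympBil F m) → Cfsg.spGL m F := fun g => spGLEquiv m ((spEquiv m).symm g)
  have hφ : Function.Surjective φ :=
    (spGLEquiv (F := F) m).surjective.comp (spEquiv (F := F) m).symm.surjective
  let f : (ℙ F (Fin m ⊕ Fin m → F)) →ₑ[φ] (ℙ F (Fin m ⊕ Fin m → F)) :=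
    { toFun := id
      map_smul' := fun g p => by
        induction p using Projectivization.ind with | h v hv => ?_
        simp only [id_eq, isom_smul_mk, Subgroup.smul_def, Projectivization.smul_mk]
        congr 1
        obtain ⟨A, rfl⟩ := (spEquiv (F := F) m).surjective g
        simp only [φ, MulEquiv.symm_apply_apply]
        rw [LinearEquiv.smul_def, spEquiv_apply]
        rfl }
  exact (MulAction.isPreprimitive_congr (φ := φ) (f := f) hφ Function.bijective_id).1
    (isom_isPreprimitive (sympBil_isAlt m) (sympBil_nondegenerate m))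

end CfsgLib.Classical
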