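import Cfsg.Agent.Lib.Orth.Classify
import Mathlib.LinearAlgebra.BilinearForm.Orthogonal

/-!
# Singular vectors outside hyperplanes, and sets invariant under Siegel maps
-/

set_option autoImplicit false
set_option linter.unusedSectionVars false

open Module

namespace CfsgLib.Classical.SimMax

variable {F V : Type*} [Field F] [AddCommGroup V] [Module F V] [FiniteDimensional F V]
variable (Q : QuadraticForm F V)

local notation "B" => QuadraticMap.polarBilin Q

theorem polar_symm (x y : V) : B x y = B y x := QuadraticMap.polar_comm Q x y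

theorem polar_self' (x : V) : B x x = 2 * Q x := by
  rw [QuadraticMap.polarBilin_apply_apply, QuadraticMap.polar_self, nsmul_eq_mul]
  norm_num

theorem map_add_smul (a b : V) (t : F) : Q (a + t • b) = Q a + t * B a b + t * t * Q b := by
  rw [QuadraticMap.map_add Q a (t • b), QuadraticMap.map_smul, QuadraticMap.polar_smul_right,
    QuadraticMap.polarBilin_apply_apply, smul_eq_mul, smul_eq_mul]
  ring

theorem isRefl : LinearMap.BilinForm.IsRefl B := fun x y h => by rw [polar_symm]; exact h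

/-- The perpendicular space of a finite family. -/
def perp {k : ℕ} (w : Fin k → V) : Submodule F V := ⨅ i, LinearMap.ker (B (w i))

theorem mem_perp {k : ℕ} {w : Fin k → V} {x : V} : x ∈ perp Q w ↔ ∀ i, B (w i) x = 0 := by
  simp [perp]

theorem finrank_inf_ker (U : Submodule F V) (f : V →ₗ[F] F) :
    finrank F U ≤ finrank F ↥(U ⊓ LinearMap.ker f) + 1 := by
  have h := Submodule.finrank_sup_add_finrank_inf_eq U (LinearMap.ker f)
  have hk : finrank F V ≤ finrank F (LinearMap.ker f) + 1 := by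
    have h2 := f.finrank_range_add_finrank_ker
    have h3 : finrank F (LinearMap.range f) ≤ 1 := (Submodule.finrank_le _).trans (by simp)
    omega
  have h4 := Submodule.finrank_le (U ⊔ LinearMap.ker f)
  omega

theorem finrank_perp_ge {k : ℕ} (w : Fin k → V) : finrank F V ≤ finrank F (perp Q w) + k := by
  induction k with
  | zero =>
    have : perp Q w = ⊤ := by simp [perp]
    rw [this, finrank_top]; omega
  | succ k ih =>
    have e : perp Q w = perp Q (fun i : Fin k => w i.succ) ⊓ LinearMap.ker (B (w 0)) := by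
      ext x
      simp only [mem_perp, Submodule.mem_inf, LinearMap.mem_ker, Fin.forall_fin_succ]
      exact and_comm
    rw [e]
    have h1 := ih (fun i : Fin k => w i.succ)
    have h2 := finrank_inf_ker (perp Q (fun i : Fin k => w i.succ)) (B (w 0))
    omega

variable {Q} [Fintype F]

theorem exists_singular_of_three (h2 : (2 : F) ≠ 0) {U : Submodule F V} (hU : 3 ≤ finrank F U) :
    ∃ s ∈ U, s ≠ 0 ∧ Q s = 0 := by
  let Q' : QuadraticForm F U := Q.comp U.subtype
  by_cases hn : (QuadraticMap.polarBilin Q').Nondegenerate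
  · obtain ⟨v, hv0, hv⟩ := CfsgLib.Orth.exists_singular (Q := Q') hn hU
    exact ⟨v, v.2, fun e => hv0 (Subtype.ext e), hv⟩
  · obtain ⟨r, hr, hr0⟩ : ∃ r : U, (∀ x, QuadraticMap.polarBilin Q' r x = 0) ∧ r ≠ 0 := by
      by_contra hc
      push Not at hc
      exact hn ⟨fun x hx => hc x hx, fun y hy => hc y fun x => (QuadraticMap.polar_comm Q' y x).trans (hy x)⟩
    refine ⟨r, r.2, fun e => hr0 (Subtype.ext e), ?_⟩
    have e : B (r : V) (r : V) = 0 := by
      rw [← hr r]
      simp [Q', QuadraticMap.polarBilin_apply_apply, QuadraticMap.polar]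
    rw [polar_self'] at e
    exact (mul_eq_zero.1 e).resolve_left h2

variable (hQ : (QuadraticMap.polarBilin Q).Nondegenerate)
include hQ

/-- A subspace which is not too degenerate contains a hyperbolic pair. -/
theorem exists_outside_rad (h2 : (2 : F) ≠ 0) {U : Submodule F V}
    (hrad : finrank F ↥(U ⊓ LinearMap.BilinForm.orthogonal B U) + 3 ≤ finrank F U) :
    ∃ e ∈ U, ∃ g ∈ U, Q e = 0 ∧ Q g = 0 ∧ B e g = 1 := by
  set R := U ⊓ LinearMap.BilinForm.orthogonal B U
  obtain ⟨C, hC⟩ := Submodule.exists_isCompl (R.comap U.subtype)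
  have hC3 : 3 ≤ finrank F (C.map U.subtype) := by
    rw [(Submodule.equivMapOfInjective U.subtype U.injective_subtype C).finrank_eq.symm]
    have h1 := Submodule.finrank_add_eq_of_isCompl hC
    have h3 : finrank F (R.comap U.subtype) ≤ finrank F R := by
      rw [(Submodule.equivMapOfInjective U.subtype U.injective_subtype (R.comap U.subtype)).finrank_eq]
      exact Submodule.finrank_mono (Submodule.map_comap_le _ _)
    omega
  obtain ⟨e, he, he0, heQ⟩ := exists_singular_of_three (Q := Q) h2 hC3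
  obtain ⟨⟨e, heU⟩, heC, rfl⟩ := he
  change e ≠ 0 at he0
  change Q e = 0 at heQ
  obtain ⟨w, hw, hew⟩ : ∃ w ∈ U, B e w ≠ 0 := by
    by_contra hc
    push Not at hc
    exact he0 (congrArg Subtype.val ((Submodule.disjoint_def.1 hC.disjoint) ⟨e, heU⟩
      (Submodule.mem_comap.2 ⟨heU, fun x hx => (polar_symm Q x e).trans (hc x hx)⟩) heC))
  set w₁ := (B e w)⁻¹ • w
  have hw₁ : B e w₁ = 1 := by simp only [w₁, map_smul, smul_eq_mul, inv_mul_cancel₀ hew]
  refine ⟨e, heU, w₁ + (-Q w₁) • e, U.add_mem (U.smul_mem _ hw) (U.smul_mem _ heU), heQ, ?_, ?_⟩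
  · rw [map_add_smul, heQ, polar_symm Q w₁ e, hw₁]; ring
  · rw [map_add, hw₁, map_smul, polar_self', heQ, mul_zero, smul_zero, add_zero]

/-- In a subspace which is not too degenerate the singular vectors are not confined to a hyperplane. -/
theorem exists_singular_outside' (h2 : (2 : F) ≠ 0) {U : Submodule F V}
    (hrad : finrank F ↥(U ⊓ LinearMap.BilinForm.orthogonal B U) + 3 ≤ finrank F U) {f : V →ₗ[F] F}
    (hf : ∃ z ∈ U, f z ≠ 0) : ∃ z ∈ U, Q z = 0 ∧ f z ≠ 0 := by
  obtain ⟨e, he, g, hg, heQ, hgQ, heg⟩ := exists_outside_rad hQ h2 hrad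
  by_contra hc
  push Not at hc
  obtain ⟨z₀, hz₀, hfz⟩ := hf
  apply hfz
  set z := z₀ - B g z₀ • e - B e z₀ • g with hz
  have hzU : z ∈ U := U.sub_mem (U.sub_mem hz₀ (U.smul_mem _ he)) (U.smul_mem _ hg)
  have hze : B z e = 0 := by
    rw [polar_symm, hz, map_sub, map_sub, map_smul, map_smul, polar_self', heQ, heg]
    simp
  have hzg : B z g = 0 := by
    rw [polar_symm, hz, map_sub, map_sub, map_smul, map_smul, polar_self', hgQ, polar_symm Q g e, heg]
    simp
  have hs0 : Q (z + (1 : F) • e + (-Q z) • g) = 0 := by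
    rw [map_add_smul, map_add_smul, heQ, hgQ, map_add, LinearMap.add_apply, map_smul, LinearMap.smul_apply, hzg, hze,
      heg, smul_eq_mul]
    ring
  have h := hc _ (U.add_mem (U.add_mem hzU (U.smul_mem _ he)) (U.smul_mem _ hg)) hs0
  have e1 := hc e he heQ
  have e2 := hc g hg hgQ
  rw [map_add, map_add, map_smul, map_smul, e1, e2, smul_zero, smul_zero, add_zero, add_zero, hz, map_sub, map_sub,
    map_smul, map_smul, e1, e2, smul_zero, smul_zero, sub_zero, sub_zero] at h
  exact h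

/-- In a large subspace the singular vectors are not confined to a hyperplane. -/
theorem exists_singular_outside (h2 : (2 : F) ≠ 0) {U : Submodule F V}
    (hdim : finrank F V + 3 ≤ 2 * finrank F U) {f : V →ₗ[F] F} (hf : ∃ z ∈ U, f z ≠ 0) :
    ∃ z ∈ U, Q z = 0 ∧ f z ≠ 0 := by
  refine exists_singular_outside' hQ h2 ?_ hf
  have h1 := Submodule.finrank_mono (inf_le_right : U ⊓ LinearMap.BilinForm.orthogonal B U ≤ _)
  rw [LinearMap.BilinForm.finrank_orthogonal hQ] at h1
  have := Submodule.finrank_le U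
  omega

/-- The singular vectors span large subspaces. -/
theorem le_of_singular_mem (h2 : (2 : F) ≠ 0) {U : Submodule F V} (hdim : finrank F V + 3 ≤ 2 * finrank F U)
    {W : Submodule F V} (h : ∀ z ∈ U, Q z = 0 → z ∈ W) : U ≤ W := by
  intro x hx
  by_contra hxW
  obtain ⟨f, hfx, hfW⟩ := Submodule.exists_dual_map_eq_bot_of_notMem hxW inferInstance
  obtain ⟨z, hz, hzQ, hfz⟩ := exists_singular_outside hQ h2 hdim (f := f) ⟨x, hx, hfx⟩
  refine hfz ?_
  have : f z ∈ W.map f := ⟨z, h z hz hzQ, rfl⟩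
  rwa [hfW, Submodule.mem_bot] at this

/-- The singular vectors span subspaces which are not too degenerate. -/
theorem le_of_singular_mem' (h2 : (2 : F) ≠ 0) {U : Submodule F V}
    (hrad : finrank F ↥(U ⊓ LinearMap.BilinForm.orthogonal B U) + 3 ≤ finrank F U)
    {W : Submodule F V} (h : ∀ z ∈ U, Q z = 0 → z ∈ W) : U ≤ W := by
  intro x hx
  by_contra hxW
  obtain ⟨f, hfx, hfW⟩ := Submodule.exists_dual_map_eq_bot_of_notMem hxW inferInstance
  obtain ⟨z, hz, hzQ, hfz⟩ := exists_singular_outside' hQ h2 hrad (f := f) ⟨x, hx, hfx⟩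
  refine hfz ?_
  have : f z ∈ W.map f := ⟨z, h z hz hzQ, rfl⟩
  rwa [hfW, Submodule.mem_bot] at this

/-- An additive set invariant under the Siegel maps of a subspace contains all of it. -/
theorem le_of_siegel_invariant (h2 : (2 : F) ≠ 0) {U : Submodule F V}
    (hU : ∀ x ∈ U, (∀ y ∈ U, B x y = 0) → x = 0) (h5 : 5 ≤ finrank F U)
    (Φ : AddSubgroup V)
    (hΦ : ∀ d ∈ U, ∀ u ∈ U, Q d = 0 → Q u = 0 → B d u = 0 → ∀ x ∈ Φ, B d x • u - B u x • d ∈ Φ)
    {x₀ : V} (hx₀U : x₀ ∈ U) (hx₀ : x₀ ∈ Φ) (h0 : x₀ ≠ 0) : ∀ x ∈ U, x ∈ Φ := by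
  classical
  -- intersections with at most three perpendicular hyperplanes stay large
  have hbig : ∀ {k : ℕ} (w : Fin k → V), k ≤ 3 → finrank F U ≤ finrank F ↥(U ⊓ perp Q w) + k := by
    intro k w hk
    have h := Submodule.finrank_sup_add_finrank_inf_eq U (perp Q w)
    have := finrank_perp_ge Q w
    have := Submodule.finrank_le (U ⊔ perp Q w)
    omega
  have hdim' : finrank F ↥(U ⊓ LinearMap.BilinForm.orthogonal B U) + 3 ≤ finrank F U := by
    have : U ⊓ LinearMap.BilinForm.orthogonal B U = ⊥ :=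
      (Submodule.eq_bot_iff _).2 fun x hx => hU x hx.1 fun y hy => (polar_symm Q x y).trans (hx.2 y hy)
    rw [this, finrank_bot]; omega
  have hradperp : ∀ w ∈ U, w ≠ 0 →
      finrank F ↥((U ⊓ perp Q ![w]) ⊓ LinearMap.BilinForm.orthogonal B (U ⊓ perp Q ![w])) + 3 ≤
        finrank F ↥(U ⊓ perp Q ![w]) := by
    intro w hwU hw0
    have hle : (U ⊓ perp Q ![w]) ⊓ LinearMap.BilinForm.orthogonal B (U ⊓ perp Q ![w]) ≤ Submodule.span F {w} := by
      intro r hr
      obtain ⟨y, hy, hwy⟩ : ∃ y ∈ U, B w y ≠ 0 := by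
        by_contra hc; push Not at hc; exact hw0 (hU w hwU hc)
      refine Submodule.mem_span_singleton.2 ⟨B r y / B w y,
        (sub_eq_zero.1 (hU _ (U.sub_mem hr.1.1 (U.smul_mem _ hwU)) fun z hz => ?_)).symm⟩
      have h := hr.2 (z - (B w z / B w y) • y) ⟨U.sub_mem hz (U.smul_mem _ hy), (mem_perp Q).2 fun i => by
        fin_cases i
        show B w (z - (B w z / B w y) • y) = 0
        rw [map_sub, map_smul, smul_eq_mul, div_mul_cancel₀ _ hwy, sub_self]⟩
      change B (z - (B w z / B w y) • y) r = 0 at h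
      rw [map_sub, map_smul, LinearMap.sub_apply, LinearMap.smul_apply, polar_symm Q z r, polar_symm Q y r,
        smul_eq_mul, sub_eq_zero] at h
      rw [map_sub, map_smul, LinearMap.sub_apply, LinearMap.smul_apply, smul_eq_mul, h]
      field_simp
      ring
    have h1 := (Submodule.finrank_mono hle).trans_eq (finrank_span_singleton hw0)
    have h3 := Submodule.finrank_sup_add_finrank_inf_eq U (perp Q ![w])
    have := finrank_perp_ge Q ![w]
    have := Submodule.finrank_le (U ⊔ perp Q ![w])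
    omega
  have hUV := Submodule.finrank_le U
  have hwit : ∀ x ∈ U, x ≠ 0 → ∃ d ∈ U, Q d = 0 ∧ B x d ≠ 0 := fun x hx hx0 => by
    obtain ⟨y, hy, hxy⟩ : ∃ y ∈ U, B x y ≠ 0 := by
      by_contra hc; push Not at hc; exact hx0 (hU x hx hc)
    obtain ⟨d, hd, hdQ, hdx⟩ := exists_singular_outside' hQ h2 hdim' (f := B x) ⟨y, hy, hxy⟩
    exact ⟨d, hd, hdQ, hdx⟩
  -- all multiples of singular vectors orthogonal to `x` and such a `d`
  have step : ∀ x ∈ Φ, ∀ d ∈ U, Q d = 0 → B x d ≠ 0 → ∀ u ∈ U, Q u = 0 → B d u = 0 → B x u = 0 → u ∈ Φ := by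
    intro x hx d hd hdQ hxd u hu huQ hdu hxu
    have h := hΦ d hd ((B x d)⁻¹ • u) (U.smul_mem _ hu) hdQ
      (by rw [QuadraticMap.map_smul, huQ, smul_zero]) (by rw [map_smul, hdu, smul_zero]) x hx
    rw [polar_symm Q d x, map_smul, LinearMap.smul_apply, polar_symm Q u x, hxu, smul_zero, zero_smul,
      sub_zero, smul_smul, mul_inv_cancel₀ hxd, one_smul] at h
    exact h
  -- a singular vector in the set
  obtain ⟨d₀, hd₀, hd₀Q, hxd₀⟩ := hwit x₀ hx₀U h0
  obtain ⟨u₀, hu₀, hu₀0, hu₀Q⟩ := exists_singular_of_three (Q := Q) h2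
    (U := U ⊓ perp Q ![x₀, d₀]) (by have := hbig ![x₀, d₀] (by norm_num); omega)
  simp only [Submodule.mem_inf, mem_perp, Fin.forall_fin_two] at hu₀
  have hu₀Φ : u₀ ∈ Φ := step x₀ hx₀ d₀ hd₀ hd₀Q hxd₀ u₀ hu₀.1 hu₀Q hu₀.2.2 hu₀.2.1
  -- a singular vector orthogonal to a member of the set
  have perpStep : ∀ u ∈ U, u ∈ Φ → Q u = 0 → u ≠ 0 → ∀ w ∈ U, Q w = 0 → B u w = 0 →
      (∀ c : F, w ≠ c • u) → w ∈ Φ := by
    intro u hu huΦ huQ hu0 w hw hwQ huw hne
    obtain ⟨y, hy, hwy, huy⟩ : ∃ y ∈ U, B w y = 0 ∧ B u y ≠ 0 := by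
      by_contra hc
      push Not at hc
      by_cases hw0 : w = 0
      · exact hne 0 (by rw [hw0, zero_smul])
      obtain ⟨e, he, hwe⟩ : ∃ e ∈ U, B w e ≠ 0 := by
        by_contra hc'; push Not at hc'; exact hw0 (hU w hw hc')
      have hue : B u e ≠ 0 := by
        intro h0'
        refine hu0 (hU u hu fun z hz => ?_)
        have := hc (z - (B w z / B w e) • e) (U.sub_mem hz (U.smul_mem _ he))
          (by rw [map_sub, map_smul, smul_eq_mul, div_mul_cancel₀ _ hwe, sub_self])
        rw [map_sub, map_smul, h0', smul_zero, sub_zero] at this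
        exact this
      refine hne (B w e / B u e) ?_
      refine sub_eq_zero.1 (hU _ (U.sub_mem hw (U.smul_mem _ hu)) fun z hz => ?_)
      have := hc (z - (B w z / B w e) • e) (U.sub_mem hz (U.smul_mem _ he))
        (by rw [map_sub, map_smul, smul_eq_mul, div_mul_cancel₀ _ hwe, sub_self])
      rw [map_sub, map_smul, smul_eq_mul, sub_eq_zero] at this
      rw [map_sub, map_smul, LinearMap.sub_apply, LinearMap.smul_apply, smul_eq_mul, this]
      field_simp
      ring
    obtain ⟨d, hd, hdQ, hud⟩ := exists_singular_outside' hQ h2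
      (U := U ⊓ perp Q ![w]) (hradperp w hw fun e => hne 0 (by rw [e, zero_smul])) (f := B u)
      ⟨y, Submodule.mem_inf.2 ⟨hy, (mem_perp Q).2 fun i => by fin_cases i; simpa using hwy⟩, huy⟩
    simp only [Submodule.mem_inf, mem_perp] at hd
    exact step u huΦ d hd.1 hdQ hud w hw hwQ ((polar_symm Q d w).trans (hd.2 0)) huw
  have hall : ∀ w ∈ U, Q w = 0 → w ∈ Φ := by
    intro w hw hwQ
    by_cases hw0 : w = 0
    · rw [hw0]; exact Φ.zero_mem
    by_cases h0w : B u₀ w = 0
    · by_cases hcu : ∀ c : F, w ≠ c • u₀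
      · exact perpStep u₀ hu₀.1 hu₀Φ hu₀Q hu₀0 w hw hwQ h0w hcu
      push Not at hcu
      obtain ⟨c, rfl⟩ := hcu
      have hc0 : c ≠ 0 := fun e => hw0 (by rw [e, zero_smul])
      obtain ⟨y₁, hy₁, hy₁n⟩ : ∃ y ∈ U ⊓ perp Q ![u₀], y ∉ Submodule.span F {u₀} := by
        by_contra! hle
        have h1 := (Submodule.finrank_mono (s := U ⊓ perp Q ![u₀]) hle).trans_eq (finrank_span_singleton hu₀0)
        have := hbig ![u₀] (by norm_num)
        omega
      obtain ⟨f, hfy, hfu⟩ := Submodule.exists_dual_map_eq_bot_of_notMem hy₁n inferInstance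
      obtain ⟨v, hv, hvQ, hfv⟩ := exists_singular_outside' hQ h2 (hradperp u₀ hu₀.1 hu₀0) (f := f) ⟨y₁, hy₁, hfy⟩
      have hv2 : B u₀ v = 0 := (mem_perp Q).1 hv.2 0
      have hfu₀ : f u₀ = 0 := (Submodule.mem_bot F).1
        (hfu ▸ Submodule.mem_map_of_mem (Submodule.mem_span_singleton_self u₀))
      have hvn : ∀ t : F, v ≠ t • u₀ := fun t e => hfv (by rw [e, map_smul, hfu₀, smul_zero])
      have hv0 : v ≠ 0 := fun e => hfv (by rw [e, map_zero])
      have hvΦ := perpStep u₀ hu₀.1 hu₀Φ hu₀Q hu₀0 v hv.1 hvQ hv2 hvn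
      refine perpStep v hv.1 hvΦ hvQ hv0 _ hw hwQ (by rw [map_smul, polar_symm Q v u₀, hv2, smul_zero]) fun t e => ?_
      rcases eq_or_ne t 0 with rfl | ht
      · rw [zero_smul] at e; exact hw0 e
      · exact hvn (t⁻¹ * c) (by rw [mul_smul, e, inv_smul_smul₀ ht])
    obtain ⟨v, hv, hv0, hvQ⟩ := exists_singular_of_three (Q := Q) h2
      (U := U ⊓ perp Q ![u₀, w]) (by have := hbig ![u₀, w] (by norm_num); omega)
    simp only [Submodule.mem_inf, mem_perp, Fin.forall_fin_two] at hv
    have hv1 : B u₀ v = 0 := hv.2.1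
    have hv2 : B w v = 0 := hv.2.2
    have hvΦ : v ∈ Φ := perpStep u₀ hu₀.1 hu₀Φ hu₀Q hu₀0 v hv.1 hvQ hv1 fun c e => by
      rcases eq_or_ne c 0 with rfl | hc
      · exact hv0 (by rw [e, zero_smul])
      · rw [e, map_smul, polar_symm Q w u₀, smul_eq_mul] at hv2
        exact mul_ne_zero hc h0w hv2
    refine perpStep v hv.1 hvΦ hvQ hv0 w hw hwQ ((polar_symm Q v w).trans hv2) fun c e => h0w ?_
    rw [e, map_smul, hv1, smul_zero]
  -- scalar multiples of singular vectors are singular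
  let W : Submodule F V :=
    { carrier := {x | ∀ c : F, c • x ∈ Φ}
      add_mem' := fun {a b} ha hb c => by rw [smul_add]; exact Φ.add_mem (ha c) (hb c)
      zero_mem' := fun c => by rw [smul_zero]; exact Φ.zero_mem
      smul_mem' := fun t x hx c => by rw [smul_smul]; exact hx _ }
  intro x hx
  have := le_of_singular_mem' hQ h2 hdim' (W := W)
    (fun z hz hzQ c => hall _ (U.smul_mem c hz) (by rw [QuadraticMap.map_smul, hzQ, smul_zero])) hx 1
  rwa [one_smul] at this

end CfsgLib.Classical.SimMax
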