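import Cfsg.Agent.Lib.Classical.TensorCore
import Cfsg.Agent.Lib.Classical.SubfieldOrth.QuadMax

/-!
# `Sp(2, 2) ⊗ Sp(n₂, 2)` lies in a unitary group over four elements
-/

set_option autoImplicit false
set_option linter.unusedSectionVars false
set_option backward.isDefEq.respectTransparency false

open Module QuadraticMap CfsgLib.Orth Matrix
open scoped Kronecker

namespace CfsgLib.Classical.TensorNonMax

variable {F : Type*} [Field F] {ι : Type} [Fintype ι] [DecidableEq ι] {n₁ n₂ : ℕ}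
  (e : ι ≃ Fin n₁ × Fin n₂) (P : GL ι F)

/-- The matrix of `a ⊗ 1` in the tensor coordinates. -/
def leftOp (a : Matrix (Fin n₁) (Fin n₁) F) : Matrix ι ι F :=
  (P : Matrix ι ι F) * Matrix.reindex e.symm e.symm (a ⊗ₖ (1 : Matrix (Fin n₂) (Fin n₂) F)) *
    ((P⁻¹ : GL ι F) : Matrix ι ι F)

theorem leftOp_tmap (a : Matrix (Fin n₁) (Fin n₁) F) (u : Fin n₁ → F) (w : Fin n₂ → F) :
    leftOp e P a *ᵥ tmap e P u w = tmap e P (a *ᵥ u) w := by
  rw [leftOp, tmap_apply, tmap_apply, Matrix.mulVec_mulVec, Matrix.mul_assoc, ← Units.val_mul P⁻¹, inv_mul_cancel,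
    Units.val_one, Matrix.mul_one, ← Matrix.mulVec_mulVec]
  congr 1
  funext i
  rw [Matrix.reindex_apply]
  simp only [Matrix.mulVec, dotProduct, Matrix.submatrix_apply, Equiv.symm_symm, Function.comp_apply,
    Matrix.kroneckerMap_apply]
  rw [← e.symm.sum_comp, Fintype.sum_prod_type, Finset.sum_mul]
  refine Finset.sum_congr rfl fun p _ => ?_
  simp only [Equiv.apply_symm_apply, Matrix.one_apply]
  simp [mul_assoc, Finset.sum_ite_eq]

theorem ext_tmap {M N : Matrix ι ι F} (h : ∀ u w, M *ᵥ tmap e P u w = N *ᵥ tmap e P u w) : M = N := by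
  have h1 : M * (P : Matrix ι ι F) = N * (P : Matrix ι ι F) := by
    refine Matrix.ext_of_mulVec_single fun i => ?_
    have := h (Pi.single (e i).1 1) (Pi.single (e i).2 1)
    rw [tmap_apply, Matrix.mulVec_mulVec, Matrix.mulVec_mulVec] at this
    rwa [show ((fun p : Fin n₁ × Fin n₂ => (Pi.single (e i).1 1 : Fin n₁ → F) p.1 *
        (Pi.single (e i).2 1 : Fin n₂ → F) p.2) ∘ e) = Pi.single i 1 from funext fun j => by
      by_cases hj : j = i
      · subst hj; simp
      · have : e j ≠ e i := fun he => hj (e.injective he)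
        simp only [Function.comp_apply, Pi.single_eq_of_ne hj]
        rcases (not_and_or.1 fun h2 : (e j).1 = (e i).1 ∧ (e j).2 = (e i).2 => this (Prod.ext h2.1 h2.2)) with h2 | h2
        · simp [Pi.single_eq_of_ne h2]
        · simp [Pi.single_eq_of_ne h2]] at this
  have h2 := congrArg (· * ((P⁻¹ : GL ι F) : Matrix ι ι F)) h1
  simpa [Matrix.mul_assoc, ← Units.val_mul] using h2

/-- The stabiliser of the pair `J`, `J + 1`. -/
def pairStab (J : Matrix ι ι F) (h2 : (2 : F) = 0) : Subgroup (GL ι F) where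
  carrier := {g | (g : Matrix ι ι F) * J = J * g ∨ (g : Matrix ι ι F) * J = (J + 1) * g}
  one_mem' := Or.inl (by simp)
  mul_mem' := fun {g h} hg hh => by
    have two : ∀ M : Matrix ι ι F, M + M = 0 := fun M => by rw [← two_smul F, h2, zero_smul]
    simp only [Set.mem_setOf_eq, Units.val_mul] at hg hh ⊢
    rcases hg with hg | hg <;> rcases hh with hh | hh
    · left; rw [mul_assoc, hh, ← mul_assoc, hg, mul_assoc]
    · right; rw [mul_assoc, hh, ← mul_assoc, mul_add, mul_one, hg, add_mul, add_mul, one_mul, mul_assoc]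
    · right; rw [mul_assoc, hh, ← mul_assoc, hg, mul_assoc]
    · left
      rw [mul_assoc, hh, ← mul_assoc, mul_add, mul_one, hg, add_mul J 1 (g : Matrix ι ι F), one_mul, add_assoc,
        two, add_zero, mul_assoc]
  inv_mem' := fun {g} hg => by
    have two : ∀ M : Matrix ι ι F, M + M = 0 := fun M => by rw [← two_smul F, h2, zero_smul]
    simp only [Set.mem_setOf_eq] at hg ⊢
    rcases hg with hg | hg
    · left
      calc ((g⁻¹ : GL ι F) : Matrix ι ι F) * J = (g⁻¹ : GL ι F) * (J * g) * (g⁻¹ : GL ι F) := by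
            simp [mul_assoc]
        _ = _ := by rw [← hg]; simp [← mul_assoc]
    · right
      have e : ((g : Matrix ι ι F) * (J + 1)) = J * g := by
        rw [mul_add, hg, mul_one, add_mul, one_mul, add_assoc, two, add_zero]
      calc ((g⁻¹ : GL ι F) : Matrix ι ι F) * J = (g⁻¹ : GL ι F) * (J * g) * (g⁻¹ : GL ι F) := by
            simp [mul_assoc]
        _ = _ := by rw [← e]; simp [← mul_assoc]

theorem two_cases [Fintype F] (hq : Fintype.card F = 2) (x : F) : (x = 0 ∨ x = 1) ∧ (2 : F) = 0 := by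
  classical
  refine ⟨?_, ?_⟩
  · by_contra hx
    push Not at hx
    have h : ({0, 1, x} : Finset F).card = 3 := by
      rw [Finset.card_insert_of_notMem (by simp [Ne.symm hx.1]), Finset.card_insert_of_notMem (by simp [Ne.symm hx.2]),
        Finset.card_singleton]
    have := Finset.card_le_univ ({0, 1, x} : Finset F)
    omega
  · have := Nat.cast_card_eq_zero F
    rwa [hq] at this

theorem omega_normal [Fintype F] (hq : Fintype.card F = 2) (a : GL (Fin 2) F) :
    (a : Matrix (Fin 2) (Fin 2) F) * !![0, 1; 1, 1] = !![(0 : F), 1; 1, 1] * (a : Matrix (Fin 2) (Fin 2) F) ∨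
      (a : Matrix (Fin 2) (Fin 2) F) * !![0, 1; 1, 1] = (!![(0 : F), 1; 1, 1] + 1) * (a : Matrix (Fin 2) (Fin 2) F) := by
  have hdet : (a : Matrix (Fin 2) (Fin 2) F).det ≠ 0 := by
    rw [← GeneralLinearGroup.val_det_apply]; exact Units.ne_zero _
  rw [Matrix.det_fin_two] at hdet
  have h2 := (two_cases hq (0 : F)).2
  have h11 : (1 : F) + 1 = 0 := by rw [← h2]; norm_num
  rcases (two_cases hq (a.1 0 0)).1 with e0 | e0 <;> rcases (two_cases hq (a.1 0 1)).1 with e1 | e1 <;>
    rcases (two_cases hq (a.1 1 0)).1 with e2 | e2 <;> rcases (two_cases hq (a.1 1 1)).1 with e3 | e3 <;>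
      rw [e0, e1, e2, e3] at hdet <;>
      first
        | (exfalso; apply hdet; linear_combination (0 : F) * h2; done)
        | (left; ext i j; fin_cases i <;> fin_cases j <;> simp [Matrix.mul_apply, e0, e1, e2, e3, h11]; done)
        | (right; ext i j; fin_cases i <;> fin_cases j <;> simp [Matrix.mul_apply, e0, e1, e2, e3, h11]; done)

theorem exists_dual_pair [Fintype F] (hq : Fintype.card F = 2) {n : ℕ} {g : (Fin n → F) → (Fin n → F) → F}
    (hg : Cfsg.Geo.IsSymplecticForm g) {a b : Fin n → F} (ha : a ≠ 0) (hb : b ≠ 0) (hab : a ≠ b) :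
    (∃ w, g a w = 1 ∧ g b w = 0) ∧ ∃ w, g a w = 1 ∧ g b w = 1 := by
  have h2 := (two_cases hq (0 : F)).2
  have hne : a + b ≠ 0 := fun h => hab (by
    rw [eq_neg_of_add_eq_zero_left h, ← neg_one_smul F b, show (-1 : F) = 1 by linear_combination -h2, one_smul])
  have one : ∀ c : Fin n → F, c ≠ 0 → ∃ w, g c w = 1 := fun c hc => by
    obtain ⟨w, hw⟩ := (hg.nondegenerate c hc).2
    exact ⟨w, (two_cases hq _).1.resolve_left hw⟩
  obtain ⟨p, hp⟩ := one a ha
  obtain ⟨y, hy⟩ := one b hb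
  obtain ⟨z, hz⟩ := one _ hne
  rw [hg.bilinear.add_left] at hz
  rcases (two_cases hq (g b p)).1 with hbp | hbp
  · refine ⟨⟨p, hp, hbp⟩, ?_⟩
    rcases (two_cases hq (g a y)).1 with hay | hay
    · exact ⟨p + y, by rw [hg.bilinear.add_right, hp, hay, add_zero], by rw [hg.bilinear.add_right, hbp, hy, zero_add]⟩
    · exact ⟨y, hay, hy⟩
  · refine ⟨?_, p, hp, hbp⟩
    rcases (two_cases hq (g a z)).1 with haz | haz
    · exact ⟨p + z, by rw [hg.bilinear.add_right, hp, haz, add_zero], by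
        rw [hg.bilinear.add_right, hbp]; linear_combination hz - haz + h2 - h2 + (h2 : (2 : F) = 0)⟩
    · exact ⟨z, haz, by linear_combination hz - haz⟩

theorem orth_two_nonmax [Fintype F] {Qf : (ι → F) → F} (Q : QuadraticForm F (ι → F)) (hQf : ∀ v, Qf v = Q v)
    (hQ : (QuadraticMap.polarBilin Q).Nondegenerate) (h4 : Good F (ι → F)) (hn : 5 ≤ Fintype.card ι)
    (hq : Fintype.card F = 2) {n₂ : ℕ} (h2n : 2 < n₂) (e : ι ≃ Fin 2 × Fin n₂) (P : GL ι F)
    {f₁ : (Fin 2 → F) → (Fin 2 → F) → F} {f₂ : (Fin n₂ → F) → (Fin n₂ → F) → F}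
    (hf₁ : Cfsg.Geo.IsSymplecticForm f₁) (hf₂ : Cfsg.Geo.IsSymplecticForm f₂)
    (hT : Cfsg.Geo.IsTensorFormStructure id (QuadraticMap.polar Qf) f₁ f₂ e P)
    (hpure : ∀ u w, Qf (tmap e P u w) = 0) :
    ∃ K : Subgroup (GL ι F), Cfsg.Geo.tensorProductSubgroup 2 n₂ e P ⊓ Cfsg.Geo.omegaGL Qf < K ∧
      K < Cfsg.Geo.omegaGL Qf := by
  classical
  obtain rfl : Qf = ⇑Q := funext hQf
  obtain ⟨-, htwo⟩ := two_cases hq (0 : F)
  obtain ⟨c, hc, hf⟩ := tmap_form e P (σ := id) (fun _ _ => rfl) hT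
  have hc1 : c = 1 := (two_cases hq c).1.resolve_left hc
  have hgr₁ := gram_expand (g := f₁) (τ := id) hf₁.bilinear.add_left hf₁.bilinear.smul_left hf₁.bilinear.add_right
    hf₁.bilinear.smul_right
  have hgr₂ := gram_expand (g := f₂) (τ := id) hf₂.bilinear.add_left hf₂.bilinear.smul_left hf₂.bilinear.add_right
    hf₂.bilinear.smul_right
  set v₀ : Fin 2 → F := Pi.single 0 1 with hv₀
  set v₁ : Fin 2 → F := Pi.single 1 1 with hv₁
  have hv01 : f₁ v₀ v₁ = 1 := by
    refine (two_cases hq _).1.resolve_left fun h => ?_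
    obtain ⟨x, hx⟩ := (hf₁.nondegenerate v₀ (by simp [hv₀])).2
    apply hx
    rw [show x = x 0 • v₀ + x 1 • v₁ from by funext i; fin_cases i <;> simp [hv₀, hv₁],
      hf₁.bilinear.add_right, hf₁.bilinear.smul_right, hf₁.bilinear.smul_right, hf₁.alternating, h]
    simp
  have hv10 : f₁ v₁ v₀ = 1 := by rw [hf₁.skew, hv01]; linear_combination -htwo
  set L := tmap e P with hL
  have hB : ∀ u u' w w', polar Q (L u w) (L u' w') = f₁ u u' * f₂ w w' := fun u u' w w' => by
    rw [hf, hgr₁, hgr₂, hc1, one_mul]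
  have hQ2 : ∀ u u' w w', Q (L u w + L u' w') = f₁ u u' * f₂ w w' := fun u u' w w' => by
    rw [quad_add', hpure, hpure, hB, zero_add, zero_add]
  have hli : LinearIndependent F ![v₀, v₁] := by
    rw [LinearIndependent.pair_iff]
    intro s t h
    exact ⟨by simpa [hv₀, hv₁] using congrFun h 0, by simpa [hv₀, hv₁] using congrFun h 1⟩
  have hind : ∀ y z, L v₀ y + L v₁ z = 0 → y = 0 ∧ z = 0 := fun y z h => by
    have := tmap_indep e P hli (w := ![y, z]) (by simpa [Fin.sum_univ_two] using h)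
    exact ⟨this 0, this 1⟩
  set ω : Matrix (Fin 2) (Fin 2) F := !![0, 1; 1, 1] with hω
  set J := leftOp e P ω with hJ
  have hω0 : ω *ᵥ v₀ = v₁ := by funext i; fin_cases i <;> simp [hω, hv₀, hv₁]
  have hω1 : ω *ᵥ v₁ = v₀ + v₁ := by funext i; fin_cases i <;> simp [hω, hv₀, hv₁]
  have hJ0 : ∀ w, J *ᵥ L v₀ w = L v₁ w := fun w => by rw [hJ, hL, leftOp_tmap, hω0]
  have hJ1 : ∀ w, J *ᵥ L v₁ w = L v₀ w + L v₁ w := fun w => by
    rw [hJ, hL, leftOp_tmap, hω1, map_add, LinearMap.add_apply]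
  have hext : ∀ {M N : Matrix ι ι F}, (∀ w, M *ᵥ L v₀ w = N *ᵥ L v₀ w) → (∀ w, M *ᵥ L v₁ w = N *ᵥ L v₁ w) → M = N :=
    fun {M N} h0 h1 => ext_tmap e P fun u w => by
      rw [show u = u 0 • v₀ + u 1 • v₁ from by funext i; fin_cases i <;> simp [hv₀, hv₁]]
      simp only [map_add, map_smul, LinearMap.add_apply, LinearMap.smul_apply, Matrix.mulVec_add, Matrix.mulVec_smul]
      rw [← hL, h0, h1]
  -- vectors
  obtain ⟨a, ha⟩ : ∃ a : Fin n₂ → F, a ≠ 0 := ⟨Pi.single ⟨0, by omega⟩ 1, by simp⟩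
  obtain ⟨b, hab, hba⟩ : ∃ b, f₂ a b = 0 ∧ b ∉ F ∙ a := by
    by_contra hc'
    push Not at hc'
    let φ : (Fin n₂ → F) →ₗ[F] F :=
      { toFun := f₂ a
        map_add' := hf₂.bilinear.add_right a
        map_smul' := fun t w => by rw [RingHom.id_apply, smul_eq_mul, hf₂.bilinear.smul_right] }
    have h1 := φ.finrank_range_add_finrank_ker
    have h2' : finrank F (LinearMap.range φ) ≤ 1 := (Submodule.finrank_le _).trans (by simp)
    have h3' : LinearMap.ker φ ≤ F ∙ a := fun w hw => hc' w (LinearMap.mem_ker.1 hw)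
    have h4' := Submodule.finrank_mono h3'
    rw [finrank_span_singleton ha] at h4'
    rw [Module.finrank_fin_fun] at h1
    omega
  have hb : b ≠ 0 := fun h => hba (h ▸ Submodule.zero_mem _)
  have hne : a ≠ b := fun h => hba (h ▸ Submodule.mem_span_singleton_self a)
  obtain ⟨⟨w₁, hw₁a, hw₁b⟩, w₂, hw₂a, hw₂b⟩ := exists_dual_pair hq hf₂ ha hb hne
  have hn5 : 5 ≤ finrank F (ι → F) := by simpa using hn
  obtain ⟨hyp⟩ := exists_hypPairs hQ hn5
  set d := L v₀ a + L v₁ b with hd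
  set d' := L v₁ a + (L v₀ b + L v₁ b) with hd'
  have hdQ : Q d = 0 := by rw [hd, hQ2, hab, mul_zero]
  have hdd : polar Q d d' = 0 := by
    simp only [hd, hd', polar_add_left, polar_add_right, hB, hf₁.alternating, hf₂.alternating, hab]
    rw [hf₂.skew b a, hab]
    simp
  have hd'Q : Q d' = 0 := by
    rw [hd', quad_add', hpure, hQ2, polar_add_right, hB, hB, hab, hf₂.alternating, hf₁.alternating]; simp
  obtain ⟨s₁, hs₁⟩ := exists_isSiegel hQ hdQ hdd
  obtain ⟨s₂, hs₂⟩ := exists_isSiegel hQ (hpure v₀ a) (u := L v₀ b) (by rw [hB, hf₁.alternating, zero_mul])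
  have hmem : ∀ {g : orthGroup Q} {d w : ι → F}, IsSiegel g d w →
      orthToGL Q hQf g ∈ Cfsg.Geo.omegaGL (Q : (ι → F) → F) := fun {g d w} hg => by
    rw [omegaGL_eq Q hQf]
    exact Subgroup.mem_map_of_mem _ (hg.mem_commutator hQ h4 hyp hn5)
  have hmv : ∀ (g : orthGroup Q) (y : ι → F), (orthToGL Q hQf g : Matrix ι ι F) *ᵥ y = g.1 y :=
    fun g y => matOf_mulVec Q g y
  have two : ∀ y : ι → F, y + y = 0 := fun y => by rw [← two_smul F, htwo, zero_smul]
  have three : ∀ y : ι → F, 3 * y = y := fun y => by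
    funext i; simp only [Pi.mul_apply, Pi.ofNat_apply]; linear_combination (y i) * htwo
  have hm1 : (-1 : F) = 1 := by linear_combination -htwo
  have hs10 : ∀ w, s₁.1 (L v₀ w) = L v₀ w + f₂ b w • d' + f₂ a w • d + f₂ b w • d := fun w => by
    rw [hs₁.2.2, hd'Q, zero_mul, sub_zero, ← neg_one_mul, hm1, one_mul]
    rw [show polar Q d (L v₀ w) = f₂ b w by simp [hd, polar_add_left, hB, hf₁.alternating, hv10],
      show polar Q d' (L v₀ w) = f₂ a w + f₂ b w by simp [hd', polar_add_left, hB, hf₁.alternating, hv10],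
      add_smul, ← add_assoc]
  have hs11 : ∀ w, s₁.1 (L v₁ w) = L v₁ w + f₂ a w • d' + f₂ b w • d := fun w => by
    rw [hs₁.2.2, hd'Q, zero_mul, sub_zero, ← neg_one_mul, hm1, one_mul]
    rw [show polar Q d (L v₁ w) = f₂ a w by simp [hd, polar_add_left, hB, hf₁.alternating, hv01],
      show polar Q d' (L v₁ w) = f₂ b w by simp [hd', polar_add_left, hB, hf₁.alternating, hv01]]
  have hJd : J *ᵥ d = d' := by rw [hd, hd', Matrix.mulVec_add, hJ0, hJ1]
  have hJd' : J *ᵥ d' = d + d' := by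
    rw [hd', Matrix.mulVec_add, Matrix.mulVec_add, hJ0, hJ1, hJ1, hd]
    abel
  have hcomm : (orthToGL Q hQf s₁ : Matrix ι ι F) * J = J * (orthToGL Q hQf s₁ : Matrix ι ι F) := by
    refine hext (fun w => ?_) fun w => ?_
    · rw [← Matrix.mulVec_mulVec, ← Matrix.mulVec_mulVec, hJ0, hmv, hmv, hs10, hs11]
      simp only [Matrix.mulVec_add, Matrix.mulVec_smul, hJ0, hJd, hJd', smul_add]
      rcases (two_cases hq (f₂ a w)).1 with ea | ea <;> rcases (two_cases hq (f₂ b w)).1 with eb | eb <;>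
        simp [ea, eb] <;> (try abel_nf) <;> simp [two_smul, two, htwo, three]
    · rw [← Matrix.mulVec_mulVec, ← Matrix.mulVec_mulVec, hJ1, hmv, hmv, map_add, hs10, hs11]
      simp only [Matrix.mulVec_add, Matrix.mulVec_smul, hJ1, hJd, hJd', smul_add]
      rcases (two_cases hq (f₂ a w)).1 with ea | ea <;> rcases (two_cases hq (f₂ b w)).1 with eb | eb <;>
        simp [ea, eb] <;> (try abel_nf) <;> simp [two_smul, two, htwo, three]
  refine ⟨pairStab J htwo ⊓ Cfsg.Geo.omegaGL (Q : (ι → F) → F),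
    lt_of_le_not_ge (fun h hh => ⟨?_, hh.2⟩) fun hle => ?_, lt_of_le_not_ge inf_le_right fun hle => ?_⟩
  · obtain ⟨A, B, hAB⟩ := tmap_mul e P hh.1
    have key : ∀ ω' : Matrix (Fin 2) (Fin 2) F, (A : Matrix _ _ F) * ω = ω' * (A : Matrix _ _ F) →
        (h : Matrix ι ι F) * J = leftOp e P ω' * (h : Matrix ι ι F) := fun ω' hA => ext_tmap e P fun u w => by
      rw [← Matrix.mulVec_mulVec, ← Matrix.mulVec_mulVec, hJ, leftOp_tmap, hAB, hAB, leftOp_tmap,
        Matrix.mulVec_mulVec, Matrix.mulVec_mulVec, hA]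
    rcases omega_normal hq A with hA | hA
    · exact Or.inl (key _ hA)
    · refine Or.inr ((key _ hA).trans ?_)
      congr 1
      refine ext_tmap e P fun u w => ?_
      rw [leftOp_tmap, Matrix.add_mulVec, Matrix.add_mulVec, Matrix.one_mulVec, Matrix.one_mulVec, hJ, leftOp_tmap,
        map_add, LinearMap.add_apply]
  · obtain ⟨hh, -⟩ := hle (show orthToGL Q hQf s₁ ∈ _ from ⟨Or.inl hcomm, hmem hs₁⟩)
    obtain ⟨A, B, hAB⟩ := tmap_mul e P hh
    have h := hAB v₀ w₂
    rw [hmv, hs10, hw₂a, hw₂b, one_smul, one_smul] at h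
    set u := (A : Matrix (Fin 2) (Fin 2) F) *ᵥ v₀
    set z := (B : Matrix (Fin n₂) (Fin n₂) F) *ᵥ w₂
    rw [show u = u 0 • v₀ + u 1 • v₁ from by funext i; fin_cases i <;> simp [hv₀, hv₁], map_add, map_smul, map_smul,
      LinearMap.add_apply, LinearMap.smul_apply, LinearMap.smul_apply, ← map_smul, ← map_smul, hd, hd'] at h
    obtain ⟨h0, h1⟩ := hind (w₂ + b + a + a - u 0 • z) (a + b + b + b - u 1 • z) (by
      simp only [map_sub, map_add]
      linear_combination (norm := module) h)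
    have two' : ∀ y : Fin n₂ → F, y + y = 0 := fun y => by rw [← two_smul F, htwo, zero_smul]
    rw [add_assoc (w₂ + b), two', add_zero, sub_eq_zero] at h0
    rw [add_assoc (a + b), two', add_zero, sub_eq_zero] at h1
    rcases (two_cases hq (u 0)).1 with e0 | e0 <;> rw [e0] at h0 <;> rcases (two_cases hq (u 1)).1 with e1 | e1 <;>
      rw [e1] at h1
    all_goals
      simp only [zero_smul, one_smul] at h0 h1
    iterate 2
      have hw : w₂ = b := by rw [← add_zero w₂, ← two' b, ← add_assoc, h0, zero_add]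
      rw [hw, hf₂.alternating] at hw₂b
      exact zero_ne_one hw₂b
    · exact hne (by rw [← add_zero a, ← two' b, ← add_assoc, h1, zero_add])
    · have hw : w₂ = a := add_right_cancel (h0.trans h1.symm)
      rw [hw, hf₂.alternating] at hw₂a
      exact zero_ne_one hw₂a
  · obtain ⟨hh, -⟩ := hle (hmem hs₂)
    have hs20 : ∀ w, s₂.1 (L v₀ w) = L v₀ w := fun w => by
      rw [hs₂.2.2, hB, hB, hpure, hf₁.alternating]; simp
    have hs21 : s₂.1 (L v₁ w₁) = L v₁ w₁ + L v₀ b := by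
      rw [hs₂.2.2, hB, hB, hpure, hv01, hw₁a, hw₁b]; simp
    rcases hh with hh | hh <;>
      have h := congrArg (· *ᵥ L v₀ w₁) hh <;>
      simp only [← Matrix.mulVec_mulVec, hmv, Matrix.add_mulVec, Matrix.one_mulVec, hJ0, hs20, hs21] at h
    · obtain ⟨h0, -⟩ := hind b 0 (by rw [map_zero, add_zero]; linear_combination (norm := module) h)
      exact hb h0
    · obtain ⟨h0, -⟩ := hind (b - w₁) 0 (by rw [map_zero, add_zero, map_sub]; linear_combination (norm := module) h)
      rw [sub_eq_zero] at h0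
      rw [← h0, hab] at hw₁a
      exact zero_ne_one hw₁a

end CfsgLib.Classical.TensorNonMax
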