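import Cfsg.Agent.Lib.Classical.RefineSet

/-!
# The small cases with decomposition stabilisers that are not maximal
-/

set_option autoImplicit false
set_option linter.unusedSectionVars false
set_option backward.isDefEq.respectTransparency false

open Module QuadraticMap CfsgLib.Orth Matrix

namespace CfsgLib.Classical.RefineSet

variable {F : Type*} [Field F] [Fintype F] {ι : Type} [Fintype ι] [DecidableEq ι] {t : ℕ}
  {Q : QuadraticForm F (ι → F)} {D : Fin t → Submodule F (ι → F)}

theorem member_card {k : ℕ} (hD : Cfsg.Geo.IsMDecomposition k D) : Fintype.card ι = t * k := by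
  classical
  have hint := DirectSum.isInternal_submodule_of_iSupIndep_of_iSup_eq_top hD.indep hD.iSup_eq_top
  let b := fun i => Module.finBasisOfFinrankEq F (D i) (hD.finrank_eq i)
  have h := Module.finrank_eq_card_basis (hint.collectedBasis b)
  simpa using h

/-- Expansion in a family with a dual family. -/
theorem expand {κ : Type} [Fintype κ] [DecidableEq κ] {W : Submodule F (ι → F)} {b c : κ → ι → F}
    (hb : ∀ j, b j ∈ W) (hd : ∀ i j, polar Q (c i) (b j) = if i = j then 1 else 0)
    (hcard : finrank F W = Fintype.card κ) {x : ι → F} (hx : x ∈ W) : x = ∑ j, polar Q (c j) x • b j := by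
  have key : ∀ (g : κ → F) i, polar Q (c i) (∑ j, g j • b j) = g i := fun g i => by
    rw [← QuadraticMap.polarBilin_apply_apply, map_sum, Finset.sum_eq_single i (fun j _ hj => by
      rw [map_smul, QuadraticMap.polarBilin_apply_apply, hd, if_neg (Ne.symm hj), smul_zero]) (by simp),
      map_smul, QuadraticMap.polarBilin_apply_apply, hd, if_pos rfl, smul_eq_mul, mul_one]
  have hli : LinearIndependent F b := Fintype.linearIndependent_iff.2 fun g hg i => by
    rw [← key g i, hg, polar_zero_right]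
  have hspan : Submodule.span F (Set.range b) = W := Submodule.eq_of_le_of_finrank_eq
    (Submodule.span_le.2 (by rintro _ ⟨j, rfl⟩; exact hb j)) (by rw [finrank_span_eq_card hli, hcard])
  rw [← hspan] at hx
  obtain ⟨g, rfl⟩ := (Submodule.mem_span_range_iff_exists_fun F).1 hx
  simp only [key]

theorem member_nondeg {Qf : (ι → F) → F} (hQf : ∀ v, Qf v = Q v) {k : ℕ}
    (hD : Cfsg.Geo.IsOrthogonalMDecomposition Qf k D) (i : Fin t) {w : ι → F} (hw : w ∈ D i) (hw0 : w ≠ 0) :
    ∃ x ∈ D i, polar Q w x ≠ 0 := by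
  obtain ⟨x, hx, h⟩ := (hD.decomp.nondegenerate i w hw hw0).2
  exact ⟨x, hx, by rwa [show Qf = ⇑Q from funext hQf] at h⟩

/-- A singular vector of a non-degenerate member lies in a hyperbolic pair there. -/
theorem exists_partner_sub {W : Submodule F (ι → F)} (hW : ∀ w ∈ W, w ≠ 0 → ∃ x ∈ W, polar Q w x ≠ 0) {e : ι → F}
    (he : e ∈ W) (he0 : e ≠ 0) (heQ : Q e = 0) : ∃ f ∈ W, Q f = 0 ∧ polar Q e f = 1 := by
  obtain ⟨x, hx, hex⟩ := hW e he he0
  refine ⟨(polar Q e x)⁻¹ • x + (-(Q ((polar Q e x)⁻¹ • x))) • e,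
    W.add_mem (W.smul_mem _ hx) (W.smul_mem _ he), ?_, ?_⟩
  · rw [quad_add', quad_smul' _ _ e, heQ, polar_smul_r', polar_comm _ _ e, polar_smul_r', inv_mul_cancel₀ hex]
    ring
  · rw [polar_add_right, polar_smul_r', polar_smul_r', inv_mul_cancel₀ hex, polar_self', heQ]
    ring

theorem binary_pair {Qf : (ι → F) → F} (hQf : ∀ v, Qf v = Q v)
    (hD : Cfsg.Geo.IsOrthogonalMDecomposition Qf 2 D) (i : Fin t) (hplus : Cfsg.Geo.IsPlusTypeOn Qf (D i)) :
    ∃ e f, e ∈ D i ∧ f ∈ D i ∧ Q e = 0 ∧ Q f = 0 ∧ polar Q e f = 1 ∧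
      ∀ x ∈ D i, x = polar Q f x • e + polar Q e x • f ∧ Q x = polar Q f x * polar Q e x := by
  have hfr := hD.decomp.decomp.finrank_eq i
  obtain ⟨U, hU, hts, hdim⟩ := hplus
  have hU1 : finrank F U = 1 := by omega
  obtain ⟨e, heU, he0⟩ := Submodule.exists_mem_ne_zero_of_ne_bot (p := U) (fun h => by
    rw [h, finrank_bot] at hU1; omega)
  have heQ : Q e = 0 := (hQf e).symm.trans (hts e heU)
  obtain ⟨f, hf, hfQ, hef⟩ := exists_partner_sub (fun w hw h => member_nondeg hQf hD i hw h) (hU heU) he0 heQ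
  refine ⟨e, f, hU heU, hf, heQ, hfQ, hef, fun x hx => ?_⟩
  have hx' := expand (Q := Q) (b := ![e, f]) (c := ![f, e]) (W := D i)
    (by intro j; fin_cases j <;> simp [hf, hU heU])
    (by intro a b; fin_cases a <;> fin_cases b <;> simp [hef, polar_comm _ f e, polar_self', heQ, hfQ])
    (by rw [hfr]; simp) hx
  rw [Fin.sum_univ_two] at hx'
  refine ⟨hx', ?_⟩
  conv_lhs => rw [hx']
  rw [quad_add', quad_smul', quad_smul', polar_smul_l', polar_smul_r']
  simp [heQ, hfQ, hef]

theorem sq_three (hq : Fintype.card F = 3) (α : F) : α = 0 ∨ α * α = 1 := by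
  rcases (TensorNonMax.three_cases hq α).1 with h | h | h <;> simp [h]

theorem sq_cases {α : F} (h : α * α = 1) : α = 1 ∨ α = -1 := mul_self_eq_one_iff.1 h

/-- Members of dimension two over three elements. -/
theorem lines_two {Qf : (ι → F) → F} (hQf : ∀ v, Qf v = Q v)
    (hD : Cfsg.Geo.IsOrthogonalMDecomposition Qf 2 D) (hq : Fintype.card F = 3) (ht : 5 ≤ t) :
    ∃ K : Subgroup (GL ι F), Cfsg.Geo.decompositionStabilizer D ⊓ Cfsg.Geo.omegaGL Qf < K ∧
      K < Cfsg.Geo.omegaGL Qf := by
  classical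
  obtain ⟨-, -, h2⟩ := TensorNonMax.three_cases hq (0 : F)
  let i : Fin t := ⟨0, by omega⟩
  have hfr := hD.decomp.decomp.finrank_eq i
  have hne : D i ≠ ⊥ := fun h => by rw [h, finrank_bot] at hfr; omega
  obtain ⟨x, hx, hxQ⟩ : ∃ x ∈ D i, Q x ≠ 0 := by
    by_contra hall
    push Not at hall
    obtain ⟨w, hw, hw0⟩ := Submodule.exists_mem_ne_zero_of_ne_bot hne
    obtain ⟨z, hz, hwz⟩ := member_nondeg hQf hD i hw hw0
    refine hwz ?_
    rw [QuadraticMap.polar, hall _ hw, hall _ hz, hall _ ((D i).add_mem hw hz)]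
    ring
  obtain ⟨y₀, hy₀, hyx⟩ : ∃ y ∈ D i, y ∉ F ∙ x := by
    by_contra hall
    push Not at hall
    have h1 := Submodule.finrank_mono (s := D i) (t := F ∙ x) hall
    rw [finrank_span_singleton (fun h => hxQ (by rw [h, QuadraticMap.map_zero])), hfr] at h1
    omega
  obtain ⟨y, hy⟩ : ∃ y, y = y₀ + (-((2 * Q x)⁻¹ * polar Q x y₀)) • x := ⟨_, rfl⟩
  have hyD : y ∈ D i := hy ▸ (D i).add_mem hy₀ ((D i).smul_mem _ hx)
  have hxy : polar Q x y = 0 := by
    rw [hy, polar_add_right, polar_smul_r', polar_self']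
    field_simp
    ring
  have hy0 : y ≠ 0 := fun h => hyx (Submodule.mem_span_singleton.2 ⟨(2 * Q x)⁻¹ * polar Q x y₀, by
    rw [h, neg_smul, ← sub_eq_add_neg, eq_comm, sub_eq_zero] at hy; exact hy.symm⟩)
  have hyQ : Q y ≠ 0 := by
    intro h0
    obtain ⟨z, hz, hyz⟩ := member_nondeg hQf hD i hyD hy0
    have hli : LinearIndependent F ![x, y] := by
      rw [LinearIndependent.pair_iff]
      intro α β h
      have h1 := congrArg (polar Q x) h
      rw [polar_add_right, polar_smul_r', polar_smul_r', polar_self', hxy, mul_zero, add_zero, polar_zero_right,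
        mul_eq_zero] at h1
      have hα := h1.resolve_right (mul_ne_zero h2 hxQ)
      rw [hα, zero_smul, zero_add] at h
      exact ⟨hα, (smul_eq_zero.1 h).resolve_right hy0⟩
    have hspan : Submodule.span F (Set.range ![x, y]) = D i := Submodule.eq_of_le_of_finrank_eq
      (Submodule.span_le.2 (by rintro _ ⟨j, rfl⟩; fin_cases j <;> simp [hx, hyD]))
      (by rw [finrank_span_eq_card hli, hfr]; simp)
    rw [← hspan] at hz
    obtain ⟨g, rfl⟩ := (Submodule.mem_span_range_iff_exists_fun F).1 hz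
    refine hyz ?_
    simp [Fin.sum_univ_two, polar_add_right, polar_smul_r', polar_comm _ y x, hxy, polar_self', h0]
  refine lines_nonmax (D := D) hQf hD h2 ht (a := Q x) hxQ (i₀ := i) ![x, y] 0 1 (by decide)
    (by intro j; fin_cases j <;> simp [hx, hyD]) (by simpa using hy0)
    (by intro j hj; fin_cases j <;> simp_all) rfl fun z hz hzQ => ?_
  have hz' := expand (Q := Q) (b := ![x, y]) (c := ![(2 * Q x)⁻¹ • x, (2 * Q y)⁻¹ • y]) (W := D i)
    (by intro j; fin_cases j <;> simp [hx, hyD])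
    (by intro a b; fin_cases a <;> fin_cases b <;>
      simp [polar_smul_l', polar_self', polar_comm _ y x, hxy, h2, hxQ, hyQ, -_root_.mul_inv_rev])
    (by rw [hfr]; simp) hz
  rw [Fin.sum_univ_two] at hz'
  obtain ⟨α, β, rfl⟩ : ∃ α β : F, z = α • x + β • y := ⟨_, _, hz'⟩
  rw [quad_add', quad_smul', quad_smul', polar_smul_l', polar_smul_r', hxy] at hzQ
  simp only [mul_zero, add_zero] at hzQ
  rcases sq_three hq α with eα | eα <;> rcases sq_three hq β with eβ | eβ
  · exfalso; rw [eα, eβ] at hzQ; exact hxQ (by linear_combination -hzQ)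
  · rcases sq_cases eβ with e | e <;> exact ⟨1, by simp [eα, e]⟩
  · rcases sq_cases eα with e | e <;> exact ⟨0, by simp [eβ, e]⟩
  · exfalso; rw [eα, eβ] at hzQ; exact hyQ (by linear_combination hzQ)

/-- Members of dimension three over three elements. -/
theorem lines_three {Qf : (ι → F) → F} (hQf : ∀ v, Qf v = Q v)
    (hD : Cfsg.Geo.IsOrthogonalMDecomposition Qf 3 D) (hq : Fintype.card F = 3) (ht : 5 ≤ t) :
    ∃ K : Subgroup (GL ι F), Cfsg.Geo.decompositionStabilizer D ⊓ Cfsg.Geo.omegaGL Qf < K ∧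
      K < Cfsg.Geo.omegaGL Qf := by
  classical
  obtain ⟨-, h3, h2⟩ := TensorNonMax.three_cases hq (0 : F)
  let i : Fin t := ⟨0, by omega⟩
  have hfr := hD.decomp.decomp.finrank_eq i
  let φ : (Fin 3 → F) ≃ₗ[F] D i := (Module.finBasisOfFinrankEq F (D i) hfr).equivFun.symm
  let g : (Fin 3 → F) → (Fin 3 → F) → F := fun u w => polar Q (φ u : ι → F) (φ w : ι → F)
  have hnd : Cfsg.Geo.IsNondegenerateForm g := fun u hu => by
    obtain ⟨z, hz, huz⟩ := member_nondeg hQf hD i (φ u).2 (fun h => hu ((LinearEquiv.map_eq_zero_iff φ).1 (Subtype.ext h)))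
    refine ⟨⟨φ.symm ⟨z, hz⟩, ?_⟩, ⟨φ.symm ⟨z, hz⟩, ?_⟩⟩
    · show polar Q _ _ ≠ 0
      rw [LinearEquiv.apply_symm_apply, polar_comm]; exact huz
    · show polar Q _ _ ≠ 0
      rw [LinearEquiv.apply_symm_apply]; exact huz
  have hg : Cfsg.Geo.IsSymmetricForm g := ⟨⟨fun u w z => by simp [g, polar_add_left],
    fun c u z => by simp [g, polar_smul_l'], fun z u w => by simp [g, polar_add_right],
    fun c z u => by simp [g, polar_smul_r']⟩, fun u w => polar_comm _ _ _, hnd⟩
  obtain ⟨w, d, hd, hw⟩ := TensorNonMax.exists_orth3 hq hg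
  let v : Fin 3 → ι → F := fun j => (φ (w j) : ι → F)
  have hv : ∀ a b, polar Q (v a) (v b) = if a = b then d else 0 := hw
  have hvQ : ∀ j, 2 * Q (v j) = d := fun j => by rw [← polar_self', hv, if_pos rfl]
  have hQeq : ∀ j, Q (v j) = Q (v 0) := fun j => mul_left_cancel₀ h2 ((hvQ j).trans (hvQ 0).symm)
  have ha : Q (v 0) ≠ 0 := fun h => hd (by rw [← hvQ 0, h, mul_zero])
  have hv1 : v 1 ≠ 0 := fun h => hd (by rw [← hvQ 1, h, QuadraticMap.map_zero, mul_zero])
  refine lines_nonmax (D := D) hQf hD h2 ht (a := Q (v 0)) ha (i₀ := i) v 0 1 (by decide)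
    (fun j => (φ (w j)).2) hv1 (fun j hj => by rw [hv, if_neg (Ne.symm hj)]) rfl fun z hz hzQ => ?_
  have hz' := expand (Q := Q) (b := v) (c := fun j => d⁻¹ • v j) (W := D i) (fun j => (φ (w j)).2)
    (fun a b => by rw [polar_smul_l', hv, mul_ite, inv_mul_cancel₀ hd, mul_zero]) (by rw [hfr]; simp) hz
  rw [Fin.sum_univ_three] at hz'
  obtain ⟨α, β, γ, rfl⟩ : ∃ α β γ : F, z = α • v 0 + β • v 1 + γ • v 2 := ⟨_, _, _, hz'⟩
  simp only [quad_add', quad_smul', polar_add_left, polar_smul_l', polar_smul_r', hv, hQeq 1, hQeq 2] at hzQ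
  simp at hzQ
  rcases sq_three hq α with eα | eα <;> rcases sq_three hq β with eβ | eβ <;> rcases sq_three hq γ with eγ | eγ
  all_goals first
    | (rcases sq_cases eα with e | e <;> refine ⟨0, ?_⟩ <;> simp [eβ, eγ, e]; done)
    | (rcases sq_cases eβ with e | e <;> refine ⟨1, ?_⟩ <;> simp [eα, eγ, e]; done)
    | (rcases sq_cases eγ with e | e <;> refine ⟨2, ?_⟩ <;> simp [eα, eβ, e]; done)
    | (exfalso; simp only [eα, eβ, eγ] at hzQ; refine ha ?_
       first
         | linear_combination -hzQ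
         | linear_combination hzQ
         | linear_combination -hzQ + Q (v 0) * h3)

/-- Hyperbolic lines over five elements. -/
theorem lines_five {Qf : (ι → F) → F} (hQf : ∀ v, Qf v = Q v)
    (hD : Cfsg.Geo.IsOrthogonalMDecomposition Qf 2 D) (hq : Fintype.card F = 5) (ht : 5 ≤ t)
    (hplus : ∀ i, Cfsg.Geo.IsPlusTypeOn Qf (D i)) :
    ∃ K : Subgroup (GL ι F), Cfsg.Geo.decompositionStabilizer D ⊓ Cfsg.Geo.omegaGL Qf < K ∧
      K < Cfsg.Geo.omegaGL Qf := by
  classical
  have h5 : (5 : F) = 0 := by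
    have := Nat.cast_card_eq_zero F
    rwa [hq] at this
  have h2 : (2 : F) ≠ 0 := fun h => one_ne_zero (show (1 : F) = 0 by linear_combination h5 - 2 * h)
  have hsq : ∀ α : F, α = 0 ∨ α * α = 1 ∨ α * α = -1 := fun α => by
    refine or_iff_not_imp_left.2 fun hα => ?_
    have := FiniteField.pow_card_sub_one_eq_one α hα
    rw [hq] at this
    have h : (α * α - 1) * (α * α + 1) = 0 := by linear_combination this
    exact (mul_eq_zero.1 h).imp sub_eq_zero.1 eq_neg_of_add_eq_zero_left
  let i : Fin t := ⟨0, by omega⟩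
  obtain ⟨e, f, he, hf, heQ, hfQ, hef, hxp⟩ := binary_pair hQf hD i (hplus i)
  obtain ⟨x, hx⟩ : ∃ x, x = e + f := ⟨_, rfl⟩
  obtain ⟨y, hy⟩ : ∃ y, y = (2 : F) • e + (-2 : F) • f := ⟨_, rfl⟩
  have hxQ : Q x = 1 := by rw [hx, quad_add', heQ, hfQ, hef]; ring
  have hyQ : Q y = 1 := by
    rw [hy, quad_add', quad_smul', quad_smul', polar_smul_l', polar_smul_r', heQ, hfQ, hef]
    linear_combination -h5
  have hfe : polar Q f e = 1 := by rw [polar_comm]; exact hef
  have hxy : polar Q x y = 0 := by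
    rw [hx, hy, polar_add_left, polar_add_right, polar_add_right, polar_smul_r', polar_smul_r', polar_smul_r',
      polar_smul_r', polar_self', polar_self', heQ, hfQ, hef, hfe]
    ring
  have hy0 : y ≠ 0 := fun h => by rw [h, QuadraticMap.map_zero] at hyQ; exact zero_ne_one hyQ
  have hxD : x ∈ D i := hx ▸ (D i).add_mem he hf
  have hyD : y ∈ D i := hy ▸ (D i).add_mem ((D i).smul_mem _ he) ((D i).smul_mem _ hf)
  refine lines_nonmax (D := D) hQf hD h2 ht (a := (1 : F)) one_ne_zero (i₀ := i) ![x, y] 0 1 (by decide)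
    (by intro j; fin_cases j <;> simp [hxD, hyD]) (by simpa using hy0)
    (by intro j hj; fin_cases j; · exact absurd rfl hj
        simpa using hxy) (by simpa using hxQ) fun z hz hzQ => ?_
  have hz' := expand (Q := Q) (b := ![x, y]) (c := ![(2 : F)⁻¹ • x, (2 : F)⁻¹ • y]) (W := D i)
    (by intro j; fin_cases j <;> simp [hxD, hyD])
    (by intro a b; fin_cases a <;> fin_cases b <;>
      simp [polar_smul_l', polar_self', polar_comm _ y x, hxy, h2, hxQ, hyQ])
    (by rw [hD.decomp.decomp.finrank_eq i]; simp) hz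
  rw [Fin.sum_univ_two] at hz'
  obtain ⟨α, β, rfl⟩ : ∃ α β : F, z = α • x + β • y := ⟨_, _, hz'⟩
  rw [quad_add', quad_smul', quad_smul', polar_smul_l', polar_smul_r', hxy, hxQ, hyQ] at hzQ
  simp only [mul_zero, add_zero, mul_one] at hzQ
  rcases hsq α with eα | eα | eα <;> rcases hsq β with eβ | eβ | eβ
  all_goals first
    | (rcases sq_cases eα with e | e <;> refine ⟨0, ?_⟩ <;> simp [eβ, e]; done)
    | (rcases sq_cases eβ with e | e <;> refine ⟨1, ?_⟩ <;> simp [eα, e]; done)
    | (exfalso; simp only [eα, eβ, mul_zero, add_zero, zero_add] at hzQ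
       first
         | exact zero_ne_one hzQ
         | (refine one_ne_zero (α := F) ?_; linear_combination hzQ)
         | (refine one_ne_zero (α := F) ?_; linear_combination -hzQ)
         | (refine h2 ?_; linear_combination -hzQ)
         | (refine one_ne_zero (α := F) ?_; linear_combination 2 * hzQ + h5)
         | (refine one_ne_zero (α := F) ?_; linear_combination -2 * hzQ - h5)
         | (refine one_ne_zero (α := F) ?_; linear_combination -hzQ - h5))

/-- Hyperbolic lines over two or four elements. -/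
theorem planes_small {Qf : (ι → F) → F} (hQf : ∀ v, Qf v = Q v)
    (hQ : (QuadraticMap.polarBilin Q).Nondegenerate) (h4 : Good F (ι → F)) (hn : 5 ≤ finrank F (ι → F))
    (hD : Cfsg.Geo.IsOrthogonalMDecomposition Qf 2 D) (hq : Fintype.card F = 2 ∨ Fintype.card F = 4) (ht : 5 ≤ t)
    (hplus : ∀ i, Cfsg.Geo.IsPlusTypeOn Qf (D i)) :
    ∃ K : Subgroup (GL ι F), Cfsg.Geo.decompositionStabilizer D ⊓ Cfsg.Geo.omegaGL Qf < K ∧
      K < Cfsg.Geo.omegaGL Qf := by
  classical
  have horth := orth_of_decomp hQf hD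
  obtain ⟨hyp⟩ := exists_hypPairs hQ hn
  have htwo : (2 : F) = 0 := by
    have h := Nat.cast_card_eq_zero F
    rcases hq with hq | hq <;> rw [hq] at h
    · exact_mod_cast h
    · have h' : (4 : F) = 0 := by exact_mod_cast h
      exact mul_self_eq_zero.1 (show (2 : F) * 2 = 0 by linear_combination h')
  have hpow : ∀ r : F, r ^ 4 = r := fun r => by
    have h := FiniteField.pow_card r
    rcases hq with hq | hq <;> rw [hq] at h
    · linear_combination (r ^ 2 + r + 1) * h + (r - r) * htwo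
    · exact h
  choose e f he hf heQ hfQ hef hxp using fun i => binary_pair hQf hD i (hplus i)
  let z : Fin t → ι → F := fun i => e i + f i
  have hzQ : ∀ i, Q (z i) = 1 := fun i => by simp only [z]; rw [quad_add', heQ, hfQ, hef]; ring
  have hzD : ∀ i, z i ∈ D i := fun i => (D i).add_mem (he i) (hf i)
  have hfe : ∀ i, polar Q (f i) (e i) = 1 := fun i => by rw [polar_comm]; exact hef i
  have hez : ∀ i, polar Q (e i) (z i) = 1 := fun i => by
    simp only [z]; rw [polar_add_right, polar_self', heQ, hef]; ring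
  have hfz : ∀ i, polar Q (f i) (z i) = 1 := fun i => by
    simp only [z]; rw [polar_add_right, polar_self', hfQ, hfe]; ring
  set S₀ : AddSubgroup (ι → F) := AddSubgroup.closure (memberSet Q D 1) with hS₀
  have hzS : ∀ i, z i ∈ S₀ := fun i => AddSubgroup.subset_closure ⟨i, hzD i, hzQ i⟩
  -- pairings of the rational vectors
  have hadd : ∀ a b : F, (a = 0 ∨ a = 1) → (b = 0 ∨ b = 1) → (a + b = 0 ∨ a + b = 1) := by
    rintro a b (rfl | rfl) (rfl | rfl)
    · left; ring
    · right; ring
    · right; ring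
    · left; linear_combination htwo
  have hneg : ∀ a : F, (a = 0 ∨ a = 1) → (-a = 0 ∨ -a = 1) := by
    rintro a (rfl | rfl)
    · left; ring
    · right; linear_combination -htwo
  have hval₁ : ∀ x ∈ memberSet Q D 1, ∀ y ∈ memberSet Q D 1, polar Q x y = 0 ∨ polar Q x y = 1 := by
    rintro x ⟨i, hx, hxQ⟩ y ⟨j, hy, hyQ⟩
    by_cases hij : i = j
    swap
    · exact Or.inl (horth i j hij x hx y hy)
    subst hij
    obtain ⟨ex, qx⟩ := hxp i x hx
    obtain ⟨ey, qy⟩ := hxp i y hy
    rw [hxQ] at qx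
    rw [hyQ] at qy
    set α := polar Q (f i) x
    set β := polar Q (e i) x
    set γ := polar Q (f i) y
    set δ := polar Q (e i) y
    have hs : polar Q x y = α * δ + β * γ := by
      rw [ex, ey]
      simp only [polar_add_left, polar_add_right, polar_smul_l', polar_smul_r', polar_self', heQ, hfQ, hef, hfe]
      ring
    have hr : α * δ ≠ 0 := fun h => by
      have : (α * β) * (γ * δ) = 0 := by linear_combination (β * γ) * h
      rw [← qx, ← qy] at this
      simp at this
    have h3 : (α * δ) ^ 3 = 1 := mul_left_cancel₀ hr (by linear_combination hpow (α * δ))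
    have hbg : β * γ = (α * δ) ^ 2 := mul_left_cancel₀ hr (by linear_combination -qx - (α * β) * qy - h3)
    have key : polar Q x y * (polar Q x y - 1) = 0 := by
      rw [hs, hbg]; linear_combination hpow (α * δ) + (α * δ) ^ 3 * htwo
    exact (mul_eq_zero.1 key).imp_right sub_eq_zero.1
  have hval₂ : ∀ x ∈ memberSet Q D 1, ∀ y ∈ S₀, polar Q x y = 0 ∨ polar Q x y = 1 := by
    intro x hx y hy
    induction hy using AddSubgroup.closure_induction with
    | mem w hw => exact hval₁ x hx w hw
    | zero => left; rw [polar_zero_right]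
    | add a b _ _ ha hb => rw [polar_add_right]; exact hadd _ _ ha hb
    | neg a _ ha => rw [polar_neg_right]; exact hneg _ ha
  have hval : ∀ x ∈ S₀, ∀ y ∈ S₀, polar Q x y = 0 ∨ polar Q x y = 1 := by
    intro x hx y hy
    induction hx using AddSubgroup.closure_induction with
    | mem w hw => exact hval₂ w hw y hy
    | zero => left; rw [polar_zero_left]
    | add a b _ _ ha hb => rw [polar_add_left]; exact hadd _ _ ha hb
    | neg a _ ha => rw [polar_neg_left]; exact hneg _ ha
  have hsm : ∀ c : F, (c = 0 ∨ c = 1) → ∀ x ∈ S₀, c • x ∈ S₀ := by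
    rintro c (rfl | rfl) x hx
    · rw [zero_smul]; exact zero_mem _
    · rw [one_smul]; exact hx
  let c : ℕ → Fin t := fun m => ⟨m % t, Nat.mod_lt _ (by omega)⟩
  have hc : ∀ m m', m < 5 → m' < 5 → m ≠ m' → c m ≠ c m' := fun m m' h h' hne' e => by
    have := congrArg Fin.val e
    simp only [c] at this
    rw [Nat.mod_eq_of_lt (by omega), Nat.mod_eq_of_lt (by omega)] at this
    exact hne' this
  have hc01 := hc 0 1 (by omega) (by omega) (by omega)
  have hc02 := hc 0 2 (by omega) (by omega) (by omega)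
  have hc12 := hc 1 2 (by omega) (by omega) (by omega)
  have hx0 : ∀ i j, i ≠ j → ∀ a ∈ D i, ∀ b ∈ D j, polar Q a b = 0 := horth
  have hd : Q (z (c 0) + z (c 1)) = 0 := by
    rw [quad_add', hzQ, hzQ, hx0 _ _ hc01 _ (hzD _) _ (hzD _)]; linear_combination htwo
  have hdu : polar Q (z (c 0) + z (c 1)) (z (c 2)) = 0 := by
    rw [polar_add_left, hx0 _ _ hc02 _ (hzD _) _ (hzD _), hx0 _ _ hc12 _ (hzD _) _ (hzD _)]; ring
  obtain ⟨k₁, hk₁⟩ := exists_isSiegel hQ hd hdu
  obtain ⟨k₂, hk₂⟩ := exists_isSiegel hQ (heQ (c 0)) (u := e (c 1)) (hx0 _ _ hc01 _ (he _) _ (he _))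
  refine set_nonmax (D := D) hQf (S₀ : Set (ι → F)) ?_ (hk₁.mem_commutator hQ h4 hyp hn) ?_ ?_
    (hk₂.mem_commutator hQ h4 hyp hn) ?_
  · intro g hg x hx
    change x ∈ S₀ at hx
    show g.1 x ∈ S₀
    induction hx using AddSubgroup.closure_induction with
    | mem w hw => exact AddSubgroup.subset_closure (memberSet_invariant 1 g hg w hw)
    | zero => rw [map_zero]; exact zero_mem _
    | add a b _ _ ha hb => rw [map_add]; exact add_mem ha hb
    | neg a _ ha => rw [map_neg]; exact neg_mem ha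
  · intro x hx
    show k₁.1 x ∈ S₀
    have hdS : z (c 0) + z (c 1) ∈ S₀ := add_mem (hzS _) (hzS _)
    rw [hk₁.2.2, hzQ, one_mul]
    refine add_mem (add_mem hx (hsm _ (hval _ hdS _ hx) _ (hzS _))) (hsm _ ?_ _ hdS)
    exact by
      rw [sub_eq_add_neg]
      exact hadd _ _ (hneg _ (hval _ (hzS _) _ hx)) (hneg _ (hval _ hdS _ hx))
  · refine ⟨c 0, e (c 0), he _, e (c 0), he _, fun j hj => absurd hj ?_⟩
    have h1 : polar Q (z (c 0) + z (c 1)) (e (c 0)) = 1 := by
      rw [polar_add_left, polar_comm _ _ (e (c 0)), hez, hx0 _ _ hc01.symm _ (hzD _) _ (he _)]; ring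
    rw [hk₁.2.2, h1, hzQ, hx0 _ _ hc02.symm _ (hzD _) _ (he _)]
    refine not_mem_member horth hc12 (he (c 1)) (he (c 2)) ?_ ?_ j
    · simp only [polar_add_right, polar_smul_r', hez, hx0 _ _ hc01.symm _ (he _) _ (he _),
        hx0 _ _ hc12 _ (he _) _ (hzD _), hx0 _ _ hc01.symm _ (he _) _ (hzD _)]
      intro h
      exact one_ne_zero (show (1 : F) = 0 by linear_combination h + htwo)
    · simp only [polar_add_right, polar_smul_r', hez, hx0 _ _ hc02.symm _ (he _) _ (he _),
        hx0 _ _ hc12.symm _ (he _) _ (hzD _), hx0 _ _ hc02.symm _ (he _) _ (hzD _)]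
      simp
  · refine ⟨z (c 0), hzS _, fun h => ?_⟩
    change k₂.1 (z (c 0)) ∈ S₀ at h
    rw [hk₂.2.2, hez, heQ, hx0 _ _ hc01.symm _ (he _) _ (hzD _)] at h
    simp only [one_smul, neg_zero, zero_mul, sub_zero, zero_smul, add_zero] at h
    have hq2 := hval _ (hzS (c 1)) _ h
    rw [polar_add_right, hx0 _ _ hc01.symm _ (hzD _) _ (hzD _), polar_comm _ (z (c 1)), hez] at hq2
    rcases hq with hq | hq
    · -- over two elements the pairings vanish
      have hz1 : ∀ y ∈ S₀, polar Q (z (c 1)) y = 0 := by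
        intro y hy
        induction hy using AddSubgroup.closure_induction with
        | mem w hw =>
          obtain ⟨j, hj, hwQ⟩ := hw
          by_cases hij : c 1 = j
          swap
          · exact horth _ _ hij _ (hzD _) _ hj
          subst hij
          obtain ⟨ew, qw⟩ := hxp _ w hj
          rw [hwQ] at qw
          have h01 : ∀ r : F, r = 0 ∨ r = 1 := fun r => by
            have h := FiniteField.pow_card r
            rw [hq] at h
            have : r * (r - 1) = 0 := by linear_combination h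
            exact (mul_eq_zero.1 this).imp_right sub_eq_zero.1
          have hα : polar Q (f (c 1)) w = 1 := (h01 _).resolve_left fun h0 => by
            rw [h0, zero_mul] at qw; exact one_ne_zero qw
          have hβ : polar Q (e (c 1)) w = 1 := (h01 _).resolve_left fun h0 => by
            rw [h0, mul_zero] at qw; exact one_ne_zero qw
          simp only [z]
          rw [polar_add_left, hα, hβ]; linear_combination htwo
        | zero => rw [polar_zero_right]
        | add a b _ _ ha hb => rw [polar_add_right, ha, hb, add_zero]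
        | neg a _ ha => rw [polar_neg_right, ha, neg_zero]
      have := hz1 _ h
      rw [polar_add_right, hx0 _ _ hc01.symm _ (hzD _) _ (hzD _), polar_comm _ (z (c 1)), hez, zero_add] at this
      exact one_ne_zero this
    · obtain ⟨ω, hω0, hω1⟩ : ∃ ω : F, ω ≠ 0 ∧ ω ≠ 1 := by
        by_contra hall
        push Not at hall
        have hcard : Fintype.card F ≤ ({0, 1} : Finset F).card := Finset.card_le_card (s := Finset.univ) fun x _ => by
          rcases eq_or_ne x 0 with e | e
          · simp [e]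
          · simp [hall x e]
        have := Finset.card_le_two (a := (0 : F)) (b := 1)
        omega
      have hyS : ω • e (c 1) + ω⁻¹ • f (c 1) ∈ S₀ := AddSubgroup.subset_closure ⟨c 1,
        (D _).add_mem ((D _).smul_mem _ (he _)) ((D _).smul_mem _ (hf _)), by
          rw [quad_add', quad_smul', quad_smul', polar_smul_l', polar_smul_r', heQ, hfQ, hef]
          field_simp
          ring⟩
      have h1 : polar Q (ω • e (c 1) + ω⁻¹ • f (c 1)) (z (c 0) + e (c 1)) = ω⁻¹ := by
        simp only [polar_add_left, polar_add_right, polar_smul_l', hx0 _ _ hc01.symm _ (he _) _ (hzD _),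
          hx0 _ _ hc01.symm _ (hf _) _ (hzD _), polar_self', heQ, hfe]
        ring
      rcases hval _ hyS _ h with h' | h' <;> rw [h1] at h'
      · exact hω0 (inv_eq_zero.1 h')
      · exact hω1 (inv_eq_one.1 h')

/-- Four-dimensional hyperbolic members over two elements. -/
theorem quads_two {Qf : (ι → F) → F} (hQf : ∀ v, Qf v = Q v)
    (hQ : (QuadraticMap.polarBilin Q).Nondegenerate) (h4 : Good F (ι → F)) (hn : 5 ≤ finrank F (ι → F))
    (hD : Cfsg.Geo.IsOrthogonalMDecomposition Qf 4 D) (hq : Fintype.card F = 2) (ht : 2 ≤ t)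
    (hplus : ∀ i, Cfsg.Geo.IsPlusTypeOn Qf (D i)) :
    ∃ K : Subgroup (GL ι F), Cfsg.Geo.decompositionStabilizer D ⊓ Cfsg.Geo.omegaGL Qf < K ∧
      K < Cfsg.Geo.omegaGL Qf := by
  classical
  have horth := orth_of_decomp hQf hD
  obtain ⟨hyp⟩ := exists_hypPairs hQ hn
  have htwo : (2 : F) = 0 := by
    have h := Nat.cast_card_eq_zero F
    rwa [hq] at h
  have h01 : ∀ r : F, r = 0 ∨ r = 1 := fun r => by
    have h := FiniteField.pow_card r
    rw [hq] at h
    have : r * (r - 1) = 0 := by linear_combination h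
    exact (mul_eq_zero.1 this).imp_right sub_eq_zero.1
  have hm : ∀ r : F, -r = r := fun r => by linear_combination -r * htwo
  -- two hyperbolic pairs in each member
  have hbasis : ∀ i, ∃ e f e' f' : ι → F, e ∈ D i ∧ f ∈ D i ∧ e' ∈ D i ∧ f' ∈ D i ∧ Q e = 0 ∧ Q f = 0 ∧ Q e' = 0 ∧
      Q f' = 0 ∧ polar Q e f = 1 ∧ polar Q e' f' = 1 ∧ polar Q e e' = 0 ∧ polar Q e f' = 0 ∧ polar Q f e' = 0 ∧
      polar Q f f' = 0 := by
    intro i
    obtain ⟨U, hU, hts, hdim⟩ := hplus i
    have hfr := hD.decomp.decomp.finrank_eq i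
    have hU2 : finrank F U = 2 := by omega
    obtain ⟨e, heU, he0⟩ := Submodule.exists_mem_ne_zero_of_ne_bot (p := U) (fun h => by
      rw [h, finrank_bot] at hU2; omega)
    have hQU : ∀ w ∈ U, Q w = 0 := fun w hw => (hQf w).symm.trans (hts w hw)
    obtain ⟨f, hf, hfQ, hef⟩ := exists_partner_sub (fun w hw h => member_nondeg hQf hD i hw h) (hU heU) he0 (hQU e heU)
    obtain ⟨u, huU, hue⟩ : ∃ u ∈ U, u ∉ F ∙ e := by
      by_contra hall
      push Not at hall
      have h1 := Submodule.finrank_mono (s := U) (t := F ∙ e) hall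
      rw [finrank_span_singleton he0, hU2] at h1
      omega
    obtain ⟨e', he'⟩ : ∃ e', e' = u + (-(polar Q f u)) • e := ⟨_, rfl⟩
    have he'U : e' ∈ U := he' ▸ U.add_mem huU (U.smul_mem _ heU)
    have he'0 : e' ≠ 0 := fun h => hue (Submodule.mem_span_singleton.2 ⟨polar Q f u, by
      rw [h, neg_smul, ← sub_eq_add_neg, eq_comm, sub_eq_zero] at he'; exact he'.symm⟩)
    have hee' : polar Q e e' = 0 := by
      rw [QuadraticMap.polar, hQU _ heU, hQU _ he'U, hQU _ (U.add_mem heU he'U)]; ring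
    have hfe : polar Q f e = 1 := by rw [polar_comm]; exact hef
    have hfe' : polar Q f e' = 0 := by rw [he', polar_add_right, polar_smul_r', hfe]; ring
    obtain ⟨f₀, hf₀, hf₀Q, hef₀⟩ :=
      exists_partner_sub (fun w hw h => member_nondeg hQf hD i hw h) (hU he'U) he'0 (hQU e' he'U)
    obtain ⟨g, hg⟩ : ∃ g, g = f₀ + (-(polar Q f f₀)) • e + (-(polar Q e f₀)) • f := ⟨_, rfl⟩
    have hgD : g ∈ D i := hg ▸ (D i).add_mem ((D i).add_mem hf₀ ((D i).smul_mem _ (hU heU))) ((D i).smul_mem _ hf)
    have heg : polar Q e g = 0 := by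
      rw [hg, polar_add_right, polar_add_right, polar_smul_r', polar_smul_r', polar_self', hQU e heU, hef]; ring
    have hfg : polar Q f g = 0 := by
      rw [hg, polar_add_right, polar_add_right, polar_smul_r', polar_smul_r', polar_self', hfQ, hfe]; ring
    have he'g : polar Q e' g = 1 := by
      rw [hg, polar_add_right, polar_add_right, polar_smul_r', polar_smul_r', polar_comm _ e' e, hee',
        polar_comm _ e' f, hfe', hef₀]; ring
    refine ⟨e, f, e', g + (-(Q g)) • e', hU heU, hf, hU he'U, (D i).add_mem hgD ((D i).smul_mem _ (hU he'U)),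
      hQU e heU, hfQ, hQU e' he'U, ?_, hef, ?_, hee', ?_, hfe', ?_⟩
    · rw [quad_add', quad_smul', hQU e' he'U, polar_smul_r', polar_comm _ g e', he'g]; ring
    · rw [polar_add_right, polar_smul_r', he'g, polar_self', hQU e' he'U]; ring
    · rw [polar_add_right, polar_smul_r', heg, hee']; ring
    · rw [polar_add_right, polar_smul_r', hfg, hfe']; ring
  choose e f e' f' he hf he' hf' heQ hfQ he'Q hf'Q hef he'f' hee' hef' hfe' hff' using hbasis
  let a : Fin t → ι → F := fun i => e i + f i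
  let b : Fin t → ι → F := fun i => e i + (e' i + f' i)
  have haD : ∀ i, a i ∈ D i := fun i => (D i).add_mem (he i) (hf i)
  have hbD : ∀ i, b i ∈ D i := fun i => (D i).add_mem (he i) ((D i).add_mem (he' i) (hf' i))
  have haQ : ∀ i, Q (a i) = 1 := fun i => by simp only [a]; rw [quad_add', heQ, hfQ, hef]; ring
  have hbQ : ∀ i, Q (b i) = 1 := fun i => by
    simp only [b]
    rw [quad_add', quad_add' _ (e' i), polar_add_right, heQ, he'Q, hf'Q, he'f', hee', hef']; ring
  have hab : ∀ i, polar Q (a i) (b i) = 1 := fun i => by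
    simp only [a, b]
    simp only [polar_add_left, polar_add_right, polar_self', heQ, hee', hef', hfe', hff', polar_comm _ (f i) (e i), hef]
    ring
  have hchar : ∀ i, ∀ x ∈ D i, Q x = 1 →
      (polar Q (a i) x = 0 ∧ polar Q (b i) x = 0) ∨ x = polar Q (b i) x • a i + polar Q (a i) x • b i := by
    intro i x hx hxQ
    have hfe₀ : polar Q (f i) (e i) = 1 := by rw [polar_comm]; exact hef i
    have hfe₁ : polar Q (f' i) (e' i) = 1 := by rw [polar_comm]; exact he'f' i
    have hx' := expand (Q := Q) (b := ![e i, f i, e' i, f' i]) (c := ![f i, e i, f' i, e' i]) (W := D i)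
      (by intro j; fin_cases j <;> simp [he, hf, he', hf'])
      (by
        intro p r
        fin_cases p <;> fin_cases r <;>
          simp [polar_self', heQ, hfQ, he'Q, hf'Q, hef, he'f', hfe₀, hfe₁, hee', hef', hfe', hff',
            polar_comm _ (e' i) (e i), polar_comm _ (f' i) (e i), polar_comm _ (e' i) (f i),
            polar_comm _ (f' i) (f i)])
      (by rw [hD.decomp.decomp.finrank_eq i]; simp) hx
    rw [Fin.sum_univ_four] at hx'
    obtain ⟨α, β, γ, δ, rfl⟩ : ∃ α β γ δ : F, x = α • e i + β • f i + γ • e' i + δ • f' i := ⟨_, _, _, _, hx'⟩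
    have hqx : α * β + γ * δ = 1 := by
      rw [← hxQ]
      simp only [quad_add', quad_smul', polar_add_left, polar_smul_l', polar_smul_r', heQ, hfQ, he'Q, hf'Q, hef,
        he'f', hee', hef', hfe', hff']
      ring
    have hp : polar Q (a i) (α • e i + β • f i + γ • e' i + δ • f' i) = α + β := by
      simp only [a, polar_add_left, polar_add_right, polar_smul_r', polar_self', heQ, hfQ, hef, hfe₀, hee', hef',
        hfe', hff']
      ring
    have hr : polar Q (b i) (α • e i + β • f i + γ • e' i + δ • f' i) = β + γ + δ := by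
      simp only [b, polar_add_left, polar_add_right, polar_smul_r', polar_self', heQ, he'Q, hf'Q, hef, hfe₁, he'f',
        hee', hef', polar_comm _ (e' i) (e i), polar_comm _ (f' i) (e i), polar_comm _ (e' i) (f i),
        polar_comm _ (f' i) (f i), hfe', hff']
      ring
    rw [hp, hr]
    have h11 : (1 : F) + 1 = 0 := by linear_combination htwo
    rcases h01 α with eα | eα <;> rcases h01 β with eβ | eβ <;> rcases h01 γ with eγ | eγ <;>
      rcases h01 δ with eδ | eδ <;> simp only [eα, eβ, eγ, eδ] at hqx ⊢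
    all_goals first
      | (exfalso; simp [h11] at hqx; done)
      | (left; simp [h11]; done)
      | (right; simp only [a, b]; simp [h11]; module)
      | (right; simp only [a, b]; simp [h11]; done)
      | (right; simp only [a, b]; linear_combination (norm := (match_scalars <;> simp [h11])) (0 : F) • (e i))
  let c : ℕ → Fin t := fun m => ⟨m % t, Nat.mod_lt _ (by omega)⟩
  have hc01 : c 0 ≠ c 1 := fun h => by
    have := congrArg Fin.val h
    simp only [c] at this
    rw [Nat.mod_eq_of_lt (by omega), Nat.mod_eq_of_lt (by omega)] at this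
    omega
  set i₀ := c 0
  set i₁ := c 1
  have hd : Q (a i₀ + a i₁) = 0 := by
    rw [quad_add', haQ, haQ, horth _ _ hc01 _ (haD _) _ (haD _)]; linear_combination htwo
  have hu : Q (b i₀ + b i₁) = 0 := by
    rw [quad_add', hbQ, hbQ, horth _ _ hc01 _ (hbD _) _ (hbD _)]; linear_combination htwo
  have hdu : polar Q (a i₀ + a i₁) (b i₀ + b i₁) = 0 := by
    simp only [polar_add_left, polar_add_right, hab, horth _ _ hc01 _ (haD _) _ (hbD _),
      horth _ _ hc01.symm _ (haD _) _ (hbD _)]
    linear_combination htwo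
  obtain ⟨k₁, hk₁⟩ := exists_isSiegel hQ hd hdu
  obtain ⟨k₂, hk₂⟩ := exists_isSiegel hQ (heQ i₀) (u := e i₁) (horth _ _ hc01 _ (he _) _ (he _))
  have hfix : ∀ x, polar Q (a i₀ + a i₁) x = 0 → polar Q (b i₀ + b i₁) x = 0 → k₁.1 x = x := fun x h h' => by
    rw [hk₁.2.2, h, h']; simp
  have hswap : ∀ i i', (i = i₀ ∧ i' = i₁) ∨ (i = i₁ ∧ i' = i₀) → k₁.1 (a i) = a i' ∧ k₁.1 (b i) = b i' := by
    intro i i' hii
    have hne : i' ≠ i := by rcases hii with ⟨rfl, rfl⟩ | ⟨rfl, rfl⟩ <;> [exact hc01.symm; exact hc01]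
    have hd' : a i₀ + a i₁ = a i + a i' := by rcases hii with ⟨rfl, rfl⟩ | ⟨rfl, rfl⟩ <;> [rfl; exact add_comm _ _]
    have hu' : b i₀ + b i₁ = b i + b i' := by rcases hii with ⟨rfl, rfl⟩ | ⟨rfl, rfl⟩ <;> [rfl; exact add_comm _ _]
    have hba : polar Q (b i) (a i) = 1 := by rw [polar_comm]; exact hab i
    rw [hk₁.2.2, hk₁.2.2, hu, hd', hu']
    simp only [polar_add_left, polar_self', haQ, hbQ, hab, hba, htwo, zero_mul, horth _ _ hne _ (haD _) _ (haD _),
      horth _ _ hne _ (hbD _) _ (hbD _), horth _ _ hne _ (haD _) _ (hbD _), horth _ _ hne _ (hbD _) _ (haD _),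
      add_zero, sub_zero, neg_zero, one_smul, zero_smul, hm]
    have two : ∀ y : ι → F, y + y = 0 := fun y => by rw [← two_smul F, htwo, zero_smul]
    constructor
    · rw [← add_assoc, two, zero_add]
    · rw [← add_assoc, two, zero_add]
  refine set_nonmax (D := D) hQf (memberSet Q D 1) (memberSet_invariant 1) (hk₁.mem_commutator hQ h4 hyp hn) ?_ ?_
    (hk₂.mem_commutator hQ h4 hyp hn) ?_
  · rintro x ⟨i, hx, hxQ⟩
    have hQ' : Q (k₁.1 x) = 1 := by rw [apply_quad, hxQ]
    have key : ∀ i', ((i = i₀ ∧ i' = i₁) ∨ (i = i₁ ∧ i' = i₀)) → k₁.1 x ∈ memberSet Q D 1 := by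
      intro i' hii
      rcases hchar i x hx hxQ with ⟨h, h'⟩ | h
      · refine ⟨i, ?_, hQ'⟩
        rcases hii with ⟨rfl, rfl⟩ | ⟨rfl, rfl⟩
        · rw [hfix x (by rw [polar_add_left, h, horth _ _ hc01.symm _ (haD _) _ hx, add_zero])
            (by rw [polar_add_left, h', horth _ _ hc01.symm _ (hbD _) _ hx, add_zero])]
          exact hx
        · rw [hfix x (by rw [polar_add_left, h, horth _ _ hc01 _ (haD _) _ hx, add_zero])
            (by rw [polar_add_left, h', horth _ _ hc01 _ (hbD _) _ hx, add_zero])]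
          exact hx
      · refine ⟨i', ?_, hQ'⟩
        obtain ⟨ha', hb'⟩ := hswap i i' hii
        rw [h, map_add, map_smul, map_smul, ha', hb']
        exact (D i').add_mem ((D i').smul_mem _ (haD _)) ((D i').smul_mem _ (hbD _))
    by_cases h0 : i = i₀
    · exact key i₁ (Or.inl ⟨h0, rfl⟩)
    by_cases h1 : i = i₁
    · exact key i₀ (Or.inr ⟨h1, rfl⟩)
    refine ⟨i, ?_, hQ'⟩
    rw [hfix x (by rw [polar_add_left, horth _ _ (Ne.symm h0) _ (haD _) _ hx, horth _ _ (Ne.symm h1) _ (haD _) _ hx,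
        add_zero])
      (by rw [polar_add_left, horth _ _ (Ne.symm h0) _ (hbD _) _ hx, horth _ _ (Ne.symm h1) _ (hbD _) _ hx, add_zero])]
    exact hx
  · refine ⟨i₀, a i₀, haD _, e' i₀ + f' i₀, (D _).add_mem (he' _) (hf' _), fun j hj hj' => ?_⟩
    rw [(hswap i₀ i₁ (Or.inl ⟨rfl, rfl⟩)).1] at hj
    have hwa : polar Q (a i₀) (e' i₀ + f' i₀) = 0 := by
      simp only [a, polar_add_left, polar_add_right, hee', hef', hfe', hff']; ring
    have hwb : polar Q (b i₀) (e' i₀ + f' i₀) = 0 := by
      simp only [b, polar_add_left, polar_add_right, hee', hef', polar_self', he'Q, hf'Q, he'f',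
        polar_comm _ (f' i₀) (e' i₀)]
      linear_combination htwo
    have hwD : e' i₀ + f' i₀ ∈ D i₀ := (D _).add_mem (he' _) (hf' _)
    rw [hfix _ (by rw [polar_add_left, hwa, horth _ _ hc01.symm _ (haD _) _ hwD, add_zero])
      (by rw [polar_add_left, hwb, horth _ _ hc01.symm _ (hbD _) _ hwD, add_zero])] at hj'
    have hne0 : a i₁ ≠ 0 := fun h => by
      have := haQ i₁; rw [h, QuadraticMap.map_zero] at this; exact zero_ne_one this
    have hw0 : e' i₀ + f' i₀ ≠ 0 := fun h => by
      have : Q (e' i₀ + f' i₀) = 1 := by rw [quad_add', he'Q, hf'Q, he'f']; ring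
      rw [h, QuadraticMap.map_zero] at this; exact zero_ne_one this
    exact hc01 ((mem_iff_of_disjoint hD.decomp.decomp hwD hj' hw0).trans
      (mem_iff_of_disjoint hD.decomp.decomp hj (haD i₁) hne0))
  · refine ⟨a i₀, ⟨i₀, haD _, haQ _⟩, fun ⟨j, hj, _⟩ => ?_⟩
    have he0 : polar Q (e i₀) (a i₀) = 1 := by simp only [a]; rw [polar_add_right, polar_self', heQ, hef]; ring
    rw [hk₂.2.2, he0, heQ, horth _ _ hc01.symm _ (he _) _ (haD _)] at hj
    simp only [one_smul, neg_zero, zero_mul, sub_zero, zero_smul, add_zero] at hj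
    refine not_mem_member horth hc01 (he i₀) (hf i₁) ?_ ?_ j hj
    · rw [polar_add_right, he0, horth _ _ hc01 _ (he _) _ (he _), add_zero]; exact one_ne_zero
    · rw [polar_add_right, horth _ _ hc01.symm _ (hf _) _ (haD _), polar_comm _ _ (e i₁), hef, zero_add]
      exact one_ne_zero

end CfsgLib.Classical.RefineSet
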