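import Cfsg.Agent.Lib.Classical.TensorCore
import Cfsg.Agent.Lib.Classical.SubfieldOrth.QuadMax

/-!
# Tensor stabilisers in `Ω(Q)` over three elements
-/

set_option autoImplicit false
set_option linter.unusedSectionVars false
set_option backward.isDefEq.respectTransparency false

open Module QuadraticMap CfsgLib.Orth Matrix

namespace CfsgLib.Classical.TensorNonMax

variable {F : Type*} [Field F] [Fintype F] {ι : Type} [Fintype ι] [DecidableEq ι]

theorem orth_tensor_nonmax {Qf : (ι → F) → F} (Q : QuadraticForm F (ι → F)) (hQf : ∀ v, Qf v = Q v)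
    (hQ : (QuadraticMap.polarBilin Q).Nondegenerate) (h4 : Good F (ι → F)) (hn : 5 ≤ Fintype.card ι)
    (hq : Fintype.card F = 3) {n₂ : ℕ} (h2 : 3 ≤ n₂) (e : ι ≃ Fin 3 × Fin n₂) (P : GL ι F)
    {f₁ : (Fin 3 → F) → (Fin 3 → F) → F} {f₂ : (Fin n₂ → F) → (Fin n₂ → F) → F}
    (hf₁ : Cfsg.Geo.IsSymmetricForm f₁) (hf₂ : Cfsg.Geo.IsSymmetricForm f₂)
    (hT : Cfsg.Geo.IsTensorFormStructure id (QuadraticMap.polar Qf) f₁ f₂ e P) :
    ∃ K : Subgroup (GL ι F), Cfsg.Geo.tensorProductSubgroup 3 n₂ e P ⊓ Cfsg.Geo.omegaGL Qf < K ∧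
      K < Cfsg.Geo.omegaGL Qf := by
  classical
  obtain rfl : Qf = ⇑Q := funext hQf
  obtain ⟨-, h3, htwo⟩ := three_cases hq (0 : F)
  obtain ⟨c, hc, hf⟩ := tmap_form e P (σ := id) (fun _ _ => rfl) hT
  obtain ⟨v, D, hD, hv⟩ := exists_orth3 hq hf₁
  have hgr₁ := gram_expand (g := f₁) (τ := id) hf₁.bilinear.add_left hf₁.bilinear.smul_left hf₁.bilinear.add_right
    hf₁.bilinear.smul_right
  have hgr₂ := gram_expand (g := f₂) (τ := id) hf₂.bilinear.add_left hf₂.bilinear.smul_left hf₂.bilinear.add_right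
    hf₂.bilinear.smul_right
  have hli := orth_li (τ := id) hf₁.bilinear.add_left hf₁.bilinear.smul_left hD hv
  have hd : IsData (tmap e P) (polar Q) f₁ f₂ v c D := ⟨hc, hD, fun u u' w w' => by
    rw [hf, hgr₁, hgr₂], hv, fun w h => tmap_indep e P hli h, hli⟩
  -- vectors in the first block
  have hU : 3 ≤ finrank F (LinearMap.range (tmap e P (v 0))) := by
    rw [LinearMap.finrank_range_of_inj (hd.injective 0), Module.finrank_fin_fun]; exact h2
  obtain ⟨_, ⟨a, rfl⟩, ha0, haQ⟩ := SubfieldOrth.exists_singular_sub (Q := Q) hU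
  have ha : a ≠ 0 := fun h => ha0 (by rw [h, map_zero])
  have hQL : ∀ i w, 2 * Q (tmap e P (v i) w) = c * D * f₂ w w := fun i w => by
    rw [← hd.on, polar_self']
  have haa : f₂ a a = 0 := by
    have := hQL 0 a
    rw [haQ, mul_zero] at this
    exact (mul_eq_zero.1 this.symm).resolve_left (mul_ne_zero hc hD)
  have hQa : ∀ i, Q (tmap e P (v i) a) = 0 := fun i => by
    have := hQL i a
    rw [haa, mul_zero] at this
    exact (mul_eq_zero.1 this).resolve_left htwo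
  obtain ⟨x, hax⟩ := (hf₂.nondegenerate a ha).2
  have hxa : x ∉ F ∙ a := fun hx => by
    obtain ⟨t, rfl⟩ := Submodule.mem_span_singleton.1 hx
    exact hax (by rw [hf₂.bilinear.smul_right, haa, mul_zero])
  obtain ⟨u, hau, hua⟩ : ∃ u, f₂ a u = 0 ∧ u ∉ F ∙ a := by
    by_contra hc'
    push Not at hc'
    let φ : (Fin n₂ → F) →ₗ[F] F :=
      { toFun := f₂ a
        map_add' := hf₂.bilinear.add_right a
        map_smul' := fun t w => by rw [RingHom.id_apply, smul_eq_mul, hf₂.bilinear.smul_right] }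
    have h1 := φ.finrank_range_add_finrank_ker
    have h2' : finrank F (LinearMap.range φ) ≤ 1 := (Submodule.finrank_le _).trans (by simp)
    have h3' : LinearMap.ker φ ≤ F ∙ a := fun w hw => hc' w (LinearMap.mem_ker.1 hw)
    have h4' := Submodule.finrank_mono h3'
    rw [finrank_span_singleton ha] at h4'
    rw [Module.finrank_fin_fun] at h1
    omega
  have hp : ∀ i j (w w' : Fin n₂ → F), i ≠ j → polar Q (tmap e P (v i) w) (tmap e P (v j) w') = 0 :=
    fun i j w w' h => hd.off h w w'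
  have hn5 : 5 ≤ finrank F (ι → F) := by simpa using hn
  obtain ⟨hyp⟩ := exists_hypPairs hQ hn5
  have hadu : polar Q (tmap e P (v 0) a) (tmap e P (v 0) u) = 0 := by rw [hd.on, hau, mul_zero]
  have hQ2 : Q (tmap e P (v 0) a + tmap e P (v 1) a) = 0 := by
    rw [quad_add', hQa, hQa, hp 0 1 _ _ (by decide)]; ring
  have hadu2 : polar Q (tmap e P (v 0) a + tmap e P (v 1) a) (tmap e P (v 0) u) = 0 := by
    rw [polar_add_left, hadu, hp 1 0 _ _ (by decide), add_zero]
  obtain ⟨s₁, hs₁⟩ := exists_isSiegel hQ (hQa 0) hadu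
  obtain ⟨s₂, hs₂⟩ := exists_isSiegel hQ hQ2 hadu2
  have hmem : ∀ {g : orthGroup Q} {d w : ι → F}, IsSiegel g d w →
      orthToGL Q hQf g ∈ Cfsg.Geo.omegaGL (Q : (ι → F) → F) := fun {g d w} hg => by
    rw [omegaGL_eq Q hQf]
    exact Subgroup.mem_map_of_mem _ (hg.mem_commutator hQ h4 hyp hn5)
  have hmv : ∀ (g : orthGroup Q) (y : ι → F), (orthToGL Q hQf g : Matrix ι ι F) *ᵥ y = g.1 y :=
    fun g y => matOf_mulVec Q g y
  have hG : ∀ h ∈ Cfsg.Geo.omegaGL (Q : (ι → F) → F), ∀ y z,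
      polar Q ((h : Matrix ι ι F) *ᵥ y) ((h : Matrix ι ι F) *ᵥ z) = polar Q y z := by
    intro h hh y z
    rw [omegaGL_eq Q hQf] at hh
    obtain ⟨g, -, rfl⟩ := hh
    rw [hmv, hmv, polar_isom]
  refine hd.exists_between ⟨a, x, hax⟩ hG (fun h hh => tmap_mul e P hh)
    (fun A μ hμ hA => mono3 hq hf₁ hD hv hμ hA) (hmem hs₁) (i₀ := 0) (i₁ := 1) (by decide) ?_ ?_ ?_ ?_
    (hmem hs₂) ?_
  · intro i hi w
    rw [hmv, hs₁.2.2, hp 0 i _ _ (Ne.symm hi), hp 0 i _ _ (Ne.symm hi)]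
    simp
  · intro w
    exact ⟨w + polar Q (tmap e P (v 0) a) (tmap e P (v 0) w) • u +
      (-(polar Q (tmap e P (v 0) u) (tmap e P (v 0) w)) -
        Q (tmap e P (v 0) u) * polar Q (tmap e P (v 0) a) (tmap e P (v 0) w)) • a,
      by rw [hmv, hs₁.2.2]; simp only [map_add, map_smul]⟩
  · refine ⟨x, fun h => hua ?_⟩
    rw [hmv, hs₁.2.2, hd.on, add_assoc, add_eq_left] at h
    have h' : (c * D * f₂ a x) • u + (-(polar Q (tmap e P (v 0) u) (tmap e P (v 0) x)) -
        Q (tmap e P (v 0) u) * (c * D * f₂ a x)) • a = 0 := hd.injective 0 (by simpa only [map_add, map_smul, map_zero] using h)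
    refine Submodule.mem_span_singleton.2 ⟨-((c * D * f₂ a x)⁻¹ * (-(polar Q (tmap e P (v 0) u) (tmap e P (v 0) x)) -
        Q (tmap e P (v 0) u) * (c * D * f₂ a x))), ?_⟩
    rw [neg_smul, mul_smul, eq_neg_of_add_eq_zero_right h', smul_neg, neg_neg,
      inv_smul_smul₀ (mul_ne_zero (mul_ne_zero hc hD) hax)]
  · refine ⟨a, ha, ?_⟩
    rw [hmv, hs₁.2.2, hd.on, haa, polar_comm _ _ (tmap e P (v 0) a), hadu]
    simp
  · set p := c * D * f₂ a x with hpdef
    have hp0 : p ≠ 0 := mul_ne_zero (mul_ne_zero hc hD) hax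
    set r := -(Q (tmap e P (v 0) u) * p) with hr
    refine ⟨x, p • u + r • a, x + r • a, fun h => hua ?_, fun h => hxa ?_, ?_⟩
    · refine Submodule.mem_span_singleton.2 ⟨-(p⁻¹ * r), ?_⟩
      rw [neg_smul, mul_smul, eq_neg_of_add_eq_zero_right h, smul_neg, neg_neg, inv_smul_smul₀ hp0]
    · exact Submodule.mem_span_singleton.2 ⟨-r, by rw [neg_smul, ← eq_neg_of_add_eq_zero_left h]⟩
    rw [hmv, hs₂.2.2, polar_add_left, hp 0 1 _ _ (by decide), hd.on, hp 0 1 _ _ (by decide), neg_zero, zero_sub,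
      zero_add, ← hpdef, ← hr]
    simp only [map_add, map_smul]
    module

end CfsgLib.Classical.TensorNonMax
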