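import Cfsg.Agent.Lib.Classical.OrthND8

/-!
# Stabilisers of non-degenerate subspaces in dimension ten
-/

set_option autoImplicit false

open Module QuadraticMap CfsgLib.Orth

namespace CfsgLib.Classical

variable {F : Type*} [Field F] [Fintype F] {ι : Type} [Fintype ι] [DecidableEq ι] {Qf : (ι → F) → F}

/-- Stabilisers of non-degenerate subspaces of unequal sides in a space of dimension at least nine. -/
theorem nondeg10_isMaximalIn (Q : QuadraticForm F (ι → F)) (hQf : ∀ v, Qf v = Q v)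
    (hQ : (QuadraticMap.polarBilin Q).Nondegenerate) (h4 : Good F (ι → F)) (hn : 9 ≤ finrank F (ι → F))
    (W : Submodule F (ι → F)) (hW : NdSub Q W) (hW0 : W ≠ ⊥) (hW1 : W ≠ ⊤)
    (hne : 2 * finrank F W ≠ finrank F (ι → F))
    (hsmall : ∀ P : Submodule F (ι → F), P = W ∨ P = qperp Q W → finrank F P ≤ 2 →
      4 ≤ Fintype.card F ∨ ∀ v ∈ P, Q v = 0 → v = 0) :
    Cfsg.Geo.IsMaximalIn (Cfsg.Geo.omegaGL Qf) (Cfsg.Geo.subspaceStabilizer W ⊓ Cfsg.Geo.omegaGL Qf) := by
  classical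
  have hPd := finrank_qperp hQ W
  have hWP := ndSub_qperp hQ hW
  suffices H : ∀ U : Submodule F (ι → F), NdSub Q U → stab (Q := Q) U = stab (Q := Q) W → qperp Q U ≠ ⊥ →
      (qperp Q U = W ∨ qperp Q U = qperp Q W) → finrank F (ι → F) < 2 * finrank F U →
      Cfsg.Geo.IsMaximalIn (Cfsg.Geo.omegaGL Qf) (Cfsg.Geo.subspaceStabilizer W ⊓ Cfsg.Geo.omegaGL Qf) by
    have hP0 : qperp Q W ≠ ⊥ := fun e => hW1 (by
      rw [← qperp_qperp hQ W, e]
      exact Submodule.eq_top_iff'.2 fun x y hy => by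
        rw [(Submodule.mem_bot F).1 hy]; exact polar_zero_left Q x)
    rcases Nat.lt_or_gt_of_ne hne with h | h
    · exact H (qperp Q W) hWP (stab_qperp_eq hQ W) (by rw [qperp_qperp hQ W]; exact hW0)
        (Or.inl (qperp_qperp hQ W)) (by omega)
    · exact H W hW rfl hP0 (Or.inr rfl) (by omega)
  intro U hU hstab hP0 hPeq hk
  have hUd := finrank_qperp hQ U
  obtain ⟨hpU⟩ : Nonempty (HypPairs (Q.comp U.subtype)) := exists_hypPairs hU (by omega)
  have hgood : 4 ≤ Fintype.card F ∨ 3 ≤ finrank F (qperp Q U) ∨ ∀ v ∈ qperp Q U, Q v = 0 → v = 0 := by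
    rcases Nat.lt_or_ge (finrank F (qperp Q U)) 3 with h | h
    · rcases hsmall _ hPeq (by omega) with h' | h'
      · exact Or.inl h'
      · exact Or.inr (Or.inr h')
    · exact Or.inr (Or.inl h)
  obtain ⟨w, hw, hw0⟩ := Submodule.exists_mem_ne_zero_of_ne_bot hP0
  refine omega_isMaximalIn Q hQf W ?_ fun M hM g hg hgΩ hgW => ?_
  · obtain ⟨k, hk', hkU⟩ := exists_not_stab_nondeg' hQ h4 (by omega) hU hpU hw hw0
    exact ⟨k, hk', hstab ▸ hkU⟩
  refine top_of_stab_pairs hQ h4 (by omega) hU hpU (by omega) (fun h => by omega) hgood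
    (fun g' _ hle => ?_) (hstab ▸ hM) hg hgΩ (hstab ▸ hgW)
  have h1 := Submodule.finrank_mono hle
  rw [LinearEquiv.finrank_map_eq] at h1
  omega

/-- Stabilisers of two orthogonal halves of odd dimension which are not isometric. -/
theorem nonisometric_pair_isMaximalIn {n : ℕ} (Q : QuadraticForm F (Fin n → F))
    (hQ : (QuadraticMap.polarBilin Q).Nondegenerate) (hn : 9 ≤ n) (k : ℕ) (hk : 2 * k = n)
    (D : Fin 2 → Submodule F (Fin n → F)) (hD : Cfsg.Geo.IsNondegenerateMDecomposition (QuadraticMap.polar ⇑Q) k D)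
    (hni : ¬ Cfsg.Geo.AreIsometricFor ⇑Q (D 0) (D 1)) :
    Cfsg.Geo.IsMaximalIn (Cfsg.Geo.omegaGL ⇑Q) (Cfsg.Geo.decompositionStabilizer D ⊓ Cfsg.Geo.omegaGL ⇑Q) := by
  classical
  have hn' : Module.finrank F (Fin n → F) = n := Module.finrank_fin_fun F
  have hd := hD.decomp.finrank_eq
  have hU : NdSub Q (D 0) := ndSub_of_on fun w hw hw0 => (hD.nondegenerate 0 w hw hw0).2
  have hle1 : D 1 ≤ qperp Q (D 0) := fun x hx y hy => hD.orthogonal 0 1 (by decide) y hy x hx
  have hperp : qperp Q (D 0) = D 1 := (Submodule.eq_of_le_of_finrank_eq hle1 (by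
      have := finrank_qperp hQ (D 0)
      have := hd 0; have := hd 1; omega)).symm
  have hno : ∀ g : orthGroup Q, ¬ (D 0).map (g.1 : (Fin n → F) →ₗ[F] (Fin n → F)) ≤ qperp Q (D 0) := by
    intro g hle
    rw [hperp] at hle
    have he : (D 0).map (g.1 : (Fin n → F) →ₗ[F] (Fin n → F)) = D 1 := Submodule.eq_of_le_of_finrank_eq hle
      (by rw [LinearEquiv.finrank_map_eq, hd, hd])
    exact hni ⟨g.1.ofSubmodules _ _ he, fun x => apply_quad g (x : Fin n → F)⟩
  have hstab : Cfsg.Geo.decompositionStabilizer D ⊓ Cfsg.Geo.omegaGL ⇑Q =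
      Cfsg.Geo.subspaceStabilizer (D 0) ⊓ Cfsg.Geo.omegaGL ⇑Q := by
    ext x
    constructor
    · rintro ⟨⟨σ, hσ⟩, hx⟩
      refine ⟨?_, hx⟩
      rw [omegaGL_eq Q (fun _ => rfl)] at hx
      obtain ⟨g, hg, rfl⟩ := hx
      simp only [toLin'_orthToGL] at hσ
      refine (orthToGL_mem_stab Q (fun _ => rfl) (D 0) g).2 ?_
      show (D 0).map _ = D 0
      rcases Fin.exists_fin_two.1 (⟨σ 0, rfl⟩ : ∃ i, σ 0 = i) with h | h
      · exact (hσ 0).trans (congrArg D h)
      · exact absurd (le_of_eq ((hσ 0).trans ((congrArg D h).trans hperp.symm))) (hno g)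
    · rintro ⟨hs, hx⟩
      refine ⟨?_, hx⟩
      rw [omegaGL_eq Q (fun _ => rfl)] at hx
      obtain ⟨g, hg, rfl⟩ := hx
      have h0 := (orthToGL_mem_stab Q (fun _ => rfl) (D 0) g).1 hs
      have h1 := stab_le_stab_qperp (D 0) h0
      rw [hperp] at h1
      refine ⟨1, Fin.forall_fin_two.2 ⟨?_, ?_⟩⟩ <;> rw [toLin'_orthToGL]
      · exact h0
      · exact h1
  rw [hstab]
  have h0 := hd 0
  obtain ⟨hpU⟩ : Nonempty (HypPairs (Q.comp (D 0).subtype)) := exists_hypPairs hU (by omega)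
  obtain ⟨w, hw, hw0⟩ := Submodule.exists_mem_ne_zero_of_ne_bot (p := D 1) (fun e => by
    have h1 := hd 1
    rw [e, finrank_bot] at h1
    omega)
  rw [← hperp] at hw
  exact omega_isMaximalIn Q (fun _ => rfl) (D 0)
    (exists_not_stab_nondeg' hQ (Or.inr (by omega)) (by omega) hU hpU hw hw0)
    fun M hM g hg hgΩ hgW => top_of_stab_pairs hQ (Or.inr (by omega)) (by omega) hU hpU (by omega)
      (fun h => by omega) (Or.inr (Or.inl (by rw [hperp, hd 1]; omega))) (fun g _ => hno g) hM hg hgΩ hgW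

end CfsgLib.Classical
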