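import Cfsg.Agent.Lib.Classical.OrthMaxND
import Cfsg.Agent.Lib.Classical.SubfieldOrth.QuadFrame
import Cfsg.Agent.Lib.Derangements.OrthInvariant

/-!
# Stabilisers of non-degenerate subspaces with two hyperbolic pairs, also in small dimension

The maximality argument of `OrthMaxND` with `5 ≤ dim U` weakened to two hyperbolic pairs in `U`.
-/

set_option autoImplicit false
set_option linter.unusedSectionVars false

open Module QuadraticMap CfsgLib.Orth CfsgLib.Derangements.OrthInv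

namespace CfsgLib.Classical

variable {F V : Type*} [Field F] [Fintype F] [AddCommGroup V] [Module F V] [FiniteDimensional F V]
  {Q : QuadraticForm F V}

/-- Two singular vectors of a space with two hyperbolic pairs have a common singular non-orthogonal one. -/
theorem pairs_common {W : Type*} [AddCommGroup W] [Module F W] [FiniteDimensional F W] {R : QuadraticForm F W}
    (hR : (QuadraticMap.polarBilin R).Nondegenerate) (hp : HypPairs R) {x y : W} (hx : R x = 0) (hy : R y = 0)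
    (hx0 : x ≠ 0) (hy0 : y ≠ 0) : ∃ r, R r = 0 ∧ polar R r x ≠ 0 ∧ polar R r y ≠ 0 := by
  obtain ⟨hp, rfl⟩ := hp.exists_at hR hx hx0
  by_contra! hall
  have hr : ∀ z, polar R hp.e₀ z = 0 → polar R hp.f₀ z = 0 →
      polar R z y + polar R hp.f₀ y = R z * polar R hp.e₀ y := by
    intro z h1 h2
    have h := hall (hp.f₀ + z + (-(R z)) • hp.e₀)
      (by simp only [quad_add', quad_smul', polar_add_left, polar_smul_r', hp.hf₀, hp.he₀, h2, hp.c00,
            polar_comm _ z hp.e₀, h1]; ring)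
      (by simp only [polar_add_left, polar_smul_l', hp.c00, polar_comm _ z hp.e₀, h1, polar_self', hp.he₀]; simp)
    simp only [polar_add_left, polar_smul_l'] at h
    linear_combination h
  have hf : polar R hp.f₀ y = 0 := by simpa using hr 0 (polar_zero_right R _) (polar_zero_right R _)
  have he₁ := hr hp.e₁ hp.hee hp.hfe
  have hf₁ := hr hp.f₁ hp.hef hp.hff
  have hs := hr (hp.e₁ + hp.f₁) (by rw [polar_add_right, hp.hee, hp.hef, add_zero])
    (by rw [polar_add_right, hp.hfe, hp.hff, add_zero])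
  simp only [hp.he₁, hp.hf₁, hf, add_zero, zero_mul, quad_add', hp.h11, polar_add_left] at he₁ hf₁ hs
  rw [he₁, hf₁] at hs
  have he : polar R hp.e₀ y = 0 := by linear_combination -hs
  refine hy0 (hR.1 y fun v => ?_)
  rw [QuadraticMap.polarBilin_apply_apply, polar_comm]
  set z := v - polar R hp.f₀ v • hp.e₀ - polar R hp.e₀ v • hp.f₀ with hz
  have h := hr z
    (by simp only [hz, polar_sub_right, polar_smul_r', polar_self', hp.he₀, hp.h00]; ring)
    (by simp only [hz, polar_sub_right, polar_smul_r', polar_self', hp.hf₀, hp.c00]; ring)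
  simp only [he, hf, hz, add_zero, mul_zero, polar_sub_left, polar_smul_l', sub_zero] at h
  exact h

omit [Fintype F] in
theorem siegelIn_swap_neg {M : Subgroup (orthGroup Q)} {d u : V} (hd : Q d = 0) (h : SiegelIn M d u) :
    SiegelIn M u (-d) := fun g hg => h g (by
  have h0 : IsSiegel g ((-1 : F) • d) (-u) := by
    rw [neg_one_smul]; exact hg.swap (by rw [QuadraticMap.map_neg, hd])
  simpa using h0.of_smul (neg_ne_zero.2 one_ne_zero))

/-- An anisotropic plane is non-degenerate. -/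
theorem ndSub_of_aniso {X : Submodule F V} (h2X : 2 ≤ finrank F X) (han : ∀ x ∈ X, Q x = 0 → x = 0) :
    NdSub Q X := by
  refine ndSub_of_on fun r hr hr0 => ?_
  by_contra! hall
  have hrr := hall r hr
  rw [polar_self', mul_eq_zero, or_iff_left (fun e => hr0 (han r hr e))] at hrr
  haveI : CharP F 2 := CharTwo.of_one_ne_zero_of_two_eq_zero one_ne_zero hrr
  obtain ⟨s, hs, hsr⟩ : ∃ s ∈ X, s ∉ F ∙ r := by
    by_contra! h
    have := Submodule.finrank_mono (s := X) (t := F ∙ r) h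
    rw [finrank_span_singleton hr0] at this
    omega
  have hs0 : Q s ≠ 0 := fun e => hsr (by rw [han s hs e]; exact Submodule.zero_mem _)
  obtain ⟨t, ht⟩ := FiniteField.isSquare_of_char_two (ringChar.eq F 2) (Q r / Q s)
  have h0 := han (r + t • s) (X.add_mem hr (X.smul_mem _ hs)) (by
    rw [quad_add', quad_smul', polar_smul_r', hall s hs, ← ht, div_mul_cancel₀ _ hs0, mul_zero, add_zero,
      CharTwo.add_self_eq_zero])
  rcases eq_or_ne t 0 with rfl | ht0
  · rw [zero_smul, add_zero] at h0; exact hr0 h0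
  · refine hsr (Submodule.mem_span_singleton.2 ⟨-t⁻¹, ?_⟩)
    rw [eq_neg_of_add_eq_zero_left h0, smul_neg, neg_smul, neg_neg, inv_smul_smul₀ ht0]

variable (hQ : (QuadraticMap.polarBilin Q).Nondegenerate)
include hQ

omit hQ in
theorem side_pairs' {U : Submodule F V} (hU : NdSub Q U) (hpU : HypPairs (Q.comp U.subtype)) {x : V} (hxU : x ∈ U)
    (hx : Q x = 0) (hx0 : x ≠ 0) :
    ∃ hp : HypPairs Q, hp.e₀ = x ∧ hp.f₀ ∈ U ∧ hp.e₁ ∈ U ∧ hp.f₁ ∈ U := by
  obtain ⟨hp', h⟩ := hpU.exists_at hU (d := ⟨x, hxU⟩) hx (fun e => hx0 (congrArg Subtype.val e))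
  exact ⟨hp'.ofPreserving U.subtype (fun _ => rfl), congrArg Subtype.val h, hp'.f₀.2, hp'.e₁.2, hp'.f₁.2⟩

omit hQ in
theorem side_singular' {U : Submodule F V} (_hU : NdSub Q U) (hpU : HypPairs (Q.comp U.subtype)) :
    ∃ x ∈ U, Q x = 0 ∧ x ≠ 0 :=
  ⟨hpU.e₀, hpU.e₀.2, hpU.he₀, fun e => hpU.e₀_ne_zero (Subtype.ext e)⟩

/-- The vectors of `S` orthogonal to a pair. -/
theorem finrank_inf_pair (S : Submodule F V) (u u' : V) :
    finrank F S ≤ finrank F ↥(S ⊓ qperp Q (Submodule.span F {u, u'})) + 2 := by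
  classical
  have h1 := Submodule.finrank_sup_add_finrank_inf_eq S (qperp Q (Submodule.span F {u, u'}))
  have h2 := (S ⊔ qperp Q (Submodule.span F {u, u'})).finrank_le
  have h3 := finrank_qperp hQ (Submodule.span F {u, u'})
  have h5 := finrank_span_finset_le_card (R := F) ({u, u'} : Finset V)
  have h6 := Finset.card_le_two (a := u) (b := u')
  rw [Finset.coe_pair, Set.finrank] at h5
  omega

variable (h4 : Good F V) (hn : 5 ≤ finrank F V)
include h4 hn

section Side

variable {U : Submodule F V} (hU : NdSub Q U) (hpU : HypPairs (Q.comp U.subtype))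
  {M : Subgroup (orthGroup Q)} (hM : stab (Q := Q) U ⊓ commutator (orthGroup Q) ≤ M)
include hU hpU hM

/-- Moves inside `U` which fix the orthogonal complement. -/
theorem side_move' {x y : V} (hxU : x ∈ U) (hx : Q x = 0) (hx0 : x ≠ 0) (hyU : y ∈ U) (hy : Q y = 0) (hy0 : y ≠ 0) :
    ∃ k ∈ M, k.1 x = y ∧ ∀ w ∈ qperp Q U, k.1 w = w := by
  have step : ∀ r x y, r ∈ U → x ∈ U → y ∈ U → Q r = 0 → Q x = 0 → Q y = 0 → polar Q r x ≠ 0 →
      polar Q r y = polar Q r x → ∃ k ∈ M, k.1 x = y ∧ ∀ w ∈ qperp Q U, k.1 w = w := by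
    intro r x y hrU hxU hyU hr hx hy h1 h2
    obtain ⟨g, hg, e⟩ := siegel_move hQ hr hx hy h1 h2
    have hu := U.smul_mem (polar Q r x)⁻¹ (U.sub_mem hyU hxU)
    exact ⟨g, siegelIn_side hQ h4 hn hM hrU hu g hg, e,
      fun w hw => hg.fix (polar_qperp hrU hw) (polar_qperp hu hw)⟩
  have comp : ∀ x y z, (∃ k ∈ M, k.1 x = y ∧ ∀ w ∈ qperp Q U, k.1 w = w) →
      (∃ k ∈ M, k.1 y = z ∧ ∀ w ∈ qperp Q U, k.1 w = w) →
      ∃ k ∈ M, k.1 x = z ∧ ∀ w ∈ qperp Q U, k.1 w = w := by
    rintro x y z ⟨k, hk, e, f⟩ ⟨k', hk', e', f'⟩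
    exact ⟨k' * k, M.mul_mem hk' hk, by show k'.1 (k.1 x) = z; rw [e, e'],
      fun w hw => by show k'.1 (k.1 w) = w; rw [f w hw, f' w hw]⟩
  obtain ⟨r, hr, hrx, hry⟩ := pairs_common hU hpU (x := ⟨x, hxU⟩) (y := ⟨y, hyU⟩) hx hy
    (fun e => hx0 (congrArg Subtype.val e)) (fun e => hy0 (congrArg Subtype.val e))
  change polar Q (r : V) x ≠ 0 at hrx
  change polar Q (r : V) y ≠ 0 at hry
  set t := polar Q (r : V) x / polar Q (r : V) y
  have ht : t ≠ 0 := div_ne_zero hrx hry
  refine comp x (t • y) y (step r x _ r.2 hxU (U.smul_mem _ hyU) hr hx (by rw [quad_smul', hy, mul_zero]) hrx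
    (by rw [polar_smul_r']; exact div_mul_cancel₀ _ hry)) ?_
  obtain ⟨hp, he, hf₀, he₁, hf₁⟩ := side_pairs' hU hpU hyU hy hy0
  have hty : Q (t • hp.e₀) = 0 := by rw [quad_smul', hp.he₀, mul_zero]
  rw [← he]
  refine comp (t • hp.e₀) hp.e₁ hp.e₀ (step (hp.f₀ + t • hp.f₁) _ _ (U.add_mem hf₀ (U.smul_mem _ hf₁))
    (U.smul_mem _ (he ▸ hyU)) he₁ ?_ hty hp.he₁ ?_ ?_)
    (step (hp.f₀ + hp.f₁) _ _ (U.add_mem hf₀ hf₁) he₁ (he ▸ hyU) ?_ hp.he₁ hp.he₀ ?_ ?_)
  · simp only [quad_add', quad_smul', polar_smul_r', hp.hf₀, hp.hf₁, hp.hff]; ring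
  · simp only [polar_add_left, polar_smul_l', polar_smul_r', hp.c00, hp.cef]; simpa using ht
  · simp only [polar_add_left, polar_smul_l', polar_smul_r', hp.c00, hp.cef, hp.hfe, hp.c11]; ring
  · simp only [quad_add', hp.hf₀, hp.hf₁, hp.hff]; ring
  · simp only [polar_add_left, hp.hfe, hp.c11]; simp
  · simp only [polar_add_left, hp.hfe, hp.c11, hp.c00, hp.cef]; ring

/-- One mixed Siegel element with axis in `U` gives all axes of `U`. -/
theorem ax_side' (hgood : 4 ≤ Fintype.card F ∨ 3 ≤ finrank F (qperp Q U) ∨ ∀ v ∈ qperp Q U, Q v = 0 → v = 0)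
    {x₀ c₀ : V} (hx₀U : x₀ ∈ U) (hx₀ : Q x₀ = 0) (hx₀0 : x₀ ≠ 0) (hc₀ : c₀ ∈ qperp Q U) (hc₀0 : c₀ ≠ 0)
    (hseed : SiegelIn M x₀ c₀) {x : V} (hxU : x ∈ U) (hx : Q x = 0) : AxIn M x := by
  by_cases hx0 : x = 0
  · rw [hx0]; exact AxIn.zero M
  have hperp : ∀ c ∈ qperp Q U, polar Q x c = 0 := fun c hc => polar_qperp hxU hc
  let T : Submodule F V :=
    { carrier := {c | c ∈ qperp Q U ∧ SiegelIn M x c}
      add_mem' := fun {a b} ha hb =>
        ⟨Submodule.add_mem _ ha.1 hb.1, SiegelIn.add hQ hx (hperp a ha.1) (hperp b hb.1) ha.2 hb.2⟩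
      zero_mem' := ⟨Submodule.zero_mem _, by simpa using siegelIn_smul_self M hx (0 : F)⟩
      smul_mem' := fun t c hc => ⟨Submodule.smul_mem _ t hc.1, fun g hg => by
        by_cases ht : t = 0
        · subst ht; rw [zero_smul] at hg; rw [hg.unique (isSiegel_one hx)]; exact M.one_mem
        obtain ⟨k, hk', hkx, hkf⟩ := side_move' hQ h4 hn hU hpU hM hxU hx hx0 (U.smul_mem t hxU)
          (by rw [quad_smul', hx, mul_zero]) (smul_ne_zero ht hx0)
        have h1 := hc.2.conj hk'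
        rw [hkx, hkf c hc.1] at h1
        have h2 : IsSiegel g (t⁻¹ • (t • x)) (t • c) := by rwa [smul_smul, inv_mul_cancel₀ ht, one_smul]
        have h3 := h2.of_smul (inv_ne_zero ht)
        rw [smul_smul, inv_mul_cancel₀ ht, one_smul] at h3
        exact h1 g h3⟩ }
  have hinv : ∀ k ∈ M, k ∈ stab (Q := Q) U → k.1 x = x → ∀ c ∈ T, k.1 c ∈ T := fun k hk' hkU hkx c hc =>
    ⟨(show (qperp Q U).map _ = qperp Q U from stab_le_stab_qperp U hkU) ▸ ⟨c, hc.1, rfl⟩, by
      have := hc.2.conj hk'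
      rwa [hkx] at this⟩
  have hT : qperp Q U ≤ T := by
    refine invariant_eq hQ (ndSub_qperp hQ hU) (fun c hc => hc.1) ?_ ?_ ?_ hgood
    · obtain ⟨k, hk', hkx, hkf⟩ := side_move' hQ h4 hn hU hpU hM hx₀U hx₀ hx₀0 hxU hx hx0
      refine fun h => hc₀0 ?_
      have h1 := hseed.conj hk'
      rw [hkx, hkf c₀ hc₀] at h1
      exact (Submodule.eq_bot_iff _).1 h c₀ ⟨hc₀, h1⟩
    · intro w hw hw0 c hc
      obtain ⟨hp, he, -, he₁, hf₁⟩ := side_pairs' hU hpU hxU hx hx0
      set u := hp.e₁ + Q w • hp.f₁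
      have huU : u ∈ U := U.add_mem he₁ (U.smul_mem _ hf₁)
      have hu : Q u = Q w := by
        simp only [u, quad_add', quad_smul', polar_smul_r', hp.he₁, hp.hf₁, hp.h11]; ring
      have hux : polar Q u x = 0 := by
        simp only [u, ← he, polar_add_left, polar_smul_l', hp.cee, hp.cef]; ring
      have hkU : refl Q w * refl Q u ∈ stab (Q := Q) U := mem_stab_of_le fun z hz => by
        show (refl Q w).1 ((refl Q u).1 z) ∈ U
        have hz' : (refl Q u).1 z ∈ U := by rw [refl_apply]; exact U.sub_mem hz (U.smul_mem _ huU)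
        rw [refl_fix Q (polar_qperp' hz' hw)]
        exact hz'
      have h := hinv _ (hM ⟨hkU, refl_pair_mem hQ h4 hn hw0 (by rw [hu]; exact hw0) (by rw [hu]; exact ⟨_, rfl⟩)⟩)
        hkU (by
          show (refl Q w).1 ((refl Q u).1 x) = x
          rw [refl_fix Q hux, refl_fix Q (polar_qperp' hxU hw)]) c hc
      change (refl Q w).1 ((refl Q u).1 c) ∈ T at h
      rwa [refl_fix Q (polar_qperp huU hc.1)] at h
    · intro e he y hy g hg c hc
      exact hinv g (siegelIn_side' hQ h4 hn hM he hy g hg) (stab_qperp_eq hQ U ▸ siegel_mem_stab he hy hg)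
        (hg.fix (polar_qperp' hxU he) (polar_qperp' hxU hy)) c hc
  intro y g hg
  obtain ⟨u, hu, w, hw, rfl⟩ := ndSub_decomp hU y
  have hxw : polar Q x w = 0 := hperp w hw
  have hxu : polar Q x u = 0 := by
    have := hg.2.1
    rwa [polar_add_right, hxw, add_zero] at this
  exact SiegelIn.add hQ hx hxu hxw (siegelIn_side hQ h4 hn hM hxU hu) (hT hw).2 g hg

omit hM in
/-- Axes throughout `U` generate `Ω`. -/
theorem top_of_ax_side' (hax : ∀ x ∈ U, Q x = 0 → AxIn M x) : commutator (orthGroup Q) ≤ M := by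
  obtain ⟨hp⟩ := exists_hypPairs hQ hn
  obtain ⟨e, heU, he, he0⟩ := side_singular' hU hpU
  have hnon : ∀ v, Q v = 0 → v ∉ qperp Q U → AxIn M v := by
    intro v hv hvP
    obtain ⟨u, hu, w, hw, rfl⟩ := ndSub_decomp hU v
    obtain ⟨r, hrU, hr, hru⟩ := exists_singular_polar hQ hU heU he he0 hu (fun h => hvP (by rwa [h, zero_add]))
    obtain ⟨x, hxU, hx, hxr⟩ := exists_singular_polar hQ hU heU he he0 hrU (fun h => hru (by rw [h, polar_zero_left]))
    refine ax_move hQ (hax r hrU hr) hr hx hv (by rw [polar_comm]; exact hxr) ?_ (hax x hxU hx)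
    rwa [polar_add_right, polar_qperp hrU hw, add_zero]
  rw [commutator_eq_siegelGroup hQ h4 hp hn]
  refine siegelGroup_le_of_ax fun v hv => ?_
  by_cases hv0 : v = 0
  · rw [hv0]; exact AxIn.zero M
  obtain ⟨r, hr, -, hrv, hre⟩ := exists_common hQ hn (d := 0) (map_zero Q) hv he
    (by rw [polar_zero_left]) (by rw [polar_zero_left]) (by simpa using hv0) (by simpa using he0)
  have hr0 : r ≠ 0 := fun h => hrv (by rw [h, polar_zero_right])
  obtain ⟨x, hx, -, hxr, hxe⟩ := exists_common hQ hn (d := 0) (map_zero Q) hr he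
    (by rw [polar_zero_left]) (by rw [polar_zero_left]) (by simpa using hr0) (by simpa using he0)
  exact ax_move hQ (hnon r hr fun h => hre (polar_qperp heU h)) hr hx hv hxr (by rw [polar_comm]; exact hrv)
    (hnon x hx fun h => hxe (polar_qperp heU h))

/-- One mixed Siegel element with axis in `U` gives `Ω`. -/
theorem top_of_mixed (hgood : 4 ≤ Fintype.card F ∨ 3 ≤ finrank F (qperp Q U) ∨ ∀ v ∈ qperp Q U, Q v = 0 → v = 0)
    {x c : V} (hxU : x ∈ U) (hx : Q x = 0) (hx0 : x ≠ 0) (hc : c ∈ qperp Q U) (hc0 : c ≠ 0)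
    (hs : SiegelIn M x c) : commutator (orthGroup Q) ≤ M :=
  top_of_ax_side' hQ h4 hn hU hpU fun _ h1 h2 => ax_side' hQ h4 hn hU hpU hM hgood hxU hx hx0 hc hc0 hs h1 h2

/-- A mixed Siegel element with axis outside `U`. -/
theorem top_of_out (hgood : 4 ≤ Fintype.card F ∨ 3 ≤ finrank F (qperp Q U) ∨ ∀ v ∈ qperp Q U, Q v = 0 → v = 0)
    {h z : V} (hh : h ∈ qperp Q U) (hQh : Q h = 0) (hh0 : h ≠ 0) (hzU : z ∈ U) (hz0 : z ≠ 0)
    (hs : SiegelIn M h z) : commutator (orthGroup Q) ≤ M := by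
  have fin : ∀ z ∈ U, z ≠ 0 → Q z = 0 → SiegelIn M h z → commutator (orthGroup Q) ≤ M := fun z hzU hz0 hz hs =>
    top_of_mixed hQ h4 hn hU hpU hM hgood hzU hz hz0 (Submodule.neg_mem _ hh) (neg_ne_zero.2 hh0)
      (siegelIn_swap_neg hQh hs)
  by_cases hz : Q z = 0
  · exact fin z hzU hz0 hz hs
  obtain ⟨e, heU, he, he0⟩ := side_singular' hU hpU
  obtain ⟨x, hxU, hx, hxz⟩ := exists_singular_polar hQ hU heU he he0 hzU hz0
  obtain ⟨hp, rfl, -, he₁, hf₁⟩ := side_pairs' hU hpU hxU hx (fun e0 => hxz (by rw [e0, polar_zero_left]))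
  obtain ⟨k, hk⟩ := exists_isSiegel hQ hp.he₀ hp.hee
  have hkM := siegelIn_side hQ h4 hn hM hxU he₁ k hk
  have h1 := hs.conj hkM
  rw [hk.fix (polar_qperp hxU hh) (polar_qperp he₁ hh)] at h1
  have hhz : polar Q h z = 0 := polar_qperp' hzU hh
  set b := polar Q hp.e₀ z
  set z' := k.1 z - z with hz'
  have hkz : z' = b • hp.e₁ + (-(polar Q hp.e₁ z)) • hp.e₀ := by
    rw [hz', hk.2.2, hp.he₁]; module
  have hzU' : z' ∈ U := hkz ▸ U.add_mem (U.smul_mem _ he₁) (U.smul_mem _ hxU)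
  have hQz' : Q z' = 0 := by
    rw [hkz, quad_add', quad_smul', quad_smul', polar_smul_l', polar_smul_r', hp.he₁, hp.he₀, hp.cee]; ring
  refine fin z' hzU' (fun e0 => hxz ?_) hQz' ?_
  · have := congrArg (polar Q hp.f₁) e0
    rw [hkz, polar_add_right, polar_smul_r', polar_smul_r', hp.c11, hp.cef, polar_zero_right] at this
    linear_combination this
  · have hkU : k.1 z ∈ U := by
      rw [show k.1 z = z + z' by rw [hz']; abel]; exact U.add_mem hzU hzU'
    have := SiegelIn.add hQ hQh (polar_qperp' hkU hh) (by rw [polar_neg_right, hhz, neg_zero]) h1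
      (SiegelIn.neg hQ hQh hhz hs)
    rwa [← sub_eq_add_neg] at this

/-- A singular plane projecting onto a plane on both sides. -/
theorem top_of_plane (hgood : 4 ≤ Fintype.card F ∨ 3 ≤ finrank F (qperp Q U) ∨ ∀ v ∈ qperp Q U, Q v = 0 → v = 0)
    (hno : finrank F U = 4 → finrank F (qperp Q U) = 4 ∧
      ∀ S : Submodule F V, (∀ v ∈ S, Q v = 0) → finrank F S < 4) (hk4 : 4 ≤ finrank F U)
    {u u' w w' : V} (hu : u ∈ U) (hu' : u' ∈ U) (hw : w ∈ qperp Q U) (hw' : w' ∈ qperp Q U)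
    (ha : Q (u + w) = 0) (hy : Q (u' + w') = 0) (hay : polar Q (u + w) (u' + w') = 0)
    (hL : ∀ α β : F, α • u + β • u' = 0 → α = 0 ∧ β = 0) (hL' : ∀ α β : F, α • w + β • w' = 0 → α = 0 ∧ β = 0)
    {k : orthGroup Q} (hkM : k ∈ M) (hk : IsSiegel k (u + w) (u' + w')) : commutator (orthGroup Q) ≤ M := by
  classical
  set L := Submodule.span F {u, u'}
  set L' := Submodule.span F {w, w'}
  have hmem : ∀ {x u u' : V}, x ∈ qperp Q (Submodule.span F {u, u'}) → polar Q u x = 0 ∧ polar Q u' x = 0 :=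
    fun hx => ⟨hx _ (Submodule.subset_span (by simp)), hx _ (Submodule.subset_span (by simp))⟩
  have hkv : ∀ v, k.1 v = v + polar Q (u + w) v • (u' + w') + (-(polar Q (u' + w') v)) • (u + w) := fun v => by
    rw [hk.2.2, hy]; module
  have hkU : ∀ v ∈ U, k.1 v = (v + polar Q u v • u' + (-(polar Q u' v)) • u) +
      (polar Q u v • w' + (-(polar Q u' v)) • w) := fun v hv => by
    rw [hkv, polar_add_left, polar_add_left, polar_qperp' hv hw, polar_qperp' hv hw', add_zero, add_zero]; module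
  have hkP : ∀ v ∈ qperp Q U, k.1 v = (polar Q w v • u' + (-(polar Q w' v)) • u) +
      (v + polar Q w v • w' + (-(polar Q w' v)) • w) := fun v hv => by
    rw [hkv, polar_add_left, polar_add_left, polar_qperp hu hv, polar_qperp hu' hv, zero_add, zero_add]; module
  -- a vector of a non-degenerate space orthogonal to `x` and not to both of a pair
  have pick : ∀ {S : Submodule F V}, NdSub Q S → ∀ {x p p' : V}, x ∈ S → p ∈ S → p' ∈ S →
      (∀ α β : F, α • p + β • p' = 0 → α = 0 ∧ β = 0) →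
      ∃ l ∈ S, polar Q x l = 0 ∧ (polar Q p l ≠ 0 ∨ polar Q p' l ≠ 0) := by
    intro S hS x p p' hx hp hp' hind
    obtain ⟨v, hvS, hv, hvx⟩ : ∃ v ∈ S, (v = p ∨ v = p') ∧ v ∉ F ∙ x := by
      by_contra! hall
      obtain ⟨c, hc⟩ := Submodule.mem_span_singleton.1 (hall p hp (Or.inl rfl))
      obtain ⟨c', hc'⟩ := Submodule.mem_span_singleton.1 (hall p' hp' (Or.inr rfl))
      obtain ⟨h1, h2⟩ := hind c' (-c) (by rw [← hc, ← hc']; module)
      rw [h1] at hc'; rw [zero_smul] at hc'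
      obtain ⟨-, h3⟩ := hind 0 1 (by rw [← hc']; simp)
      exact one_ne_zero h3
    obtain ⟨z, hz, hz1⟩ := exists_polar_one hS (W := F ∙ (⟨x, hx⟩ : S)) (x := ⟨v, hvS⟩) (fun h => by
      obtain ⟨c, hc⟩ := Submodule.mem_span_singleton.1 h
      exact hvx (Submodule.mem_span_singleton.2 ⟨c, congrArg Subtype.val hc⟩))
    change polar Q (z : V) v = 1 at hz1
    refine ⟨z, z.2, by rw [polar_comm]; exact hz _ (Submodule.mem_span_singleton_self _), ?_⟩
    rw [polar_comm] at hz1
    rcases hv with rfl | rfl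
    · exact Or.inl (by rw [hz1]; exact one_ne_zero)
    · exact Or.inr (by rw [hz1]; exact one_ne_zero)
  set X := U ⊓ qperp Q L
  set Y := qperp Q U ⊓ qperp Q L'
  by_cases hX : ∃ x ∈ X, Q x = 0 ∧ x ≠ 0
  · obtain ⟨x, ⟨hxU, hxL⟩, hx, hx0⟩ := hX
    obtain ⟨h1, h2⟩ := hmem hxL
    obtain ⟨l, hlU, hxl, hl⟩ := pick hU hxU hu hu' hL
    set zl := l + polar Q u l • u' + (-(polar Q u' l)) • u
    set c := polar Q u l • w' + (-(polar Q u' l)) • w
    have hzl : zl ∈ U := U.add_mem (U.add_mem hlU (U.smul_mem _ hu')) (U.smul_mem _ hu)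
    have hc : c ∈ qperp Q U := Submodule.add_mem _ (Submodule.smul_mem _ _ hw') (Submodule.smul_mem _ _ hw)
    have hkx : k.1 x = x := by rw [hkU x hxU, h1, h2]; simp
    have hxzl : polar Q x zl = 0 := by
      simp only [zl, polar_add_right, polar_smul_r', hxl, polar_comm _ x u', h2, polar_comm _ x u, h1]; ring
    have hs := (siegelIn_side hQ h4 hn hM hxU hlU).conj hkM
    rw [hkx, hkU l hlU] at hs
    have hxc : polar Q x c = 0 := polar_qperp hxU hc
    refine top_of_mixed hQ h4 hn hU hpU hM hgood hxU hx hx0 hc (fun e => ?_) ?_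
    · obtain ⟨e1, e2⟩ := hL' (-(polar Q u' l)) (polar Q u l) (by rw [← e, add_comm])
      rcases hl with hl | hl
      · exact hl e2
      · exact hl (neg_eq_zero.1 e1)
    · have := SiegelIn.add hQ hx (by rw [polar_add_right, hxzl, hxc, add_zero])
        (by rw [polar_neg_right, hxzl, neg_zero]) hs
        (SiegelIn.neg hQ hx hxzl (siegelIn_side hQ h4 hn hM hxU hzl))
      rwa [show zl + c + -zl = c by abel] at this
  by_cases hY : ∃ x ∈ Y, Q x = 0 ∧ x ≠ 0
  · obtain ⟨x, ⟨hxP, hxL⟩, hx, hx0⟩ := hY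
    obtain ⟨h1, h2⟩ := hmem hxL
    obtain ⟨l, hlP, hxl, hl⟩ := pick (ndSub_qperp hQ hU) hxP hw hw' hL'
    set z := polar Q w l • u' + (-(polar Q w' l)) • u
    set r := l + polar Q w l • w' + (-(polar Q w' l)) • w
    have hz : z ∈ U := U.add_mem (U.smul_mem _ hu') (U.smul_mem _ hu)
    have hr : r ∈ qperp Q U :=
      Submodule.add_mem _ (Submodule.add_mem _ hlP (Submodule.smul_mem _ _ hw')) (Submodule.smul_mem _ _ hw)
    have hkx : k.1 x = x := by rw [hkP x hxP, h1, h2]; simp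
    have hxr : polar Q x r = 0 := by
      simp only [r, polar_add_right, polar_smul_r', hxl, polar_comm _ x w', h2, polar_comm _ x w, h1]; ring
    have hs := (siegelIn_side' hQ h4 hn hM hxP hlP).conj hkM
    rw [hkx, hkP l hlP] at hs
    have hxz : polar Q x z = 0 := polar_qperp' hz hxP
    refine top_of_out hQ h4 hn hU hpU hM hgood hxP hx hx0 hz (fun e => ?_) ?_
    · obtain ⟨e1, e2⟩ := hL (-(polar Q w' l)) (polar Q w l) (by rw [← e, add_comm])
      rcases hl with hl | hl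
      · exact hl e2
      · exact hl (neg_eq_zero.1 e1)
    · have := SiegelIn.add hQ hx (by rw [polar_add_right, hxr, hxz, add_zero])
        (by rw [polar_neg_right, hxr, neg_zero]) hs
        (SiegelIn.neg hQ hx hxr (siegelIn_side' hQ h4 hn hM hxP hr))
      rwa [show z + r + -r = z by abel] at this
  exfalso
  push Not at hX hY
  -- both complements are anisotropic planes, so their sum has a singular plane
  have hXd : finrank F U ≤ finrank F X + 2 := finrank_inf_pair hQ U u u'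
  have hYd : finrank F (qperp Q U) ≤ finrank F Y + 2 := finrank_inf_pair hQ (qperp Q U) w w'
  have hsmall : ∀ S : Submodule F V, (∀ x ∈ S, Q x = 0 → x = 0) → finrank F S ≤ 2 := fun S hS => by
    by_contra hlt
    obtain ⟨x, hx, hx0, hxQ⟩ := SubfieldOrth.exists_singular_sub (Q := Q) (U := S) (by omega)
    exact hx0 (hS x hx hxQ)
  have hX2 := hsmall X hX
  have hY2 := hsmall Y hY
  have hk4' : finrank F U = 4 := by omega
  obtain ⟨hP4, hS4⟩ := hno hk4'
  have hXn := ndSub_of_aniso (by omega) hX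
  have hYn := ndSub_of_aniso (by omega) hY
  have nd : ∀ {S : Submodule F V}, NdSub Q S → NondegOn (polarBilin Q) S := fun {S} hS =>
    nondegOn_iff.2 fun x hx h => ndSub_eq_zero hS hx fun y hy => h y hy
  have notplus : ∀ S : Submodule F V, (∀ x ∈ S, Q x = 0 → x = 0) → finrank F S = 2 → ¬ PlusOn Q S := by
    rintro S hS hd ⟨T, hTS, hT, hTd⟩
    have : T = ⊥ := (Submodule.eq_bot_iff _).2 fun x hx => hS x (hTS hx) (hT x hx)
    rw [this, finrank_bot] at hTd
    omega
  have hXY : ∀ x ∈ X, ∀ y ∈ Y, polarBilin Q x y = 0 := fun x hx y hy => polar_qperp hx.1 hy.1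
  have hdis : Disjoint X Y := Submodule.disjoint_def.2 fun x hx hy => ndSub_eq_zero hU hx.1 hy.1
  obtain ⟨T, hTle, hT, hTd⟩ := minus_add hdis hXY (nd hXn) (nd hYn) (by rw [show finrank F X = 2 by omega]; decide)
    (by rw [show finrank F Y = 2 by omega]; decide) (notplus X hX (by omega)) (notplus Y hY (by omega))
  rw [CfsgLib.Derangements.LinElusive.finrank_sup_of_disjoint hdis] at hTd
  set A := Submodule.span F {u + w, u' + w'}
  have hA : ∀ v ∈ A, Q v = 0 := by
    intro v hv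
    obtain ⟨α, β, rfl⟩ := Submodule.mem_span_pair.1 hv
    rw [quad_add', quad_smul', quad_smul', polar_smul_l', polar_smul_r', ha, hy, hay]; ring
  have hdec : ∀ α β : F, α • (u + w) + β • (u' + w') ∈ X ⊔ Y → α = 0 ∧ β = 0 := by
    intro α β hv
    obtain ⟨x, hx, z, hz, e⟩ := Submodule.mem_sup.1 hv
    refine hL α β ?_
    have e' : x - (α • u + β • u') = (α • w + β • w') - z := by linear_combination (norm := module) e
    have hxeq : x = α • u + β • u' := sub_eq_zero.1 (ndSub_eq_zero hU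
      (U.sub_mem hx.1 (U.add_mem (U.smul_mem _ hu) (U.smul_mem _ hu')))
      (e' ▸ Submodule.sub_mem _ (Submodule.add_mem _ (Submodule.smul_mem _ _ hw) (Submodule.smul_mem _ _ hw')) hz.1))
    rw [← hxeq]
    exact ndSub_eq_zero hXn hx fun y hy => by
      rw [hxeq]
      show polar Q y (α • u + β • u') = 0
      rw [polar_add_right, polar_smul_r', polar_smul_r', polar_comm _ y u, polar_comm _ y u', (hmem hy.2).1,
        (hmem hy.2).2]
      ring
  have hTA : Disjoint T A := Submodule.disjoint_def.2 fun v hv hvA => by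
    obtain ⟨α, β, rfl⟩ := Submodule.mem_span_pair.1 hvA
    obtain ⟨h1, h2⟩ := hdec α β (hTle hv)
    rw [h1, h2]; simp
  have hsing : ∀ v ∈ T ⊔ A, Q v = 0 := Sing.sup hT hA fun t ht v hv => by
    obtain ⟨x, hx, z, hz, rfl⟩ := Submodule.mem_sup.1 (hTle ht)
    obtain ⟨α, β, rfl⟩ := Submodule.mem_span_pair.1 hv
    obtain ⟨h1, h2⟩ := hmem hx.2
    obtain ⟨h3, h4⟩ := hmem hz.2
    rw [polarBilin_apply_apply]
    simp only [polar_add_left, polar_add_right, polar_smul_r', polar_comm _ x u, h1, polar_comm _ x u', h2,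
      polar_comm _ z w, h3, polar_comm _ z w', h4, polar_qperp hx.1 hw, polar_qperp hx.1 hw',
      polar_qperp' hu hz.1, polar_qperp' hu' hz.1]
    ring
  have hAd : finrank F A = 2 := by
    have hli : LinearIndependent F ![u + w, u' + w'] :=
      LinearIndependent.pair_iff.2 fun α β e => hdec α β (e ▸ Submodule.zero_mem _)
    have := finrank_span_eq_card hli
    rw [show A = Submodule.span F (Set.range ![u + w, u' + w']) by simp [A, Set.pair_comm]]; simpa using this
  have := hS4 _ hsing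
  rw [CfsgLib.Derangements.LinElusive.finrank_sup_of_disjoint hTA] at this
  omega

end Side

/-- Stabilisers of non-degenerate subspaces with two hyperbolic pairs are maximal in `Ω`. -/
theorem top_of_stab_pairs {U : Submodule F V} (hU : NdSub Q U) (hpU : HypPairs (Q.comp U.subtype))
    (hk4 : 4 ≤ finrank F U)
    (hno : finrank F U = 4 → finrank F (qperp Q U) = 4 ∧
      ∀ S : Submodule F V, (∀ v ∈ S, Q v = 0) → finrank F S < 4)
    (hgood : 4 ≤ Fintype.card F ∨ 3 ≤ finrank F (qperp Q U) ∨ ∀ v ∈ qperp Q U, Q v = 0 → v = 0)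
    (hswap : ∀ g : orthGroup Q, g ∈ commutator (orthGroup Q) → ¬ U.map (g.1 : V →ₗ[F] V) ≤ qperp Q U)
    {M : Subgroup (orthGroup Q)} (hM : stab (Q := Q) U ⊓ commutator (orthGroup Q) ≤ M) {g : orthGroup Q} (hg : g ∈ M)
    (hgΩ : g ∈ commutator (orthGroup Q)) (hgU : g ∉ stab (Q := Q) U) : commutator (orthGroup Q) ≤ M := by
  classical
  obtain ⟨e, heU, he, he0⟩ := side_singular' hU hpU
  have hspan : ∀ K : Submodule F V, (∀ d ∈ U, Q d = 0 → g.1 d ∈ K) → U.map (g.1 : V →ₗ[F] V) ≤ K := by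
    intro K hK
    obtain ⟨hp, rfl, hf₀, -, -⟩ := side_pairs' hU hpU heU he he0
    rintro _ ⟨v, hv, rfl⟩
    show g.1 v ∈ K
    set z := v - polar Q hp.f₀ v • hp.e₀ - polar Q hp.e₀ v • hp.f₀ with hz
    have hzU : z ∈ U := U.sub_mem (U.sub_mem hv (U.smul_mem _ heU)) (U.smul_mem _ hf₀)
    have hze : polar Q hp.e₀ z = 0 := by
      simp only [hz, polar_sub_right, polar_smul_r', polar_self', hp.he₀, hp.h00]; ring
    have hzf : polar Q hp.f₀ z = 0 := by
      simp only [hz, polar_sub_right, polar_smul_r', polar_self', hp.hf₀, hp.c00]; ring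
    have hs0 : Q (z + hp.e₀ + (-Q z) • hp.f₀) = 0 := by
      simp only [quad_add', quad_smul', polar_add_left, polar_smul_r', hp.he₀, hp.hf₀, hp.h00,
        polar_comm _ z hp.e₀, polar_comm _ z hp.f₀, hze, hzf]
      ring
    rw [show v = (z + hp.e₀ + (-Q z) • hp.f₀) + (polar Q hp.f₀ v - 1) • hp.e₀ + (polar Q hp.e₀ v + Q z) • hp.f₀ by
      rw [hz]; module, map_add, map_add, map_smul, map_smul]
    exact K.add_mem (K.add_mem (hK _ (U.add_mem (U.add_mem hzU heU) (U.smul_mem _ hf₀)) hs0)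
      (K.smul_mem _ (hK _ heU hp.he₀))) (K.smul_mem _ (hK _ hf₀ hp.hf₀))
  obtain ⟨d, hdU, hd, hd1, hd2⟩ : ∃ d ∈ U, Q d = 0 ∧ g.1 d ∉ U ∧ g.1 d ∉ qperp Q U := by
    by_contra! hall
    obtain ⟨d₁, hd₁U, hd₁, hd₁o⟩ : ∃ d ∈ U, Q d = 0 ∧ g.1 d ∉ U := by
      by_contra! h
      exact hgU (mem_stab_of_le fun x hx => hspan U h ⟨x, hx, rfl⟩)
    have hd₁P := hall d₁ hd₁U hd₁ hd₁o
    have hd₁0 : d₁ ≠ 0 := fun h => hd₁o (by rw [h, map_zero]; exact U.zero_mem)
    have hperp : ∀ d ∈ U, Q d = 0 → polar Q d₁ d = 0 → g.1 d ∈ qperp Q U := by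
      intro d hdU hd hdd
      by_contra h
      have hin : g.1 d ∈ U := by
        by_contra h'
        exact h (hall d hdU hd h')
      have h' := hall (d₁ + d) (U.add_mem hd₁U hdU) (by rw [quad_add', hd₁, hd, hdd]; ring) (fun h' => hd₁o (by
        rw [map_add] at h'
        simpa using U.sub_mem h' hin))
      rw [map_add] at h'
      exact h (by simpa using Submodule.sub_mem _ h' hd₁P)
    refine hswap g hgΩ (hspan _ fun d hdU hd => ?_)
    by_contra h
    have hin : g.1 d ∈ U := by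
      by_contra h'
      exact h (hall d hdU hd h')
    have hd0 : d ≠ 0 := fun h0 => h (by rw [h0, map_zero]; exact Submodule.zero_mem _)
    by_cases hdd : polar Q d₁ d = 0
    · exact h (hperp d hdU hd hdd)
    obtain ⟨hp, hpe, hf₀, he₁, hf₁⟩ := side_pairs' hU hpU hd₁U hd₁ hd₁0
    -- a singular vector orthogonal to both `d₁` and `d`
    obtain ⟨r, hrU, hr, hr0, hr1, hr2⟩ : ∃ r ∈ U, Q r = 0 ∧ r ≠ 0 ∧ polar Q d₁ r = 0 ∧ polar Q d r = 0 := by
      set f := (polar Q d₁ d)⁻¹ • d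
      have hdep : ¬ (polar Q d hp.e₁ = 0) ∨ polar Q d hp.e₁ = 0 := by tauto
      rcases hdep with h1 | h1
      swap
      · exact ⟨hp.e₁, he₁, hp.he₁, fun e0 => one_ne_zero (by rw [← hp.h11, e0, polar_zero_left]),
          by rw [← hpe, hp.hee], h1⟩
      set x := hp.e₁ + (-(polar Q d hp.e₁ / polar Q d₁ d)) • d₁
      refine ⟨x, U.add_mem he₁ (U.smul_mem _ hd₁U), ?_, fun e0 => one_ne_zero (α := F) ?_, ?_, ?_⟩
      · simp only [x, quad_add', quad_smul', polar_smul_r', hp.he₁, hd₁, ← hpe, hp.cee, hp.he₀]; ring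
      · have := congrArg (polar Q hp.f₁) e0
        simp only [x, polar_add_right, polar_smul_r', polar_zero_right, ← hpe, hp.c11, hp.cef] at this
        simpa using this
      · simp only [x, polar_add_right, polar_smul_r', polar_self', hd₁, ← hpe, hp.hee, hp.he₀]; ring
      · simp only [x, polar_add_right, polar_smul_r', polar_comm _ d d₁]
        rw [neg_mul, div_mul_cancel₀ _ hdd]; ring
    have hrP := hperp r hrU hr hr1
    have h' := hall (r + d) (U.add_mem hrU hdU) (by rw [quad_add', hr, hd, polar_comm, hr2]; ring) (fun h' => hr0 (by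
      rw [map_add] at h'
      exact g.1.map_eq_zero_iff.1 (ndSub_eq_zero hU (by simpa using U.sub_mem h' hin) hrP)))
    rw [map_add] at h'
    exact h (by simpa using Submodule.sub_mem _ h' hrP)
  set a := g.1 d with haDef
  have ha : Q a = 0 := (apply_quad g d).trans hd
  obtain ⟨u, hu, w, hw, hauw⟩ := ndSub_decomp hU a
  have hu0 : u ≠ 0 := fun h => hd2 (by rw [hauw, h, zero_add]; exact hw)
  have hw0 : w ≠ 0 := fun h => hd1 (by rw [hauw, h, add_zero]; exact hu)
  have hY : ∀ y ∈ U, polar Q d y = 0 → polar Q a (g.1 y) = 0 ∧ SiegelIn M a (g.1 y) := fun y hy hdy =>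
    ⟨by rw [polar_isom]; exact hdy, (siegelIn_side hQ h4 hn hM hdU hy).conj hg⟩
  obtain ⟨hp, hpe, -, he₁, -⟩ := side_pairs' hU hpU hdU hd (fun h => hd1 (by rw [haDef, h, map_zero]; exact U.zero_mem))
  have hde : polar Q d hp.e₁ = 0 := by rw [← hpe]; exact hp.hee
  obtain ⟨hay, hAY⟩ := hY hp.e₁ he₁ hde
  set y := g.1 hp.e₁ with hyDef
  have hy : Q y = 0 := (apply_quad g _).trans hp.he₁
  have hne : ∀ t : F, y ≠ t • a := fun t e => one_ne_zero (α := F) (by
    rw [hyDef, haDef, ← map_smul] at e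
    rw [← hp.h11, g.1.injective e, ← hpe, polar_smul_l', hp.hef, mul_zero])
  obtain ⟨u', hu', w', hw', hyuw⟩ := ndSub_decomp hU y
  have hua : polar Q u a = polar Q u u := by
    rw [hauw, polar_add_right, polar_qperp hu hw, add_zero]
  by_cases hc1 : u' ∈ F ∙ u
  · obtain ⟨t, rfl⟩ := Submodule.mem_span_singleton.1 hc1
    set e' := y + (-t) • a with he'
    have he'w : e' = w' + (-t) • w := by rw [he', hauw, hyuw]; module
    have he'P : e' ∈ qperp Q U := he'w ▸ Submodule.add_mem _ hw' (Submodule.smul_mem _ _ hw)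
    have hata : polar Q a ((-t) • a) = 0 := by rw [polar_smul_r', polar_self', ha]; ring
    have hae' : polar Q a e' = 0 := by rw [he', polar_add_right, hay, hata, add_zero]
    have he'Q : Q e' = 0 := by
      rw [he', quad_add', quad_smul', polar_smul_r', hy, ha, polar_comm _ y a, hay]; ring
    have he'0 : e' ≠ 0 := fun e => hne t (by
      rw [← sub_eq_zero]; rw [← e, he']; module)
    have h1 : SiegelIn M a e' := SiegelIn.add hQ ha hay hata hAY (siegelIn_smul_self M ha _)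
    have h2 := siegelIn_swap_neg ha h1
    have he'a : polar Q e' (-a) = 0 := by rw [polar_neg_right, polar_comm, hae', neg_zero]
    have he'w0 : polar Q e' w = 0 := by
      have := hae'
      rwa [hauw, polar_add_left, polar_qperp hu he'P, zero_add, polar_comm] at this
    have h3 := SiegelIn.add hQ he'Q he'a he'w0 h2 (siegelIn_side' hQ h4 hn hM he'P hw)
    rw [show -a + w = -u by rw [hauw]; abel] at h3
    exact top_of_out hQ h4 hn hU hpU hM hgood he'P he'Q he'0 (U.neg_mem hu) (neg_ne_zero.2 hu0) h3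
  by_cases hc2 : w' ∈ F ∙ w
  · obtain ⟨t, rfl⟩ := Submodule.mem_span_singleton.1 hc2
    set a' := y + (-t) • a with ha'
    have ha'w : a' = u' + (-t) • u := by rw [ha', hauw, hyuw]; module
    have ha'U : a' ∈ U := ha'w ▸ U.add_mem hu' (U.smul_mem _ hu)
    have hata : polar Q a ((-t) • a) = 0 := by rw [polar_smul_r', polar_self', ha]; ring
    have haa' : polar Q a a' = 0 := by rw [ha', polar_add_right, hay, hata, add_zero]
    have ha'Q : Q a' = 0 := by
      rw [ha', quad_add', quad_smul', polar_smul_r', hy, ha, polar_comm _ y a, hay]; ring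
    have ha'0 : a' ≠ 0 := fun e => hne t (by
      rw [← sub_eq_zero]; rw [← e, ha']; module)
    have h1 : SiegelIn M a a' := SiegelIn.add hQ ha hay hata hAY (siegelIn_smul_self M ha _)
    have h2 := siegelIn_swap_neg ha h1
    have ha'a : polar Q a' (-a) = 0 := by rw [polar_neg_right, polar_comm, haa', neg_zero]
    have ha'u : polar Q a' u = 0 := by
      have := haa'
      rwa [hauw, polar_add_left, polar_qperp' ha'U hw, add_zero, polar_comm] at this
    have h3 := SiegelIn.add hQ ha'Q ha'a ha'u h2 (siegelIn_side hQ h4 hn hM ha'U hu)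
    rw [show -a + u = -w by rw [hauw]; abel] at h3
    exact top_of_mixed hQ h4 hn hU hpU hM hgood ha'U ha'Q ha'0 (Submodule.neg_mem _ hw) (neg_ne_zero.2 hw0) h3
  obtain ⟨k, hk⟩ := exists_isSiegel hQ ha hay
  have ind : ∀ {p p' : V}, p ≠ 0 → p' ∉ F ∙ p → ∀ α β : F, α • p + β • p' = 0 → α = 0 ∧ β = 0 := by
    intro p p' hp hp' α β e
    have hβ : β = 0 := by
      by_contra hβ
      refine hp' (Submodule.mem_span_singleton.2 ⟨-(β⁻¹ * α), ?_⟩)
      rw [eq_neg_of_add_eq_zero_left (show β • p' + α • p = 0 by rw [add_comm]; exact e) |> fun h =>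
        (inv_smul_smul₀ hβ p').symm.trans (by rw [h])]
      module
    rw [hβ, zero_smul, add_zero] at e
    exact ⟨(smul_eq_zero.1 e).resolve_right hp, hβ⟩
  rw [hauw, hyuw] at hk
  exact top_of_plane hQ h4 hn hU hpU hM hgood hno hk4 hu hu' hw hw' (hauw ▸ ha) (hyuw ▸ hy) (hauw ▸ hyuw ▸ hay)
    (ind hu0 hc1) (ind hw0 hc2) (hAY k (by rw [hauw, hyuw]; exact hk)) hk

/-- Some element of `Ω` moves a non-degenerate subspace. -/
theorem exists_not_stab_nondeg' {U : Submodule F V} (hU : NdSub Q U) (hpU : HypPairs (Q.comp U.subtype)) {w : V}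
    (hw : w ∈ qperp Q U) (hw0 : w ≠ 0) : ∃ k ∈ commutator (orthGroup Q), k ∉ stab (Q := Q) U := by
  obtain ⟨hp₀⟩ := exists_hypPairs hQ hn
  obtain ⟨e, heU, he, he0⟩ := side_singular' hU hpU
  obtain ⟨hp, rfl, hf₀, -, -⟩ := side_pairs' hU hpU heU he he0
  obtain ⟨k, hk'⟩ := exists_isSiegel hQ hp.he₀ (polar_qperp heU hw)
  refine ⟨k, hk'.mem_commutator hQ h4 hp₀ hn, fun h => hw0 (ndSub_eq_zero hU ?_ hw)⟩
  have h1 : k.1 hp.f₀ ∈ U := (show U.map _ = U from h) ▸ ⟨hp.f₀, hf₀, rfl⟩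
  rw [hk'.2.2, hp.h00, one_smul] at h1
  have h2 := U.sub_mem (U.sub_mem h1 hf₀) (U.smul_mem (-(polar Q w hp.f₀) - Q w * 1) heU)
  convert h2 using 1
  module

end CfsgLib.Classical

namespace CfsgLib.Classical

variable {F : Type*} [Field F] [Fintype F] {ι : Type} [Fintype ι] [DecidableEq ι] {Qf : (ι → F) → F}

theorem ndSub_nondegOn {V : Type*} [AddCommGroup V] [Module F V] [FiniteDimensional F V] {Q : QuadraticForm F V}
    {S : Submodule F V} (hS : NdSub Q S) : NondegOn (polarBilin Q) S :=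
  nondegOn_iff.2 fun x hx h => ndSub_eq_zero hS hx fun y hy => h y hy

/-- Stabilisers of non-degenerate subspaces in `Ω₈⁻`. -/
theorem nondeg8_isMaximalIn (Q : QuadraticForm F (ι → F)) (hQf : ∀ v, Qf v = Q v)
    (hQ : (QuadraticMap.polarBilin Q).Nondegenerate) (h4 : Good F (ι → F)) (hn : finrank F (ι → F) = 8)
    (hminus : ∀ S : Submodule F (ι → F), (∀ v ∈ S, Q v = 0) → finrank F S < 4)
    (W : Submodule F (ι → F)) (hW : NdSub Q W) (hW0 : W ≠ ⊥) (hW1 : W ≠ ⊤)
    (hsmall : ∀ P : Submodule F (ι → F), P = W ∨ P = qperp Q W → finrank F P ≤ 2 →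
      4 ≤ Fintype.card F ∨ ∀ v ∈ P, Q v = 0 → v = 0) :
    Cfsg.Geo.IsMaximalIn (Cfsg.Geo.omegaGL Qf) (Cfsg.Geo.subspaceStabilizer W ⊓ Cfsg.Geo.omegaGL Qf) := by
  classical
  have hPd := finrank_qperp hQ W
  have hWP := ndSub_qperp hQ hW
  suffices H : ∀ U : Submodule F (ι → F), NdSub Q U → stab (Q := Q) U = stab (Q := Q) W → qperp Q U ≠ ⊥ →
      (qperp Q U = W ∨ qperp Q U = qperp Q W) → (5 ≤ finrank F U ∨ finrank F U = 4 ∧ PlusOn Q U) →
      Cfsg.Geo.IsMaximalIn (Cfsg.Geo.omegaGL Qf) (Cfsg.Geo.subspaceStabilizer W ⊓ Cfsg.Geo.omegaGL Qf) by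
    have hne : qperp Q W ≠ ⊥ := fun e => hW1 (by
      rw [← qperp_qperp hQ W, e]
      exact Submodule.eq_top_iff'.2 fun x y hy => by
        rw [(Submodule.mem_bot F).1 hy]; exact polar_zero_left Q x)
    rcases Nat.lt_trichotomy (finrank F W) 4 with h | h | h
    · exact H (qperp Q W) hWP (stab_qperp_eq hQ W) (by rw [qperp_qperp hQ W]; exact hW0)
        (Or.inl (qperp_qperp hQ W)) (Or.inl (by omega))
    · by_cases hp : PlusOn Q W
      · exact H W hW rfl hne (Or.inr rfl) (Or.inr ⟨h, hp⟩)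
      refine H (qperp Q W) hWP (stab_qperp_eq hQ W) (by rw [qperp_qperp hQ W]; exact hW0)
        (Or.inl (qperp_qperp hQ W)) (Or.inr ⟨by omega, ?_⟩)
      by_contra hp'
      have hdis : Disjoint W (qperp Q W) := Submodule.disjoint_def.2 fun x hx hy => ndSub_eq_zero hW hx hy
      obtain ⟨T, -, hT, hTd⟩ := minus_add hdis (fun x hx y hy => polar_qperp hx hy) (ndSub_nondegOn hW)
        (ndSub_nondegOn hWP) (by rw [h]; decide)
        (by rw [show finrank F (qperp Q W) = 4 by omega]; decide) hp hp'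
      rw [CfsgLib.Derangements.LinElusive.finrank_sup_of_disjoint hdis] at hTd
      have := hminus T hT
      omega
    · exact H W hW rfl hne (Or.inr rfl) (Or.inl (by omega))
  intro U hU hstab hP0 hPeq hk
  have hUd := finrank_qperp hQ U
  obtain ⟨hpU⟩ : Nonempty (HypPairs (Q.comp U.subtype)) := by
    rcases hk with hk | ⟨hk, hp⟩
    · exact exists_hypPairs hU hk
    · rcases CfsgLib.Derangements.EvenForms.dichotomy (Q := Q.comp U.subtype) hU (d := 2) hk with
        ⟨-, e, he⟩ | ⟨hno, -⟩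
      · exact ⟨(hypPairs_plus 2 le_rfl).ofPreserving e.toLinearMap he⟩
      · exact absurd ((plusOn_iff hk).1 hp) hno
  have hgood : 4 ≤ Fintype.card F ∨ 3 ≤ finrank F (qperp Q U) ∨ ∀ v ∈ qperp Q U, Q v = 0 → v = 0 := by
    rcases Nat.lt_or_ge (finrank F (qperp Q U)) 3 with h | h
    · rcases hsmall _ hPeq (by omega) with h' | h'
      · exact Or.inl h'
      · exact Or.inr (Or.inr h')
    · exact Or.inr (Or.inl h)
  obtain ⟨w, hw, hw0⟩ := Submodule.exists_mem_ne_zero_of_ne_bot hP0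
  refine omega_isMaximalIn Q hQf W ?_ fun M hM g hg hgΩ hgW => ?_
  · obtain ⟨k, hk', hkU⟩ := exists_not_stab_nondeg' hQ h4 (by omega) hU hpU hw hw0
    exact ⟨k, hk', hstab ▸ hkU⟩
  refine top_of_stab_pairs hQ h4 (by omega) hU hpU (by omega) (fun h => ⟨by omega, hminus⟩) hgood
    (fun g' _ hle => ?_) (hstab ▸ hM) hg hgΩ (hstab ▸ hgW)
  have h1 := Submodule.finrank_mono hle
  rw [LinearEquiv.finrank_map_eq] at h1
  rcases hk with hk | ⟨hk, T, hTU, hT, hTd⟩
  · omega
  · have hgT : T.map (g'.1 : (ι → F) →ₗ[F] (ι → F)) ≤ qperp Q U := (Submodule.map_mono hTU).trans hle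
    have hs : ∀ v ∈ T ⊔ T.map (g'.1 : (ι → F) →ₗ[F] (ι → F)), Q v = 0 := by
      refine Sing.sup hT ?_ fun x hx y hy => polar_qperp (hTU hx) (hgT hy)
      rintro _ ⟨x, hx, rfl⟩
      exact (apply_quad g' x).trans (hT x hx)
    have hd : Disjoint T (T.map (g'.1 : (ι → F) →ₗ[F] (ι → F))) :=
      Submodule.disjoint_def.2 fun x hx hy => ndSub_eq_zero hU (hTU hx) (hgT hy)
    have := hminus _ hs
    rw [CfsgLib.Derangements.LinElusive.finrank_sup_of_disjoint hd, LinearEquiv.finrank_map_eq] at this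
    omega

end CfsgLib.Classical
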