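import Cfsg.Agent.Lib.Classical.OrthMaxND
import Cfsg.Agent.Lib.Classical.SubfieldOrth.QuadFrame

/-!
# Stabilisers of non-degenerate subspaces of dimension at least 4, odd characteristic

The maximality argument of `OrthMaxND` needing only one hyperbolic pair in the subspace, valid from
dimension 5 on.
-/

set_option autoImplicit false
set_option linter.unusedSectionVars false

open Module QuadraticMap CfsgLib.Orth

namespace CfsgLib.Classical.NDOdd

variable {F V : Type*} [Field F] [Fintype F] [AddCommGroup V] [Module F V] [FiniteDimensional F V]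
  {Q : QuadraticForm F V}

theorem mem_perp_line {v x : V} : x ∈ qperp Q (F ∙ v) ↔ polar Q v x = 0 := by
  refine ⟨fun h => h v (Submodule.mem_span_singleton_self v), fun h z hz => ?_⟩
  obtain ⟨t, rfl⟩ := Submodule.mem_span_singleton.1 hz
  show polar Q (t • v) x = 0
  rw [polar_smul_l', h, mul_zero]

theorem mem_perp_pair {e f x : V} :
    x ∈ qperp Q (Submodule.span F {e, f}) ↔ polar Q e x = 0 ∧ polar Q f x = 0 := by
  refine ⟨fun h => ⟨h e (Submodule.subset_span (by simp)), h f (Submodule.subset_span (by simp))⟩, fun h z hz => ?_⟩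
  obtain ⟨s, t, rfl⟩ := Submodule.mem_span_pair.1 hz
  show polar Q (s • e + t • f) x = 0
  rw [polar_add_left, polar_smul_l', polar_smul_l', h.1, h.2]; ring

variable (hQ : (QuadraticMap.polarBilin Q).Nondegenerate) (h2 : (2 : F) ≠ 0)
include hQ

theorem finrank_inf_perp (S W : Submodule F V) :
    finrank F S ≤ finrank F ↥(S ⊓ qperp Q W) + finrank F W := by
  have h1 := Submodule.finrank_sup_add_finrank_inf_eq S (qperp Q W)
  have h3 := (S ⊔ qperp Q W).finrank_le
  have h4 := finrank_qperp hQ W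
  omega

include h2

theorem exists_nonsingular {Z : Submodule F V} (hZ : NdSub Q Z) (hd : 1 ≤ finrank F Z) : ∃ z ∈ Z, Q z ≠ 0 := by
  by_contra! hall
  obtain ⟨x, hx, hx0⟩ := Submodule.exists_mem_ne_zero_of_ne_bot (Submodule.one_le_finrank_iff.1 hd)
  refine hx0 (ndSub_eq_zero hZ hx fun y hy => ?_)
  have h := hall _ (Z.add_mem hy hx)
  rw [quad_add', hall y hy, hall x hx] at h
  show polar Q y x = 0
  linear_combination h

theorem ndSub_perp_line {S : Submodule F V} (hS : NdSub Q S) {v : V} (hv : v ∈ S) (hv0 : Q v ≠ 0) :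
    NdSub Q (S ⊓ qperp Q (F ∙ v)) := by
  refine ndSub_of_on fun w hw hw0 => ?_
  by_contra! hall
  refine hw0 (ndSub_eq_zero hS hw.1 fun y hy => ?_)
  have hvw : polar Q v w = 0 := mem_perp_line.1 hw.2
  have h := hall (y + (-(polar Q v y / (2 * Q v))) • v) ⟨S.add_mem hy (S.smul_mem _ hv), mem_perp_line.2 (by
    rw [polar_add_right, polar_smul_r', polar_self']
    field_simp
    ring)⟩
  rw [polar_add_right, polar_smul_r', polar_comm _ w v, hvw, mul_zero, add_zero] at h
  show polar Q y w = 0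
  rw [polar_comm]; exact h

theorem exists_value {Z : Submodule F V} (hZ : NdSub Q Z) (hd : 2 ≤ finrank F Z) (a : F) : ∃ z ∈ Z, Q z = a := by
  classical
  obtain ⟨v, hv, hv0⟩ := exists_nonsingular hQ h2 hZ (by omega)
  have h1 := finrank_inf_perp hQ Z (F ∙ v)
  rw [finrank_span_singleton (fun h => hv0 (by rw [h, QuadraticMap.map_zero]))] at h1
  obtain ⟨w, ⟨hw, hvw⟩, hw0⟩ := exists_nonsingular hQ h2 (ndSub_perp_line hQ h2 hZ hv hv0) (by omega)
  have hodd : Fintype.card F % 2 = 1 := FiniteField.odd_card_of_char_ne_two fun h => h2 (by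
    have := ringChar.Nat.cast_ringChar (R := F)
    rw [h] at this
    exact_mod_cast this)
  obtain ⟨s, t, h⟩ := FiniteField.exists_root_sum_quadratic
    (f := Polynomial.X ^ 2 + Polynomial.C (-(a / Q v))) (g := Polynomial.C (Q w / Q v) * Polynomial.X ^ 2)
    (Polynomial.degree_X_pow_add_C (by norm_num) _)
    (Polynomial.degree_C_mul_X_pow 2 (div_ne_zero hw0 hv0)) hodd
  simp only [Polynomial.eval_add, Polynomial.eval_mul, Polynomial.eval_pow, Polynomial.eval_X, Polynomial.eval_C] at h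
  refine ⟨s • v + t • w, Z.add_mem (Z.smul_mem _ hv) (Z.smul_mem _ hw), ?_⟩
  rw [quad_add', quad_smul', quad_smul', polar_smul_l', polar_smul_r', mem_perp_line.1 hvw]
  field_simp at h
  linear_combination h

omit h2 in
theorem exists_partner {U : Submodule F V} (hU : NdSub Q U) {e : V} (heU : e ∈ U) (he : Q e = 0) (he0 : e ≠ 0) :
    ∃ f ∈ U, Q f = 0 ∧ polar Q e f = 1 := by
  obtain ⟨f, hf, hfQ, hfe⟩ := exists_singular_polar hQ hU heU he he0 heU he0
  exact ⟨(polar Q f e)⁻¹ • f, U.smul_mem _ hf, by rw [quad_smul', hfQ, mul_zero],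
    by rw [polar_smul_r', polar_comm _ e f, inv_mul_cancel₀ hfe]⟩

omit h2 in
theorem ndSub_perp_pair {U : Submodule F V} (hU : NdSub Q U) {e f : V} (heU : e ∈ U) (hfU : f ∈ U) (he : Q e = 0)
    (hf : Q f = 0) (hef : polar Q e f = 1) : NdSub Q (U ⊓ qperp Q (Submodule.span F {e, f})) := by
  refine ndSub_of_on fun w hw hw0 => ?_
  by_contra! hall
  refine hw0 (ndSub_eq_zero hU hw.1 fun y hy => ?_)
  obtain ⟨h1, h3⟩ := mem_perp_pair.1 hw.2
  have h := hall (y + (-(polar Q f y)) • e + (-(polar Q e y)) • f)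
    ⟨U.add_mem (U.add_mem hy (U.smul_mem _ heU)) (U.smul_mem _ hfU), mem_perp_pair.2 ⟨by
      simp only [polar_add_right, polar_smul_r', polar_self', he, hef]; ring, by
      simp only [polar_add_right, polar_smul_r', polar_self', hf, polar_comm _ f e, hef]; ring⟩⟩
  simp only [polar_add_right, polar_smul_r', polar_comm _ w e, polar_comm _ w f, h1, h3] at h
  show polar Q y w = 0
  rw [polar_comm]; simpa using h

theorem pair_value {U : Submodule F V} (hU : NdSub Q U) (hk : 4 ≤ finrank F U) {e f : V} (heU : e ∈ U)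
    (hfU : f ∈ U) (he : Q e = 0) (hf : Q f = 0) (hef : polar Q e f = 1) (a : F) :
    ∃ z ∈ U, polar Q e z = 0 ∧ polar Q f z = 0 ∧ Q z = a := by
  classical
  have h1 := finrank_inf_perp hQ U (Submodule.span F {e, f})
  have h5 := finrank_span_finset_le_card (R := F) ({e, f} : Finset V)
  have h6 := Finset.card_le_two (a := e) (b := f)
  rw [Finset.coe_pair, Set.finrank] at h5
  obtain ⟨z, ⟨hz, hzp⟩, hza⟩ := exists_value hQ h2 (ndSub_perp_pair hQ hU heU hfU he hf hef) (by omega) a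
  exact ⟨z, hz, (mem_perp_pair.1 hzp).1, (mem_perp_pair.1 hzp).2, hza⟩

omit h2 in
theorem swap_neg {M : Subgroup (orthGroup Q)} {d u : V} (hd : Q d = 0) (h : SiegelIn M d u) :
    SiegelIn M u (-d) := fun g hg => h g (by
  have h0 : IsSiegel g ((-1 : F) • d) (-u) := by
    rw [neg_one_smul]; exact hg.swap (by rw [QuadraticMap.map_neg, hd])
  simpa using h0.of_smul (neg_ne_zero.2 one_ne_zero))

variable (h4 : Good F V) (hn : 5 ≤ finrank F V)
include h4 hn

section Side

variable {U : Submodule F V} (hU : NdSub Q U) (hk : 4 ≤ finrank F U)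
  {M : Subgroup (orthGroup Q)} (hM : stab (Q := Q) U ⊓ commutator (orthGroup Q) ≤ M)
include hU hk hM

/-- Moves inside `U` which fix the orthogonal complement. -/
theorem move {x y : V} (hxU : x ∈ U) (hx : Q x = 0) (hx0 : x ≠ 0) (hyU : y ∈ U) (hy : Q y = 0) (hy0 : y ≠ 0) :
    ∃ k ∈ M, k.1 x = y ∧ ∀ w ∈ qperp Q U, k.1 w = w := by
  have step : ∀ r x y, r ∈ U → x ∈ U → y ∈ U → Q r = 0 → Q x = 0 → Q y = 0 → polar Q r x ≠ 0 →
      polar Q r y = polar Q r x → ∃ k ∈ M, k.1 x = y ∧ ∀ w ∈ qperp Q U, k.1 w = w := by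
    intro r x y hrU hxU hyU hr hx hy h1 h2
    obtain ⟨g, hg, e⟩ := siegel_move hQ hr hx hy h1 h2
    have hu := U.smul_mem (polar Q r x)⁻¹ (U.sub_mem hyU hxU)
    exact ⟨g, siegelIn_side hQ h4 hn hM hrU hu g hg, e,
      fun w hw => hg.fix (polar_qperp hrU hw) (polar_qperp hu hw)⟩
  have comp : ∀ x y z, (∃ k ∈ M, k.1 x = y ∧ ∀ w ∈ qperp Q U, k.1 w = w) →
      (∃ k ∈ M, k.1 y = z ∧ ∀ w ∈ qperp Q U, k.1 w = w) →
      ∃ k ∈ M, k.1 x = z ∧ ∀ w ∈ qperp Q U, k.1 w = w := by
    rintro x y z ⟨k, hk, e, f⟩ ⟨k', hk', e', f'⟩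
    exact ⟨k' * k, M.mul_mem hk' hk, by show k'.1 (k.1 x) = z; rw [e, e'],
      fun w hw => by show k'.1 (k.1 w) = w; rw [f w hw, f' w hw]⟩
  obtain ⟨r, hrU, hr, hrx, hry⟩ : ∃ r ∈ U, Q r = 0 ∧ polar Q r x ≠ 0 ∧ polar Q r y ≠ 0 := by
    obtain ⟨f, hfU, hf, hxf⟩ := exists_partner hQ hU hxU hx hx0
    by_cases hfy : polar Q f y = 0
    swap
    · exact ⟨f, hfU, hf, by rw [polar_comm, hxf]; exact one_ne_zero, hfy⟩
    have key : ∀ z ∈ U, polar Q x z = 0 → polar Q f z = 0 → polar Q z y ≠ Q z * polar Q x y →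
        ∃ r ∈ U, Q r = 0 ∧ polar Q r x ≠ 0 ∧ polar Q r y ≠ 0 := by
      intro z hz hxz hfz hne
      refine ⟨f + z + (-Q z) • x, U.add_mem (U.add_mem hfU hz) (U.smul_mem _ hxU), ?_, ?_, ?_⟩
      · simp only [quad_add', quad_smul', polar_add_left, polar_smul_r', hf, hx, hfz, polar_comm _ z x, hxz,
          polar_comm _ f x, hxf]
        ring
      · simp only [polar_add_left, polar_smul_l', polar_self', hx, polar_comm _ f x, hxf, polar_comm _ z x, hxz]
        simp
      · simp only [polar_add_left, polar_smul_l', hfy, zero_add]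
        exact fun h => hne (by linear_combination h)
    by_cases hxy : polar Q x y = 0
    · obtain ⟨z, hz, hzy⟩ : ∃ z ∈ U ⊓ qperp Q (Submodule.span F {x, f}), polar Q z y ≠ 0 := by
        by_contra! hall
        exact hy0 (ndSub_eq_zero (ndSub_perp_pair hQ hU hxU hfU hx hf hxf)
          ⟨hyU, mem_perp_pair.2 ⟨hxy, hfy⟩⟩ hall)
      exact key z hz.1 (mem_perp_pair.1 hz.2).1 (mem_perp_pair.1 hz.2).2 (by rw [hxy, mul_zero]; exact hzy)
    · obtain ⟨z, hz, hxz, hfz, hz1⟩ := pair_value hQ h2 hU hk hxU hfU hx hf hxf 1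
      by_cases hzy : polar Q z y = Q z * polar Q x y
      · refine key (-z) (U.neg_mem hz) (by rw [polar_neg_right, hxz, neg_zero])
          (by rw [polar_neg_right, hfz, neg_zero]) fun h => hxy ?_
        rw [polar_neg_left, QuadraticMap.map_neg, hzy, hz1, one_mul] at h
        exact (mul_eq_zero.1 (show (2 : F) * polar Q x y = 0 by linear_combination -h)).resolve_left h2
      · exact key z hz hxz hfz hzy
  set t := polar Q r x / polar Q r y
  have ht : t ≠ 0 := div_ne_zero hrx hry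
  refine comp x (t • y) y (step r x _ hrU hxU (U.smul_mem _ hyU) hr hx (by rw [quad_smul', hy, mul_zero]) hrx
    (by rw [polar_smul_r']; exact div_mul_cancel₀ _ hry)) ?_
  obtain ⟨f, hfU, hf, hyf⟩ := exists_partner hQ hU hyU hy hy0
  obtain ⟨z, hz, hyz, hfz, hzt⟩ := pair_value hQ h2 hU hk hyU hfU hy hf hyf (-t)
  obtain ⟨z', hz', hyz', hfz', hzt'⟩ := pair_value hQ h2 hU hk hyU hfU hy hf hyf (-1)
  refine comp (t • y) f y
    (step (t • y + f + z) _ _ (U.add_mem (U.add_mem (U.smul_mem _ hyU) hfU) hz) (U.smul_mem _ hyU) hfU ?_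
      (by rw [quad_smul', hy, mul_zero]) hf ?_ ?_)
    (step (y + f + z') _ _ (U.add_mem (U.add_mem hyU hfU) hz') hfU hyU ?_ hf hy ?_ ?_)
  · simp only [quad_add', quad_smul', polar_add_left, polar_smul_l', hy, hf, hyf, hyz, hfz, hzt]; ring
  · simp only [polar_add_left, polar_smul_l', polar_smul_r', polar_self', hy, polar_comm _ f y, hyf,
      polar_comm _ z y, hyz]
    simpa using ht
  · simp only [polar_add_left, polar_smul_l', polar_smul_r', polar_self', hy, hf, polar_comm _ f y, hyf,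
      polar_comm _ z y, hyz, polar_comm _ z f, hfz]
    ring
  · simp only [quad_add', polar_add_left, hy, hf, hyf, hyz', hfz', hzt']; ring
  · simp only [polar_add_left, polar_self', hf, hyf, polar_comm _ z' f, hfz']; simp
  · simp only [polar_add_left, polar_self', hy, hf, hyf, polar_comm _ f y, polar_comm _ z' y, hyz',
      polar_comm _ z' f, hfz']
    ring

/-- One mixed Siegel element with axis in `U` gives all axes of `U`. -/
theorem ax_of_mixed (hgood : 4 ≤ Fintype.card F ∨ 3 ≤ finrank F (qperp Q U) ∨ ∀ v ∈ qperp Q U, Q v = 0 → v = 0)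
    {x₀ c₀ : V} (hx₀U : x₀ ∈ U) (hx₀ : Q x₀ = 0) (hx₀0 : x₀ ≠ 0) (hc₀ : c₀ ∈ qperp Q U) (hc₀0 : c₀ ≠ 0)
    (hseed : SiegelIn M x₀ c₀) {x : V} (hxU : x ∈ U) (hx : Q x = 0) : AxIn M x := by
  by_cases hx0 : x = 0
  · rw [hx0]; exact AxIn.zero M
  have hperp : ∀ c ∈ qperp Q U, polar Q x c = 0 := fun c hc => polar_qperp hxU hc
  let T : Submodule F V :=
    { carrier := {c | c ∈ qperp Q U ∧ SiegelIn M x c}
      add_mem' := fun {a b} ha hb =>
        ⟨Submodule.add_mem _ ha.1 hb.1, SiegelIn.add hQ hx (hperp a ha.1) (hperp b hb.1) ha.2 hb.2⟩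
      zero_mem' := ⟨Submodule.zero_mem _, by simpa using siegelIn_smul_self M hx (0 : F)⟩
      smul_mem' := fun t c hc => ⟨Submodule.smul_mem _ t hc.1, fun g hg => by
        by_cases ht : t = 0
        · subst ht; rw [zero_smul] at hg; rw [hg.unique (isSiegel_one hx)]; exact M.one_mem
        obtain ⟨k, hk', hkx, hkf⟩ := move hQ h2 h4 hn hU hk hM hxU hx hx0 (U.smul_mem t hxU)
          (by rw [quad_smul', hx, mul_zero]) (smul_ne_zero ht hx0)
        have h1 := hc.2.conj hk'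
        rw [hkx, hkf c hc.1] at h1
        have h2 : IsSiegel g (t⁻¹ • (t • x)) (t • c) := by rwa [smul_smul, inv_mul_cancel₀ ht, one_smul]
        have h3 := h2.of_smul (inv_ne_zero ht)
        rw [smul_smul, inv_mul_cancel₀ ht, one_smul] at h3
        exact h1 g h3⟩ }
  have hinv : ∀ k ∈ M, k ∈ stab (Q := Q) U → k.1 x = x → ∀ c ∈ T, k.1 c ∈ T := fun k hk' hkU hkx c hc =>
    ⟨(show (qperp Q U).map _ = qperp Q U from stab_le_stab_qperp U hkU) ▸ ⟨c, hc.1, rfl⟩, by
      have := hc.2.conj hk'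
      rwa [hkx] at this⟩
  have hT : qperp Q U ≤ T := by
    refine invariant_eq hQ (ndSub_qperp hQ hU) (fun c hc => hc.1) ?_ ?_ ?_ hgood
    · obtain ⟨k, hk', hkx, hkf⟩ := move hQ h2 h4 hn hU hk hM hx₀U hx₀ hx₀0 hxU hx hx0
      refine fun h => hc₀0 ?_
      have h1 := hseed.conj hk'
      rw [hkx, hkf c₀ hc₀] at h1
      exact (Submodule.eq_bot_iff _).1 h c₀ ⟨hc₀, h1⟩
    · intro w hw hw0 c hc
      obtain ⟨f, hfU, hf, hxf⟩ := exists_partner hQ hU hxU hx hx0
      obtain ⟨u, huU, hxu, -, hu⟩ := pair_value hQ h2 hU hk hxU hfU hx hf hxf (Q w)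
      have hux : polar Q u x = 0 := by rw [polar_comm]; exact hxu
      have hkU : refl Q w * refl Q u ∈ stab (Q := Q) U := mem_stab_of_le fun z hz => by
        show (refl Q w).1 ((refl Q u).1 z) ∈ U
        have hz' : (refl Q u).1 z ∈ U := by rw [refl_apply]; exact U.sub_mem hz (U.smul_mem _ huU)
        rw [refl_fix Q (polar_qperp' hz' hw)]
        exact hz'
      have h := hinv _ (hM ⟨hkU, refl_pair_mem hQ h4 hn hw0 (by rw [hu]; exact hw0) (by rw [hu]; exact ⟨_, rfl⟩)⟩)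
        hkU (by
          show (refl Q w).1 ((refl Q u).1 x) = x
          rw [refl_fix Q hux, refl_fix Q (polar_qperp' hxU hw)]) c hc
      change (refl Q w).1 ((refl Q u).1 c) ∈ T at h
      rwa [refl_fix Q (polar_qperp huU hc.1)] at h
    · intro e he y hy g hg c hc
      exact hinv g (siegelIn_side' hQ h4 hn hM he hy g hg) (stab_qperp_eq hQ U ▸ siegel_mem_stab he hy hg)
        (hg.fix (polar_qperp' hxU he) (polar_qperp' hxU hy)) c hc
  intro y g hg
  obtain ⟨u, hu, w, hw, rfl⟩ := ndSub_decomp hU y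
  have hxw : polar Q x w = 0 := hperp w hw
  have hxu : polar Q x u = 0 := by
    have := hg.2.1
    rwa [polar_add_right, hxw, add_zero] at this
  exact SiegelIn.add hQ hx hxu hxw (siegelIn_side hQ h4 hn hM hxU hu) (hT hw).2 g hg

/-- One mixed Siegel element with axis in `U` gives `Ω`. -/
theorem top_mixed (hgood : 4 ≤ Fintype.card F ∨ 3 ≤ finrank F (qperp Q U) ∨ ∀ v ∈ qperp Q U, Q v = 0 → v = 0)
    {x₀ c₀ : V} (hx₀U : x₀ ∈ U) (hx₀ : Q x₀ = 0) (hx₀0 : x₀ ≠ 0) (hc₀ : c₀ ∈ qperp Q U) (hc₀0 : c₀ ≠ 0)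
    (hs : SiegelIn M x₀ c₀) : commutator (orthGroup Q) ≤ M := by
  obtain ⟨hp⟩ := exists_hypPairs hQ hn
  obtain ⟨e, heU, he, he0⟩ : ∃ e ∈ U, Q e = 0 ∧ e ≠ 0 := ⟨x₀, hx₀U, hx₀, hx₀0⟩
  have hax : ∀ x ∈ U, Q x = 0 → AxIn M x :=
    fun x h1 h3 => ax_of_mixed hQ h2 h4 hn hU hk hM hgood hx₀U hx₀ hx₀0 hc₀ hc₀0 hs h1 h3
  have hnon : ∀ v, Q v = 0 → v ∉ qperp Q U → AxIn M v := by
    intro v hv hvP
    obtain ⟨u, hu, w, hw, rfl⟩ := ndSub_decomp hU v
    obtain ⟨r, hrU, hr, hru⟩ := exists_singular_polar hQ hU heU he he0 hu (fun h => hvP (by rwa [h, zero_add]))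
    obtain ⟨x, hxU, hx, hxr⟩ := exists_singular_polar hQ hU heU he he0 hrU (fun h => hru (by rw [h, polar_zero_left]))
    refine ax_move hQ (hax r hrU hr) hr hx hv (by rw [polar_comm]; exact hxr) ?_ (hax x hxU hx)
    rwa [polar_add_right, polar_qperp hrU hw, add_zero]
  rw [commutator_eq_siegelGroup hQ h4 hp hn]
  refine siegelGroup_le_of_ax fun v hv => ?_
  by_cases hv0 : v = 0
  · rw [hv0]; exact AxIn.zero M
  obtain ⟨r, hr, -, hrv, hre⟩ := exists_common hQ hn (d := 0) (map_zero Q) hv he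
    (by rw [polar_zero_left]) (by rw [polar_zero_left]) (by simpa using hv0) (by simpa using he0)
  have hr0 : r ≠ 0 := fun h => hrv (by rw [h, polar_zero_right])
  obtain ⟨x, hx, -, hxr, hxe⟩ := exists_common hQ hn (d := 0) (map_zero Q) hr he
    (by rw [polar_zero_left]) (by rw [polar_zero_left]) (by simpa using hr0) (by simpa using he0)
  exact ax_move hQ (hnon r hr fun h => hre (polar_qperp heU h)) hr hx hv hxr (by rw [polar_comm]; exact hrv)
    (hnon x hx fun h => hxe (polar_qperp heU h))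

/-- A mixed Siegel element with axis outside `U`. -/
theorem top_out (hgood : 4 ≤ Fintype.card F ∨ 3 ≤ finrank F (qperp Q U) ∨ ∀ v ∈ qperp Q U, Q v = 0 → v = 0)
    {h z : V} (hh : h ∈ qperp Q U) (hQh : Q h = 0) (hh0 : h ≠ 0) (hzU : z ∈ U) (hz0 : z ≠ 0)
    (hs : SiegelIn M h z) : commutator (orthGroup Q) ≤ M := by
  have fin : ∀ z ∈ U, z ≠ 0 → Q z = 0 → SiegelIn M h z → commutator (orthGroup Q) ≤ M := fun z hzU hz0 hz hs =>
    top_mixed hQ h2 h4 hn hU hk hM hgood hzU hz hz0 (Submodule.neg_mem _ hh) (neg_ne_zero.2 hh0)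
      (swap_neg hQ hQh hs)
  by_cases hz : Q z = 0
  · exact fin z hzU hz0 hz hs
  obtain ⟨e, heU, he0, he⟩ := SubfieldOrth.exists_singular_sub (Q := Q) (U := U) (by omega)
  obtain ⟨x, hxU, hx, hxz⟩ := exists_singular_polar hQ hU heU he he0 hzU hz0
  obtain ⟨f, hfU, hf, hxf⟩ := exists_partner hQ hU hxU hx (fun e0 => hxz (by rw [e0, polar_zero_left]))
  obtain ⟨z₁, hz₁, hxz₁, -, hz₁1⟩ := pair_value hQ h2 hU hk hxU hfU hx hf hxf 1
  obtain ⟨k₁, hk₁⟩ := exists_isSiegel hQ hx hxz₁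
  obtain ⟨k₂, hk₂⟩ := exists_isSiegel hQ hx (show polar Q x (-z₁) = 0 by rw [polar_neg_right, hxz₁, neg_zero])
  have h1 := hs.conj (siegelIn_side hQ h4 hn hM hxU hz₁ k₁ hk₁)
  rw [hk₁.fix (polar_qperp hxU hh) (polar_qperp hz₁ hh)] at h1
  have h3 := hs.conj (siegelIn_side hQ h4 hn hM hxU (U.neg_mem hz₁) k₂ hk₂)
  rw [hk₂.fix (polar_qperp hxU hh) (polar_qperp (U.neg_mem hz₁) hh)] at h3
  have hp : ∀ v ∈ U, polar Q h v = 0 := fun v hv => polar_qperp' hv hh
  have hkU : ∀ {k : orthGroup Q} {y : V}, IsSiegel k x y → y ∈ U → k.1 z ∈ U := fun hk hy => by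
    rw [hk.2.2]; exact U.add_mem (U.add_mem hzU (U.smul_mem _ hy)) (U.smul_mem _ hxU)
  have hn1 := SiegelIn.neg hQ hQh (hp z hzU) hs
  have hsum := SiegelIn.add hQ hQh (hp _ (U.add_mem (U.add_mem (hkU hk₁ hz₁) (hkU hk₂ (U.neg_mem hz₁))) (U.neg_mem hzU)))
    (by rw [polar_neg_right, hp z hzU, neg_zero]) (SiegelIn.add hQ hQh
      (hp _ (U.add_mem (hkU hk₁ hz₁) (hkU hk₂ (U.neg_mem hz₁)))) (by rw [polar_neg_right, hp z hzU, neg_zero])
      (SiegelIn.add hQ hQh (hp _ (hkU hk₁ hz₁)) (hp _ (hkU hk₂ (U.neg_mem hz₁))) h1 h3) hn1) hn1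
  have heq : k₁.1 z + k₂.1 z + -z + -z = (-(2 * polar Q x z)) • x := by
    rw [hk₁.2.2, hk₂.2.2, QuadraticMap.map_neg, polar_neg_left, hz₁1]
    module
  rw [heq] at hsum
  exact fin _ (U.smul_mem _ hxU) (smul_ne_zero (neg_ne_zero.2 (mul_ne_zero h2 hxz))
    (fun e0 => hxz (by rw [e0, polar_zero_left]))) (by rw [quad_smul', hx, mul_zero]) hsum

/-- A Siegel element whose two vectors have independent projections on `U`. -/
theorem top_seed (hgood : 4 ≤ Fintype.card F ∨ 3 ≤ finrank F (qperp Q U) ∨ ∀ v ∈ qperp Q U, Q v = 0 → v = 0)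
    {u u' w w' : V} (hu : u ∈ U) (hu' : u' ∈ U) (hw : w ∈ qperp Q U) (hw' : w' ∈ qperp Q U)
    (hu0 : u ≠ 0) (hw0 : w ≠ 0) (hne : u' ∉ F ∙ u) (ha : Q (u + w) = 0)
    (hay : polar Q (u + w) (u' + w') = 0) (hs : SiegelIn M (u + w) (u' + w')) :
    commutator (orthGroup Q) ≤ M := by
  classical
  have hD : ∀ e ∈ U, ∀ z ∈ U, Q e = 0 → polar Q e u = 0 → polar Q z u = 0 → polar Q e z = 0 →
      SiegelIn M (u + w) (polar Q e u' • z + (-(polar Q z u') - Q z * polar Q e u') • e) ∧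
      polar Q (u + w) (polar Q e u' • z + (-(polar Q z u') - Q z * polar Q e u') • e) = 0 := by
    intro e heU z hzU he heu hzu hez
    obtain ⟨k, hk'⟩ := exists_isSiegel hQ he hez
    have hea : polar Q e (u + w) = 0 := by rw [polar_add_right, heu, polar_qperp heU hw, add_zero]
    have hza : polar Q z (u + w) = 0 := by rw [polar_add_right, hzu, polar_qperp hzU hw, add_zero]
    have hka : k.1 (u + w) = u + w := hk'.fix hea hza
    have hky : polar Q (u + w) (k.1 (u' + w')) = 0 := by rw [← hka, polar_isom]; exact hay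
    have h1 := hs.conj (siegelIn_side hQ h4 hn hM heU hzU k hk')
    rw [hka] at h1
    refine ⟨?_, ?_⟩
    swap
    · rw [polar_add_right, polar_smul_r', polar_smul_r', polar_comm _ _ z, polar_comm _ _ e, hea, hza]
      ring
    have h3 := SiegelIn.add hQ ha hky (by rw [polar_neg_right, hay, neg_zero]) h1 (SiegelIn.neg hQ ha hay hs)
    convert h3 using 1
    rw [hk'.2.2, polar_add_right, polar_add_right, polar_qperp heU hw', polar_qperp hzU hw']
    module
  have fin : ∀ e ∈ U, Q e = 0 → e ≠ 0 → polar Q e u = 0 → ∀ t : F, t ≠ 0 → SiegelIn M (u + w) (t • e) →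
      commutator (orthGroup Q) ≤ M := by
    intro e heU he he0 heu t ht hs'
    have hxU := U.smul_mem t heU
    have hxu : polar Q (t • e) u = 0 := by rw [polar_smul_l', heu, mul_zero]
    have hxa : polar Q (t • e) (-(u + w)) = 0 := by
      rw [polar_neg_right, polar_add_right, hxu, polar_qperp hxU hw]; ring
    have h3 := SiegelIn.add hQ (by rw [quad_smul', he, mul_zero]) hxa hxu (swap_neg hQ ha hs')
      (siegelIn_side hQ h4 hn hM hxU hu)
    rw [show -(u + w) + u = -w by abel] at h3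
    exact top_mixed hQ h2 h4 hn hU hk hM hgood hxU (by rw [quad_smul', he, mul_zero]) (smul_ne_zero ht he0)
      (Submodule.neg_mem _ hw) (neg_ne_zero.2 hw0) h3
  -- from a vector with `polar e u' ≠ 0` and a non-singular `z` orthogonal to `e` and `u`
  have fin' : ∀ e ∈ U, Q e = 0 → e ≠ 0 → polar Q e u = 0 → polar Q e u' ≠ 0 → ∀ z ∈ U, polar Q z u = 0 →
      polar Q e z = 0 → Q z ≠ 0 → commutator (orthGroup Q) ≤ M := by
    intro e heU he he0 heu hb z hzU hzu hez hz
    obtain ⟨h1, h1p⟩ := hD e heU z hzU he heu hzu hez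
    obtain ⟨h3, h3p⟩ := hD e heU (-z) (U.neg_mem hzU) he heu (by rw [polar_neg_left, hzu, neg_zero])
      (by rw [polar_neg_right, hez, neg_zero])
    refine fin e heU he he0 heu (-(2 * Q z * polar Q e u')) (neg_ne_zero.2 (mul_ne_zero (mul_ne_zero h2 hz) hb)) ?_
    have h5 := SiegelIn.add hQ ha h1p h3p h1 h3
    convert h5 using 1
    rw [QuadraticMap.map_neg, polar_neg_left]
    module
  by_cases hqu : Q u = 0
  · obtain ⟨f, hfU, hf, huf⟩ := exists_partner hQ hU hu hqu hu0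
    have huu : polar Q u u = 0 := by rw [polar_self', hqu, mul_zero]
    by_cases hb : polar Q u u' = 0
    · obtain ⟨z, hz, hz1⟩ := exists_polar_one hU (W := F ∙ (⟨u, hu⟩ : U)) (x := ⟨u', hu'⟩) fun h => hne (by
        obtain ⟨c, hc⟩ := Submodule.mem_span_singleton.1 h
        exact Submodule.mem_span_singleton.2 ⟨c, congrArg Subtype.val hc⟩)
      change polar Q (z : V) u' = 1 at hz1
      have hzu : polar Q (z : V) u = 0 := hz _ (Submodule.mem_span_singleton_self _)
      obtain ⟨h1, -⟩ := hD u hu z z.2 hqu huu hzu (by rw [polar_comm]; exact hzu)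
      refine fin u hu hqu hu0 huu (-1) (neg_ne_zero.2 one_ne_zero) ?_
      rw [hb, hz1] at h1
      simpa using h1
    · obtain ⟨z, hzU, huz, -, hz⟩ := pair_value hQ h2 hU hk hu hfU hqu hf huf 1
      exact fin' u hu hqu hu0 huu hb z hzU (by rw [polar_comm]; exact huz) huz (by rw [hz]; exact one_ne_zero)
  · have hU' := ndSub_perp_line hQ h2 hU hu hqu
    have hdim := finrank_inf_perp hQ U (F ∙ u)
    rw [finrank_span_singleton hu0] at hdim
    set c := u' + (-(polar Q u u' / (2 * Q u))) • u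
    have hc : c ∈ U ⊓ qperp Q (F ∙ u) := ⟨U.add_mem hu' (U.smul_mem _ hu), mem_perp_line.2 (by
      simp only [c, polar_add_right, polar_smul_r', polar_self']
      field_simp
      ring)⟩
    have hc0 : c ≠ 0 := fun h => hne (Submodule.mem_span_singleton.2 ⟨polar Q u u' / (2 * Q u), by
      rw [← sub_eq_zero]
      calc (polar Q u u' / (2 * Q u)) • u - u' = -c := by simp only [c]; module
        _ = 0 := by rw [h, neg_zero]⟩)
    obtain ⟨e₀, he₀U, he₀0, he₀⟩ := SubfieldOrth.exists_singular_sub (Q := Q) (U := U ⊓ qperp Q (F ∙ u)) (by omega)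
    obtain ⟨e, heU, he, hec⟩ := exists_singular_polar hQ hU' he₀U he₀ he₀0 hc hc0
    have he0 : e ≠ 0 := fun h => hec (by rw [h, polar_zero_left])
    have heu : polar Q e u = 0 := by rw [polar_comm]; exact mem_perp_line.1 heU.2
    obtain ⟨f, hfU, hf, hef⟩ := exists_partner hQ hU' heU he he0
    have hd' := finrank_inf_perp hQ (U ⊓ qperp Q (F ∙ u)) (Submodule.span F {e, f})
    have h5 := finrank_span_finset_le_card (R := F) ({e, f} : Finset V)
    have h6 := Finset.card_le_two (a := e) (b := f)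
    rw [Finset.coe_pair, Set.finrank] at h5
    obtain ⟨z, ⟨hzU, hzp⟩, hz⟩ := exists_nonsingular hQ h2 (ndSub_perp_pair hQ hU' heU hfU he hf hef) (by omega)
    refine fin' e heU.1 he he0 heu ?_ z hzU.1 (by rw [polar_comm]; exact mem_perp_line.1 hzU.2)
      (mem_perp_pair.1 hzp).1 hz
    simpa [c, polar_add_right, polar_smul_r', heu] using hec

end Side

/-- Stabilisers of non-degenerate subspaces of dimension at least 4 are maximal in `Ω`. -/
theorem top_of_stab {U : Submodule F V} (hU : NdSub Q U) (hk : 4 ≤ finrank F U)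
    (hgood : 4 ≤ Fintype.card F ∨ 3 ≤ finrank F (qperp Q U) ∨ ∀ v ∈ qperp Q U, Q v = 0 → v = 0)
    (hswap : ∀ g : orthGroup Q, g ∈ commutator (orthGroup Q) → ¬ U.map (g.1 : V →ₗ[F] V) ≤ qperp Q U)
    {M : Subgroup (orthGroup Q)} (hM : stab (Q := Q) U ⊓ commutator (orthGroup Q) ≤ M) {g : orthGroup Q} (hg : g ∈ M)
    (hgΩ : g ∈ commutator (orthGroup Q)) (hgU : g ∉ stab (Q := Q) U) : commutator (orthGroup Q) ≤ M := by
  classical
  obtain ⟨e, heU, he0, he⟩ := SubfieldOrth.exists_singular_sub (Q := Q) (U := U) (by omega)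
  obtain ⟨f, hfU, hf, hef⟩ := exists_partner hQ hU heU he he0
  have hspan : ∀ K : Submodule F V, (∀ d ∈ U, Q d = 0 → g.1 d ∈ K) → U.map (g.1 : V →ₗ[F] V) ≤ K := by
    intro K hK
    rintro _ ⟨v, hv, rfl⟩
    show g.1 v ∈ K
    set z := v - polar Q f v • e - polar Q e v • f with hz
    have hzU : z ∈ U := U.sub_mem (U.sub_mem hv (U.smul_mem _ heU)) (U.smul_mem _ hfU)
    have hze : polar Q e z = 0 := by
      simp only [hz, polar_sub_right, polar_smul_r', polar_self', he, hef]; ring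
    have hzf : polar Q f z = 0 := by
      simp only [hz, polar_sub_right, polar_smul_r', polar_self', hf, polar_comm _ f e, hef]; ring
    have hs0 : Q (z + e + (-Q z) • f) = 0 := by
      simp only [quad_add', quad_smul', polar_add_left, polar_smul_r', he, hf, hef,
        polar_comm _ z e, polar_comm _ z f, hze, hzf]
      ring
    rw [show v = (z + e + (-Q z) • f) + (polar Q f v - 1) • e + (polar Q e v + Q z) • f by
      rw [hz]; module, map_add, map_add, map_smul, map_smul]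
    exact K.add_mem (K.add_mem (hK _ (U.add_mem (U.add_mem hzU heU) (U.smul_mem _ hfU)) hs0)
      (K.smul_mem _ (hK _ heU he))) (K.smul_mem _ (hK _ hfU hf))
  obtain ⟨d, hdU, hd, hd1, hd2⟩ : ∃ d ∈ U, Q d = 0 ∧ g.1 d ∉ U ∧ g.1 d ∉ qperp Q U := by
    by_contra! hall
    obtain ⟨d₁, hd₁U, hd₁, hd₁o⟩ : ∃ d ∈ U, Q d = 0 ∧ g.1 d ∉ U := by
      by_contra! h
      exact hgU (mem_stab_of_le fun x hx => hspan U h ⟨x, hx, rfl⟩)
    have hd₁P := hall d₁ hd₁U hd₁ hd₁o
    refine hswap g hgΩ (hspan _ fun d hdU hd => ?_)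
    by_contra h
    have hin : g.1 d ∈ U := by
      by_contra h'
      exact h (hall d hdU hd h')
    have hdd : polar Q d₁ d = 0 := by rw [← polar_isom g]; exact polar_qperp' hin hd₁P
    have h' := hall (d₁ + d) (U.add_mem hd₁U hdU) (by rw [quad_add', hd₁, hd, hdd]; ring) (fun h' => hd₁o (by
      rw [map_add] at h'
      simpa using U.sub_mem h' hin))
    rw [map_add] at h'
    exact h (by simpa using Submodule.sub_mem _ h' hd₁P)
  obtain ⟨u, hu, w, hw, hauw⟩ := ndSub_decomp hU (g.1 d)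
  have hu0 : u ≠ 0 := fun h => hd2 (by rw [hauw, h, zero_add]; exact hw)
  have hw0 : w ≠ 0 := fun h => hd1 (by rw [hauw, h, add_zero]; exact hu)
  have hd0 : d ≠ 0 := fun h => hd1 (by rw [h, map_zero]; exact U.zero_mem)
  have ha : Q (u + w) = 0 := by rw [← hauw, apply_quad, hd]
  have hY : ∀ y ∈ U, polar Q d y = 0 → polar Q (u + w) (g.1 y) = 0 ∧ SiegelIn M (u + w) (g.1 y) := fun y hy hdy => by
    rw [← hauw]
    exact ⟨by rw [polar_isom]; exact hdy, (siegelIn_side hQ h4 hn hM hdU hy).conj hg⟩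
  by_cases hcase : ∃ y ∈ U, polar Q d y = 0 ∧ ∀ u' ∈ U, g.1 y - u' ∈ qperp Q U → u' ∉ F ∙ u
  · obtain ⟨y, hy, hdy, hne⟩ := hcase
    obtain ⟨u', hu', w', hw', hyuw⟩ := ndSub_decomp hU (g.1 y)
    obtain ⟨h1, h3⟩ := hY y hy hdy
    rw [hyuw] at h1 h3
    exact top_seed hQ h2 h4 hn hU hk hM hgood hu hu' hw hw' hu0 hw0
      (hne u' hu' (by rw [hyuw, add_sub_cancel_left]; exact hw')) ha h1 h3
  push Not at hcase
  have hK := finrank_inf_perp hQ U (F ∙ d)
  rw [finrank_span_singleton hd0] at hK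
  obtain ⟨y, ⟨hy, hdy⟩, hyd⟩ : ∃ y ∈ U ⊓ qperp Q (F ∙ d), y ∉ F ∙ d := by
    by_contra! h
    have h1 := Submodule.finrank_mono (s := U ⊓ qperp Q (F ∙ d)) (t := F ∙ d) h
    rw [finrank_span_singleton hd0] at h1
    omega
  replace hdy := mem_perp_line.1 hdy
  obtain ⟨u', hu', hw', hspanu⟩ := hcase y hy hdy
  obtain ⟨t, rfl⟩ := Submodule.mem_span_singleton.1 hspanu
  set y' := y + (-t) • d
  have hy'U : y' ∈ U := U.add_mem hy (U.smul_mem _ hdU)
  obtain ⟨hac, hs⟩ := hY y' hy'U (by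
    simp only [y', polar_add_right, polar_smul_r', polar_self', hd, hdy]; ring)
  set c := g.1 y' with hcDef
  have hcw : c = (g.1 y - t • u) + (-t) • w := by
    rw [hcDef]; simp only [y', map_add, map_smul, hauw]; module
  have hcP : c ∈ qperp Q U := hcw ▸ Submodule.add_mem _ hw' (Submodule.smul_mem _ _ hw)
  have hc0 : c ≠ 0 := fun h => hyd (Submodule.mem_span_singleton.2 ⟨t, by
    have h1 := g.1.map_eq_zero_iff.1 h
    rw [← sub_eq_zero]
    calc t • d - y = -y' := by simp only [y']; module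
      _ = 0 := by rw [h1, neg_zero]⟩)
  have hwc : polar Q w c = 0 := by
    rwa [polar_add_left, polar_qperp hu hcP, zero_add] at hac
  by_cases hcQ : Q c = 0
  · have hca : polar Q c (-(u + w)) = 0 := by rw [polar_neg_right, polar_comm, hac, neg_zero]
    have h3 := SiegelIn.add hQ hcQ hca (by rw [polar_comm]; exact hwc) (swap_neg hQ ha hs)
      (siegelIn_side' hQ h4 hn hM hcP hw)
    rw [show -(u + w) + w = -u by abel] at h3
    exact top_out hQ h2 h4 hn hU hk hM hgood hcP hcQ hc0 (U.neg_mem hu) (neg_ne_zero.2 hu0) h3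
  obtain ⟨e₁, he₁U, he₁, he₁u⟩ := exists_singular_polar hQ hU heU he he0 hu hu0
  have he₁0 : e₁ ≠ 0 := fun h => he₁u (by rw [h, polar_zero_left])
  obtain ⟨f₁, hf₁U, hf₁, hef₁⟩ := exists_partner hQ hU he₁U he₁ he₁0
  obtain ⟨z, hz, hez, -, hz1⟩ := pair_value hQ h2 hU hk he₁U hf₁U he₁ hf₁ hef₁ 1
  obtain ⟨k, hk'⟩ := exists_isSiegel hQ he₁ hez
  have hkM := siegelIn_side hQ h4 hn hM he₁U hz k hk'
  set u₂ := k.1 u with hu₂Def
  have hu₂ : u₂ ∈ U := by
    rw [hu₂Def, hk'.2.2]; exact U.add_mem (U.add_mem hu (U.smul_mem _ hz)) (U.smul_mem _ he₁U)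
  have hu₂ne : u₂ ∉ F ∙ u := by
    intro h
    obtain ⟨p, hp⟩ := Submodule.mem_span_singleton.1 h
    rw [hu₂Def, hk'.2.2] at hp
    have hbz : polar Q e₁ u • z = (p - 1) • u + (polar Q z u + Q z * polar Q e₁ u) • e₁ := by
      linear_combination (norm := module) -hp
    have h3 := congrArg (polar Q e₁) hbz
    simp only [polar_smul_r', polar_add_right, polar_self', he₁, hez] at h3
    have hp1 : p - 1 = 0 := by
      have h7 : (p - 1) * polar Q e₁ u = 0 := by linear_combination -h3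
      exact (mul_eq_zero.1 h7).resolve_right he₁u
    rw [hp1, zero_smul, zero_add] at hbz
    have h5 := congrArg Q hbz
    rw [quad_smul', quad_smul', he₁, hz1, mul_zero, mul_one] at h5
    exact he₁u (mul_self_eq_zero.1 h5)
  have hfix : ∀ v ∈ qperp Q U, k.1 v = v := fun v hv => hk'.fix (polar_qperp he₁U hv) (polar_qperp hz hv)
  have hka : k.1 (u + w) = u₂ + w := by rw [map_add, hfix w hw]
  have hs₂ := hs.conj hkM
  rw [hka, hfix c hcP] at hs₂
  have ha₂ : Q (u₂ + w) = 0 := by rw [← hka, apply_quad, ha]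
  have h2c : polar Q (u₂ + w) c = 0 := by rw [polar_add_left, polar_qperp hu₂ hcP, hwc, add_zero]
  obtain ⟨x, hx⟩ := exists_isSiegel hQ ha₂ h2c
  have h3 := hs.conj (hs₂ x hx)
  set s := polar Q (u₂ + w) (u + w)
  have hxa : x.1 (u + w) = (u + (-(Q c * s)) • u₂) + ((1 - Q c * s) • w + s • c) := by
    rw [hx.2.2, show polar Q c (u + w) = 0 by rw [polar_comm]; exact hac]
    module
  have hxc : x.1 c = (-(2 * Q c)) • u₂ + (c + (-(2 * Q c)) • w) := by
    rw [hx.2.2, h2c, polar_self']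
    module
  have h3p : polar Q (x.1 (u + w)) (x.1 c) = 0 := by rw [polar_isom]; exact hac
  have hQa : Q (x.1 (u + w)) = 0 := by rw [apply_quad, ha]
  rw [hxa, hxc] at h3 h3p
  rw [hxa] at hQa
  refine top_seed hQ h2 h4 hn hU hk hM hgood (U.add_mem hu (U.smul_mem _ hu₂)) (U.smul_mem _ hu₂)
    (Submodule.add_mem _ (Submodule.smul_mem _ _ hw) (Submodule.smul_mem _ _ hcP))
    (Submodule.add_mem _ hcP (Submodule.smul_mem _ _ hw)) (fun h => ?_) (fun h => ?_) (fun h => hu₂ne ?_) hQa h3p h3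
  · by_cases hq : Q c * s = 0
    · rw [hq, neg_zero, zero_smul, add_zero] at h; exact hu0 h
    · refine hu₂ne (Submodule.mem_span_singleton.2 ⟨(Q c * s)⁻¹, ?_⟩)
      rw [eq_neg_of_add_eq_zero_left h, ← neg_smul, neg_neg, inv_smul_smul₀ hq]
  · have h5 := congrArg (polar Q c) h
    simp only [polar_add_right, polar_smul_r', polar_comm _ c w, hwc, polar_self', polar_zero_right] at h5
    have hs0 : s = 0 := (mul_eq_zero.1 (show (2 * Q c) * s = 0 by linear_combination h5)).resolve_left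
      (mul_ne_zero h2 hcQ)
    rw [hs0, mul_zero, sub_zero, one_smul, zero_smul, add_zero] at h
    exact hw0 h
  · obtain ⟨l, hl⟩ := Submodule.mem_span_singleton.1 h
    have hl' : (l * (Q c * s) - 2 * Q c) • u₂ = l • u := by linear_combination (norm := module) -hl
    by_cases hq : l * (Q c * s) - 2 * Q c = 0
    · rw [hq, zero_smul] at hl'
      rcases smul_eq_zero.1 hl'.symm with hl0 | hl0
      · rw [hl0, zero_mul, zero_sub, neg_eq_zero] at hq
        exact absurd hq (mul_ne_zero h2 hcQ)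
      · exact absurd hl0 hu0
    · exact Submodule.mem_span_singleton.2 ⟨(l * (Q c * s) - 2 * Q c)⁻¹ * l, by
        rw [mul_smul, ← hl', inv_smul_smul₀ hq]⟩

/-- Some element of `Ω` moves a non-degenerate subspace of dimension at least 3. -/
theorem exists_moving {U : Submodule F V} (hU : NdSub Q U) (hk : 3 ≤ finrank F U) {w : V}
    (hw : w ∈ qperp Q U) (hw0 : w ≠ 0) : ∃ k ∈ commutator (orthGroup Q), k ∉ stab (Q := Q) U := by
  obtain ⟨hp₀⟩ := exists_hypPairs hQ hn
  obtain ⟨e, heU, he0, he⟩ := SubfieldOrth.exists_singular_sub (Q := Q) (U := U) hk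
  obtain ⟨f, hfU, hf, hef⟩ := exists_partner hQ hU heU he he0
  obtain ⟨k, hk'⟩ := exists_isSiegel hQ he (polar_qperp heU hw)
  refine ⟨k, hk'.mem_commutator hQ h4 hp₀ hn, fun h => hw0 (ndSub_eq_zero hU ?_ hw)⟩
  have h1 : k.1 f ∈ U := (show U.map _ = U from h) ▸ ⟨f, hfU, rfl⟩
  rw [hk'.2.2, hef, one_smul] at h1
  have h3 := U.sub_mem (U.sub_mem h1 hfU) (U.smul_mem (-(polar Q w f) - Q w * 1) heU)
  convert h3 using 1
  module

end CfsgLib.Classical.NDOdd
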