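import Mathlib.LinearAlgebra.Matrix.GeneralLinearGroup.Defs
import Mathlib.LinearAlgebra.Matrix.Determinant.Basic
import Mathlib.Data.Matrix.Basic
import Mathlib.LinearAlgebra.Matrix.NonsingularInverse
import Mathlib.GroupTheory.Sylow
import Mathlib.GroupTheory.Index
import Mathlib.FieldTheory.Finite.Basic
import Mathlib.Tactic.LinearCombination
import Mathlib.Tactic.FinCases

/-!
# Isometry groups of symmetric matrices and the Sylow 2-subgroups of the plane `x² + y²`
-/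

set_option autoImplicit false

namespace CfsgLib.Classical.OrthPlane

open Matrix

variable {F : Type*} [Field F]

/-- The invertible matrices `g` with `gᵀ M g = M`. -/
def OGrp {ι : Type*} [Fintype ι] [DecidableEq ι] (M : Matrix ι ι F) : Subgroup (GL ι F) where
  carrier := {g | (g : Matrix ι ι F)ᵀ * M * (g : Matrix ι ι F) = M}
  one_mem' := by simp
  mul_mem' {g h} hg hh := by
    simp only [Set.mem_setOf_eq, Units.val_mul, Matrix.transpose_mul] at *
    calc _ = (h : Matrix ι ι F)ᵀ * ((g : Matrix ι ι F)ᵀ * M * (g : Matrix ι ι F)) *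
          (h : Matrix ι ι F) := by simp only [Matrix.mul_assoc]
      _ = M := by rw [hg, hh]
  inv_mem' {g} hg := by
    simp only [Set.mem_setOf_eq] at *
    conv_lhs => rw [← hg]
    calc _ = ((g : Matrix ι ι F) * ((g⁻¹ : GL ι F) : Matrix ι ι F))ᵀ * M *
          ((g : Matrix ι ι F) * ((g⁻¹ : GL ι F) : Matrix ι ι F)) := by
            simp only [Matrix.transpose_mul, Matrix.mul_assoc]
      _ = M := by rw [g.mul_inv]; simp

theorem mem_OGrp {ι : Type*} [Fintype ι] [DecidableEq ι] {M : Matrix ι ι F} {g : GL ι F} :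
    g ∈ OGrp M ↔ (g : Matrix ι ι F)ᵀ * M * (g : Matrix ι ι F) = M := Iff.rfl

variable (F) in
/-- The orthogonal group of `x² + y²`. -/
abbrev O2 : Subgroup (GL (Fin 2) F) := OGrp (1 : Matrix (Fin 2) (Fin 2) F)

variable {g h : GL (Fin 2) F}

theorem O2_eqs (hg : g ∈ O2 F) :
    (g : Matrix (Fin 2) (Fin 2) F) 0 0 * (g : Matrix (Fin 2) (Fin 2) F) 0 0 + (g : Matrix (Fin 2) (Fin 2) F) 1 0 * (g : Matrix (Fin 2) (Fin 2) F) 1 0 = 1 ∧
    (g : Matrix (Fin 2) (Fin 2) F) 0 0 * (g : Matrix (Fin 2) (Fin 2) F) 0 1 + (g : Matrix (Fin 2) (Fin 2) F) 1 0 * (g : Matrix (Fin 2) (Fin 2) F) 1 1 = 0 ∧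
    (g : Matrix (Fin 2) (Fin 2) F) 0 1 * (g : Matrix (Fin 2) (Fin 2) F) 0 1 + (g : Matrix (Fin 2) (Fin 2) F) 1 1 * (g : Matrix (Fin 2) (Fin 2) F) 1 1 = 1 := by
  rw [mem_OGrp, Matrix.mul_one] at hg
  have h00 := congrFun (congrFun hg 0) 0
  have h01 := congrFun (congrFun hg 0) 1
  have h11 := congrFun (congrFun hg 1) 1
  simp [Matrix.mul_apply, Fin.sum_univ_two] at h00 h01 h11
  exact ⟨h00, h01, h11⟩

theorem det_cases (hg : g ∈ O2 F) :
    (g : Matrix (Fin 2) (Fin 2) F).det = 1 ∨ (g : Matrix (Fin 2) (Fin 2) F).det = -1 := by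
  rw [mem_OGrp, Matrix.mul_one] at hg
  have h := congrArg Matrix.det hg
  rw [Matrix.det_mul, Matrix.det_transpose, Matrix.det_one] at h
  exact mul_self_eq_one_iff.1 h

theorem shape (hg : g ∈ O2 F) {d : F} (hd : (g : Matrix (Fin 2) (Fin 2) F).det = d) :
    (g : Matrix (Fin 2) (Fin 2) F) 1 1 = d * (g : Matrix (Fin 2) (Fin 2) F) 0 0 ∧
    (g : Matrix (Fin 2) (Fin 2) F) 0 1 = -(d * (g : Matrix (Fin 2) (Fin 2) F) 1 0) := by
  obtain ⟨h1, h2, -⟩ := O2_eqs hg
  rw [Matrix.det_fin_two] at hd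
  set a := (g : Matrix (Fin 2) (Fin 2) F) 0 0
  set b := (g : Matrix (Fin 2) (Fin 2) F) 0 1
  set c := (g : Matrix (Fin 2) (Fin 2) F) 1 0
  set e := (g : Matrix (Fin 2) (Fin 2) F) 1 1
  constructor
  · linear_combination a * hd + c * h2 - e * h1
  · linear_combination a * h2 - c * hd - b * h1

theorem mul_self_of_det_neg (hg : g ∈ O2 F) (hd : (g : Matrix (Fin 2) (Fin 2) F).det = -1) : g * g = 1 := by
  obtain ⟨he, hb⟩ := shape hg hd
  obtain ⟨h1, -, -⟩ := O2_eqs hg
  refine Units.ext ?_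
  rw [Units.val_mul, Units.val_one]
  ext i j
  fin_cases i <;> fin_cases j <;> simp [Matrix.mul_apply, Fin.sum_univ_two, he, hb] <;>
    first | linear_combination h1 | linear_combination -h1 | ring

theorem comm_of_det_one (hg : g ∈ O2 F) (hd : (g : Matrix (Fin 2) (Fin 2) F).det = 1) (hh : h ∈ O2 F)
    (hd' : (h : Matrix (Fin 2) (Fin 2) F).det = 1) : g * h = h * g := by
  obtain ⟨he, hb⟩ := shape hg hd
  obtain ⟨he', hb'⟩ := shape hh hd'
  refine Units.ext ?_
  rw [Units.val_mul, Units.val_mul]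
  ext i j
  fin_cases i <;> fin_cases j <;> simp [Matrix.mul_apply, Fin.sum_univ_two, he, hb, he', hb'] <;> ring

theorem eq_one_or_neg_of_mul_self (hg : g ∈ O2 F) (hd : (g : Matrix (Fin 2) (Fin 2) F).det = 1) (h2 : (2 : F) ≠ 0)
    (hsq : g * g = 1) : g = 1 ∨ g = -1 := by
  obtain ⟨he, hb⟩ := shape hg hd
  obtain ⟨h1, -, -⟩ := O2_eqs hg
  rw [one_mul] at he hb
  have h00 : ((g * g : GL (Fin 2) F) : Matrix (Fin 2) (Fin 2) F) 0 0 =
      ((1 : GL (Fin 2) F) : Matrix (Fin 2) (Fin 2) F) 0 0 := by rw [hsq]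
  simp [Matrix.mul_apply, Fin.sum_univ_two, hb] at h00
  set a := (g : Matrix (Fin 2) (Fin 2) F) 0 0 with ha
  set c := (g : Matrix (Fin 2) (Fin 2) F) 1 0 with hc
  have hc0 : c = 0 := by
    have h : (2 * c) * c = 0 := by linear_combination h1 - h00
    rcases mul_eq_zero.1 h with h | h
    · exact (mul_eq_zero.1 h).resolve_left h2
    · exact h
  rw [hc0, mul_zero, add_zero] at h1
  rcases mul_self_eq_one_iff.1 h1 with h | h
  · refine Or.inl (Units.ext (Matrix.ext fun i j => ?_))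
    fin_cases i <;> fin_cases j <;> simp [he, hb, ← ha, ← hc, h, hc0]
  · refine Or.inr (Units.ext (Matrix.ext fun i j => ?_))
    fin_cases i <;> fin_cases j <;> simp [he, hb, ← ha, ← hc, h, hc0]

theorem conj_eq_inv (hg : g ∈ O2 F) (hd : (g : Matrix (Fin 2) (Fin 2) F).det = -1) (hh : h ∈ O2 F)
    (hd' : (h : Matrix (Fin 2) (Fin 2) F).det = 1) : g * h * g⁻¹ = h⁻¹ := by
  have h1 : g * h * (g * h) = 1 :=
    mul_self_of_det_neg (mul_mem hg hh) (by rw [Units.val_mul, Matrix.det_mul, hd, hd', mul_one])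
  have h2 := mul_self_of_det_neg hg hd
  rw [inv_eq_of_mul_eq_one_right h2]
  exact eq_inv_of_mul_eq_one_left (by rw [← h1]; group)

variable (F) in
/-- A reflection of the plane. -/
def sRefl : GL (Fin 2) F :=
  ⟨!![1, 0; 0, -1], !![1, 0; 0, -1], by simp [Matrix.one_fin_two], by simp [Matrix.one_fin_two]⟩

theorem sRefl_mem : sRefl F ∈ O2 F := by
  rw [mem_OGrp]
  ext i j
  fin_cases i <;> fin_cases j <;> simp [sRefl, Matrix.mul_apply, Fin.sum_univ_two]

theorem sRefl_det : (sRefl F : Matrix (Fin 2) (Fin 2) F).det = -1 := by simp [sRefl, Matrix.det_fin_two]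

theorem neg_one_mem : (-1 : GL (Fin 2) F) ∈ O2 F := by simp [mem_OGrp]

/-- A Sylow 2-subgroup of the plane, with the index of its squares. -/
theorem exists_sylow [Finite F] (h2 : (2 : F) ≠ 0) :
    ∃ (D : Subgroup (GL (Fin 2) F)), D ≤ O2 F ∧ Nat.card D = 2 ^ (Nat.card (O2 F)).factorization 2 ∧
      sRefl F ∈ D ∧ ∀ u ∈ D, ∀ v ∈ D, (u : Matrix (Fin 2) (Fin 2) F).det = 1 → (v : Matrix (Fin 2) (Fin 2) F).det = 1 →
        (∃ w ∈ D, (w : Matrix (Fin 2) (Fin 2) F).det = 1 ∧ v = w * w) ∨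
        (∃ w ∈ D, (w : Matrix (Fin 2) (Fin 2) F).det = 1 ∧ u = w * w) ∨
        (∃ w ∈ D, (w : Matrix (Fin 2) (Fin 2) F).det = 1 ∧ v = u * (w * w)) := by
  classical
  let s : O2 F := ⟨sRefl F, sRefl_mem⟩
  let z : O2 F := ⟨-1, neg_one_mem⟩
  have hsz : Commute s z := Subtype.ext (by simp [s, z])
  have hs2 : s * s = 1 := Subtype.ext (mul_self_of_det_neg sRefl_mem sRefl_det)
  have hz2 : z * z = 1 := Subtype.ext (by simp [z])
  have hp : IsPGroup 2 (Subgroup.closure ({s, z} : Set (O2 F))) := by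
    intro x
    refine ⟨1, ?_⟩
    rw [pow_one]
    obtain ⟨x, hx⟩ := x
    refine Subtype.ext ?_
    show x ^ 2 = 1
    have hcomm : ∀ y ∈ Subgroup.closure ({s, z} : Set (O2 F)), Commute y s ∧ Commute y z ∧ y ^ 2 = 1 := by
      intro y hy
      induction hy using Subgroup.closure_induction with
      | mem y hy =>
        rcases hy with rfl | rfl
        · exact ⟨Commute.refl _, hsz, by rw [pow_two]; exact hs2⟩
        · exact ⟨hsz.symm, Commute.refl _, by rw [pow_two]; exact hz2⟩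
      | one => exact ⟨Commute.one_left _, Commute.one_left _, one_pow _⟩
      | mul a b ha' hb' ha hb =>
        refine ⟨ha.1.mul_left hb.1, ha.2.1.mul_left hb.2.1, ?_⟩
        have hab : Commute a b := by
          have : Subgroup.closure ({s, z} : Set (O2 F)) ≤ Subgroup.centralizer {a} :=
            (Subgroup.closure_le _).2 (by
              rintro t (rfl | rfl)
              · exact Subgroup.mem_centralizer_singleton_iff.2 ha.1.symm
              · exact Subgroup.mem_centralizer_singleton_iff.2 ha.2.1.symm)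
          exact (Subgroup.mem_centralizer_singleton_iff.1 (this hb')).symm
        rw [hab.mul_pow, ha.2.2, hb.2.2, one_mul]
      | inv a _ ha => exact ⟨ha.1.inv_left, ha.2.1.inv_left, by rw [inv_pow, ha.2.2, inv_one]⟩
    exact (hcomm x hx).2.2
  obtain ⟨P, hP⟩ := hp.exists_le_sylow
  have hmem : ∀ t ∈ ({s, z} : Set (O2 F)), t ∈ (P : Subgroup (O2 F)) :=
    fun t ht => hP (Subgroup.subset_closure ht)
  refine ⟨(P : Subgroup (O2 F)).map (O2 F).subtype, Subgroup.map_subtype_le _, ?_,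
    ⟨s, hmem s (by simp), rfl⟩, ?_⟩
  · rw [Subgroup.card_subtype, Sylow.card_eq_multiplicity]
  set D := (P : Subgroup (O2 F)).map (O2 F).subtype
  let R : Subgroup (GL (Fin 2) F) := D ⊓ (Matrix.GeneralLinearGroup.det).ker
  have hR : ∀ x, x ∈ R ↔ x ∈ D ∧ (x : Matrix (Fin 2) (Fin 2) F).det = 1 := fun x => by
    simp [R, Units.ext_iff]
  have hcomm : ∀ a ∈ R, ∀ b ∈ R, a * b = b * a := fun a ha b hb =>
    comm_of_det_one (Subgroup.map_subtype_le _ ((hR a).1 ha).1) ((hR a).1 ha).2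
      (Subgroup.map_subtype_le _ ((hR b).1 hb).1) ((hR b).1 hb).2
  letI : CommGroup R := { (inferInstance : Group R) with
    mul_comm := fun a b => Subtype.ext (hcomm a a.2 b b.2) }
  let f : R →* R := powMonoidHom 2
  have hnegR : (-1 : GL (Fin 2) F) ∈ R := by
    refine (hR _).2 ⟨⟨z, hmem z (by simp), rfl⟩, ?_⟩
    simp [Matrix.det_neg]
  have hne : (-1 : GL (Fin 2) F) ≠ 1 := fun e => by
    have : ((-1 : GL (Fin 2) F) : Matrix (Fin 2) (Fin 2) F) 0 0 =
      ((1 : GL (Fin 2) F) : Matrix (Fin 2) (Fin 2) F) 0 0 := by rw [e]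
    simp at this
    exact h2 (by linear_combination -this)
  have hker : Nat.card f.ker = 2 := by
    rw [Nat.card_eq_two_iff]
    refine ⟨1, ⟨⟨-1, hnegR⟩, ?_⟩, fun e => hne ?_, Set.eq_univ_of_forall fun x => ?_⟩
    · exact Subtype.ext (show (-1 : GL (Fin 2) F) ^ 2 = 1 by simp)
    · exact (congrArg (fun t : f.ker => ((t : R) : GL (Fin 2) F)) e).symm
    · have hx : ((x : R) : GL (Fin 2) F) * ((x : R) : GL (Fin 2) F) = 1 := by
        rw [← pow_two]; exact congrArg Subtype.val x.2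
      rcases eq_one_or_neg_of_mul_self (Subgroup.map_subtype_le _ ((hR _).1 (x : R).2).1)
        ((hR _).1 (x : R).2).2 h2 hx with e | e
      · left; exact Subtype.ext (Subtype.ext e)
      · right; exact Subtype.ext (Subtype.ext e)
  have hidx : f.range.index = 2 := by
    have h1 := Subgroup.card_mul_index f.range
    have h2' := Subgroup.card_mul_index f.ker
    rw [Subgroup.index_ker, hker] at h2'
    have hpos : 0 < Nat.card f.range := Nat.card_pos
    exact Nat.eq_of_mul_eq_mul_left hpos (by rw [h1, ← h2', mul_comm])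
  intro u hu v hv hu1 hv1
  have hu' : u ∈ R := (hR u).2 ⟨hu, hu1⟩
  have hv' : v ∈ R := (hR v).2 ⟨hv, hv1⟩
  have key : ∀ a : R, a ∈ f.range → ∃ w ∈ D, (w : Matrix (Fin 2) (Fin 2) F).det = 1 ∧ (a : GL (Fin 2) F) = w * w := by
    rintro _ ⟨w, rfl⟩
    exact ⟨w, ((hR _).1 w.2).1, ((hR _).1 w.2).2, by
      show (((w : R) ^ 2 : R) : GL (Fin 2) F) = _
      rw [pow_two, Subgroup.coe_mul]⟩
  by_cases hvr : (⟨v, hv'⟩ : R) ∈ f.range
  · exact Or.inl (key _ hvr)
  by_cases hur : (⟨u, hu'⟩ : R) ∈ f.range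
  · exact Or.inr (Or.inl (key _ hur))
  refine Or.inr (Or.inr ?_)
  obtain ⟨w, hw, hwd, e⟩ := key ((⟨u, hu'⟩ : R)⁻¹ * ⟨v, hv'⟩)
    ((Subgroup.mul_mem_iff_of_index_two hidx).2 (by simp [hvr, hur]))
  refine ⟨w, hw, hwd, ?_⟩
  rw [← e, Subgroup.coe_mul, Subgroup.coe_inv, mul_inv_cancel_left]

end CfsgLib.Classical.OrthPlane
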