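import Cfsg.Agent.Lib.Classical.OrthPOmega

/-!
# Siegel transformations generate `Ω(Q)`, and `Ω(Q)` is perfect
-/

set_option autoImplicit false
set_option linter.unusedSectionVars false

open Module QuadraticMap CfsgLib.Orth
open scoped commutatorElement

namespace CfsgLib.Classical

variable {F V : Type*} [Field F] [AddCommGroup V] [Module F V] [FiniteDimensional F V]
  {Q : QuadraticForm F V}

/-- Images of hyperbolic pairs under isometries. -/
def HypPairs.map (hp : HypPairs Q) (g : orthGroup Q) : HypPairs Q where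
  e₀ := g.1 hp.e₀
  f₀ := g.1 hp.f₀
  e₁ := g.1 hp.e₁
  f₁ := g.1 hp.f₁
  he₀ := (apply_quad g _).trans hp.he₀
  hf₀ := (apply_quad g _).trans hp.hf₀
  he₁ := (apply_quad g _).trans hp.he₁
  hf₁ := (apply_quad g _).trans hp.hf₁
  h00 := (polar_isom g _ _).trans hp.h00
  h11 := (polar_isom g _ _).trans hp.h11
  hee := (polar_isom g _ _).trans hp.hee
  hef := (polar_isom g _ _).trans hp.hef
  hfe := (polar_isom g _ _).trans hp.hfe
  hff := (polar_isom g _ _).trans hp.hff

theorem HypPairs.c00 (hp : HypPairs Q) : polar Q hp.f₀ hp.e₀ = 1 := by rw [polar_comm]; exact hp.h00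
theorem HypPairs.c11 (hp : HypPairs Q) : polar Q hp.f₁ hp.e₁ = 1 := by rw [polar_comm]; exact hp.h11
theorem HypPairs.cee (hp : HypPairs Q) : polar Q hp.e₁ hp.e₀ = 0 := by rw [polar_comm]; exact hp.hee
theorem HypPairs.cef (hp : HypPairs Q) : polar Q hp.f₁ hp.e₀ = 0 := by rw [polar_comm]; exact hp.hef
theorem HypPairs.cfe (hp : HypPairs Q) : polar Q hp.e₁ hp.f₀ = 0 := by rw [polar_comm]; exact hp.hfe
theorem HypPairs.cff (hp : HypPairs Q) : polar Q hp.f₁ hp.f₀ = 0 := by rw [polar_comm]; exact hp.hff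

theorem HypPairs.e₀_ne_zero (hp : HypPairs Q) : hp.e₀ ≠ 0 := fun h => by
  have := hp.h00
  rw [h, polar_zero_left] at this
  exact zero_ne_one this

/-- `g` is the Siegel transformation with parameters `d`, `u`. -/
def IsSiegel (g : orthGroup Q) (d u : V) : Prop :=
  Q d = 0 ∧ polar Q d u = 0 ∧
    ∀ v, g.1 v = v + polar Q d v • u + (-(polar Q u v) - Q u * polar Q d v) • d

theorem IsSiegel.unique {g g' : orthGroup Q} {d u : V} (h : IsSiegel g d u) (h' : IsSiegel g' d u) : g = g' :=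
  Subtype.ext (LinearEquiv.ext fun v => (h.2.2 v).trans (h'.2.2 v).symm)

theorem isSiegel_one {d : V} (hd : Q d = 0) : IsSiegel (1 : orthGroup Q) d 0 := by
  refine ⟨hd, by rw [polar_zero_right], fun v => ?_⟩
  show v = _
  simp

theorem isSiegel_one_smul {d : V} (hd : Q d = 0) (a : F) : IsSiegel (1 : orthGroup Q) d (a • d) := by
  refine ⟨hd, by rw [polar_smul_r', polar_self', hd]; ring, fun v => ?_⟩
  show v = _
  rw [quad_smul', hd, polar_smul_l']
  match_scalars <;> ring

theorem IsSiegel.mul {g h : orthGroup Q} {d u w : V} (hg : IsSiegel g d u) (hh : IsSiegel h d w) :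
    IsSiegel (g * h) d (u + w) := by
  obtain ⟨hd, hu, hg⟩ := hg
  obtain ⟨-, hw, hh⟩ := hh
  refine ⟨hd, by rw [polar_add_right, hu, hw, add_zero], fun v => ?_⟩
  show g.1 (h.1 v) = _
  simp only [hg, hh, polar_add_right, polar_smul_r', polar_add_left, quad_add', polar_self', hd, hw,
    polar_comm _ u d, hu]
  match_scalars <;> ring

theorem IsSiegel.conj {g : orthGroup Q} {d u : V} (hg : IsSiegel g d u) (x : orthGroup Q) :
    IsSiegel (x * g * x⁻¹) (x.1 d) (x.1 u) := by
  obtain ⟨hd, hu, hg⟩ := hg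
  refine ⟨(apply_quad x d).trans hd, (polar_isom x d u).trans hu, fun v => ?_⟩
  obtain ⟨w, rfl⟩ := x.1.surjective v
  show x.1 (g.1 ((x⁻¹).1 (x.1 w))) = _
  have e : (x⁻¹).1 (x.1 w) = w := x.1.symm_apply_apply w
  rw [e, hg, polar_isom, polar_isom, apply_quad, map_add, map_add, map_smul, map_smul]

theorem IsSiegel.of_smul {g : orthGroup Q} {d u : V} {t : F} (ht : t ≠ 0) (hg : IsSiegel g (t • d) u) :
    IsSiegel g d (t • u) := by
  obtain ⟨hd, hu, hg⟩ := hg
  rw [quad_smul', mul_eq_zero] at hd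
  rw [polar_smul_l', mul_eq_zero] at hu
  refine ⟨hd.resolve_left (mul_ne_zero ht ht), by rw [polar_smul_r', hu.resolve_left ht, mul_zero], fun v => ?_⟩
  rw [hg, polar_smul_l', polar_smul_l', quad_smul']
  match_scalars <;> ring

/-- The subgroup generated by the Siegel transformations. -/
def siegelGroup (Q : QuadraticForm F V) : Subgroup (orthGroup Q) :=
  Subgroup.closure {g | ∃ d u, IsSiegel g d u}

theorem IsSiegel.mem {g : orthGroup Q} {d u : V} (hg : IsSiegel g d u) : g ∈ siegelGroup Q :=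
  Subgroup.subset_closure ⟨d, u, hg⟩

instance siegelGroup_normal : (siegelGroup Q).Normal := by
  constructor
  intro g hg x
  induction hg using Subgroup.closure_induction with
  | mem y hy => obtain ⟨d, u, hy⟩ := hy; exact (hy.conj x).mem
  | one => simp
  | mul y z _ _ hy hz =>
    rw [show x * (y * z) * x⁻¹ = (x * y * x⁻¹) * (x * z * x⁻¹) by group]
    exact mul_mem hy hz
  | inv y _ hy =>
    rw [show x * y⁻¹ * x⁻¹ = (x * y * x⁻¹)⁻¹ by group]
    exact inv_mem hy

/-- The vectors `u ⊥ d` whose Siegel transformation lies in `H`. -/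
def SiegelIn (H : Subgroup (orthGroup Q)) (d u : V) : Prop := ∀ g, IsSiegel g d u → g ∈ H

theorem siegelIn_smul_self (H : Subgroup (orthGroup Q)) {d : V} (hd : Q d = 0) (a : F) : SiegelIn H d (a • d) :=
  fun _ hg => (hg.unique (isSiegel_one_smul hd a)) ▸ H.one_mem

variable (hQ : (QuadraticMap.polarBilin Q).Nondegenerate)
include hQ

theorem exists_isSiegel {d u : V} (hd : Q d = 0) (hdu : polar Q d u = 0) : ∃ g : orthGroup Q, IsSiegel g d u := by
  obtain ⟨g, hg⟩ := exists_siegel hQ hd hdu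
  exact ⟨g, hd, hdu, hg⟩

theorem SiegelIn.add {H : Subgroup (orthGroup Q)} {d u w : V} (hd : Q d = 0) (hu : polar Q d u = 0)
    (hw : polar Q d w = 0) (h₁ : SiegelIn H d u) (h₂ : SiegelIn H d w) : SiegelIn H d (u + w) := by
  intro g hg
  obtain ⟨a, ha⟩ := exists_isSiegel hQ hd hu
  obtain ⟨b, hb⟩ := exists_isSiegel hQ hd hw
  rw [hg.unique (ha.mul hb)]
  exact mul_mem (h₁ a ha) (h₂ b hb)

theorem HypPairs.exists_at (hp : HypPairs Q) {d : V} (hd : Q d = 0) (hd0 : d ≠ 0) :
    ∃ hp' : HypPairs Q, hp'.e₀ = d := by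
  obtain ⟨g, hg⟩ := witt_family' hQ ![hp.e₀] ![d]
    (LinearIndependent.of_subsingleton 0 hp.e₀_ne_zero) (LinearIndependent.of_subsingleton 0 hd0)
    (fun i => by fin_cases i; exact hp.he₀.trans hd.symm)
    (fun i j => by fin_cases i; fin_cases j; simp [hp.he₀, hd])
  exact ⟨hp.map g, hg 0⟩

/-- The singular vectors orthogonal to `d` span `d^⊥`. -/
theorem siegelIn_of_singular (hp : HypPairs Q) {H : Subgroup (orthGroup Q)} {d : V} (hd : Q d = 0) (hd0 : d ≠ 0)
    (h : ∀ u, polar Q d u = 0 → Q u = 0 → SiegelIn H d u) {u : V} (hu : polar Q d u = 0) : SiegelIn H d u := by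
  obtain ⟨hp, rfl⟩ := hp.exists_at hQ hd hd0
  set z := u - polar Q hp.f₀ u • hp.e₀ - polar Q hp.f₁ u • hp.e₁ - polar Q hp.e₁ u • hp.f₁ with hz
  have z0 : polar Q hp.e₀ z = 0 := by
    simp only [hz, polar_sub_right, polar_smul_r', hu, polar_self', hp.he₀, hp.hee, hp.hef]; ring
  have z1 : polar Q hp.e₁ z = 0 := by
    simp only [hz, polar_sub_right, polar_smul_r', polar_self', hp.he₁, hp.h11, hp.cee]; ring
  have z1' : polar Q hp.f₁ z = 0 := by
    simp only [hz, polar_sub_right, polar_smul_r', polar_self', hp.hf₁, hp.c11, hp.cef]; ring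
  set s := z + hp.e₁ + (-Q z) • hp.f₁ with hs
  have hs0 : Q s = 0 := by
    simp only [hs, quad_add', quad_smul', polar_add_left, polar_smul_r', hp.he₁, hp.hf₁, hp.h11,
      polar_comm _ z hp.e₁, polar_comm _ z hp.f₁, z1, z1']
    ring
  have hsp : polar Q hp.e₀ s = 0 := by
    simp only [hs, polar_add_right, polar_smul_r', z0, hp.hee, hp.hef]; ring
  have e : u = (s + (polar Q hp.f₁ u - 1) • hp.e₁) + (polar Q hp.e₁ u + Q z) • hp.f₁ +
      polar Q hp.f₀ u • hp.e₀ := by rw [hs, hz]; module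
  have h2 : polar Q hp.e₀ ((polar Q hp.f₁ u - 1) • hp.e₁) = 0 := by rw [polar_smul_r', hp.hee, mul_zero]
  have h3 : polar Q hp.e₀ ((polar Q hp.e₁ u + Q z) • hp.f₁) = 0 := by rw [polar_smul_r', hp.hef, mul_zero]
  have h4' : polar Q hp.e₀ (polar Q hp.f₀ u • hp.e₀) = 0 := by rw [polar_smul_r', polar_self', hp.he₀]; ring
  rw [e]
  refine SiegelIn.add hQ hd ?_ h4' (SiegelIn.add hQ hd ?_ h3 (SiegelIn.add hQ hd hsp h2 (h _ hsp hs0) ?_) ?_)
    (siegelIn_smul_self H hd _)
  · rw [polar_add_right, polar_add_right, hsp, h2, h3]; ring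
  · rw [polar_add_right, hsp, h2, add_zero]
  · exact h _ h2 (by rw [quad_smul', hp.he₁, mul_zero])
  · exact h _ h3 (by rw [quad_smul', hp.hf₁, mul_zero])

theorem exists_anisotropic_perp_four (hp : HypPairs Q) (hn : 5 ≤ finrank F V) :
    ∃ w, Q w ≠ 0 ∧ polar Q hp.e₀ w = 0 ∧ polar Q hp.f₀ w = 0 ∧ polar Q hp.e₁ w = 0 ∧ polar Q hp.f₁ w = 0 := by
  classical
  by_contra! hall
  have hne : ∃ v : V, v ∉ Submodule.span F (({hp.e₀, hp.f₀, hp.e₁, hp.f₁} : Finset V) : Set V) := by
    by_contra! h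
    have h1 := finrank_span_finset_le_card (R := F) ({hp.e₀, hp.f₀, hp.e₁, hp.f₁} : Finset V)
    rw [Set.finrank, Submodule.eq_top_iff'.2 h, finrank_top] at h1
    have := (Finset.card_insert_le hp.e₀ ({hp.f₀, hp.e₁, hp.f₁} : Finset V))
    have := (Finset.card_insert_le hp.f₀ ({hp.e₁, hp.f₁} : Finset V))
    have := (Finset.card_le_two (a := hp.e₁) (b := hp.f₁))
    omega
  obtain ⟨v, hv⟩ := hne
  let π : V → V := fun x => x - polar Q hp.f₀ x • hp.e₀ - polar Q hp.e₀ x • hp.f₀ - polar Q hp.f₁ x • hp.e₁ -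
    polar Q hp.e₁ x • hp.f₁
  have hπ : ∀ x, polar Q hp.e₀ (π x) = 0 ∧ polar Q hp.f₀ (π x) = 0 ∧ polar Q hp.e₁ (π x) = 0 ∧
      polar Q hp.f₁ (π x) = 0 := fun x => by
    simp only [π, polar_sub_right, polar_smul_r', polar_self', hp.he₀, hp.hf₀, hp.he₁, hp.hf₁, hp.h00, hp.h11,
      hp.hee, hp.hef, hp.hfe, hp.hff, hp.c00, hp.c11, hp.cee, hp.cef, hp.cfe, hp.cff]
    refine ⟨?_, ?_, ?_, ?_⟩ <;> ring
  have h0 : ∀ x, polar Q hp.e₀ x = 0 → polar Q hp.f₀ x = 0 → polar Q hp.e₁ x = 0 → polar Q hp.f₁ x = 0 → Q x = 0 :=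
    fun x a b c d => by
      by_contra hx
      exact hall x hx a b c d
  have hπv : π v = 0 := by
    refine eq_zero_of_polar hQ fun x => ?_
    obtain ⟨a, b, c, d⟩ := hπ v
    obtain ⟨a', b', c', d'⟩ := hπ x
    have hsum : Q (π v + π x) = 0 := h0 _ (by rw [polar_add_right, a, a', add_zero])
      (by rw [polar_add_right, b, b', add_zero]) (by rw [polar_add_right, c, c', add_zero])
      (by rw [polar_add_right, d, d', add_zero])
    rw [quad_add', h0 _ a b c d, h0 _ a' b' c' d', zero_add, zero_add] at hsum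
    have hx : x = π x + polar Q hp.f₀ x • hp.e₀ + polar Q hp.e₀ x • hp.f₀ + polar Q hp.f₁ x • hp.e₁ +
        polar Q hp.e₁ x • hp.f₁ := by simp only [π]; abel
    rw [hx]
    simp only [polar_add_right, polar_smul_r', hsum, polar_comm _ (π v) hp.e₀, polar_comm _ (π v) hp.f₀,
      polar_comm _ (π v) hp.e₁, polar_comm _ (π v) hp.f₁, a, b, c, d, mul_zero, add_zero]
  refine hv ?_
  have hv' : v = polar Q hp.f₀ v • hp.e₀ + polar Q hp.e₀ v • hp.f₀ + polar Q hp.f₁ v • hp.e₁ +
      polar Q hp.e₁ v • hp.f₁ := by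
    have e : v = π v + (polar Q hp.f₀ v • hp.e₀ + polar Q hp.e₀ v • hp.f₀ + polar Q hp.f₁ v • hp.e₁ +
      polar Q hp.e₁ v • hp.f₁) := by simp only [π]; abel
    rwa [hπv, zero_add] at e
  rw [hv']
  refine add_mem (add_mem (add_mem ?_ ?_) ?_) ?_ <;>
    exact Submodule.smul_mem _ _ (Submodule.subset_span (by simp))

/-- The anisotropic vectors orthogonal to `d` generate `d^⊥`. -/
theorem siegelIn_of_anisotropic (hp : HypPairs Q) (hn : 5 ≤ finrank F V) {H : Subgroup (orthGroup Q)} {d : V}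
    (hd : Q d = 0) (hd0 : d ≠ 0) (h : ∀ u, polar Q d u = 0 → Q u ≠ 0 → SiegelIn H d u) {u : V}
    (hu : polar Q d u = 0) : SiegelIn H d u := by
  obtain ⟨hp, rfl⟩ := hp.exists_at hQ hd hd0
  obtain ⟨w, hw, hw0, -, hw1, hw1'⟩ := exists_anisotropic_perp_four hQ hp hn
  have line : ∀ x, polar Q hp.e₀ x = 0 → polar Q w x = 0 → Q x = 0 → SiegelIn H hp.e₀ x := by
    intro x hx hwx hx0
    have e : x = (x + w) + (-w) := by abel
    rw [e]
    refine SiegelIn.add hQ hd (by rw [polar_add_right, hx, hw0, add_zero]) (by rw [polar_neg_right, hw0, neg_zero])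
      (h _ (by rw [polar_add_right, hx, hw0, add_zero]) ?_) (h _ (by rw [polar_neg_right, hw0, neg_zero]) ?_)
    · rw [quad_add', polar_comm, hwx, hx0, zero_add, add_zero]; exact hw
    · rwa [QuadraticMap.map_neg]
  have we1 : ∀ a : F, SiegelIn H hp.e₀ (a • hp.e₁) := fun a =>
    line _ (by rw [polar_smul_r', hp.hee, mul_zero]) (by rw [polar_smul_r', polar_comm, hw1, mul_zero])
      (by rw [quad_smul', hp.he₁, mul_zero])
  have wf1 : ∀ a : F, SiegelIn H hp.e₀ (a • hp.f₁) := fun a =>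
    line _ (by rw [polar_smul_r', hp.hef, mul_zero]) (by rw [polar_smul_r', polar_comm, hw1', mul_zero])
      (by rw [quad_smul', hp.hf₁, mul_zero])
  by_cases hu0 : Q u = 0
  swap
  · exact h u hu hu0
  set z := u - polar Q hp.f₁ u • hp.e₁ - polar Q hp.e₁ u • hp.f₁ with hz
  have z0 : polar Q hp.e₀ z = 0 := by
    simp only [hz, polar_sub_right, polar_smul_r', hu, hp.hee, hp.hef]; ring
  have z1 : polar Q hp.e₁ z = 0 := by
    simp only [hz, polar_sub_right, polar_smul_r', polar_self', hp.he₁, hp.h11]; ring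
  have z1' : polar Q hp.f₁ z = 0 := by
    simp only [hz, polar_sub_right, polar_smul_r', polar_self', hp.hf₁, hp.c11]; ring
  have hzin : SiegelIn H hp.e₀ z := by
    by_cases hz0 : Q z = 0
    swap
    · exact h z z0 hz0
    have e : z = (z + hp.e₁ + hp.f₁) + ((-1 : F) • hp.e₁ + (-1 : F) • hp.f₁) := by module
    have p1 : polar Q hp.e₀ (z + hp.e₁ + hp.f₁) = 0 := by
      simp only [polar_add_right, z0, hp.hee, hp.hef, add_zero]
    have p2 : polar Q hp.e₀ ((-1 : F) • hp.e₁ + (-1 : F) • hp.f₁) = 0 := by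
      simp only [polar_add_right, polar_smul_r', hp.hee, hp.hef, mul_zero, add_zero]
    rw [e]
    refine SiegelIn.add hQ hd p1 p2 (h _ p1 ?_) (SiegelIn.add hQ hd ?_ ?_ (we1 _) (wf1 _))
    · simp only [quad_add', polar_add_left, hz0, hp.he₁, hp.hf₁, hp.h11, polar_comm _ z hp.e₁, polar_comm _ z hp.f₁,
        z1, z1', zero_add, add_zero]
      exact one_ne_zero
    · rw [polar_smul_r', hp.hee, mul_zero]
    · rw [polar_smul_r', hp.hef, mul_zero]
  have e : u = z + (polar Q hp.f₁ u • hp.e₁ + polar Q hp.e₁ u • hp.f₁) := by rw [hz]; abel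
  rw [e]
  refine SiegelIn.add hQ hd z0 ?_ hzin (SiegelIn.add hQ hd ?_ ?_ (we1 _) (wf1 _)) <;>
    simp [polar_add_right, polar_smul_r', hp.hee, hp.hef]

theorem IsSiegel.mem_commutator (h4 : Good F V) (hp : HypPairs Q) (hn : 5 ≤ finrank F V) {g : orthGroup Q} {d u : V}
    (hg : IsSiegel g d u) : g ∈ commutator (orthGroup Q) := by
  by_cases hd0 : d = 0
  · subst hd0
    have : g = 1 := Subtype.ext (LinearEquiv.ext fun v => by
      rw [hg.2.2]; show _ = v; simp)
    rw [this]
    exact one_mem _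
  refine siegelIn_of_anisotropic hQ hp hn hg.1 hd0 ?_ hg.2.1 g hg
  intro w hdw hw k hk
  have e : k = refl Q w * refl Q (w + Q w • d) :=
    Subtype.ext (LinearEquiv.ext fun v => (hk.2.2 v).trans (siegel_eq_refl hQ hg.1 hdw hw v).symm)
  have hq : Q (w + Q w • d) = Q w := by
    rw [quad_add', quad_smul', polar_smul_r', hg.1, polar_comm _ w d, hdw]; ring
  rw [e, Orth.mem_commutator_iff, map_mul,
    ← ab_refl_eq hQ h4 (a := w) (b := w + Q w • d) hw (by rw [hq]; exact hw) (by rw [hq]; exact ⟨Q w, rfl⟩)]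
  exact ab_refl_sq w

/-- The Siegel transformations are transitive on each sphere of non-zero radius. -/
theorem exists_siegel_move (hp : HypPairs Q) {v : V} {c : F} (hc : c ≠ 0) (hv : Q v = c) :
    ∃ n ∈ siegelGroup Q, n.1 v = hp.e₀ + c • hp.f₀ := by
  have s1 : ∀ x, Q x = c → polar Q hp.e₀ x ≠ 0 →
      ∃ n ∈ siegelGroup Q, n.1 x = (c / polar Q hp.e₀ x) • hp.e₀ + polar Q hp.e₀ x • hp.f₀ := by
    intro x hx hb
    set b := polar Q hp.e₀ x with hbdef
    set a := polar Q hp.f₀ x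
    set z := x - a • hp.e₀ - b • hp.f₀ with hz
    have z0 : polar Q hp.e₀ z = 0 := by
      simp only [hz, b, polar_sub_right, polar_smul_r', polar_self', hp.he₀, hp.h00]; ring
    have z0' : polar Q hp.f₀ z = 0 := by
      simp only [hz, a, polar_sub_right, polar_smul_r', polar_self', hp.hf₀, hp.c00]; ring
    obtain ⟨g, hg⟩ := exists_isSiegel hQ hp.he₀
      (show polar Q hp.e₀ ((-b⁻¹) • z) = 0 by rw [polar_smul_r', z0, mul_zero])
    obtain ⟨t, ht⟩ : ∃ t : F, g.1 x = t • hp.e₀ + b • hp.f₀ := by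
      refine ⟨a + (-(polar Q ((-b⁻¹) • z) x) - Q ((-b⁻¹) • z) * b), ?_⟩
      rw [hg.2.2 x, ← hbdef, smul_smul, show b * -b⁻¹ = -1 by field_simp, neg_one_smul]
      conv_lhs => arg 1; arg 2; rw [hz]
      module
    refine ⟨g, hg.mem, ?_⟩
    have hq := apply_quad g x
    rw [ht, hx, quad_add', quad_smul', quad_smul', polar_smul_l', polar_smul_r', hp.he₀, hp.hf₀, hp.h00] at hq
    rw [ht, show c / b = t by rw [← hq]; field_simp; ring]
  have s0 : ∀ x, Q x = c → ∃ n ∈ siegelGroup Q, polar Q hp.e₀ (n.1 x) ≠ 0 := by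
    intro x hx
    by_cases hb : polar Q hp.e₀ x = 0
    swap
    · exact ⟨1, one_mem _, hb⟩
    obtain ⟨u, hue, huf, hu⟩ : ∃ u, polar Q hp.e₀ u = 0 ∧ polar Q hp.f₀ u = 0 ∧
        polar Q u x + Q u * polar Q hp.f₀ x ≠ 0 := by
      by_contra! hall
      have h1 := hall hp.e₁ hp.hee hp.hfe
      have h2 := hall hp.f₁ hp.hef hp.hff
      have h3 := hall (hp.e₁ + hp.f₁) (by rw [polar_add_right, hp.hee, hp.hef, add_zero])
        (by rw [polar_add_right, hp.hfe, hp.hff, add_zero])
      rw [quad_add', polar_add_left, hp.h11] at h3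
      have ha : polar Q hp.f₀ x = 0 := by linear_combination h3 - h1 - h2
      have hx0 : x = 0 := by
        refine eq_zero_of_polar hQ fun y => ?_
        set z := y - polar Q hp.f₀ y • hp.e₀ - polar Q hp.e₀ y • hp.f₀ with hz
        have h := hall z
          (by simp only [hz, polar_sub_right, polar_smul_r', polar_self', hp.he₀, hp.h00]; ring)
          (by simp only [hz, polar_sub_right, polar_smul_r', polar_self', hp.hf₀, hp.c00]; ring)
        rw [ha, mul_zero, add_zero, polar_comm] at h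
        have hy : y = z + polar Q hp.f₀ y • hp.e₀ + polar Q hp.e₀ y • hp.f₀ := by rw [hz]; abel
        rw [hy, polar_add_right, polar_add_right, h, polar_smul_r', polar_smul_r', polar_comm _ x hp.e₀, hb,
          polar_comm _ x hp.f₀, ha]
        ring
      rw [hx0, map_zero] at hx
      exact hc hx.symm
    obtain ⟨g, hg⟩ := exists_isSiegel hQ hp.hf₀ huf
    refine ⟨g, hg.mem, ?_⟩
    rw [hg.2.2 x, polar_add_right, polar_add_right, polar_smul_r', polar_smul_r', hb, hue, hp.h00]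
    contrapose! hu
    linear_combination -hu
  obtain ⟨n₁, hn₁, hb₁⟩ := s0 v hv
  obtain ⟨n₂, hn₂, he₂⟩ := s1 (n₁.1 v) ((apply_quad n₁ v).trans hv) hb₁
  set b := polar Q hp.e₀ (n₁.1 v) with hbdef
  set u := (b * (b - c) / c) • hp.e₁ + hp.f₁ with hu
  have huq : Q u = b * (b - c) / c := by
    simp only [hu, quad_add', quad_smul', polar_smul_l', hp.he₁, hp.hf₁, hp.h11]; ring
  obtain ⟨g, hg⟩ := exists_isSiegel hQ hp.hf₀
    (show polar Q hp.f₀ u = 0 by simp only [hu, polar_add_right, polar_smul_r', hp.hfe, hp.hff]; ring)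
  have hgy : polar Q hp.e₀ (g.1 (n₂.1 (n₁.1 v))) = c := by
    rw [hg.2.2, he₂]
    simp only [polar_add_right, polar_smul_r', polar_self', huq, hp.he₀, hp.hf₀, hp.h00, hp.c00]
    simp only [hu, polar_add_left, polar_add_right, polar_smul_l', polar_smul_r', hp.hee, hp.hef, hp.cee, hp.cef,
      hp.cfe, hp.cff]
    field_simp
    ring
  obtain ⟨n₃, hn₃, he₃⟩ := s1 (g.1 (n₂.1 (n₁.1 v)))
    (by rw [apply_quad, apply_quad, apply_quad, hv]) (by rw [hgy]; exact hc)
  refine ⟨n₃ * g * n₂ * n₁, mul_mem (mul_mem (mul_mem hn₃ hg.mem) hn₂) hn₁, ?_⟩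
  show n₃.1 (g.1 (n₂.1 (n₁.1 v))) = _
  rw [he₃, hgy, div_self hc, one_smul]

theorem commutator_eq_siegelGroup (h4 : Good F V) (hp : HypPairs Q) (hn : 5 ≤ finrank F V) :
    commutator (orthGroup Q) = siegelGroup Q := by
  refine le_antisymm ?_ ((Subgroup.closure_le _).2 ?_)
  swap
  · rintro g ⟨d, u, hg⟩
    exact hg.mem_commutator hQ h4 hp hn
  set N := siegelGroup Q
  let π := QuotientGroup.mk' N
  have hcomm : ∀ a b, π (refl Q a) * π (refl Q b) = π (refl Q b) * π (refl Q a) := by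
    intro a b
    rw [← commutatorElement_eq_one_iff_mul_comm, ← map_commutatorElement, ← MonoidHom.mem_ker,
      QuotientGroup.ker_mk']
    by_cases ha : Q a = 0
    · rw [refl_eq_one ha, commutatorElement_one_left]; exact one_mem _
    set a' := (refl Q b).1 a
    have hq : Q a' = Q a := apply_quad _ _
    obtain ⟨n₁, hn₁, e₁⟩ := exists_siegel_move hQ hp ha (v := a) rfl
    obtain ⟨n₂, hn₂, e₂⟩ := exists_siegel_move hQ hp ha hq
    set n := n₂⁻¹ * n₁
    have hn' : n ∈ N := mul_mem (inv_mem hn₂) hn₁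
    have e : n.1 a = a' := by
      show (n₂⁻¹).1 (n₁.1 a) = a'
      rw [e₁, ← e₂]
      exact n₂.1.symm_apply_apply a'
    have e' : ⁅refl Q a, refl Q b⁆ = refl Q a * n * (refl Q a)⁻¹ * n⁻¹ := by
      rw [commutatorElement_def]
      calc refl Q a * refl Q b * (refl Q a)⁻¹ * (refl Q b)⁻¹
          = refl Q a * (refl Q b * refl Q a * (refl Q b)⁻¹) := by rw [refl_inv]; group
        _ = refl Q a * refl Q a' := by rw [conj_refl]
        _ = refl Q a * (n * refl Q a * n⁻¹) := by rw [conj_refl, e]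
        _ = _ := by rw [refl_inv]; group
    rw [e']
    exact mul_mem (Subgroup.Normal.conj_mem inferInstance n hn' _) (inv_mem hn')
  have h1 : ∀ a g, π (refl Q a) * π g = π g * π (refl Q a) := by
    intro a g
    have hg : g ∈ reflGroup Q := by rw [reflGroup_eq_top hQ h4]; trivial
    induction hg using Subgroup.closure_induction with
    | mem x hx => obtain ⟨b, rfl⟩ := hx; exact hcomm a b
    | one => simp
    | mul x y _ _ hx hy => rw [map_mul, ← mul_assoc, hx, mul_assoc, hy, mul_assoc]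
    | inv x _ hx => rw [map_inv]; exact (Commute.inv_right (show Commute _ _ from hx)).eq
  have h2 : ∀ g k, π g * π k = π k * π g := by
    intro g k
    have hg : g ∈ reflGroup Q := by rw [reflGroup_eq_top hQ h4]; trivial
    induction hg using Subgroup.closure_induction with
    | mem x hx => obtain ⟨b, rfl⟩ := hx; exact h1 b k
    | one => simp
    | mul x y _ _ hx hy => rw [map_mul, mul_assoc, hy, ← mul_assoc, hx, mul_assoc]
    | inv x _ hx => rw [map_inv]; exact (Commute.inv_left (show Commute _ _ from hx)).eq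
  rw [commutator_def, Subgroup.commutator_le]
  intro g _ k _
  rw [← QuotientGroup.ker_mk' N, MonoidHom.mem_ker, map_commutatorElement, commutatorElement_eq_one_iff_mul_comm]
  exact h2 g k

theorem exists_siegel_comm (hn : 5 ≤ finrank F V) {d x : V} (hd : Q d = 0) (hx : Q x = 0) (hdx : polar Q d x = 0)
    (hxd : x ∉ F ∙ d) : ∃ h s : orthGroup Q, (∃ a, IsSiegel h x a) ∧ (∃ b, IsSiegel s d b) ∧ IsSiegel ⁅h, s⁆ d x := by
  classical
  obtain ⟨w, hwd, hwx, hw⟩ : ∃ w, polar Q d w = 0 ∧ polar Q x w = 0 ∧ w ∉ Submodule.span F {d, x} := by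
    by_contra! hall
    set φ := (QuadraticMap.polarBilin Q d).prod (QuadraticMap.polarBilin Q x) with hφ
    have hle : φ.ker ≤ Submodule.span F {d, x} := fun w hw => by
      rw [LinearMap.mem_ker, hφ, LinearMap.prod_apply, Prod.mk_eq_zero] at hw
      exact hall w hw.1 hw.2
    have h1 := Submodule.finrank_mono hle
    have h2 := LinearMap.finrank_range_add_finrank_ker φ
    have h3 := φ.range.finrank_le
    have h5 := finrank_span_finset_le_card (R := F) ({d, x} : Finset V)
    have h6 := (Finset.card_le_two (a := d) (b := x))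
    rw [Finset.coe_pair, Set.finrank] at h5
    rw [finrank_prod, finrank_self] at h3
    omega
  obtain ⟨u', hu', hu'w⟩ := exists_polar_one hQ hw
  obtain ⟨h', hh'⟩ := exists_isSiegel hQ hx hwx
  have hwd' : polar Q x d = 0 := by rw [polar_comm]; exact hdx
  have hu'd : polar Q d u' = 0 := by rw [polar_comm]; exact hu' d (Submodule.subset_span (by simp))
  have hu'x : polar Q x u' = 0 := by rw [polar_comm]; exact hu' x (Submodule.subset_span (by simp))
  obtain ⟨s, hs⟩ := exists_isSiegel hQ hd (show polar Q d (-u') = 0 by rw [polar_neg_right, hu'd, neg_zero])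
  have e1 : h'.1 d = d := by
    rw [hh'.2.2, hwd', polar_comm _ w d, hwd]; simp
  have e2 : h'.1 (-u') = -u' + x := by
    rw [hh'.2.2, polar_neg_right, polar_neg_right, hu'x, polar_comm _ w u', hu'w]
    module
  have hinv : IsSiegel s⁻¹ d u' := by
    obtain ⟨t, ht⟩ := exists_isSiegel hQ hd hu'd
    have h0 : IsSiegel (t * s) d (u' + -u') := ht.mul hs
    rw [add_neg_cancel] at h0
    rw [← eq_inv_of_mul_eq_one_left (h0.unique (isSiegel_one hd))]
    exact ht
  have hc : IsSiegel ⁅h', s⁆ d x := by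
    have := hs.conj h'
    rw [e1, e2] at this
    rw [commutatorElement_def]
    have h2 := this.mul hinv
    rwa [show -u' + x + u' = x by abel] at h2
  exact ⟨h', s, ⟨_, hh'⟩, ⟨_, hs⟩, hc⟩

/-- `Ω(Q)` is perfect. -/
theorem commutator_perfect (h4 : Good F V) (hp : HypPairs Q) (hn : 5 ≤ finrank F V) :
    commutator (orthGroup Q) ≤ ⁅commutator (orthGroup Q), commutator (orthGroup Q)⁆ := by
  classical
  conv_lhs => rw [commutator_eq_siegelGroup hQ h4 hp hn]
  refine (Subgroup.closure_le _).2 ?_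
  rintro g ⟨d, u, hg⟩
  by_cases hd0 : d = 0
  · subst hd0
    have : g = 1 := Subtype.ext (LinearEquiv.ext fun v => by
      rw [hg.2.2]; show _ = v; simp)
    rw [this]
    exact one_mem _
  refine siegelIn_of_singular hQ hp hg.1 hd0 ?_ hg.2.1 g hg
  intro x hdx hx k hk
  by_cases hxd : x ∈ F ∙ d
  · obtain ⟨a, rfl⟩ := Submodule.mem_span_singleton.1 hxd
    rw [hk.unique (isSiegel_one_smul hg.1 a)]
    exact one_mem _
  obtain ⟨h', s, ⟨a, ha⟩, ⟨b, hb⟩, hc⟩ := exists_siegel_comm hQ hn hg.1 hx hdx hxd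
  rw [hk.unique hc]
  exact Subgroup.commutator_mem_commutator (ha.mem_commutator hQ h4 hp hn) (hb.mem_commutator hQ h4 hp hn)

end CfsgLib.Classical
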