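import Cfsg.Agent.Lib.Perm.SylowGenerators
import Mathlib.GroupTheory.SemidirectProduct
import Mathlib.LinearAlgebra.Matrix.GeneralLinearGroup.Defs
import Mathlib.LinearAlgebra.Matrix.Permutation
import Mathlib.GroupTheory.NoncommPiCoprod
import Mathlib.GroupTheory.SpecificGroups.Quaternion

/-!
# Wreath products inside general linear groups

`GL_d ≀ S_n` inside `GL_{dn}`, and the subgroup of elements with square in the derived subgroup.
-/

set_option autoImplicit false
set_option linter.unusedSectionVars false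

namespace CfsgLib.Classical.WreathGL

open Matrix
open scoped commutatorElement

section Squares

variable {H : Type*} [Group H]

variable (H) in
/-- The elements with square in the derived subgroup. -/
def sqComm : Subgroup H := ((powMonoidHom 2).comp (Abelianization.of : H →* Abelianization H)).ker

theorem mem_sqComm {x : H} : x ∈ sqComm H ↔ x ^ 2 ∈ commutator H := by
  rw [← Abelianization.ker_of, MonoidHom.mem_ker, sqComm, MonoidHom.mem_ker, map_pow]
  rfl

theorem map_sqComm {H' : Type*} [Group H'] (f : H →* H') {x : H} (hx : x ∈ sqComm H) :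
    f x ∈ sqComm H' := by
  have h1 : (Abelianization.of x) ^ 2 = 1 := hx
  show (Abelianization.of (f x)) ^ 2 = 1
  rw [← Abelianization.map_of, ← map_pow, h1, map_one]

theorem mem_sqComm_of_mul_self {x : H} (hx : x * x = 1) : x ∈ sqComm H :=
  mem_sqComm.2 (by rw [sq, hx]; exact Subgroup.one_mem _)

theorem quaternion_sqComm {k : ℕ} (hk : 1 ≤ k) : sqComm (QuaternionGroup (2 ^ k)) = ⊤ := by
  haveI : NeZero (2 ^ k) := ⟨pow_ne_zero _ two_ne_zero⟩
  set C := commutator (QuaternionGroup (2 ^ k))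
  have h2 : (QuaternionGroup.a 1 : QuaternionGroup (2 ^ k)) ^ 2 ∈ C := by
    have h : ⁅(QuaternionGroup.a 1 : QuaternionGroup (2 ^ k)), (QuaternionGroup.xa 0 : QuaternionGroup (2 ^ k))⁆ ∈ C :=
      Subgroup.commutator_mem_commutator (Subgroup.mem_top _) (Subgroup.mem_top _)
    have e : ⁅(QuaternionGroup.a 1 : QuaternionGroup (2 ^ k)), (QuaternionGroup.xa 0 : QuaternionGroup (2 ^ k))⁆
        = QuaternionGroup.a 1 ^ 2 := by
      rw [commutatorElement_def, mul_inv_eq_iff_eq_mul, mul_inv_eq_iff_eq_mul, sq,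
        QuaternionGroup.a_mul_a, QuaternionGroup.a_mul_xa, QuaternionGroup.a_mul_xa,
        QuaternionGroup.xa_mul_a]
      congr 1
      ring
    rwa [e] at h
  have hev : ∀ j : ℕ, Even j → (QuaternionGroup.a (j : ZMod (2 * 2 ^ k))) ∈ C := fun j hj => by
    obtain ⟨r, rfl⟩ := hj
    rw [← QuaternionGroup.a_one_pow, ← two_mul, pow_mul]
    exact pow_mem h2 r
  refine eq_top_iff.2 fun x _ => mem_sqComm.2 ?_
  rcases x with i | i
  · rw [sq, QuaternionGroup.a_mul_a]
    have := hev (i.val + i.val) ⟨i.val, rfl⟩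
    rwa [Nat.cast_add, ZMod.natCast_zmod_val] at this
  · rw [sq, QuaternionGroup.xa_mul_xa, add_sub_cancel_right]
    exact hev _ (Nat.even_pow.2 ⟨even_two, by omega⟩)

/-- A `2`-subgroup of full order with every square in the derived subgroup. -/
theorem sq_mem_sylow {G : Type*} [Group G] [Finite G] {H₀ : Type*} [Group H₀] (ψ : H₀ →* G)
    (hψ : Function.Injective ψ) (K : Subgroup H₀)
    (hcard : Nat.card K = 2 ^ (Nat.card G).factorization 2) (hsq : sqComm K = ⊤) (P : Sylow 2 G)
    (x : (P : Subgroup G)) : x ^ 2 ∈ commutator (P : Subgroup G) := by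
  have hc : Nat.card (K.map ψ) = 2 ^ (Nat.card G).factorization 2 := by
    rw [Subgroup.card_map_of_injective hψ, hcard]
  obtain ⟨u, hu⟩ := MulAction.exists_smul_eq G (Sylow.ofCard _ hc) P
  let c : H₀ →* G := (MulAut.conj u).toMonoidHom.comp ψ
  have hmap : K.map c = (P : Subgroup G) := by
    rw [← Subgroup.map_map, ← hu, Sylow.coe_subgroup_smul, Sylow.coe_ofCard]
    rfl
  have hmem : ∀ y : K, c y ∈ (P : Subgroup G) := fun y => hmap ▸ Subgroup.mem_map_of_mem c y.2
  let e : K →* (P : Subgroup G) := (c.comp K.subtype).codRestrict _ hmem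
  obtain ⟨y, hy, hyx⟩ := (hmap.symm ▸ x.2 : (x : G) ∈ K.map c)
  have hxe : x = e ⟨y, hy⟩ := Subtype.ext hyx.symm
  rw [hxe, ← mem_sqComm]
  exact map_sqComm e (hsq ▸ Subgroup.mem_top _)

/-- The elements of a subgroup with square in its derived subgroup. -/
def sqIn {G : Type*} [Group G] (K : Subgroup G) : Subgroup G := (sqComm K).map K.subtype

theorem sqComm_eq_top_of {G : Type*} [Group G] {K : Subgroup G} (h : K ≤ sqIn K) :
    sqComm K = ⊤ := by
  refine eq_top_iff.2 fun x _ => ?_
  obtain ⟨y, hy, hyx⟩ := h x.2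
  rwa [← Subtype.ext hyx]

theorem mem_sqIn_of_comm {G : Type*} [Group G] {K : Subgroup G} {x : G} (hx : x ∈ K)
    (h : x ^ 2 ∈ ⁅K, K⁆) : x ∈ sqIn K := by
  refine ⟨⟨x, hx⟩, mem_sqComm.2 ?_, rfl⟩
  rw [← Subgroup.map_subtype_commutator] at h
  obtain ⟨y, hy, hyx⟩ := h
  rwa [show (⟨x, hx⟩ : K) ^ 2 = y from Subtype.ext hyx.symm]

theorem mem_sqIn_of_mul_self {G : Type*} [Group G] {K : Subgroup G} {x : G} (hx : x ∈ K)
    (h : x * x = 1) : x ∈ sqIn K :=
  ⟨⟨x, hx⟩, mem_sqComm_of_mul_self (Subtype.ext h), rfl⟩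

theorem map_mem_sqIn {G G' : Type*} [Group G] [Group G'] {L : Subgroup G'} {K : Subgroup G}
    (f : G' →* G) (hf : ∀ y ∈ L, f y ∈ K) (hL : sqComm L = ⊤) {y : G'} (hy : y ∈ L) :
    f y ∈ sqIn K :=
  ⟨_, map_sqComm (x := (⟨y, hy⟩ : L)) ((f.comp L.subtype).codRestrict K fun z => hf z z.2)
    (by rw [hL]; exact Subgroup.mem_top _), rfl⟩

end Squares

section Wreath

variable {F : Type*} [CommRing F] {d n : ℕ}

/-- Permuting the blocks. -/
def act : Equiv.Perm (Fin n) →* MulAut (Fin n → GL (Fin d) F) where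
  toFun σ :=
    { toFun := fun g i => g (σ.symm i)
      invFun := fun g i => g (σ i)
      left_inv := fun g => funext fun i => congrArg g (σ.symm_apply_apply i)
      right_inv := fun g => funext fun i => congrArg g (σ.apply_symm_apply i)
      map_mul' := fun _ _ => rfl }
  map_one' := rfl
  map_mul' _ _ := rfl

variable (F d n) in
/-- The wreath product. -/
abbrev Wr := (Fin n → GL (Fin d) F) ⋊[act] Equiv.Perm (Fin n)

theorem act_apply (σ : Equiv.Perm (Fin n)) (g : Fin n → GL (Fin d) F) (i : Fin n) :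
    act σ g i = g (σ.symm i) := rfl

/-- The matrix of an element. -/
def mat (x : Wr F d n) : Matrix (Fin d × Fin n) (Fin d × Fin n) F :=
  Matrix.of fun a b => if a.2 = x.right b.2 then (x.left a.2 : Matrix (Fin d) (Fin d) F) a.1 b.1 else 0

theorem mat_apply (x : Wr F d n) (a b : Fin d × Fin n) : mat x a b
    = if a.2 = x.right b.2 then (x.left a.2 : Matrix (Fin d) (Fin d) F) a.1 b.1 else 0 := rfl

theorem mat_one : mat (1 : Wr F d n) = 1 := by
  ext ⟨a, i⟩ ⟨b, j⟩
  rw [mat_apply, Matrix.one_apply]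
  by_cases h : i = j
  · subst h; simp [Matrix.one_apply]
  · simp [h]

theorem mat_mul (x y : Wr F d n) : mat (x * y) = mat x * mat y := by
  ext ⟨a, i⟩ ⟨b, j⟩
  rw [Matrix.mul_apply, Fintype.sum_prod_type, mat_apply, SemidirectProduct.mul_left,
    SemidirectProduct.mul_right]
  show (if i = x.right (y.right j)
      then ((x.left i * y.left (x.right.symm i) : GL (Fin d) F) : Matrix (Fin d) (Fin d) F) a b
      else 0) = ∑ c, ∑ k, mat x (a, i) (c, k) * mat y (c, k) (b, j)
  simp only [mat_apply]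
  by_cases h : i = x.right (y.right j)
  · rw [if_pos h, Units.val_mul, Matrix.mul_apply]
    refine Finset.sum_congr rfl fun c _ => ?_
    rw [Finset.sum_eq_single (y.right j)]
    · rw [if_pos h, if_pos rfl, show x.right.symm i = y.right j by rw [h, Equiv.symm_apply_apply]]
    · intro k _ hk
      rw [if_neg hk, mul_zero]
    · exact fun hh => absurd (Finset.mem_univ _) hh
  · rw [if_neg h]
    refine (Finset.sum_eq_zero fun c _ => Finset.sum_eq_zero fun k _ => ?_).symm
    by_cases hk : k = y.right j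
    · rw [if_neg (hk ▸ h), zero_mul]
    · rw [if_neg hk, mul_zero]

/-- The matrix representation as a monoid map. -/
def matHom : Wr F d n →* Matrix (Fin d × Fin n) (Fin d × Fin n) F where
  toFun := mat
  map_one' := mat_one
  map_mul' := mat_mul

/-- The wreath product in the general linear group. -/
def toGL : Wr F d n →* GL (Fin d × Fin n) F := (matHom (F := F)).toHomUnits

theorem toGL_coe (x : Wr F d n) :
    (toGL x : Matrix (Fin d × Fin n) (Fin d × Fin n) F) = mat x := rfl

theorem mat_injective [Nontrivial F] (hd : 1 ≤ d) {x y : Wr F d n} (h : mat x = mat y) : x = y := by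
  have hr : x.right = y.right := Equiv.ext fun j => by
    by_contra hne
    obtain ⟨c, hc⟩ : ∃ c : Fin d,
        (x.left (x.right j) : Matrix (Fin d) (Fin d) F) c ⟨0, hd⟩ ≠ 0 := by
      by_contra hall
      push Not at hall
      have h1 := congrFun (congrFun
        (show ((x.left (x.right j))⁻¹ : GL (Fin d) F).1 * (x.left (x.right j)).1 = 1 from
          Units.inv_mul _) ⟨0, hd⟩) ⟨0, hd⟩
      rw [Matrix.mul_apply, Matrix.one_apply_eq,
        Finset.sum_eq_zero fun c _ => by rw [hall c, mul_zero]] at h1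
      exact zero_ne_one h1
    have h2 := congrFun (congrFun h (c, x.right j)) (⟨0, hd⟩, j)
    rw [mat_apply, mat_apply, if_pos rfl, if_neg hne] at h2
    exact hc h2
  refine SemidirectProduct.ext (funext fun i => Units.ext ?_) hr
  ext a b
  have h2 := congrFun (congrFun h (a, i)) (b, x.right.symm i)
  rwa [mat_apply, mat_apply, ← hr, if_pos (by simp), if_pos (by simp)] at h2

theorem toGL_injective [Nontrivial F] (hd : 1 ≤ d) : Function.Injective (toGL (F := F) (d := d) (n := n)) :=
  fun _ _ h => mat_injective hd (congrArg Units.val h)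

theorem mat_inl (g : Fin n → GL (Fin d) F) :
    mat (SemidirectProduct.inl g : Wr F d n)
      = blockDiagonal fun i => (g i : Matrix (Fin d) (Fin d) F) := by
  ext ⟨a, i⟩ ⟨b, j⟩
  rw [mat_apply, blockDiagonal_apply]
  by_cases h : i = j
  · subst h; simp
  · simp [h]

theorem mat_inr (σ : Equiv.Perm (Fin n)) :
    mat (SemidirectProduct.inr σ : Wr F d n)
      = Equiv.Perm.permMatrix F (((Equiv.refl (Fin d)).prodCongr σ).symm) := by
  ext ⟨a, i⟩ ⟨b, j⟩
  rw [mat_apply, Equiv.Perm.permMatrix, PEquiv.toMatrix_apply]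
  by_cases h : i = σ j
  · subst h
    by_cases hab : a = b
    · subst hab; simp [Equiv.toPEquiv_apply]
    · simp [Equiv.toPEquiv_apply, hab, Matrix.one_apply]
  · have h' : σ.symm i ≠ j := fun e => h (by rw [← e, Equiv.apply_symm_apply])
    simp [Equiv.toPEquiv_apply, h, h']

theorem det_mat (x : Wr F d n) : (mat x).det
    = (∏ i, ((x.left i : Matrix (Fin d) (Fin d) F)).det)
      * ((Equiv.Perm.sign x.right : ℤ) : F) ^ d := by
  conv_lhs => rw [← SemidirectProduct.inl_left_mul_inr_right x]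
  rw [mat_mul, Matrix.det_mul, mat_inl, mat_inr, det_blockDiagonal, Matrix.det_permutation]
  congr 1
  have h : Equiv.Perm.sign ((Equiv.refl (Fin d)).prodCongr x.right : Equiv.Perm (Fin d × Fin n)).symm
      = Equiv.Perm.sign x.right ^ d := by
    rw [Equiv.Perm.sign_symm, show ((Equiv.refl (Fin d)).prodCongr x.right : Equiv.Perm _)
        = Equiv.prodCongrRight (fun _ : Fin d => x.right) from Equiv.ext fun _ => rfl,
      Equiv.Perm.sign_prodCongrRight, Finset.prod_const, Finset.card_univ, Fintype.card_fin]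
  rw [h]
  push_cast
  rfl

/-- The subgroup with base components in `B` and permutation part in `W`. -/
def sub (B : Subgroup (Fin n → GL (Fin d) F)) (W : Subgroup (Equiv.Perm (Fin n)))
    (hB : ∀ σ ∈ W, ∀ g ∈ B, act σ g ∈ B) : Subgroup (Wr F d n) where
  carrier := {x | x.left ∈ B ∧ x.right ∈ W}
  one_mem' := ⟨one_mem _, one_mem _⟩
  mul_mem' := fun {x y} hx hy => ⟨mul_mem hx.1 (hB _ hx.2 _ hy.1), mul_mem hx.2 hy.2⟩
  inv_mem' := fun {x} hx => ⟨hB _ (inv_mem hx.2) _ (inv_mem hx.1), inv_mem hx.2⟩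

theorem mem_sub {B : Subgroup (Fin n → GL (Fin d) F)} {W : Subgroup (Equiv.Perm (Fin n))}
    {hB : ∀ σ ∈ W, ∀ g ∈ B, act σ g ∈ B} {x : Wr F d n} :
    x ∈ sub B W hB ↔ x.left ∈ B ∧ x.right ∈ W := Iff.rfl

theorem card_sub (B : Subgroup (Fin n → GL (Fin d) F)) (W : Subgroup (Equiv.Perm (Fin n)))
    (hB : ∀ σ ∈ W, ∀ g ∈ B, act σ g ∈ B) :
    Nat.card (sub B W hB) = Nat.card B * Nat.card W := by
  rw [← Nat.card_prod]
  exact Nat.card_congr
    { toFun := fun x => (⟨x.1.left, x.2.1⟩, ⟨x.1.right, x.2.2⟩)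
      invFun := fun t => ⟨⟨t.1, t.2⟩, t.1.2, t.2.2⟩
      left_inv := fun _ => rfl
      right_inv := fun _ => rfl }

/-- The base group with all components in `S`. -/
abbrev full (S : Subgroup (GL (Fin d) F)) : Subgroup (Fin n → GL (Fin d) F) :=
  Subgroup.pi Set.univ fun _ => S

theorem act_mem_full (S : Subgroup (GL (Fin d) F)) (σ : Equiv.Perm (Fin n))
    {g : Fin n → GL (Fin d) F} (hg : g ∈ full S) : act σ g ∈ full S :=
  (Subgroup.mem_pi Set.univ).2 fun i _ => (Subgroup.mem_pi Set.univ).1 hg _ trivial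

theorem card_full (S : Subgroup (GL (Fin d) F)) :
    Nat.card (full (n := n) S) = Nat.card S ^ n := by
  rw [Nat.card_congr (β := Fin n → S)
    { toFun := fun g i => ⟨g.1 i, (Subgroup.mem_pi Set.univ).1 g.2 i trivial⟩
      invFun := fun g => ⟨fun i => g i, (Subgroup.mem_pi Set.univ).2 fun i _ => (g i).2⟩
      left_inv := fun _ => rfl
      right_inv := fun _ => rfl }, Nat.card_fun, Nat.card_fin]

/-- A base part and involutions generate. -/
theorem sqComm_sub {B : Subgroup (Fin n → GL (Fin d) F)} (G : Perm.SylowGen.Gens 2 (Fin n))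
    (hB : ∀ σ ∈ Subgroup.closure G.S, ∀ g ∈ B, act σ g ∈ B)
    (hbase : ∀ g ∈ B, (SemidirectProduct.inl g : Wr F d n) ∈ sqIn (sub B (Subgroup.closure G.S) hB)) :
    sqComm (sub B (Subgroup.closure G.S) hB) = ⊤ := by
  refine sqComm_eq_top_of fun x hx => ?_
  rw [← SemidirectProduct.inl_left_mul_inr_right x]
  refine mul_mem (hbase _ hx.1) ?_
  set M := (sqIn (sub B (Subgroup.closure G.S) hB)).comap (SemidirectProduct.inr (φ := act))
  suffices h : Subgroup.closure G.S ≤ M from h hx.2
  refine (Subgroup.closure_le _).2 fun t ht => mem_sqIn_of_mul_self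
    ⟨by simp [one_mem], Subgroup.subset_closure ht⟩ ?_
  rw [← map_mul, ← sq, G.pow t ht, map_one]

/-- Generation of the full base part. -/
theorem inl_mem_sqIn_full {S : Subgroup (GL (Fin d) F)} (hS : sqComm S = ⊤)
    {B : Subgroup (Fin n → GL (Fin d) F)} {W : Subgroup (Equiv.Perm (Fin n))}
    {hB : ∀ σ ∈ W, ∀ g ∈ B, act σ g ∈ B} (hle : full S ≤ B) {g : Fin n → GL (Fin d) F}
    (hg : g ∈ full S) : (SemidirectProduct.inl g : Wr F d n) ∈ sqIn (sub B W hB) := by
  classical
  suffices h : full S ≤ (sqIn (sub B W hB)).comap (SemidirectProduct.inl (φ := act)) from h hg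
  rw [Subgroup.pi_le_iff]
  rintro i _ ⟨z, hz, rfl⟩
  have hmem : ∀ w ∈ S, (Pi.mulSingle i w : Fin n → GL (Fin d) F) ∈ full S := fun w hw => by
    refine (Subgroup.mem_pi Set.univ).2 fun j _ => ?_
    by_cases h : j = i
    · subst h; simpa using hw
    · simp [h, one_mem]
  exact map_mem_sqIn (K := sub B W hB) ((SemidirectProduct.inl (φ := act)).comp
    (MonoidHom.mulSingle (fun _ : Fin n => GL (Fin d) F) i))
    (fun w hw => ⟨by simpa using hle (hmem w hw), by simp [one_mem]⟩) hS hz

end Wreath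

end CfsgLib.Classical.WreathGL
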