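import Cfsg.Agent.Lib.Classical.OrthPlane
import Cfsg.Agent.Lib.Classical.WreathGL
import Mathlib.GroupTheory.Commutator.Basic

/-!
# Sylow 2-subgroups of orthogonal groups in odd characteristic

A form `m (x² + y²) ⊕ diag c` contains the 2-group `(D ≀ W) × {±1}ᵉ`. The part of it inside the
commutator subgroup has all squares in its derived subgroup.
-/

set_option autoImplicit false
set_option linter.unusedSectionVars false

namespace CfsgLib.Classical.OrthTwoSylow

open Matrix CfsgLib.Classical.OrthPlane CfsgLib.Classical.WreathGL CfsgLib.Perm.SylowGen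
open scoped commutatorElement

variable {F : Type*} [Field F] {m e : ℕ}

section Model

variable (m)

/-- The index type of the model. -/
abbrev Idx (m e : ℕ) : Type := (Fin 2 × Fin m) ⊕ Fin e

/-- The model form. -/
def M₀ (c : Fin e → F) : Matrix (Idx m e) (Idx m e) F := Matrix.fromBlocks 1 0 0 (Matrix.diagonal c)

theorem M₀_transpose (c : Fin e → F) : (M₀ m c)ᵀ = M₀ m c := by
  simp [M₀, Matrix.fromBlocks_transpose]

theorem M₀_det (c : Fin e → F) : (M₀ m c).det = ∏ i, c i := by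
  simp [M₀, Matrix.det_fromBlocks_zero₁₂, Matrix.det_diagonal]

variable (F e)

/-- The abstract group acting on the model. -/
abbrev Amb := Wr F 2 m × (Fin e → ℤˣ)

variable {m F e}

/-- The diagonal matrix of a vector of signs. -/
def signMat : (Fin e → ℤˣ) →* Matrix (Fin e) (Fin e) F where
  toFun ε := Matrix.diagonal fun i => (((ε i : ℤˣ) : ℤ) : F)
  map_one' := by simp
  map_mul' a b := by simp [Matrix.diagonal_mul_diagonal]

/-- The matrix of an element of `Amb`. -/
def ambMat : Amb F m e →* Matrix (Idx m e) (Idx m e) F where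
  toFun x := Matrix.fromBlocks (mat x.1) 0 0 (signMat x.2)
  map_one' := by
    show Matrix.fromBlocks (mat (1 : Wr F 2 m)) 0 0 (signMat (1 : Fin e → ℤˣ)) = 1
    rw [mat_one, map_one, Matrix.fromBlocks_one]
  map_mul' x y := by
    show Matrix.fromBlocks (mat (x.1 * y.1)) 0 0 (signMat (x.2 * y.2)) = _
    rw [mat_mul, map_mul, Matrix.fromBlocks_multiply]
    simp

/-- `Amb` in the general linear group. -/
def toG : Amb F m e →* GL (Idx m e) F := (ambMat (F := F)).toHomUnits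

theorem toG_val (x : Amb F m e) :
    (toG x : Matrix (Idx m e) (Idx m e) F) = Matrix.fromBlocks (mat x.1) 0 0 (signMat x.2) := rfl

theorem toG_injective (h2 : (2 : F) ≠ 0) : Function.Injective (toG (F := F) (m := m) (e := e)) := by
  intro x y h
  have h' := congrArg Units.val h
  rw [toG_val, toG_val] at h'
  obtain ⟨ha, -, -, hd⟩ := Matrix.fromBlocks_inj.1 h'
  refine Prod.ext (mat_injective (by omega) ha) (funext fun i => ?_)
  have hi : (((x.2 i : ℤˣ) : ℤ) : F) = ((y.2 i : ℤˣ) : ℤ) := by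
    simpa [signMat] using congrFun (congrFun hd i) i
  rcases Int.units_eq_one_or (x.2 i) with e1 | e1 <;> rcases Int.units_eq_one_or (y.2 i) with e2 | e2 <;>
    simp [e1, e2] at hi ⊢
  · exact h2 (by linear_combination hi)
  · exact h2 (by linear_combination -hi)

variable (F m e) in
/-- The elements with orthogonal blocks. -/
def orth : Subgroup (Amb F m e) :=
  (sub (full (n := m) (O2 F)) ⊤ fun σ _ _ hg => act_mem_full (O2 F) σ hg).prod ⊤

theorem mat_transpose_inr (σ : Equiv.Perm (Fin m)) :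
    (mat (SemidirectProduct.inr σ : Wr F 2 m))ᵀ = mat (SemidirectProduct.inr σ⁻¹ : Wr F 2 m) := by
  rw [mat_inr, mat_inr, Matrix.transpose_permMatrix]
  rfl

theorem mat_transpose_mul (x : Wr F 2 m) (hx : x.left ∈ full (n := m) (O2 F)) :
    (mat x)ᵀ * mat x = 1 := by
  rw [← SemidirectProduct.inl_left_mul_inr_right x, mat_mul, Matrix.transpose_mul,
    mat_transpose_inr, Matrix.mul_assoc, ← Matrix.mul_assoc _ (mat _) (mat _), mat_inl,
    blockDiagonal_transpose, ← blockDiagonal_mul]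
  have h : (fun i => ((x.left i : Matrix (Fin 2) (Fin 2) F))ᵀ * (x.left i : Matrix (Fin 2) (Fin 2) F))
      = 1 := funext fun i => by
    have hi := mem_OGrp.1 ((Subgroup.mem_pi Set.univ).1 hx i trivial)
    rwa [Matrix.mul_one] at hi
  rw [h, blockDiagonal_one, Matrix.one_mul, ← mat_mul, ← map_mul, inv_mul_cancel, map_one, mat_one]

theorem toG_mem {x : Amb F m e} (hx : x ∈ orth F m e) (c : Fin e → F) : toG x ∈ OGrp (M₀ m c) := by
  rw [mem_OGrp, toG_val, M₀, Matrix.fromBlocks_transpose, Matrix.fromBlocks_multiply,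
    Matrix.fromBlocks_multiply]
  simp only [Matrix.transpose_zero, Matrix.mul_zero, Matrix.zero_mul, add_zero, zero_add, Matrix.mul_one]
  rw [mat_transpose_mul x.1 (Subgroup.mem_prod.1 hx).1.1]
  congr 1
  simp only [signMat, MonoidHom.coe_mk, OneHom.coe_mk, Matrix.diagonal_transpose, Matrix.diagonal_mul_diagonal]
  congr 1
  funext i
  rcases Int.units_eq_one_or (x.2 i) with h | h <;> simp [h]

variable (F e) in
/-- A permutation of the plane coordinates, in the general linear group. -/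
def permG : Equiv.Perm (Fin 2 × Fin m) →* GL (Idx m e) F :=
  MonoidHom.toHomUnits
    { toFun := fun π => Matrix.fromBlocks (Equiv.Perm.permMatrix F π⁻¹) 0 0 1
      map_one' := by simp [Matrix.permMatrix_one]
      map_mul' := fun a b => by simp [Matrix.fromBlocks_multiply, Matrix.permMatrix_mul, _root_.mul_inv_rev] }

theorem permG_mem (π : Equiv.Perm (Fin 2 × Fin m)) (c : Fin e → F) : permG F e π ∈ OGrp (M₀ m c) := by
  rw [mem_OGrp]
  show (Matrix.fromBlocks (Equiv.Perm.permMatrix F π⁻¹) 0 0 1)ᵀ * M₀ m c *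
    Matrix.fromBlocks (Equiv.Perm.permMatrix F π⁻¹) 0 0 1 = _
  rw [M₀, Matrix.fromBlocks_transpose, Matrix.fromBlocks_multiply, Matrix.fromBlocks_multiply]
  simp [Matrix.transpose_permMatrix, ← Matrix.permMatrix_mul]

theorem toG_inr (σ : Equiv.Perm (Fin m)) :
    toG ((SemidirectProduct.inr σ, 1) : Amb F m e) = permG F e ((Equiv.refl (Fin 2)).prodCongr σ) := by
  refine Units.ext ?_
  rw [toG_val]
  show Matrix.fromBlocks (mat (SemidirectProduct.inr σ : Wr F 2 m)) 0 0 (signMat (1 : Fin e → ℤˣ)) =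
    Matrix.fromBlocks (Equiv.Perm.permMatrix F ((Equiv.refl (Fin 2)).prodCongr σ : Equiv.Perm (Fin 2 × Fin m))⁻¹) 0 0 1
  rw [mat_inr, map_one]
  rfl

end Model

section Core

variable (c : Fin e → F)

/-- The preimage of the commutator subgroup. -/
def Nsub : Subgroup (Amb F m e) := ⁅OGrp (M₀ m c), OGrp (M₀ m c)⁆.comap toG

/-- Every square lies in the commutator subgroup. -/
def SqHyp : Prop := ∀ x ∈ OGrp (M₀ m c), x * x ∈ ⁅OGrp (M₀ m c), OGrp (M₀ m c)⁆

variable {c}

theorem sq_mem (hsq : SqHyp (m := m) c) {x : Amb F m e} (hx : x ∈ orth F m e) : x * x ∈ Nsub c := by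
  rw [Nsub, Subgroup.mem_comap, map_mul]
  exact hsq _ (toG_mem hx c)

theorem comm_mem {x y : Amb F m e} (hx : x ∈ orth F m e) (hy : y ∈ orth F m e) :
    ⁅x, y⁆ ∈ Nsub c := by
  rw [Nsub, Subgroup.mem_comap, map_commutatorElement]
  exact Subgroup.commutator_mem_commutator (toG_mem hx c) (toG_mem hy c)

theorem inr_mem (hsq : SqHyp (m := m) c) (σ : Equiv.Perm (Fin m)) :
    ((SemidirectProduct.inr σ, 1) : Amb F m e) ∈ Nsub c := by
  rw [Nsub, Subgroup.mem_comap, toG_inr]
  set a : Equiv.Perm (Fin 2 × Fin m) := Equiv.Perm.prodExtendRight 0 σ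
  set g : Equiv.Perm (Fin 2 × Fin m) := (Equiv.swap (0 : Fin 2) 1).prodCongr (Equiv.refl (Fin m))
  have hdec : (Equiv.refl (Fin 2)).prodCongr σ = a * (g * a * g⁻¹) := by
    have hg : g⁻¹ = g := by
      ext ⟨i, j⟩ <;> fin_cases i <;> rfl
    rw [hg]
    ext ⟨i, j⟩ <;> fin_cases i <;>
      simp [a, g, Equiv.Perm.mul_apply, Equiv.Perm.prodExtendRight_apply_eq,
        Equiv.Perm.prodExtendRight_apply_ne]
  rw [hdec, show a * (g * a * g⁻¹) = a * a * ⁅a⁻¹, g⁆ by rw [commutatorElement_def]; group, map_mul,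
    map_mul, map_commutatorElement]
  exact mul_mem (hsq _ (permG_mem a c))
    (Subgroup.commutator_mem_commutator (permG_mem _ c) (permG_mem g c))

/-- A matrix placed in the `i`th plane. -/
def b (i : Fin m) : GL (Fin 2) F →* Amb F m e :=
  MonoidHom.prod (SemidirectProduct.inl.comp (MonoidHom.mulSingle (fun _ : Fin m => GL (Fin 2) F) i)) 1

theorem b_apply (i : Fin m) (d : GL (Fin 2) F) :
    b i d = ((SemidirectProduct.inl (Pi.mulSingle i d), 1) : Amb F m e) := rfl

theorem single_mem {S : Subgroup (GL (Fin 2) F)} (i : Fin m) {d : GL (Fin 2) F} (hd : d ∈ S) :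
    (Pi.mulSingle i d : Fin m → GL (Fin 2) F) ∈ full S := by
  refine (Subgroup.mem_pi Set.univ).2 fun j _ => ?_
  by_cases h : j = i
  · subst h; simpa using hd
  · simp [h, one_mem]

theorem b_mem_orth (i : Fin m) {d : GL (Fin 2) F} (hd : d ∈ O2 F) : (b i d : Amb F m e) ∈ orth F m e :=
  Subgroup.mem_prod.2 ⟨⟨by simpa [b_apply] using single_mem i hd, Subgroup.mem_top _⟩, Subgroup.mem_top _⟩

theorem inr_mem_orth (σ : Equiv.Perm (Fin m)) :
    ((SemidirectProduct.inr σ, 1) : Amb F m e) ∈ orth F m e :=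
  Subgroup.mem_prod.2 ⟨⟨by simp [one_mem], Subgroup.mem_top _⟩, Subgroup.mem_top _⟩

theorem conj_inl (σ : Equiv.Perm (Fin m)) (i : Fin m) (d : GL (Fin 2) F) :
    (SemidirectProduct.inr σ : Wr F 2 m) *
      SemidirectProduct.inl (Pi.mulSingle i d : Fin m → GL (Fin 2) F) *
      (SemidirectProduct.inr σ : Wr F 2 m)⁻¹ =
    SemidirectProduct.inl (Pi.mulSingle (σ i) d : Fin m → GL (Fin 2) F) := by
  rw [← map_inv, ← SemidirectProduct.inl_aut]
  refine congrArg _ (funext fun j => ?_)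
  rw [act_apply]
  by_cases h : j = σ i
  · subst h; simp
  · have : σ.symm j ≠ i := fun e => h (by simp [← e])
    simp [h, this]

theorem conj_b (σ : Equiv.Perm (Fin m)) (i : Fin m) (d : GL (Fin 2) F) :
    ((SemidirectProduct.inr σ, 1) : Amb F m e) * b i d * ((SemidirectProduct.inr σ, 1) : Amb F m e)⁻¹ =
      b (σ i) d := by
  rw [b_apply, b_apply, Prod.inv_mk, Prod.mk_mul_mk, Prod.mk_mul_mk, conj_inl]
  simp

theorem b_mul_b_inv (hsq : SqHyp (m := m) c) (i k : Fin m) {d : GL (Fin 2) F} (hd : d ∈ O2 F) :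
    (b i d * b k d⁻¹ : Amb F m e) ∈ Nsub c := by
  have h := conj_b (F := F) (e := e) (Equiv.swap i k) i d⁻¹
  rw [Equiv.swap_apply_left, map_inv] at h
  rw [← h, ← mul_assoc, ← mul_assoc]
  exact comm_mem (b_mem_orth i hd) (inr_mem_orth _)

theorem b_mul_b (hsq : SqHyp (m := m) c) (i k : Fin m) {d : GL (Fin 2) F} (hd : d ∈ O2 F) :
    (b i d * b k d : Amb F m e) ∈ Nsub c := by
  have h := mul_mem (b_mul_b_inv hsq i k hd) (sq_mem hsq (b_mem_orth k hd))
  rwa [map_inv, mul_assoc, inv_mul_cancel_left] at h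

variable (c) in
/-- The subgroup with blocks in `D`, inside the commutator subgroup. -/
def Ksub (D : Subgroup (GL (Fin 2) F)) (W : Subgroup (Equiv.Perm (Fin m))) : Subgroup (Amb F m e) :=
  (sub (full (n := m) D) W fun σ _ _ hg => act_mem_full D σ hg).prod ⊤ ⊓ Nsub c

variable {D : Subgroup (GL (Fin 2) F)} {W : Subgroup (Equiv.Perm (Fin m))}

theorem mem_K {g : Fin m → GL (Fin 2) F} {ε : Fin e → ℤˣ} (hg : g ∈ full D)
    (hN : ((SemidirectProduct.inl g, ε) : Amb F m e) ∈ Nsub c) :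
    ((SemidirectProduct.inl g, ε) : Amb F m e) ∈ Ksub c D W :=
  ⟨Subgroup.mem_prod.2 ⟨⟨by simpa using hg, by simp [one_mem]⟩, Subgroup.mem_top _⟩, hN⟩

theorem b_comm_apply (g h : Fin m → GL (Fin 2) F) :
    ⁅((SemidirectProduct.inl g, 1) : Amb F m e), ((SemidirectProduct.inl h, 1) : Amb F m e)⁆ =
      (SemidirectProduct.inl ⁅g, h⁆, 1) := by
  refine Prod.ext ?_ ?_
  · show ⁅(SemidirectProduct.inl g : Wr F 2 m), SemidirectProduct.inl h⁆ = _
    rw [← map_commutatorElement]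
  · show ⁅(1 : Fin e → ℤˣ), 1⁆ = 1
    simp

/-- At least three planes: the squares of rotations are commutators in `K`. -/
theorem sq_rot_mem (hsq : SqHyp (m := m) c) (hm : 3 ≤ m) (hD : D ≤ O2 F) (hs : sRefl F ∈ D) (i : Fin m)
    {r : GL (Fin 2) F} (hr : r ∈ D) (hrd : (r : Matrix (Fin 2) (Fin 2) F).det = 1) :
    (b i (r * r) : Amb F m e) ∈ ⁅Ksub c D W, Ksub c D W⁆ := by
  obtain ⟨k, hk⟩ : ∃ k : Fin m, k ≠ i := Fintype.exists_ne_of_one_lt_card (by simp; omega) i
  obtain ⟨l, hli, hlk⟩ : ∃ l : Fin m, l ≠ i ∧ l ≠ k := by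
    obtain ⟨l, hl⟩ := Finset.exists_mem_notMem_of_card_lt_card (s := ({i, k} : Finset (Fin m)))
      (t := Finset.univ) (lt_of_le_of_lt Finset.card_le_two (by simp; omega))
    exact ⟨l, by simpa using hl.2⟩
  set A : Fin m → GL (Fin 2) F := Pi.mulSingle i (sRefl F) * Pi.mulSingle k (sRefl F) with hA
  set B : Fin m → GL (Fin 2) F := Pi.mulSingle i r⁻¹ * Pi.mulSingle l r⁻¹ with hB
  have hAK : ((SemidirectProduct.inl A, 1) : Amb F m e) ∈ Ksub c D W := by
    refine mem_K (mul_mem (single_mem i hs) (single_mem k hs)) ?_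
    simpa [hA, b_apply, map_mul] using b_mul_b (e := e) hsq i k (hD hs)
  have hBK : ((SemidirectProduct.inl B, 1) : Amb F m e) ∈ Ksub c D W := by
    refine mem_K (mul_mem (single_mem i (inv_mem hr)) (single_mem l (inv_mem hr))) ?_
    simpa [hB, b_apply, map_mul] using b_mul_b (e := e) hsq i l (inv_mem (hD hr))
  have hAB : ⁅A, B⁆ = Pi.mulSingle i (r * r) := by
    funext j
    simp only [commutatorElement_def, Pi.mul_apply, Pi.inv_apply, hA, hB]
    by_cases hji : j = i
    · subst hji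
      simp only [Pi.mulSingle_eq_same, Pi.mulSingle_eq_of_ne hk.symm, Pi.mulSingle_eq_of_ne hli.symm,
        mul_one, inv_inv]
      rw [conj_eq_inv (hD hs) sRefl_det (inv_mem (hD hr))
        (by rw [Matrix.coe_units_inv, Matrix.det_nonsing_inv, hrd, Ring.inverse_one]), inv_inv]
    · by_cases hjk : j = k
      · subst hjk
        simp [hji, Pi.mulSingle_eq_of_ne hlk.symm]
      · simp [hji, hjk]
  have h := Subgroup.commutator_mem_commutator hAK hBK
  rw [b_comm_apply, hAB] at h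
  exact h

/-- Squares of blocks. -/
theorem block_sq_cases (hD : D ≤ O2 F) {d : GL (Fin 2) F} (hd : d ∈ D) :
    d * d = 1 ∨ (d : Matrix (Fin 2) (Fin 2) F).det = 1 := by
  rcases det_cases (hD hd) with h | h
  · exact Or.inr h
  · exact Or.inl (mul_self_of_det_neg (hD hd) h)

theorem base_sq_three (hsq : SqHyp (m := m) c) (hm : 3 ≤ m) (hD : D ≤ O2 F) (hs : sRefl F ∈ D)
    {g : Fin m → GL (Fin 2) F} (hg : g ∈ full D) :
    ((SemidirectProduct.inl (g * g), 1) : Amb F m e) ∈ ⁅Ksub c D W, Ksub c D W⁆ := by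
  show g * g ∈ ⁅Ksub c D W, Ksub c D W⁆.comap
    (MonoidHom.prod SemidirectProduct.inl 1 : (Fin m → GL (Fin 2) F) →* Amb F m e)
  refine Subgroup.pi_mem_of_mulSingle_mem _ fun i => ?_
  have hd : g i ∈ D := (Subgroup.mem_pi Set.univ).1 hg i trivial
  rw [Subgroup.mem_comap, Pi.mul_apply]
  rcases block_sq_cases hD hd with h | h
  · rw [h, Pi.mulSingle_one, map_one]; exact one_mem _
  · exact sq_rot_mem hsq hm hD hs i hd h

theorem det_toG_inl (g : Fin m → GL (Fin 2) F) :
    (toG ((SemidirectProduct.inl g, 1) : Amb F m e) : Matrix (Idx m e) (Idx m e) F).det =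
      ∏ i, (g i : Matrix (Fin 2) (Fin 2) F).det := by
  rw [toG_val]
  show (Matrix.fromBlocks (mat (SemidirectProduct.inl g : Wr F 2 m)) 0 0 (signMat (1 : Fin e → ℤˣ))).det = _
  rw [mat_inl, map_one, Matrix.det_fromBlocks_zero₁₂, Matrix.det_one, mul_one, det_blockDiagonal]

theorem det_of_mem_N {x : Amb F m e} (hx : x ∈ Nsub c) :
    (toG x : Matrix (Idx m e) (Idx m e) F).det = 1 := by
  have h : ⁅OGrp (M₀ m c), OGrp (M₀ m c)⁆ ≤
      (Matrix.GeneralLinearGroup.det (n := Idx m e) (R := F)).ker :=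
    Subgroup.commutator_le.2 fun a _ b _ => by
      rw [MonoidHom.mem_ker, map_commutatorElement, commutatorElement_eq_one_iff_commute]
      exact Commute.all _ _
  exact congrArg Units.val (h hx)

/-- Two planes: the squares in the base part are commutators in `K`. -/
theorem base_sq_two {c : Fin e → F} (he : e = 0) {W : Subgroup (Equiv.Perm (Fin 2))}
    (hsq : SqHyp (m := 2) c) (h2 : (2 : F) ≠ 0) (hD : D ≤ O2 F) (hs : sRefl F ∈ D)
    (hsq2 : ∀ u ∈ D, ∀ v ∈ D, (u : Matrix (Fin 2) (Fin 2) F).det = 1 →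
      (v : Matrix (Fin 2) (Fin 2) F).det = 1 →
        (∃ w ∈ D, (w : Matrix (Fin 2) (Fin 2) F).det = 1 ∧ v = w * w) ∨
        (∃ w ∈ D, (w : Matrix (Fin 2) (Fin 2) F).det = 1 ∧ u = w * w) ∨
        (∃ w ∈ D, (w : Matrix (Fin 2) (Fin 2) F).det = 1 ∧ v = u * (w * w)))
    (hrot : ∃ r ∈ D, (r : Matrix (Fin 2) (Fin 2) F).det = 1 ∧ (b 0 r : Amb F 2 e) ∉ Nsub c)
    {g : Fin 2 → GL (Fin 2) F} {ε : Fin e → ℤˣ} (hg : g ∈ full D)
    (hN : ((SemidirectProduct.inl g, ε) : Amb F 2 e) ∈ Nsub c) :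
    ((SemidirectProduct.inl (g * g), 1) : Amb F 2 e) ∈ ⁅Ksub c D W, Ksub c D W⁆ := by
  subst he
  rw [show ε = 1 from Subsingleton.elim _ _] at hN
  have hgi : ∀ i, g i ∈ D := fun i => (Subgroup.mem_pi Set.univ).1 hg i trivial
  have hdet : (g 0 : Matrix (Fin 2) (Fin 2) F).det * (g 1 : Matrix (Fin 2) (Fin 2) F).det = 1 := by
    have := det_of_mem_N hN
    rwa [det_toG_inl, Fin.prod_univ_two] at this
  rcases det_cases (hD (hgi 0)) with h0 | h0
  · have h1 : (g 1 : Matrix (Fin 2) (Fin 2) F).det = 1 := by rwa [h0, one_mul] at hdet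
    set u := g 0 with hu
    set v := g 1 with hv
    have hsplit : ((SemidirectProduct.inl g, 1) : Amb F 2 0) = b 0 (u * v) * (b 1 v * b 0 v⁻¹) := by
      refine Prod.ext ?_ (by simp [b_apply])
      show (SemidirectProduct.inl g : Wr F 2 2) = SemidirectProduct.inl (Pi.mulSingle 0 (u * v)) *
        (SemidirectProduct.inl (Pi.mulSingle 1 v) * SemidirectProduct.inl (Pi.mulSingle 0 v⁻¹))
      rw [← map_mul, ← map_mul]
      congr 1
      funext j
      fin_cases j <;> simp [hu, hv]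
    have huv : (b 0 (u * v) : Amb F 2 0) ∈ Nsub c := by
      rw [hsplit] at hN
      exact (Subgroup.mul_mem_cancel_right _ (b_mul_b_inv hsq 1 0 (hD (hgi 1)))).1 hN
    obtain ⟨w, hw, hwd, hwe⟩ : ∃ w ∈ D, (w : Matrix (Fin 2) (Fin 2) F).det = 1 ∧ u * v = w * w := by
      obtain ⟨r, hr, hrd, hrN⟩ := hrot
      rcases hsq2 r hr (u * v) (mul_mem (hgi 0) (hgi 1)) hrd
        (by rw [Units.val_mul, Matrix.det_mul, h0, h1, one_mul]) with h | ⟨w, hw, -, e⟩ | ⟨w, hw, -, e⟩
      · exact h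
      · exact absurd (by rw [e, map_mul]; exact sq_mem hsq (b_mem_orth 0 (hD hw))) hrN
      · rw [e, map_mul, map_mul] at huv
        exact absurd ((Subgroup.mul_mem_cancel_right _ (sq_mem hsq (b_mem_orth 0 (hD hw)))).1 huv) hrN
    have hv2 : v = u⁻¹ * (w * w) := by rw [← hwe, inv_mul_cancel_left]
    let p : GL (Fin 2) F → GL (Fin 2) F → (Fin 2 → GL (Fin 2) F) :=
      fun x y => Pi.mulSingle 0 x * Pi.mulSingle 1 y
    have hp : ∀ {x y : GL (Fin 2) F}, x ∈ D → y ∈ D → (b 0 x * b 1 y : Amb F 2 0) ∈ Nsub c →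
        ((SemidirectProduct.inl (p x y), 1) : Amb F 2 0) ∈ Ksub c D W := fun {x y} hx hy hxy => by
      refine mem_K (mul_mem (single_mem 0 hx) (single_mem 1 hy)) ?_
      simpa [p, b_apply, map_mul] using hxy
    have hS : ((SemidirectProduct.inl (p (sRefl F) (sRefl F)), 1) : Amb F 2 0) ∈ Ksub c D W :=
      hp hs hs (b_mul_b hsq 0 1 (hD hs))
    have hC : ∀ {x y : GL (Fin 2) F}, x ∈ D → y ∈ D → (x : Matrix (Fin 2) (Fin 2) F).det = 1 →
        (y : Matrix (Fin 2) (Fin 2) F).det = 1 → (b 0 x * b 1 y : Amb F 2 0) ∈ Nsub c →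
        ((SemidirectProduct.inl (p (x⁻¹ * x⁻¹) (y⁻¹ * y⁻¹)), 1) : Amb F 2 0) ∈
          ⁅Ksub c D W, Ksub c D W⁆ := fun {x y} hx hy hxd hyd hxy => by
      have h := Subgroup.commutator_mem_commutator hS (hp hx hy hxy)
      rw [b_comm_apply] at h
      have e : ⁅p (sRefl F) (sRefl F), p x y⁆ = p (x⁻¹ * x⁻¹) (y⁻¹ * y⁻¹) := by
        funext j
        simp only [p, commutatorElement_def, Pi.mul_apply, Pi.inv_apply]
        fin_cases j <;> simp [conj_eq_inv (hD hs) sRefl_det (hD hx) hxd,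
          conj_eq_inv (hD hs) sRefl_det (hD hy) hyd]
      rwa [e] at h
    have hinv : ∀ x : GL (Fin 2) F, (x : Matrix (Fin 2) (Fin 2) F).det = 1 →
        ((x⁻¹ : GL (Fin 2) F) : Matrix (Fin 2) (Fin 2) F).det = 1 := fun x hx => by
      rw [Matrix.coe_units_inv, Matrix.det_nonsing_inv, hx, Ring.inverse_one]
    have huinv := inv_mem (hgi 0)
    have hwinv := inv_mem hw
    have c1 := hC huinv (hgi 0) (hinv _ h0) h0 (by
      simpa using b_mul_b_inv (c := c) hsq 0 1 (inv_mem (hD (hgi 0))))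
    have c2 := hC hwinv hwinv (hinv _ hwd) (hinv _ hwd) (b_mul_b hsq 0 1 (inv_mem (hD hw)))
    have c3 := hC hw hwinv hwd (hinv _ hwd) (b_mul_b_inv hsq 0 1 (hD hw))
    have h := mul_mem c1 (mul_mem c2 c3)
    have e : g * g = p (u⁻¹⁻¹ * u⁻¹⁻¹) (u⁻¹ * u⁻¹) *
        (p (w⁻¹⁻¹ * w⁻¹⁻¹) (w⁻¹⁻¹ * w⁻¹⁻¹) * p (w⁻¹ * w⁻¹) (w⁻¹⁻¹ * w⁻¹⁻¹)) := by
      funext j
      simp only [p, Pi.mul_apply]
      fin_cases j
      · simp [← hu, mul_assoc]
      · have hcu : u⁻¹ * (w * w) = (w * w) * u⁻¹ :=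
          comm_of_det_one (inv_mem (hD (hgi 0))) (hinv _ h0) (mul_mem (hD hw) (hD hw))
            (by rw [Units.val_mul, Matrix.det_mul, hwd, one_mul])
        simp only [← hv]
        simp [hv2]
        rw [← hv, hv2]
        calc u⁻¹ * (w * w) * (u⁻¹ * (w * w)) = u⁻¹ * ((w * w) * u⁻¹) * (w * w) := by group
          _ = u⁻¹ * (u⁻¹ * (w * w)) * (w * w) := by rw [← hcu]
          _ = _ := by group
    rw [e]
    simpa [map_mul] using h
  · have h1 : (g 1 : Matrix (Fin 2) (Fin 2) F).det = -1 := by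
      rw [h0] at hdet
      linear_combination -hdet
    have e : g * g = 1 := funext fun j => by
      fin_cases j
      · exact mul_self_of_det_neg (hD (hgi 0)) h0
      · exact mul_self_of_det_neg (hD (hgi 1)) h1
    rw [e, map_one]
    exact one_mem _

/-- All squares of `K` lie in its derived subgroup. -/
theorem sqComm_K (hsq : SqHyp (m := m) c) (G : Perm.SylowGen.Gens 2 (Fin m))
    (hbase : ∀ g : Fin m → GL (Fin 2) F, g ∈ full D → ∀ ε : Fin e → ℤˣ,
      ((SemidirectProduct.inl g, ε) : Amb F m e) ∈ Nsub c →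
      ((SemidirectProduct.inl (g * g), 1) : Amb F m e) ∈
        ⁅Ksub c D (Subgroup.closure G.S), Ksub c D (Subgroup.closure G.S)⁆) :
    sqComm (Ksub c D (Subgroup.closure G.S)) = ⊤ := by
  set K := Ksub c D (Subgroup.closure G.S) with hK
  refine sqComm_eq_top_of fun x hx => ?_
  have hσK : ∀ σ ∈ Subgroup.closure G.S, ((SemidirectProduct.inr σ, 1) : Amb F m e) ∈ K := fun σ hσ =>
    ⟨Subgroup.mem_prod.2 ⟨⟨by simp [one_mem], by simpa using hσ⟩, Subgroup.mem_top _⟩, inr_mem hsq σ⟩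
  have hW : ((SemidirectProduct.inr x.1.right, 1) : Amb F m e) ∈ sqIn K := by
    set M := (sqIn K).comap
      (MonoidHom.prod SemidirectProduct.inr 1 : Equiv.Perm (Fin m) →* Amb F m e)
    suffices h : Subgroup.closure G.S ≤ M from h (Subgroup.mem_prod.1 hx.1).1.2
    refine (Subgroup.closure_le _).2 fun t ht => mem_sqIn_of_mul_self
      (hσK t (Subgroup.subset_closure ht)) ?_
    rw [← map_mul, ← sq, G.pow t ht, map_one]
  have hdec : x = ((SemidirectProduct.inl x.1.left, x.2) : Amb F m e) *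
      ((SemidirectProduct.inr x.1.right, 1) : Amb F m e) :=
    Prod.ext (SemidirectProduct.inl_left_mul_inr_right x.1).symm (mul_one _).symm
  have hleft : ((SemidirectProduct.inl x.1.left, x.2) : Amb F m e) ∈ K := by
    have h := mul_mem hx (inv_mem (hσK _ (Subgroup.mem_prod.1 hx.1).1.2))
    convert h using 1
    rw [eq_mul_inv_iff_mul_eq]
    exact hdec.symm
  rw [hdec]
  refine mul_mem (mem_sqIn_of_comm hleft ?_) hW
  have e2 : ((SemidirectProduct.inl x.1.left, x.2) : Amb F m e) ^ 2 =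
      ((SemidirectProduct.inl (x.1.left * x.1.left), 1) : Amb F m e) := by
    rw [pow_two]
    refine Prod.ext (map_mul _ _ _).symm ?_
    exact funext fun i => Int.units_mul_self _
  rw [e2]
  exact hbase _ (Subgroup.mem_prod.1 hx.1).1.1 _ hleft.2

end Core

end CfsgLib.Classical.OrthTwoSylow
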