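import Cfsg.Agent.Lib.Classical.OrthTwoSylow
import Cfsg.Agent.Lib.Classical.OrthPOmega
import Cfsg.Agent.Lib.Classical.LinearTwoSylow
import Cfsg.Agent.Lib.KnownC.GraphForms.Classify

/-!
# The squares in a Sylow 2-subgroup of `Ω` in odd characteristic
-/

set_option autoImplicit false
set_option linter.unusedSectionVars false

namespace CfsgLib.Classical.OrthTwoSylow

open Matrix CfsgLib.Classical CfsgLib.Classical.OrthPlane CfsgLib.Classical.WreathGL
  CfsgLib.KnownC.GraphForms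
open CfsgLib.Orth (toOrth orthGroup good_of_two_ne)
open scoped commutatorElement

variable {F : Type*} [Field F] [Fintype F]

/-- A homomorphic bijection carries the commutator subgroup onto the commutator subgroup. -/
theorem map_commutator_equiv {G H : Type*} [Group G] [Group H] (f : G ≃* H) :
    (commutator G).map f.toMonoidHom = commutator H := by
  rw [commutator_def, Subgroup.map_commutator, Subgroup.map_top_of_surjective _ f.surjective,
    commutator_def]

/-- The statement about Sylow 2-subgroups passes along isomorphisms. -/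
theorem sylow_sq_transfer {G H : Type*} [Group G] [Finite G] [Group H] [Finite H] (f : G ≃* H)
    (hG : ∀ (P : Sylow 2 G) (x : (P : Subgroup G)), x ^ 2 ∈ commutator (P : Subgroup G))
    (P : Sylow 2 H) (x : (P : Subgroup H)) : x ^ 2 ∈ commutator (P : Subgroup H) := by
  obtain ⟨P₀⟩ := (inferInstance : Nonempty (Sylow 2 G))
  refine sq_mem_sylow f.toMonoidHom f.injective (P₀ : Subgroup G) ?_ ?_ P x
  · rw [Sylow.card_eq_multiplicity, Nat.card_congr f.toEquiv]
  · exact eq_top_iff.2 fun y _ => mem_sqComm.2 (hG P₀ y)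

/-- A Sylow subgroup meets a normal subgroup in a Sylow subgroup, and covers the 2-part of the quotient. -/
theorem sylow_inf {G : Type*} [Group G] [Finite G] (S N : Subgroup G) [N.Normal]
    (hS : Nat.card S = 2 ^ (Nat.card G).factorization 2) :
    Nat.card ↥(S ⊓ N) = 2 ^ (Nat.card N).factorization 2 ∧
      N.relIndex S = 2 ^ N.index.factorization 2 := by
  have h1 : N.relIndex S * Nat.card ↥(S ⊓ N) = Nat.card S := by
    rw [← Subgroup.inf_relIndex_right, inf_comm N S, mul_comm]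
    rw [← Subgroup.relIndex_bot_left (S ⊓ N), ← Subgroup.relIndex_bot_left S]
    exact Subgroup.relIndex_mul_relIndex ⊥ (S ⊓ N) S bot_le inf_le_left
  have h2 : N.relIndex S ∣ N.index := Subgroup.relIndex_dvd_index_of_normal N S
  have h3 : Nat.card ↥(S ⊓ N) ∣ Nat.card N := Subgroup.card_dvd_of_le inf_le_right
  rw [hS] at h1
  obtain ⟨i, -, hi⟩ := (Nat.dvd_prime_pow Nat.prime_two).1 (h1 ▸ Dvd.intro_left _ rfl :
    Nat.card ↥(S ⊓ N) ∣ 2 ^ (Nat.card G).factorization 2)
  obtain ⟨j, -, hj⟩ := (Nat.dvd_prime_pow Nat.prime_two).1 (h1 ▸ Dvd.intro _ rfl :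
    N.relIndex S ∣ 2 ^ (Nat.card G).factorization 2)
  rw [hi, hj, ← pow_add] at h1
  have hij := Nat.pow_right_injective le_rfl h1
  have hij' := (Nat.Prime.pow_dvd_iff_le_factorization Nat.prime_two Nat.card_pos.ne').1 (hi ▸ h3)
  have hj' := (Nat.Prime.pow_dvd_iff_le_factorization Nat.prime_two Subgroup.index_ne_zero_of_finite).1
    (hj ▸ h2)
  have hsum : (Nat.card G).factorization 2 =
      (Nat.card N).factorization 2 + N.index.factorization 2 := by
    rw [← Subgroup.card_mul_index N, Nat.factorization_mul Nat.card_pos.ne'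
      Subgroup.index_ne_zero_of_finite, Finsupp.add_apply]
  rw [hi, hj]
  exact ⟨congrArg _ (by omega), congrArg _ (by omega)⟩

variable {ι : Type} [Fintype ι] [DecidableEq ι] {Qf : (ι → F) → F}

theorem dot_congr (M : Matrix ι ι F) (g : Matrix ι ι F) (u v : ι → F) :
    (g *ᵥ u) ⬝ᵥ (M *ᵥ (g *ᵥ v)) = u ⬝ᵥ ((gᵀ * M * g) *ᵥ v) :=
  CfsgLib.KnownC.GraphForms.dot_mul M g u v

theorem isometryGroup_eq (h2 : (2 : F) ≠ 0) {M : Matrix ι ι F} (hM : Mᵀ = M)
    (hQM : ∀ v, 2 * Qf v = v ⬝ᵥ (M *ᵥ v)) : Cfsg.isometryGroup F Qf = OGrp M := by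
  ext g
  constructor
  · intro hg
    have hsym : ∀ (N : Matrix ι ι F), Nᵀ = N → ∀ u v, v ⬝ᵥ (N *ᵥ u) = u ⬝ᵥ (N *ᵥ v) := fun N hN u v => by
      rw [Matrix.dotProduct_mulVec, ← Matrix.mulVec_transpose, hN, dotProduct_comm]
    have hN : ((g : Matrix ι ι F)ᵀ * M * (g : Matrix ι ι F))ᵀ =
        (g : Matrix ι ι F)ᵀ * M * (g : Matrix ι ι F) := by
      rw [Matrix.transpose_mul, Matrix.transpose_mul, Matrix.transpose_transpose, hM, Matrix.mul_assoc]
    have e : ∀ w, w ⬝ᵥ (((g : Matrix ι ι F)ᵀ * M * (g : Matrix ι ι F)) *ᵥ w) = w ⬝ᵥ (M *ᵥ w) := fun w => by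
      rw [← dot_congr, ← hQM, ← hQM]
      exact congrArg _ (hg w w)
    refine mem_OGrp.2 (ext_dot fun u v => ?_)
    have h := e (u + v)
    simp only [Matrix.mulVec_add, dotProduct_add, add_dotProduct, e u, e v, hsym _ hN u v, hsym M hM u v] at h
    exact mul_left_cancel₀ h2 (by linear_combination h)
  · intro hg u _
    show Qf ((g : Matrix ι ι F) *ᵥ u) = Qf u
    exact mul_left_cancel₀ h2 (by rw [hQM, hQM, dot_congr, mem_OGrp.1 hg])

/-- Equal discriminants give isomorphic orthogonal groups. -/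
theorem ogrp_equiv (h2 : (2 : F) ≠ 0) {κ : Type} [Fintype κ] [DecidableEq κ] {M' : Matrix κ κ F}
    (hM' : M'ᵀ = M') (hu' : M'.det ≠ 0) (Q : QuadraticForm F (ι → F)) (hQf : ∀ v, Qf v = Q v)
    {M : Matrix ι ι F} (hM : Mᵀ = M) (hu : M.det ≠ 0) (hQM : ∀ v, 2 * Qf v = v ⬝ᵥ (M *ᵥ v))
    (hc : Fintype.card κ = Fintype.card ι) (hd : IsSquare (M'.det * M.det)) :
    ∃ _ : ↥(OGrp M') ≃* ↥(Cfsg.isometryGroup F Qf), Nonempty (↥(OGrp M') ≃* orthGroup Q) := by
  obtain ⟨P, R, h1, h1', h3⟩ := congr_of_isSquare h2 hM' hM hc hu' hu hd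
  let f := glEquiv P R h1 h1'
  have hmap : (OGrp M').map f.toMonoidHom = Cfsg.isometryGroup F Qf := by
    rw [isometryGroup_eq h2 hM hQM]
    ext g
    rw [Subgroup.mem_map_equiv]
    show ((f.symm g : GL κ F) : Matrix κ κ F)ᵀ * M' * _ = M' ↔ _
    have hv : ((f.symm g : GL κ F) : Matrix κ κ F) = P * (g : Matrix ι ι F) * R := rfl
    rw [hv, mem_OGrp]
    have e1 : (P * (g : Matrix ι ι F) * R)ᵀ * M' * (P * (g : Matrix ι ι F) * R) =
        Rᵀ * ((g : Matrix ι ι F)ᵀ * M * (g : Matrix ι ι F)) * R := by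
      rw [← h3]; simp only [Matrix.transpose_mul, Matrix.mul_assoc]
    have e2 : M' = Rᵀ * M * R := by
      rw [← h3]
      calc M' = (P * R)ᵀ * M' * (P * R) := by rw [h1]; simp
        _ = _ := by simp only [Matrix.transpose_mul, Matrix.mul_assoc]
    rw [e1]
    constructor
    · intro h
      have h' : Rᵀ * ((g : Matrix ι ι F)ᵀ * M * (g : Matrix ι ι F)) * R = Rᵀ * M * R := h.trans e2
      have h'' := congrArg (fun X => Pᵀ * X * P) h'
      calc (g : Matrix ι ι F)ᵀ * M * (g : Matrix ι ι F)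
          = (R * P)ᵀ * ((g : Matrix ι ι F)ᵀ * M * (g : Matrix ι ι F)) * (R * P) := by rw [h1']; simp
        _ = Pᵀ * (Rᵀ * ((g : Matrix ι ι F)ᵀ * M * (g : Matrix ι ι F)) * R) * P := by
          simp only [Matrix.transpose_mul, Matrix.mul_assoc]
        _ = Pᵀ * (Rᵀ * M * R) * P := h''
        _ = (R * P)ᵀ * M * (R * P) := by simp only [Matrix.transpose_mul, Matrix.mul_assoc]
        _ = M := by rw [h1']; simp
    · intro h; rw [h]; exact e2.symm
  refine ⟨(f.subgroupMap (OGrp M')).trans (MulEquiv.subgroupCongr hmap),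
    ⟨((f.subgroupMap (OGrp M')).trans (MulEquiv.subgroupCongr hmap)).trans (toOrth Q hQf)⟩⟩

/-- The general statement: `m` planes `x² + y²` and a diagonal form of dimension `e`. -/
theorem omega_sylow_sq (h2 : (2 : F) ≠ 0) (Q : QuadraticForm F (ι → F)) (hQf : ∀ v, Qf v = Q v)
    (hQ : (QuadraticMap.polarBilin Q).Nondegenerate)
    {M : Matrix ι ι F} (hM : Mᵀ = M) (hu : M.det ≠ 0) (hQM : ∀ v, 2 * Qf v = v ⬝ᵥ (M *ᵥ v))
    {m e : ℕ} (c : Fin e → F) (hcard : Fintype.card ι = 2 * m + e)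
    (hd : IsSquare ((∏ i, c i) * M.det)) (hc0 : (∏ i, c i) ≠ 0)
    (hm : 3 ≤ m ∨ (m = 2 ∧ e = 0))
    (hval : (Nat.card (orthGroup Q)).factorization 2 =
      m * (Nat.card (O2 F)).factorization 2 + padicValNat 2 m.factorial + e)
    (P : Sylow 2 (Cfsg.Omega F Qf)) (x : (P : Subgroup (Cfsg.Omega F Qf))) :
    x ^ 2 ∈ commutator (P : Subgroup (Cfsg.Omega F Qf)) := by
  classical
  set M' := M₀ m c with hM'
  obtain ⟨eI, ⟨eQ⟩⟩ := ogrp_equiv h2 (M₀_transpose m c) (by rw [M₀_det]; exact hc0) Q hQf hM hu hQM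
    (by simp [hcard, mul_comm]) (by rwa [M₀_det])
  have hn : 2 ≤ Module.finrank F (ι → F) := by
    rw [Module.finrank_fintype_fun_eq_card, hcard]; omega
  obtain ⟨Φ, hΦs, hΦk, -⟩ := exists_invariants hQ h2 hn
  have hsq0 : ∀ y : OGrp M', y * y ∈ commutator (OGrp M') := fun y => by
    have h : eQ (y * y) ∈ commutator (orthGroup Q) := by
      rw [← hΦk, MonoidHom.mem_ker, map_mul, map_mul]
      exact Prod.ext (Int.units_mul_self _) (Int.units_mul_self _)
    rw [← map_commutator_equiv eQ, Subgroup.mem_map_equiv, eQ.symm_apply_apply] at h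
    exact h
  have hidx : (commutator (OGrp M')).index = 4 := by
    rw [← Subgroup.index_map_equiv (commutator (OGrp M')) eQ]
    exact (congrArg Subgroup.index (map_commutator_equiv eQ)).trans (index_commutator_odd hQ h2 hn)
  have hsq : SqHyp (m := m) c := fun y hy => by
    rw [← Subgroup.map_subtype_commutator]
    exact ⟨⟨y, hy⟩ * ⟨y, hy⟩, hsq0 _, rfl⟩
  obtain ⟨D, hD, hDc, hs, hD2⟩ := exists_sylow (F := F) h2
  obtain ⟨G⟩ := CfsgLib.Perm.SylowGen.exists_gens (p := 2) m
  set W := Subgroup.closure G.S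
  set K₀ : Subgroup (Amb F m e) :=
    (sub (full (n := m) D) W fun σ _ _ hg => act_mem_full D σ hg).prod ⊤ with hK₀
  have hle : K₀ ≤ orth F m e := fun y hy => Subgroup.mem_prod.2
    ⟨⟨(Subgroup.mem_pi Set.univ).2 fun i _ => hD ((Subgroup.mem_pi Set.univ).1 (Subgroup.mem_prod.1 hy).1.1 i trivial),
      Subgroup.mem_top _⟩, Subgroup.mem_top _⟩
  let f : K₀ →* OGrp M' := ((toG (F := F)).comp K₀.subtype).codRestrict (OGrp M') fun y => toG_mem (hle y.2) c
  have hf : Function.Injective f := fun a b h => Subtype.ext (toG_injective h2 (congrArg Subtype.val h))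
  have hK₀c : Nat.card K₀ = 2 ^ (Nat.card (OGrp M')).factorization 2 := by
    rw [Nat.card_congr eQ.toEquiv, hval, hK₀, Nat.card_congr (Subgroup.prodEquiv _ _).toEquiv,
      Nat.card_prod, Subgroup.card_top, card_sub, card_full, hDc, G.card, Fintype.card_fin, Nat.card_fun,
      Nat.card_fin, show Nat.card ℤˣ = 2 by simp [Nat.card_eq_fintype_card], ← pow_mul, pow_add, pow_add,
      mul_comm m]
  have hrange : Nat.card f.range = 2 ^ (Nat.card (OGrp M')).factorization 2 := by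
    rw [← Nat.card_congr (MonoidHom.ofInjective hf).toEquiv, hK₀c]
  obtain ⟨hinter, hrel⟩ := sylow_inf f.range (commutator (OGrp M')) hrange
  set K := Ksub c D W with hK
  have hKmem : ∀ y : K₀, (y : Amb F m e) ∈ Nsub c ↔ f y ∈ commutator (OGrp M') := fun y => by
    rw [Nsub, Subgroup.mem_comap, ← Subgroup.map_subtype_commutator]
    exact ⟨fun ⟨z, hz, e⟩ => (Subtype.ext e : z = f y) ▸ hz, fun h => ⟨f y, h, rfl⟩⟩
  have hbase : ∀ g : Fin m → GL (Fin 2) F, g ∈ full D → ∀ ε : Fin e → ℤˣ,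
      ((SemidirectProduct.inl g, ε) : Amb F m e) ∈ Nsub c →
      ((SemidirectProduct.inl (g * g), 1) : Amb F m e) ∈ ⁅K, K⁆ := by
    rcases hm with hm | ⟨rfl, he⟩
    · exact fun g hg ε _ => base_sq_three hsq hm hD hs hg
    · refine fun g hg ε hN => base_sq_two he hsq h2 hD hs hD2 ?_ hg hN
      by_contra hc
      push Not at hc
      subst he
      have hbK : ∀ d ∈ D, (b 0 d : Amb F 2 0) ∈ K₀ := fun d hd =>
        Subgroup.mem_prod.2 ⟨⟨by simpa [b_apply] using single_mem (0 : Fin 2) hd, by simp [b_apply, one_mem]⟩,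
          Subgroup.mem_top _⟩
      have hcov : ∀ y : K₀, (y : Amb F 2 0) ∈ Nsub c ∨
          (b 0 (sRefl F) : Amb F 2 0) * y ∈ Nsub c := by
        rintro ⟨y, hy⟩
        have hyD : ∀ i, y.1.left i ∈ D := fun i =>
          (Subgroup.mem_pi Set.univ).1 (Subgroup.mem_prod.1 hy).1.1 i trivial
        set u := y.1.left 0 with hu
        set v := y.1.left 1 with hv
        have hy' : y = b 0 (u * v) *
            ((b 1 v * b 0 v⁻¹) * ((SemidirectProduct.inr y.1.right, 1) : Amb F 2 0)) := by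
          refine Prod.ext ?_ (Subsingleton.elim _ _)
          show y.1 = SemidirectProduct.inl (Pi.mulSingle 0 (u * v) : Fin 2 → GL (Fin 2) F) *
            ((SemidirectProduct.inl (Pi.mulSingle 1 v : Fin 2 → GL (Fin 2) F) *
              SemidirectProduct.inl (Pi.mulSingle 0 v⁻¹ : Fin 2 → GL (Fin 2) F)) *
              SemidirectProduct.inr y.1.right)
          rw [← map_mul, ← mul_assoc, ← map_mul]
          conv_lhs => rw [← SemidirectProduct.inl_left_mul_inr_right y.1]
          congr 2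
          funext j
          fin_cases j <;> simp [hu, hv]
        have hrest : (b 1 v * b 0 v⁻¹) * ((SemidirectProduct.inr y.1.right, 1) : Amb F 2 0) ∈ Nsub c :=
          mul_mem (b_mul_b_inv hsq 1 0 (hD (hyD 1))) (inr_mem hsq _)
        show y ∈ Nsub c ∨ b 0 (sRefl F) * y ∈ Nsub c
        have huvD : u * v ∈ D := mul_mem (hyD 0) (hyD 1)
        rcases det_cases (hD huvD) with h | h
        · exact Or.inl (hy' ▸ mul_mem (hc _ huvD h) hrest)
        · refine Or.inr ?_
          rw [hy', ← mul_assoc, ← map_mul]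
          exact mul_mem (hc _ (mul_mem hs huvD)
            (by rw [Units.val_mul, Matrix.det_mul, sRefl_det, h]; ring)) hrest
      have hle2 : (commutator (OGrp M')).relIndex f.range ≤ 2 := by
        set N := (commutator (OGrp M')).subgroupOf f.range
        let s0 : K₀ := ⟨b 0 (sRefl F), hbK _ hs⟩
        let t : Fin 2 → f.range ⧸ N :=
          ![1, QuotientGroup.mk (⟨f s0, ⟨s0, rfl⟩⟩ : f.range)⁻¹]
        have ht : Function.Surjective t := by
          intro q
          obtain ⟨⟨_, y, rfl⟩, rfl⟩ := QuotientGroup.mk_surjective q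
          rcases hcov y with h | h
          · refine ⟨0, (QuotientGroup.eq (s := N)).2 ?_⟩
            simpa [t, N, Subgroup.mem_subgroupOf] using (hKmem y).1 h
          · refine ⟨1, (QuotientGroup.eq (s := N)).2 ?_⟩
            simp only [N, Subgroup.mem_subgroupOf, Subgroup.coe_mul, Subgroup.coe_inv, inv_inv]
            rw [← map_mul]
            exact (hKmem (s0 * y)).1 h
        simpa [Subgroup.relIndex, Subgroup.index] using Nat.card_le_card_of_surjective t ht
      rw [hrel, hidx, show (4 : ℕ).factorization 2 = 2 by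
        rw [show (4 : ℕ) = 2 ^ 2 by norm_num, Nat.Prime.factorization_pow Nat.prime_two]; simp] at hle2
      omega
  have hsqK : sqComm K = ⊤ := sqComm_K hsq G hbase
  let ψ : K →* ↥(commutator (OGrp M')) :=
    ((f.comp (Subgroup.inclusion (show K ≤ K₀ from inf_le_left))).codRestrict (commutator (OGrp M'))
      fun y => (hKmem ⟨y, (inf_le_left : K ≤ K₀) y.2⟩).1 y.2.2)
  have hψ : Function.Injective ψ := fun a b h =>
    Subgroup.inclusion_injective _ (hf (congrArg Subtype.val h))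
  have hKc : Nat.card K = 2 ^ (Nat.card ↥(commutator (OGrp M'))).factorization 2 := by
    rw [← hinter, ← Subgroup.map_comap_eq, Subgroup.card_map_of_injective hf]
    exact Nat.card_congr
      { toFun := fun y => ⟨⟨y, y.2.1⟩, (hKmem ⟨y, y.2.1⟩).1 y.2.2⟩
        invFun := fun y => ⟨y.1, y.1.2, (hKmem y.1).2 y.2⟩
        left_inv := fun _ => rfl
        right_inv := fun _ => rfl }
  exact sylow_sq_transfer ((eI.subgroupMap (commutator (OGrp M'))).trans
      (MulEquiv.subgroupCongr (map_commutator_equiv eI)))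
    (fun P x => LinearTwoSylow.sq_mem_of_hom ψ hψ hKc hsqK P x) P x

section Orders

theorem two_ne (hF : Odd (Fintype.card F)) : (2 : F) ≠ 0 := fun h => by
  have : CharP F 2 := CharP.charP_iff_prime_eq_zero Nat.prime_two |>.2 (by exact_mod_cast h)
  obtain ⟨n, hp, hn⟩ := FiniteField.card F 2
  rw [hn] at hF
  exact absurd (Nat.even_pow.2 ⟨even_two, n.pos.ne'⟩) (Nat.not_even_iff_odd.2 hF)

theorem odd_dot (m : ℕ) (v : Unit ⊕ (Fin m ⊕ Fin m) → F) :
    2 * Cfsg.quadFormOdd m F v = v ⬝ᵥ (Modd m F *ᵥ v) := by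
  have e : v ⬝ᵥ (Modd m F *ᵥ v) = (v ∘ Sum.inl) ⬝ᵥ (((2 : F) • (1 : Matrix Unit Unit F)) *ᵥ (v ∘ Sum.inl)) +
      (v ∘ Sum.inr) ⬝ᵥ (Mplus m F *ᵥ (v ∘ Sum.inr)) := by
    rw [Modd, Matrix.fromBlocks_mulVec, Matrix.zero_mulVec, Matrix.zero_mulVec, add_zero, zero_add]
    simp [dotProduct, Fintype.sum_sum_type]
  rw [e, dot_sum, Cfsg.quadFormOdd, mul_add, Finset.mul_sum]
  simp only [Function.comp_apply]
  congr 1
  · simp [dotProduct, Matrix.smul_mulVec]; ring
  · exact Finset.sum_congr rfl fun i _ => by ring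

theorem plus_dot (m : ℕ) (v : Fin m ⊕ Fin m → F) :
    2 * Cfsg.quadFormPlus m F v = v ⬝ᵥ (Mplus m F *ᵥ v) := by
  rw [dot_sum, Cfsg.quadFormPlus, Finset.mul_sum]
  exact Finset.sum_congr rfl fun i _ => by ring

theorem minus_dot (m : ℕ) (a b : F) (v : (Fin m ⊕ Fin m) ⊕ Fin 2 → F) :
    2 * Cfsg.quadFormMinus m F a b v = v ⬝ᵥ (Mminus m F a b *ᵥ v) := by
  have e : v ⬝ᵥ (Mminus m F a b *ᵥ v) = (v ∘ Sum.inl) ⬝ᵥ (Mplus m F *ᵥ (v ∘ Sum.inl)) +
      (v ∘ Sum.inr) ⬝ᵥ (!![2, a; a, 2 * b] *ᵥ (v ∘ Sum.inr)) := by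
    rw [Mminus, Matrix.fromBlocks_mulVec, Matrix.zero_mulVec, Matrix.zero_mulVec, add_zero, zero_add]
    simp [dotProduct, Fintype.sum_sum_type]
  rw [e, dot_sum, Cfsg.quadFormMinus, mul_add, Finset.mul_sum]
  simp only [Function.comp_apply]
  congr 1
  · exact Finset.sum_congr rfl fun i _ => by ring
  · simp [dotProduct, Matrix.mulVec, Fin.sum_univ_two]
    ring

theorem val_prod (hF : Odd (Fintype.card F)) (k : ℕ) :
    (∏ i ∈ Finset.range k, (Fintype.card F ^ (2 * (i + 1)) - 1)).factorization 2 =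
      k * padicValNat 2 (Fintype.card F ^ 2 - 1) + padicValNat 2 k.factorial := by
  obtain ⟨hq1, hq⟩ := LinearTwoSylow.q_facts hF
  rw [Nat.factorization_prod_apply fun i _ => Nat.sub_ne_zero_of_lt (Nat.one_lt_pow (by omega) hq1),
    Finset.sum_congr rfl fun i _ => (Nat.factorization_def _ Nat.prime_two).trans
      (LinearTwoSylow.val_even_pow hq1 hq (Nat.succ_ne_zero i)),
    Finset.sum_add_distrib, Finset.sum_const, Finset.card_range, smul_eq_mul, LinearTwoSylow.sum_val_succ]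

theorem prod_ne_zero (k : ℕ) : ∏ i ∈ Finset.range k, (Fintype.card F ^ (2 * (i + 1)) - 1) ≠ 0 :=
  Finset.prod_ne_zero_iff.2 fun i _ =>
    Nat.sub_ne_zero_of_lt (Nat.one_lt_pow (by omega) Fintype.one_lt_card)

theorem val_orth {A k j : ℕ} (hF : Odd (Fintype.card F)) (hA : A ≠ 0) :
    (2 * Fintype.card F ^ j * A * ∏ i ∈ Finset.range k, (Fintype.card F ^ (2 * (i + 1)) - 1)).factorization 2 =
      1 + padicValNat 2 A + (k * padicValNat 2 (Fintype.card F ^ 2 - 1) + padicValNat 2 k.factorial) := by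
  have hq : Fintype.card F ^ j ≠ 0 := pow_ne_zero _ Fintype.card_ne_zero
  rw [Nat.factorization_mul (by simp [hA, hq]) (prod_ne_zero k), Finsupp.add_apply,
    Nat.factorization_mul (by simp [hq]) hA, Finsupp.add_apply, Nat.factorization_mul two_ne_zero hq,
    Finsupp.add_apply, Nat.factorization_def _ Nat.prime_two, Nat.factorization_def _ Nat.prime_two,
    Nat.factorization_def _ Nat.prime_two, padicValNat.self one_lt_two, LinearTwoSylow.val_pow_card hF,
    val_prod hF, add_zero]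

theorem val_succ_pred {n : ℕ} (hn : 1 < n) :
    padicValNat 2 (n ^ 2 - 1) = padicValNat 2 (n + 1) + padicValNat 2 (n - 1) := by
  rw [← padicValNat.mul (by omega) (by omega), ← Nat.sq_sub_sq, one_pow]

theorem val_one_mod_four {n : ℕ} (h : n % 4 = 1) : padicValNat 2 (n + 1) = 1 := by
  obtain ⟨c, hc⟩ : ∃ c, n + 1 = 2 * (2 * c + 1) := ⟨n / 4, by omega⟩
  rw [hc, padicValNat.mul two_ne_zero (by omega), padicValNat.self one_lt_two,
    padicValNat.eq_zero_of_not_dvd (by omega)]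

theorem val_three_mod_four {n : ℕ} (h : n % 4 = 3) : padicValNat 2 (n - 1) = 1 := by
  obtain ⟨c, hc⟩ : ∃ c, n - 1 = 2 * (2 * c + 1) := ⟨n / 4, by omega⟩
  rw [hc, padicValNat.mul two_ne_zero (by omega), padicValNat.self one_lt_two,
    padicValNat.eq_zero_of_not_dvd (by omega)]

theorem mod_four (hF : Odd (Fintype.card F)) (k : ℕ) :
    Fintype.card F ^ k % 4 = 1 ∨ Fintype.card F ^ k % 4 = 3 := by
  have := Nat.odd_iff.1 (hF.pow (n := k))
  omega

theorem val_step (hF : Odd (Fintype.card F)) (k : ℕ) :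
    padicValNat 2 (Fintype.card F ^ (k + 1) + 1) + padicValNat 2 (Fintype.card F ^ (k + 1) - 1) +
      (k * padicValNat 2 (Fintype.card F ^ 2 - 1) + padicValNat 2 k.factorial) =
      (k + 1) * padicValNat 2 (Fintype.card F ^ 2 - 1) + padicValNat 2 (k + 1).factorial := by
  obtain ⟨hq1, hq⟩ := LinearTwoSylow.q_facts hF
  have h := LinearTwoSylow.val_even_pow hq1 hq (Nat.succ_ne_zero k)
  rw [← val_succ_pred (Nat.one_lt_pow (Nat.succ_ne_zero k) hq1), ← pow_mul, mul_comm, h, Nat.factorial_succ,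
    padicValNat.mul (Nat.succ_ne_zero k) (Nat.factorial_ne_zero k), add_mul, one_mul]
  ring

theorem card_O2_val (hF : Odd (Fintype.card F)) :
    (Nat.card (O2 F)).factorization 2 = padicValNat 2 (Fintype.card F ^ 2 - 1) := by
  have h2 := two_ne hF
  have hq1 := (LinearTwoSylow.q_facts hF).1
  rcases mod_four hF 1 with h | h
  · obtain ⟨s, hs⟩ := (isSquare_neg_one_pow hF 1).2 h
    obtain ⟨t, ht⟩ := (Mplus_det (K := F) h2 1).2
    obtain ⟨-, ⟨e⟩⟩ := ogrp_equiv (ι := Fin 1 ⊕ Fin 1) h2 (M' := (1 : Matrix (Fin 2) (Fin 2) F))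
      Matrix.transpose_one (by simp) (CfsgLib.Orth.plusForm F 1) (CfsgLib.Orth.plusForm_apply (F := F) 1)
      (Mplus_transpose 1) (Mplus_det h2 1).1 (plus_dot 1) (by simp) ⟨t * s, by
        rw [Matrix.det_one, one_mul, show t * s * (t * s) = (t * t) * (s * s) by ring, ← ht, ← hs]
        ring⟩
    rw [Nat.card_congr e.toEquiv, card_orth_plus rfl 0, val_orth hF (by
      simp; omega)]
    simp only [zero_add, pow_one, zero_mul, Nat.factorial_zero, padicValNat.one, add_zero] at h ⊢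
    rw [val_succ_pred hq1, val_one_mod_four h]
  · have hab : ∀ z₁ z₂ : F, z₁ ^ 2 + 0 * z₁ * z₂ + 1 * z₂ ^ 2 = 0 → z₁ = 0 ∧ z₂ = 0 := by
      intro z₁ z₂ hz
      by_cases hz2 : z₂ = 0
      · subst hz2; exact ⟨pow_eq_zero_iff two_ne_zero |>.1 (by simpa using hz), rfl⟩
      · have := (isSquare_neg_one_pow hF 1).1 ⟨z₁ / z₂, by field_simp; linear_combination -hz⟩
        omega
    have hdet : (Mminus 0 F 0 1).det = 2 * 2 := by
      simp [Mminus, Matrix.det_fromBlocks_zero₁₂, Matrix.det_fin_two_of]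
    obtain ⟨-, ⟨e⟩⟩ := ogrp_equiv (ι := (Fin 0 ⊕ Fin 0) ⊕ Fin 2) h2
      (M' := (1 : Matrix (Fin 2) (Fin 2) F))
      Matrix.transpose_one (by simp) (CfsgLib.Orth.minusForm F 0 0 1)
      (CfsgLib.Orth.minusForm_apply (F := F) 0 0 1)
      (Mminus_transpose 0 0 1) (Mminus_det h2 0 hab).1 (minus_dot 0 0 1) (by simp) ⟨2, by
        rw [Matrix.det_one, one_mul, hdet]⟩
    rw [Nat.card_congr e.toEquiv, card_orth_minus rfl 0 1 hab 0, val_orth hF (by simp)]
    simp only [zero_add, pow_one, zero_mul, Nat.factorial_zero, padicValNat.one, add_zero] at h ⊢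
    rw [val_succ_pred hq1, val_three_mod_four h]
    ring

end Orders

/-- `Ω(2m+1, q)`, `q` odd. -/
theorem odd_sylow_sq (hF : Odd (Fintype.card F)) (m : ℕ) (hm : 3 ≤ m)
    (P : Sylow 2 (Cfsg.Omega F (Cfsg.quadFormOdd m F)))
    (x : (P : Subgroup (Cfsg.Omega F (Cfsg.quadFormOdd m F)))) :
    x ^ 2 ∈ commutator (P : Subgroup (Cfsg.Omega F (Cfsg.quadFormOdd m F))) := by
  have h2 := two_ne hF
  refine omega_sylow_sq h2 (CfsgLib.Orth.oddForm F m) (CfsgLib.Orth.oddForm_apply (F := F) m)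
    (CfsgLib.Orth.oddForm_nondeg (F := F) m h2) (Modd_transpose m) (Modd_det h2 m) (odd_dot m)
    (fun _ : Fin 1 => (Modd m F).det) ?_ ⟨(Modd m F).det, by simp⟩ (by simpa using Modd_det h2 m)
    (Or.inl hm) ?_ P x
  · simp; ring
  · rw [card_orth_odd rfl h2 m, show ∀ a b c : ℕ, a * b * c = a * b * 1 * c by simp,
      val_orth hF one_ne_zero, padicValNat.one, card_O2_val hF]
    ring

/-- `Ω⁺(2m, q)`, `q` odd. -/
theorem plus_sylow_sq (hF : Odd (Fintype.card F)) (m : ℕ) (hm : 1 ≤ m) (hm' : Even m ∨ 4 ≤ m)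
    (P : Sylow 2 (Cfsg.Omega F (Cfsg.quadFormPlus m F)))
    (x : (P : Subgroup (Cfsg.Omega F (Cfsg.quadFormPlus m F)))) :
    x ^ 2 ∈ commutator (P : Subgroup (Cfsg.Omega F (Cfsg.quadFormPlus m F))) := by
  have h2 := two_ne hF
  obtain ⟨k, rfl⟩ := Nat.exists_eq_add_of_le' hm
  have hq1 := (LinearTwoSylow.q_facts hF).1
  have hA : Fintype.card F ^ (k + 1) - 1 ≠ 0 :=
    Nat.sub_ne_zero_of_lt (Nat.one_lt_pow (Nat.succ_ne_zero k) hq1)
  obtain ⟨h0, t, ht⟩ := Mplus_det (K := F) h2 (k + 1)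
  have hsteps := val_step hF k
  rcases mod_four hF (k + 1) with h | h
  · obtain ⟨s, hs⟩ := (isSquare_neg_one_pow hF (k + 1)).2 h
    have hk : 3 ≤ k + 1 ∨ (k + 1 = 2 ∧ (0 : ℕ) = 0) := by
      rcases hm' with ⟨j, hj⟩ | hj <;> omega
    refine omega_sylow_sq h2 (CfsgLib.Orth.plusForm F (k + 1)) (CfsgLib.Orth.plusForm_apply (F := F) _)
      (CfsgLib.Orth.plusForm_nondeg (F := F) _) (Mplus_transpose _) h0 (plus_dot _)
      (fun i : Fin 0 => i.elim0) ?_ ⟨t * s, ?_⟩ (by simp) hk ?_ P x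
    · simp; ring
    · rw [show t * s * (t * s) = (t * t) * (s * s) by ring, ← ht, ← hs, mul_assoc, ← mul_pow]
      simp
    · rw [card_orth_plus rfl k, val_orth hF hA, card_O2_val hF]
      rw [val_one_mod_four h] at hsteps
      omega
  · have hk : 3 ≤ k := by
      rcases hm' with ⟨j, hj⟩ | hj
      · have h' : Fintype.card F ^ (k + 1) % 4 = 1 := by
          rw [hj, ← two_mul, pow_mul, Nat.pow_mod]
          have := Nat.odd_iff.1 hF
          have h4 : Fintype.card F ^ 2 % 4 = 1 := by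
            rw [Nat.pow_mod]
            rcases (show Fintype.card F % 4 = 1 ∨ Fintype.card F % 4 = 3 by omega) with e | e <;>
              rw [e]
          rw [h4, one_pow, Nat.one_mod]
        omega
      · omega
    refine omega_sylow_sq h2 (CfsgLib.Orth.plusForm F (k + 1)) (CfsgLib.Orth.plusForm_apply (F := F) _)
      (CfsgLib.Orth.plusForm_nondeg (F := F) _) (Mplus_transpose _) h0 (plus_dot _) (m := k)
      ![1, (Mplus (k + 1) F).det] ?_ ⟨(Mplus (k + 1) F).det, by simp⟩ (by simpa using h0)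
      (Or.inl hk) ?_ P x
    · simp; ring
    · rw [card_orth_plus rfl k, val_orth hF hA, card_O2_val hF, val_three_mod_four h]
      ring

/-- `Ω⁻(2m, q)`, `q` odd. -/
theorem minus_sylow_sq (hF : Odd (Fintype.card F)) (m : ℕ) (hm : 4 ≤ m) (a b : F)
    (hab : ∀ z₁ z₂ : F, z₁ ^ 2 + a * z₁ * z₂ + b * z₂ ^ 2 = 0 → z₁ = 0 ∧ z₂ = 0)
    (P : Sylow 2 (Cfsg.Omega F (Cfsg.quadFormMinus (m - 1) F a b)))
    (x : (P : Subgroup (Cfsg.Omega F (Cfsg.quadFormMinus (m - 1) F a b)))) :
    x ^ 2 ∈ commutator (P : Subgroup (Cfsg.Omega F (Cfsg.quadFormMinus (m - 1) F a b))) := by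
  have h2 := two_ne hF
  obtain ⟨k, rfl⟩ := Nat.exists_eq_add_of_le' (show 1 ≤ m by omega)
  obtain ⟨h0, hns⟩ := Mminus_det (K := F) h2 k hab
  have hsteps := val_step hF k
  rcases mod_four hF (k + 1) with h | h
  · refine omega_sylow_sq h2 (CfsgLib.Orth.minusForm F k a b) (CfsgLib.Orth.minusForm_apply (F := F) k a b)
      (CfsgLib.Orth.minusForm_nondeg (F := F) k a b hab) (Mminus_transpose k a b) h0 (minus_dot k a b) (m := k)
      ![1, (Mminus k F a b).det] ?_ ⟨(Mminus k F a b).det, by simp⟩ (by simpa using h0)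
      (Or.inl (by omega)) ?_ P x
    · simp; ring
    · rw [card_orth_minus rfl a b hab k, val_orth hF (by simp), card_O2_val hF, val_one_mod_four h]
      ring
  · refine omega_sylow_sq h2 (CfsgLib.Orth.minusForm F k a b) (CfsgLib.Orth.minusForm_apply (F := F) k a b)
      (CfsgLib.Orth.minusForm_nondeg (F := F) k a b hab) (Mminus_transpose k a b) h0 (minus_dot k a b) (m := k + 1)
      (fun i : Fin 0 => i.elim0) ?_ ?_ (by simp) (Or.inl (by omega)) ?_ P x
    · simp; ring
    · have hns' : ¬ IsSquare ((-1 : F) ^ (k + 1)) := fun hh => by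
        have := (isSquare_neg_one_pow hF (k + 1)).1 hh
        omega
      have hm1 : ((-1 : F) ^ (k + 1)) ≠ 0 := pow_ne_zero _ (neg_ne_zero.2 one_ne_zero)
      have h2' : ringChar F ≠ 2 := fun e => h2 (by
        have := ringChar.of_eq e
        exact CharTwo.two_eq_zero)
      rw [Finset.univ_eq_empty, Finset.prod_empty, one_mul]
      by_contra hd
      have hprod : IsSquare ((Mminus k F a b).det * (-1) ^ (k + 1)) := by
        classical
        have q1 := quadraticChar_neg_one_iff_not_isSquare.2 hd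
        have q2 := quadraticChar_neg_one_iff_not_isSquare.2 hns'
        refine (quadraticChar_one_iff_isSquare (mul_ne_zero h0 hm1)).1 ?_
        rw [map_mul, q1, q2]
        norm_num
      exact hns hprod
    · rw [card_orth_minus rfl a b hab k, val_orth hF (by simp), card_O2_val hF]
      rw [val_three_mod_four h] at hsteps
      omega

end CfsgLib.Classical.OrthTwoSylow
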