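import Cfsg.Agent.Lib.Classical.ParabolicGL

/-!
# Coordinate subspaces and their stabilisers
-/

set_option autoImplicit false
set_option linter.unusedSectionVars false
set_option backward.isDefEq.respectTransparency false

open Matrix

namespace CfsgLib.Classical

variable {F : Type*} [Field F]

/-- The span of the first `k` coordinate vectors. -/
def coordSub (F : Type*) [Field F] (n k : ℕ) : Submodule F (Fin n → F) where
  carrier := {v | ∀ i : Fin n, k ≤ (i : ℕ) → v i = 0}
  add_mem' ha hb i hi := by simp [ha i hi, hb i hi]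
  zero_mem' i _ := rfl
  smul_mem' c _ hv i hi := by simp [hv i hi]

theorem coordSub_ne_bot {n k : ℕ} (h0 : 0 < k) (hn : 0 < n) : coordSub F n k ≠ ⊥ := by
  refine (Submodule.ne_bot_iff _).2 ⟨Pi.single ⟨0, hn⟩ 1, fun i hi => ?_, by simp⟩
  have : i ≠ ⟨0, hn⟩ := fun h => by simp [h] at hi; omega
  simp [this]

theorem coordSub_ne_top {n k : ℕ} (h : k < n) : coordSub F n k ≠ ⊤ := by
  intro ht
  have := (ht ▸ Submodule.mem_top : Pi.single (⟨k, h⟩ : Fin n) (1 : F) ∈ coordSub F n k) ⟨k, h⟩ le_rfl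
  simp at this

theorem mem_coordStab_iff {n k : ℕ} {g : GL (Fin n) F} :
    g ∈ Cfsg.Geo.subspaceStabilizer (coordSub F n k) ↔
      ∀ i j : Fin n, k ≤ (i : ℕ) → (j : ℕ) < k → (g : Matrix (Fin n) (Fin n) F) i j = 0 := by
  rw [mem_subspaceStabilizer_iff]
  constructor
  · intro h i j hi hj
    have hm : Pi.single j (1 : F) ∈ coordSub F n k := fun l hl => by
      have : l ≠ j := fun e => by subst e; omega
      simp [this]
    have := h _ hm i hi
    simpa using this
  · intro h x hx i hi
    change ∑ j, (g : Matrix (Fin n) (Fin n) F) i j * x j = 0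
    refine Finset.sum_eq_zero fun j _ => ?_
    rcases lt_or_ge (j : ℕ) k with hj | hj
    · simp [h i j hi hj]
    · simp [hx j hj]

theorem finrank_coordSub_inj {n k l : ℕ} (hk : k ≤ n) (hl : l ≤ n)
    (h : coordSub F n k = coordSub F n l) : k = l := by
  by_contra hne
  rcases Nat.lt_or_gt_of_ne hne with hlt | hlt
  · have hm : Pi.single (⟨k, by omega⟩ : Fin n) (1 : F) ∈ coordSub F n l := fun i hi => by
      have : i ≠ ⟨k, by omega⟩ := fun e => by simp [e] at hi; omega
      simp [this]
    simpa using (h ▸ hm : Pi.single (⟨k, by omega⟩ : Fin n) (1 : F) ∈ coordSub F n k) ⟨k, by omega⟩ le_rfl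
  · have hm : Pi.single (⟨l, by omega⟩ : Fin n) (1 : F) ∈ coordSub F n k := fun i hi => by
      have : i ≠ ⟨l, by omega⟩ := fun e => by simp [e] at hi; omega
      simp [this]
    simpa using (h.symm ▸ hm : Pi.single (⟨l, by omega⟩ : Fin n) (1 : F) ∈ coordSub F n l) ⟨l, by omega⟩ le_rfl

/-- The reversed inverse transpose. -/
def revDual {n : ℕ} : GL (Fin n) F ≃* GL (Fin n) F where
  toFun g := ⟨((g⁻¹ : GL (Fin n) F) : Matrix (Fin n) (Fin n) F)ᵀ.submatrix Fin.revPerm Fin.revPerm,
    (g : Matrix (Fin n) (Fin n) F)ᵀ.submatrix Fin.revPerm Fin.revPerm,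
    by rw [submatrix_mul_equiv, ← transpose_mul, ← Units.val_mul, mul_inv_cancel, Units.val_one,
      transpose_one, submatrix_one_equiv],
    by rw [submatrix_mul_equiv, ← transpose_mul, ← Units.val_mul, inv_mul_cancel, Units.val_one,
      transpose_one, submatrix_one_equiv]⟩
  invFun g := ⟨((g⁻¹ : GL (Fin n) F) : Matrix (Fin n) (Fin n) F)ᵀ.submatrix Fin.revPerm Fin.revPerm,
    (g : Matrix (Fin n) (Fin n) F)ᵀ.submatrix Fin.revPerm Fin.revPerm,
    by rw [submatrix_mul_equiv, ← transpose_mul, ← Units.val_mul, mul_inv_cancel, Units.val_one,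
      transpose_one, submatrix_one_equiv],
    by rw [submatrix_mul_equiv, ← transpose_mul, ← Units.val_mul, inv_mul_cancel, Units.val_one,
      transpose_one, submatrix_one_equiv]⟩
  left_inv g := by
    refine Units.ext (Matrix.ext fun i j => ?_)
    change (g : Matrix (Fin n) (Fin n) F) _ _ = _
    simp
  right_inv g := by
    refine Units.ext (Matrix.ext fun i j => ?_)
    change (g : Matrix (Fin n) (Fin n) F) _ _ = _
    simp
  map_mul' g h := by
    refine Units.ext ?_
    change (((g * h)⁻¹ : GL (Fin n) F) : Matrix (Fin n) (Fin n) F)ᵀ.submatrix _ _ =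
      ((g⁻¹ : GL (Fin n) F) : Matrix (Fin n) (Fin n) F)ᵀ.submatrix _ _ *
        ((h⁻¹ : GL (Fin n) F) : Matrix (Fin n) (Fin n) F)ᵀ.submatrix _ _
    rw [submatrix_mul_equiv, ← transpose_mul, ← Units.val_mul, _root_.mul_inv_rev]

theorem revDual_mem_stab {n k : ℕ} (hk : k ≤ n) {g : GL (Fin n) F}
    (hg : g ∈ Cfsg.Geo.subspaceStabilizer (coordSub F n k)) :
    revDual g ∈ Cfsg.Geo.subspaceStabilizer (coordSub F n (n - k)) := by
  refine mem_coordStab_iff.2 fun i j hi hj => ?_
  change ((g⁻¹ : GL (Fin n) F) : Matrix (Fin n) (Fin n) F) (Fin.revPerm j) (Fin.revPerm i) = 0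
  have hi' := i.2
  refine mem_coordStab_iff.1 (Subgroup.inv_mem _ hg) _ _ ?_ ?_ <;>
    simp only [Fin.revPerm_apply, Fin.val_rev] <;> omega

theorem map_revDual_stab {n k : ℕ} (hk : k ≤ n) :
    (Cfsg.Geo.subspaceStabilizer (coordSub F n k)).map (revDual (F := F) (n := n)).toMonoidHom =
      Cfsg.Geo.subspaceStabilizer (coordSub F n (n - k)) := by
  refine le_antisymm ?_ fun g hg => ?_
  · rintro _ ⟨g, hg, rfl⟩
    exact revDual_mem_stab hk hg
  · refine ⟨revDual.symm g, ?_, revDual.apply_symm_apply g⟩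
    have h := revDual_mem_stab (k := n - k) (Nat.sub_le _ _) hg
    rwa [Nat.sub_sub_self hk] at h

theorem map_conj_subspaceStabilizer {ι : Type} [Fintype ι] [DecidableEq ι]
    (W : Submodule F (ι → F)) (g : GL ι F) :
    (Cfsg.Geo.subspaceStabilizer W).map (MulAut.conj g).toMonoidHom =
      Cfsg.Geo.subspaceStabilizer (W.map (Matrix.toLin' (g : Matrix ι ι F))) := by
  have hcan : ∀ x : ι → F, ((g⁻¹ : GL ι F) : Matrix ι ι F) *ᵥ ((g : Matrix ι ι F) *ᵥ x) = x := fun x => by
    rw [mulVec_mulVec, ← Units.val_mul, inv_mul_cancel, Units.val_one, one_mulVec]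
  have hcan' : ∀ x : ι → F, (g : Matrix ι ι F) *ᵥ (((g⁻¹ : GL ι F) : Matrix ι ι F) *ᵥ x) = x := fun x => by
    rw [mulVec_mulVec, ← Units.val_mul, mul_inv_cancel, Units.val_one, one_mulVec]
  ext t
  rw [Subgroup.mem_map_equiv, mem_subspaceStabilizer_iff,
    mem_subspaceStabilizer_iff]
  change (∀ x ∈ W, ((g⁻¹ * t * g : GL ι F) : Matrix ι ι F) *ᵥ x ∈ W) ↔ _
  simp only [Units.val_mul, ← mulVec_mulVec, Submodule.mem_map, forall_exists_index, and_imp,
    forall_apply_eq_imp_iff₂, toLin'_apply]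
  refine forall₂_congr fun x _ => ⟨fun h => ⟨_, h, hcan' _⟩, ?_⟩
  rintro ⟨y, hy, he⟩
  rwa [← he, hcan]

theorem card_coordStab [Fintype F] (k l : ℕ) :
    Nat.card (Cfsg.Geo.subspaceStabilizer (coordSub F (k + l) k)) =
      Fintype.card F ^ (k * l) * Nat.card (GL (Fin k) F) * Nat.card (GL (Fin l) F) := by
  classical
  let e : Fin k ⊕ Fin l ≃ Fin (k + l) := finSumFinEquiv
  have h21 : ∀ g : Cfsg.Geo.subspaceStabilizer (coordSub F (k + l) k),
      ((g.1 : Matrix (Fin (k + l)) (Fin (k + l)) F).submatrix e e).toBlocks₂₁ = 0 := fun g => by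
    ext a b
    exact mem_coordStab_iff.1 g.2 _ _ (by simp [e]) (by simp [e])
  have hdet : ∀ g : Cfsg.Geo.subspaceStabilizer (coordSub F (k + l) k),
      ((g.1 : Matrix (Fin (k + l)) (Fin (k + l)) F).submatrix e e).toBlocks₁₁.det *
        ((g.1 : Matrix (Fin (k + l)) (Fin (k + l)) F).submatrix e e).toBlocks₂₂.det ≠ 0 := fun g => by
    rw [← det_fromBlocks_zero₂₁ _ ((g.1 : Matrix (Fin (k + l)) (Fin (k + l)) F).submatrix e e).toBlocks₁₂,
      ← h21 g, fromBlocks_toBlocks, det_submatrix_equiv_self]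
    exact g.1.det_ne_zero
  let E : Cfsg.Geo.subspaceStabilizer (coordSub F (k + l) k) ≃
      (GL (Fin k) F × GL (Fin l) F) × Matrix (Fin k) (Fin l) F :=
    { toFun := fun g => ((GeneralLinearGroup.mkOfDetNeZero _ (left_ne_zero_of_mul (hdet g)),
          GeneralLinearGroup.mkOfDetNeZero _ (right_ne_zero_of_mul (hdet g))),
          ((g.1 : Matrix (Fin (k + l)) (Fin (k + l)) F).submatrix e e).toBlocks₁₂)
      invFun := fun x => ⟨GeneralLinearGroup.mkOfDetNeZero
          ((fromBlocks (x.1.1 : Matrix (Fin k) (Fin k) F) x.2 0 (x.1.2 : Matrix (Fin l) (Fin l) F)).submatrix e.symm e.symm)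
          (by
            rw [det_submatrix_equiv_self, det_fromBlocks_zero₂₁]
            exact mul_ne_zero x.1.1.det_ne_zero x.1.2.det_ne_zero),
        mem_coordStab_iff.2 fun i j hi hj => by
          obtain ⟨a, rfl⟩ := e.surjective i
          obtain ⟨b, rfl⟩ := e.surjective j
          rcases a with a | a <;> rcases b with b | b <;> simp [e] at hi hj
          all_goals first
          | omega
          | (have := a.2; omega)
          | simp [GeneralLinearGroup.mkOfDetNeZero, GeneralLinearGroup.mk', unitOfDetInvertible]⟩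
      left_inv := fun g => by
        refine Subtype.ext (Units.ext ?_)
        change (fromBlocks _ _ 0 _).submatrix e.symm e.symm = (g.1 : Matrix (Fin (k + l)) (Fin (k + l)) F)
        rw [← h21 g]
        change (fromBlocks ((g.1 : Matrix (Fin (k + l)) (Fin (k + l)) F).submatrix e e).toBlocks₁₁ _ _
          ((g.1 : Matrix (Fin (k + l)) (Fin (k + l)) F).submatrix e e).toBlocks₂₂).submatrix e.symm e.symm = _
        rw [fromBlocks_toBlocks]
        ext i j
        simp
      right_inv := fun x => by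
        refine Prod.ext (Prod.ext (Units.ext ?_) (Units.ext ?_)) ?_
        · change (((fromBlocks _ _ _ _).submatrix e.symm e.symm).submatrix e e).toBlocks₁₁ = _
          ext a b
          simp [toBlocks₁₁]
        · change (((fromBlocks _ _ _ _).submatrix e.symm e.symm).submatrix e e).toBlocks₂₂ = _
          ext a b
          simp [toBlocks₂₂]
        · change (((fromBlocks _ _ _ _).submatrix e.symm e.symm).submatrix e e).toBlocks₁₂ = _
          ext a b
          simp [toBlocks₁₂] }
  rw [Nat.card_congr E, Nat.card_prod, Nat.card_prod,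
    show Nat.card (Matrix (Fin k) (Fin l) F) = Fintype.card F ^ (k * l) by
      simp [Matrix, Nat.card_fun, ← pow_mul, mul_comm]]
  ring

end CfsgLib.Classical
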