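import Cfsg.Agent.Lib.Classical.OrthMaxPair
import Cfsg.Agent.Lib.Classical.DecompOrth.Values

/-!
# `GU(m, q).2` is maximal in `Ω(2m, q)`, in every characteristic
-/

set_option autoImplicit false
set_option linter.unusedSectionVars false
set_option backward.isDefEq.respectTransparency false

open Module QuadraticMap CfsgLib.Orth
open scoped commutatorElement

namespace CfsgLib.Classical.UnitarySubOrth

variable {F : Type*} [Field F] [Fintype F] {V : Type*} [AddCommGroup V] [Module F V] [FiniteDimensional F V]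
  {Q : QuadraticForm F V} {J : V →ₗ[F] V} {t c : F}

/-- A quadratic extension of scalars acting by similarities: trace `t`, norm `c`. -/
structure Data (Q : QuadraticForm F V) (J : V →ₗ[F] V) (t c : F) : Prop where
  nd : (QuadraticMap.polarBilin Q).Nondegenerate
  quad : ∀ v, Q (J v) = c * Q v
  pol : ∀ v, polar Q v (J v) = t * Q v
  sq : ∀ v, J (J v) = t • J v - c • v
  irr : ∀ r : F, r * r - t * r + c ≠ 0
  sep : (2 : F) ≠ 0 ∨ t ≠ 0
  dim : 10 ≤ finrank F V

/-- The line over the quadratic extension. -/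
abbrev L (J : V →ₗ[F] V) (v : V) : Submodule F V := Submodule.span F {v, J v}

theorem mem_L (v : V) : v ∈ L J v := Submodule.subset_span (by simp)

theorem mem_L' (v : V) : J v ∈ L J v := Submodule.subset_span (by simp)

theorem finrank_L (v : V) : finrank F (L J v) ≤ 2 := by
  classical
  have h5 := finrank_span_finset_le_card (R := F) ({v, J v} : Finset V)
  have h6 := Finset.card_le_two (a := v) (b := J v)
  rw [Finset.coe_pair, Set.finrank] at h5
  exact h5.trans h6

theorem finrank_sup_le (A B : Submodule F V) : finrank F ↥(A ⊔ B) ≤ finrank F A + finrank F B := by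
  have := Submodule.finrank_sup_add_finrank_inf_eq A B
  omega

variable (hD : Data Q J t c)
include hD

theorem pol_left (u v : V) : polar Q (J u) v = t * polar Q u v - polar Q u (J v) := by
  have h := hD.pol (u + v)
  rw [map_add, polar_add_left, polar_add_right, polar_add_right, hD.pol, hD.pol, quad_add',
    polar_comm _ v (J u)] at h
  linear_combination h

theorem pol_J (u v : V) : polar Q (J u) (J v) = c * polar Q u v := by
  rw [QuadraticMap.polar, ← map_add, hD.quad, hD.quad, hD.quad, QuadraticMap.polar]; ring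

theorem norm_ne {a b : F} (hb : b ≠ 0) : a * a + a * b * t + b * b * c ≠ 0 := fun h =>
  hD.irr (-(a / b)) (by field_simp; linear_combination h)

theorem coeff_zero {v : V} {S : Submodule F V} (hS : ∀ x ∈ S, J x ∈ S) (hv : v ∉ S) {a b : F}
    (h : a • v + b • J v ∈ S) : a = 0 ∧ b = 0 := by
  by_cases hb : b = 0
  · subst hb
    rw [zero_smul, add_zero] at h
    refine ⟨by_contra fun ha => hv ?_, rfl⟩
    simpa [smul_smul, inv_mul_cancel₀ ha] using S.smul_mem a⁻¹ h
  exfalso
  have h1 := hS _ h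
  rw [map_add, map_smul, map_smul, hD.sq] at h1
  have h2 := S.sub_mem (S.smul_mem (a + b * t) h) (S.smul_mem b h1)
  have e : (a + b * t) • (a • v + b • J v) - b • (a • J v + b • (t • J v - c • v)) =
      (a * a + a * b * t + b * b * c) • v := by module
  rw [e] at h2
  apply hv
  simpa [smul_smul, inv_mul_cancel₀ (norm_ne hD hb)] using S.smul_mem (a * a + a * b * t + b * b * c)⁻¹ h2

theorem coeff_bot {v : V} (hv : v ≠ 0) {a b : F} (h : a • v + b • J v = 0) : a = 0 ∧ b = 0 :=
  coeff_zero hD (S := ⊥) (by simp) (by simpa using hv) (by simpa using h)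

omit [Fintype F] in
theorem inv_L (u : V) : ∀ x ∈ L J u, J x ∈ L J u := by
  intro x hx
  obtain ⟨a, b, rfl⟩ := Submodule.mem_span_pair.1 hx
  exact Submodule.mem_span_pair.2 ⟨-(b * c), a + b * t, by
    rw [map_add, map_smul, map_smul, hD.sq]; module⟩

theorem inv_sup {A B : Submodule F V} (hA : ∀ x ∈ A, J x ∈ A) (hB : ∀ x ∈ B, J x ∈ B) :
    ∀ x ∈ A ⊔ B, J x ∈ A ⊔ B := by
  intro x hx
  obtain ⟨a, ha, b, hb, rfl⟩ := Submodule.mem_sup.1 hx
  rw [map_add]
  exact Submodule.add_mem_sup (hA a ha) (hB b hb)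

/-- Prescribed pairings on one line outside an invariant subspace. -/
theorem exists_two {S : Submodule F V} (hS : ∀ x ∈ S, J x ∈ S) {v : V} (hv : v ∉ S) (a b : F) :
    ∃ z, (∀ s ∈ S, polar Q s z = 0) ∧ polar Q v z = a ∧ polar Q (J v) z = b := by
  have h1 : v ∉ S ⊔ (F ∙ J v) := fun h => by
    obtain ⟨s, hs, x, hx, e⟩ := Submodule.mem_sup.1 h
    obtain ⟨r, rfl⟩ := Submodule.mem_span_singleton.1 hx
    have := coeff_zero hD hS hv (a := 1) (b := -r) (by
      rw [show (1 : F) • v + (-r) • J v = s by linear_combination (norm := module) -e]; exact hs)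
    exact one_ne_zero this.1
  have h2 : J v ∉ S ⊔ (F ∙ v) := fun h => by
    obtain ⟨s, hs, x, hx, e⟩ := Submodule.mem_sup.1 h
    obtain ⟨r, rfl⟩ := Submodule.mem_span_singleton.1 hx
    have := coeff_zero hD hS hv (a := -r) (b := 1) (by
      rw [show (-r) • v + (1 : F) • J v = s by linear_combination (norm := module) -e]; exact hs)
    exact one_ne_zero this.2
  obtain ⟨z₁, hz₁, hv₁⟩ := exists_polar_one hD.nd h1
  obtain ⟨z₂, hz₂, hv₂⟩ := exists_polar_one hD.nd h2
  refine ⟨a • z₁ + b • z₂, fun s hs => ?_, ?_, ?_⟩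
  · rw [polar_add_right, polar_smul_r', polar_smul_r', polar_comm _ s, polar_comm _ s,
      hz₁ s (Submodule.mem_sup_left hs), hz₂ s (Submodule.mem_sup_left hs)]
    ring
  · rw [polar_add_right, polar_smul_r', polar_smul_r', polar_comm _ v, polar_comm _ v, hv₁,
      hz₂ v (Submodule.mem_sup_right (Submodule.mem_span_singleton_self v))]
    ring
  · rw [polar_add_right, polar_smul_r', polar_smul_r', polar_comm _ (J v), polar_comm _ (J v), hv₂,
      hz₁ (J v) (Submodule.mem_sup_right (Submodule.mem_span_singleton_self _))]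
    ring

/-- The orthogonal complement of a subspace. -/
abbrev Perp (Q : QuadraticForm F V) (S : Submodule F V) : Submodule F V :=
  LinearMap.BilinForm.orthogonal (QuadraticMap.polarBilin Q) S

omit hD in
/-- The radical of a subspace. -/
theorem mem_rad {S : Submodule F V} {x : V} : x ∈ S ⊓ Perp Q S ↔ x ∈ S ∧ ∀ s ∈ S, polar Q s x = 0 := Iff.rfl

/-- The radical of an invariant subspace is invariant and singular. -/
theorem rad_J {S : Submodule F V} (hS : ∀ x ∈ S, J x ∈ S) {x : V} (hx : x ∈ S) (h : ∀ s ∈ S, polar Q s x = 0) :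
    (∀ s ∈ S, polar Q s (J x) = 0) ∧ Q x = 0 := by
  refine ⟨fun s hs => ?_, ?_⟩
  · have h1 := pol_left hD s x
    rw [h s hs, h _ (hS s hs)] at h1
    linear_combination h1
  · rcases hD.sep with h2 | ht
    · have h1 := h x hx
      rw [polar_self'] at h1
      exact (mul_eq_zero.1 h1).resolve_left h2
    · have h1 := hD.pol x
      rw [polar_comm, h _ (hS x hx)] at h1
      exact (mul_eq_zero.1 h1.symm).resolve_left ht

/-- A non-degenerate complement of the radical in the orthogonal of a subspace. -/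
theorem exists_perp_compl (S : Submodule F V) :
    ∃ Y : Submodule F V, Y ≤ Perp Q S ∧ (∀ y ∈ Y, y ∈ S → y = 0) ∧
      (QuadraticMap.polarBilin (Q.comp Y.subtype)).Nondegenerate ∧
      finrank F V = finrank F S + finrank F ↥(S ⊓ Perp Q S) + finrank F Y := by
  classical
  have hN : LinearMap.BilinForm.Nondegenerate (QuadraticMap.polarBilin Q) := hD.nd
  have hrefl : LinearMap.BilinForm.IsRefl (QuadraticMap.polarBilin Q) := fun x y h => by
    simp only [QuadraticMap.polarBilin_apply_apply] at h ⊢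
    rwa [polar_comm]
  set Z := LinearMap.BilinForm.orthogonal (QuadraticMap.polarBilin Q) S
  have hZ : finrank F Z + finrank F S = finrank F V := by
    rw [LinearMap.BilinForm.finrank_orthogonal hN]; have := S.finrank_le; omega
  obtain ⟨Y', hY'⟩ := (Submodule.comap Z.subtype S).exists_isCompl
  set Y := Y'.map Z.subtype
  have hYZ : Y ≤ Z := Submodule.map_subtype_le Z Y'
  have hYS : ∀ y ∈ Y, y ∈ S → y = 0 := by
    rintro _ ⟨z, hz, rfl⟩ hzS
    rw [Submodule.disjoint_def.1 hY'.disjoint z hzS hz, map_zero]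
  have hnd : (QuadraticMap.polarBilin (Q.comp Y.subtype)).Nondegenerate := by
    refine nondegenerate_of_left fun y hy => Subtype.ext (hYS _ y.2 ?_)
    have hy' : (y : V) ∈ LinearMap.BilinForm.orthogonal (QuadraticMap.polarBilin Q) Z := by
      intro x hx
      obtain ⟨r, hr, s, hs, hrs⟩ := Submodule.mem_sup.1
        (show (⟨x, hx⟩ : Z) ∈ Submodule.comap Z.subtype S ⊔ Y' from hY'.sup_eq_top.symm ▸ Submodule.mem_top)
      have hx' : (r : V) + (s : V) = x := congrArg Subtype.val hrs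
      show polar Q x (y : V) = 0
      have h1 : polar Q (r : V) (y : V) = 0 := hYZ y.2 _ hr
      have h2 := hy ⟨(s : V), ⟨s, hs, rfl⟩⟩
      change polar Q (y : V) (s : V) = 0 at h2
      rw [← hx', polar_add_left, h1, polar_comm _ (s : V), h2, add_zero]
    rwa [LinearMap.BilinForm.orthogonal_orthogonal hN hrefl] at hy'
  refine ⟨Y, hYZ, hYS, hnd, ?_⟩
  have h2 := Submodule.finrank_add_eq_of_isCompl hY'
  have h3 : finrank F (Submodule.comap Z.subtype S) = finrank F ↥(S ⊓ Z) := by
    rw [← Submodule.finrank_map_subtype_eq, Submodule.map_comap_subtype, inf_comm]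
  have h4 : finrank F Y = finrank F Y' := Submodule.finrank_map_subtype_eq _ _
  change _ = _ + finrank F ↥(S ⊓ Z) + _
  omega

/-- A singular vector with prescribed pairings on an invariant subspace. -/
theorem exists_sing {S : Submodule F V} (hS : ∀ x ∈ S, J x ∈ S) (y₀ : V)
    (hcond : finrank F S + finrank F ↥(S ⊓ Perp Q S) + 2 ≤ finrank F V ∨
      ∃ z ∈ S, (∀ s ∈ S, polar Q s z = 0) ∧ polar Q y₀ z ≠ 0) :
    ∃ y, Q y = 0 ∧ ∀ s ∈ S, polar Q s y = polar Q s y₀ := by
  classical
  rcases hcond with hdim' | ⟨z, hz, hzS, hyz⟩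
  swap
  · refine ⟨y₀ + (-Q y₀ / polar Q y₀ z) • z, ?_, fun s hs => ?_⟩
    · rw [quad_add', quad_smul', (rad_J hD hS hz hzS).2, polar_smul_r', div_mul_cancel₀ _ hyz]; ring
    · rw [polar_add_right, polar_smul_r', hzS s hs, mul_zero, add_zero]
  obtain ⟨Y, hYZ, -, hnd, hd⟩ := exists_perp_compl hD S
  have hdim : 2 ≤ finrank F Y := by omega
  obtain ⟨y₁, hy₁⟩ := exists_polar_eq hnd ((QuadraticMap.polarBilin Q y₀).comp Y.subtype)
  obtain ⟨z, -, hz⟩ := exists_value (Q := Q.comp Y.subtype) (⊤ : Submodule F Y) (by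
    have hrad : ((⊤ : Submodule F Y) ⊓
        LinearMap.BilinForm.orthogonal (QuadraticMap.polarBilin (Q.comp Y.subtype)) ⊤) = ⊥ := by
      rw [Submodule.eq_bot_iff]
      rintro v ⟨-, hv⟩
      exact hnd.2 v fun w => hv w Submodule.mem_top
    rw [hrad, finrank_bot, finrank_top]; omega) (Q (y₁ : V) - Q y₀)
  change Q (z : V) = Q (y₁ : V) - Q y₀ at hz
  refine ⟨y₀ + ((z - y₁ : Y) : V), ?_, fun s hs => ?_⟩
  · have h1 := hy₁ (z - y₁)
    change polar Q (y₁ : V) ((z - y₁ : Y) : V) = polar Q y₀ ((z - y₁ : Y) : V) at h1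
    have e : (z : V) = (y₁ : V) + ((z - y₁ : Y) : V) := by rw [Submodule.coe_sub, add_sub_cancel]
    rw [e, quad_add'] at hz
    rw [quad_add', ← h1]
    linear_combination hz
  · have h0 : polar Q s ((z - y₁ : Y) : V) = 0 := hYZ (z - y₁).2 s hs
    rw [polar_add_right, h0, add_zero]

theorem finrank_two (u v : V) : finrank F ↥(L J u ⊔ L J v) ≤ 4 :=
  (finrank_sup_le _ _).trans (by have := finrank_L (J := J) u; have := finrank_L (J := J) v; omega)

/-- Two lines are totally singular of rank four, or have a singular vector outside them orthogonal to both. -/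
theorem perp_or_singular (u v : V) :
    (∃ y, Q y = 0 ∧ y ∉ L J u ⊔ L J v ∧ ∀ s ∈ L J u ⊔ L J v, polar Q s y = 0) ∨
      ((∀ x ∈ L J u ⊔ L J v, Q x = 0 ∧ ∀ s ∈ L J u ⊔ L J v, polar Q s x = 0) ∧ v ∉ L J u ∧ u ∉ L J v) := by
  set S := L J u ⊔ L J v with hSdef
  have hS := inv_sup hD (inv_L hD u) (inv_L hD v)
  obtain ⟨Y, hYZ, hYS, -, hd⟩ := exists_perp_compl hD S
  by_cases h3 : 3 ≤ finrank F Y
  · left
    obtain ⟨y, hy, hy0, hQy⟩ := DecompOrth.exists_sing_sub (Q := Q) h3
    exact ⟨y, hQy, fun h => hy0 (hYS y hy h), fun s hs => hYZ hy s hs⟩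
  right
  have h4 : finrank F S ≤ 4 := finrank_two hD u v
  have hR : finrank F ↥(S ⊓ Perp Q S) ≤ finrank F S := Submodule.finrank_mono inf_le_left
  have hn := hD.dim
  have hRS : S ⊓ Perp Q S = S := Submodule.eq_of_le_of_finrank_le inf_le_left (by omega)
  refine ⟨fun x hx => ?_, fun h => ?_, fun h => ?_⟩
  · have h1 := mem_rad.1 (show x ∈ S ⊓ Perp Q S from hRS.symm ▸ hx)
    exact ⟨(rad_J hD hS hx h1.2).2, h1.2⟩
  · have : S ≤ L J u := sup_le le_rfl (Submodule.span_le.2 (by
      simp [Set.insert_subset_iff, h, inv_L hD u v h]))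
    have := Submodule.finrank_mono this
    have := finrank_L (J := J) u
    omega
  · have : S ≤ L J v := sup_le (Submodule.span_le.2 (by
      simp [Set.insert_subset_iff, h, inv_L hD v u h])) le_rfl
    have := Submodule.finrank_mono this
    have := finrank_L (J := J) v
    omega

/-- A singular vector orthogonal to two lines, outside each of them. -/
theorem exists_perp (u v : V) :
    ∃ y, Q y = 0 ∧ y ∉ L J u ∧ y ∉ L J v ∧ ∀ s ∈ L J u ⊔ L J v, polar Q s y = 0 := by
  rcases perp_or_singular hD u v with ⟨y, hy, hyS, hval⟩ | ⟨hsing, hvu, huv⟩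
  · exact ⟨y, hy, fun h => hyS (Submodule.mem_sup_left h), fun h => hyS (Submodule.mem_sup_right h), hval⟩
  have hm := Submodule.add_mem_sup (mem_L (J := J) u) (mem_L (J := J) v)
  exact ⟨u + v, (hsing _ hm).1, fun h => hvu (by simpa using Submodule.sub_mem _ h (mem_L u)),
    fun h => huv (by simpa using Submodule.sub_mem _ h (mem_L v)), (hsing _ hm).2⟩

/-- A singular vector orthogonal to the first line, outside both. -/
theorem exists_perp_out (u v : V) :
    ∃ y, Q y = 0 ∧ y ∉ L J u ⊔ L J v ∧ ∀ s ∈ L J u, polar Q s y = 0 := by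
  rcases perp_or_singular hD u v with ⟨y, hy, hyS, hval⟩ | ⟨hsing, hvu, -⟩
  · exact ⟨y, hy, hyS, fun s hs => hval s (Submodule.mem_sup_left hs)⟩
  obtain ⟨z, hz, hzv, -⟩ := exists_two hD (inv_L hD u) hvu 1 0
  have hv : v ∈ L J u ⊔ L J v := Submodule.mem_sup_right (mem_L v)
  obtain ⟨y, hy, hval⟩ := exists_sing hD (inv_sup hD (inv_L hD u) (inv_L hD v)) z
    (Or.inr ⟨v, hv, (hsing v hv).2, by rw [polar_comm, hzv]; exact one_ne_zero⟩)
  refine ⟨y, hy, fun h => one_ne_zero (α := F) ?_, fun s hs => by rw [hval s (Submodule.mem_sup_left hs), hz s hs]⟩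
  rw [← hzv, ← hval v hv]
  exact (hsing y h).2 v hv

/-- Symmetric orthogonality to a line. -/
theorem perp_J {u v : V} (h1 : polar Q u v = 0) (h2 : polar Q (J u) v = 0) : polar Q (J v) u = 0 := by
  rw [pol_left hD, polar_comm _ v u, h1, polar_comm _ v (J u), h2]; ring

theorem ne_zero_of_notMem {y : V} {S : Submodule F V} (h : y ∉ S) : y ≠ 0 := fun e => h (e ▸ S.zero_mem)

/-! ### Normalising elements -/

omit hD in
/-- Commuting with the operator, or twisting it by conjugation. -/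
def Nrm (J : V →ₗ[F] V) (t : F) (g : orthGroup Q) : Prop :=
  (∀ x, g.1 (J x) = J (g.1 x)) ∨ ∀ x, g.1 (J x) = t • g.1 x - J (g.1 x)

theorem siegel_nrm {v : V} {g : orthGroup Q} (a : F) (hg : IsSiegel g v (a • J v)) : Nrm J t g := by
  left
  intro x
  have hq : Q (a • J v) = 0 := by rw [quad_smul', hD.quad, hg.1]; ring
  rw [hg.2.2, hg.2.2, hq, map_add, map_add, map_smul, map_smul, map_smul, hD.sq, polar_smul_l', polar_smul_l',
    pol_J hD]
  have h : polar Q v (J x) = t * polar Q v x - polar Q (J v) x := by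
    linear_combination pol_left hD v x
  rw [h]
  module

/-- An element of `Ω` outside the normaliser. -/
theorem exists_not_nrm (hp : HypPairs Q) (h4 : Good F V) :
    ∃ k ∈ commutator (orthGroup Q), ¬ Nrm J t k := by
  obtain ⟨d, hd, hdS, -, -⟩ := exists_perp hD 0 0
  obtain ⟨u, hu, huL, -, hud⟩ := exists_perp hD d 0
  have hdu : polar Q d u = 0 := hud d (Submodule.mem_sup_left (mem_L d))
  obtain ⟨k, hk⟩ := exists_isSiegel hD.nd hd hdu
  refine ⟨k, by rw [commutator_eq_siegelGroup hD.nd h4 hp (by have := hD.dim; omega)]; exact hk.mem, ?_⟩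
  obtain ⟨z₁, -, h1, h1'⟩ := exists_two hD (S := ⊥) (by simp) (v := d)
    (by simpa using ne_zero_of_notMem hD hdS) 1 t
  obtain ⟨z₂, h2, h2v, h2v'⟩ := exists_two hD (inv_L hD d) huL (0 - polar Q u z₁) (0 - polar Q (J u) z₁)
  set x := z₁ + z₂
  have e1 : polar Q d x = 1 := by rw [polar_add_right, h1, h2 d (mem_L d), add_zero]
  have e1' : polar Q (J d) x = t := by rw [polar_add_right, h1', h2 _ (mem_L' d), add_zero]
  have e2 : polar Q u x = 0 := by rw [polar_add_right, h2v]; ring
  have e2' : polar Q (J u) x = 0 := by rw [polar_add_right, h2v']; ring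
  clear_value x
  have e3 : polar Q d (J x) = 0 := by linear_combination pol_left hD d x - e1' + t * e1
  have e4 : polar Q u (J x) = 0 := by linear_combination pol_left hD u x - e2' + t * e2
  have hx : k.1 x = x + u := by rw [hk.2.2, e1, e2, hu]; module
  have hJx : k.1 (J x) = J x := by rw [hk.2.2, e3, e4, hu]; module
  rintro (h | h)
  · have h' := h x
    rw [hx, hJx, map_add] at h'
    replace h' : J u = 0 := by linear_combination (norm := module) -h'
    refine ne_zero_of_notMem hD huL ?_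
    have h'' := congrArg J h'
    rw [map_zero, hD.sq, h', smul_zero, zero_sub, neg_eq_zero, smul_eq_zero] at h''
    exact h''.resolve_left fun hc => hD.irr 0 (by rw [hc]; ring)
  · have h' := h x
    rw [hx, hJx, map_add, smul_add] at h'
    have hxL : x ∉ L J u := fun hxu => by
      obtain ⟨a, b, hab⟩ := Submodule.mem_span_pair.1 hxu
      rw [← hab, polar_add_right, polar_smul_r', polar_smul_r', hdu] at e1
      have : polar Q d (J u) = 0 := by
        linear_combination pol_left hD d u + t * hdu - hud _ (Submodule.mem_sup_left (mem_L' d))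
      rw [this] at e1
      exact zero_ne_one (show (0 : F) = 1 by linear_combination e1)
    obtain ⟨ha, hb⟩ := coeff_zero hD (inv_L hD u) hxL (a := -t) (b := 2)
      (Submodule.mem_span_pair.2 ⟨t, -1, by linear_combination (norm := module) -h'⟩)
    exact hD.sep.elim (fun h2 => h2 hb) fun ht => ht (neg_eq_zero.1 ha)

/-- A singular vector whose line is moved off the lines over the extension. -/
theorem exists_moved {g : orthGroup Q} (hg : ¬ Nrm J t g) :
    ∃ v, Q v = 0 ∧ g.1 (J v) ∉ L J (g.1 v) := by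
  by_contra hall
  push Not at hall
  apply hg
  let A : V →ₗ[F] V := (g.1.symm : V →ₗ[F] V) ∘ₗ J ∘ₗ (g.1 : V →ₗ[F] V)
  have hA : ∀ x, A x = g.1.symm (J (g.1 x)) := fun x => rfl
  have hline : ∀ v, Q v = 0 → v ≠ 0 → ∃ α β : F, A v = α • v + β • J v := by
    intro v hv hv0
    obtain ⟨a, b, hab⟩ := Submodule.mem_span_pair.1 (hall v hv)
    have hb : b ≠ 0 := by
      rintro rfl
      rw [zero_smul, add_zero, ← map_smul] at hab
      have := coeff_bot hD hv0 (a := a) (b := -1) (by rw [g.1.injective hab]; module)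
      exact one_ne_zero (neg_eq_zero.1 this.2)
    refine ⟨-(a / b), b⁻¹, ?_⟩
    rw [hA]
    apply g.1.injective
    rw [LinearEquiv.apply_symm_apply, map_add, map_smul, map_smul, ← hab, smul_add, smul_smul,
      inv_smul_smul₀ hb, ← add_assoc, ← add_smul]
    rw [show -(a / b) + b⁻¹ * a = 0 by ring, zero_smul, zero_add]
  choose α β hαβ using hline
  have hdot : ∀ u v (hu : Q u = 0) (hv : Q v = 0) (hu0 : u ≠ 0) (hv0 : v ≠ 0), v ∉ L J u → polar Q u v = 0 →
      α u hu hu0 = α v hv hv0 ∧ β u hu hu0 = β v hv hv0 := by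
    intro u v hu hv hu0 hv0 hind huv
    have hw : Q (u + v) = 0 := by rw [quad_add', hu, hv, huv]; ring
    have hw0 : u + v ≠ 0 := fun h => hind (by
      rw [eq_neg_of_add_eq_zero_right h]
      exact Submodule.neg_mem _ (mem_L u))
    have h := hαβ (u + v) hw hw0
    rw [map_add, hαβ u hu hu0, hαβ v hv hv0, map_add, smul_add, smul_add] at h
    set γ := α (u + v) hw hw0
    set ε := β (u + v) hw hw0
    have h' : (α v hv hv0 - γ) • v + (β v hv hv0 - ε) • J v ∈ L J u :=
      Submodule.mem_span_pair.2 ⟨γ - α u hu hu0, ε - β u hu hu0, by linear_combination (norm := module) -h⟩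
    obtain ⟨e1, e2⟩ := coeff_zero hD (inv_L hD u) hind h'
    rw [sub_eq_zero.1 e1, sub_eq_zero.1 e2] at h
    obtain ⟨e3, e4⟩ := coeff_bot hD hu0 (a := α u hu hu0 - γ) (b := β u hu hu0 - ε)
      (by linear_combination (norm := module) h)
    exact ⟨(sub_eq_zero.1 e3).trans (sub_eq_zero.1 e1).symm, (sub_eq_zero.1 e4).trans (sub_eq_zero.1 e2).symm⟩
  obtain ⟨e, he, heS, -, -⟩ := exists_perp hD 0 0
  have he0 : e ≠ 0 := ne_zero_of_notMem hD heS
  have hall' : ∀ v (hv : Q v = 0) (hv0 : v ≠ 0), α v hv hv0 = α e he he0 ∧ β v hv hv0 = β e he he0 := by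
    intro v hv hv0
    obtain ⟨y, hy, hye, hyv, hval⟩ := exists_perp hD e v
    have hy0 : y ≠ 0 := ne_zero_of_notMem hD hye
    obtain ⟨a1, b1⟩ := hdot e y he hy he0 hy0 hye
      (hval e (Submodule.mem_sup_left (mem_L e)))
    obtain ⟨a2, b2⟩ := hdot v y hv hy hv0 hy0 hyv
      (hval v (Submodule.mem_sup_right (mem_L v)))
    exact ⟨a2.trans a1.symm, b2.trans b1.symm⟩
  set a := α e he he0
  set b := β e he he0
  have hiso : ∀ v, Q v = 0 → A v = a • v + b • J v := by
    intro v hv
    by_cases hv0 : v = 0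
    · simp [hv0]
    rw [hαβ v hv hv0, (hall' v hv hv0).1, (hall' v hv hv0).2]
  have hAll : ∀ x, A x = a • x + b • J x := by
    intro x
    by_cases hx : Q x = 0
    · exact hiso x hx
    have hx0 : x ≠ 0 := fun h => hx (by rw [h, QuadraticMap.map_zero])
    obtain ⟨z, -, hz, -⟩ := exists_two hD (S := ⊥) (by simp) (v := x) (by simpa using hx0) (Q x) 0
    obtain ⟨u, hu, hval⟩ := exists_sing hD (S := L J x) (inv_L hD x) z (Or.inl (by
      have h1 := finrank_L (J := J) x
      have h2 : finrank F ↥(L J x ⊓ Perp Q (L J x)) ≤ finrank F (L J x) := Submodule.finrank_mono inf_le_left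
      have := hD.dim
      omega))
    have hxu : Q (x - u) = 0 := by
      rw [sub_eq_add_neg, quad_add', QuadraticMap.map_neg, polar_neg_right, hu, hval x (mem_L x), hz]
      ring
    have := congrArg₂ (· + ·) (hiso _ hxu) (hiso u hu)
    simp only [← map_add, sub_add_cancel] at this
    rw [this, map_sub]
    module
  have hsq : A (A e) = t • A e - c • e := by
    simp only [hA, LinearEquiv.apply_symm_apply, hD.sq, map_smul, map_sub, LinearEquiv.symm_apply_apply]
  rw [hAll, hAll, map_add, map_smul, map_smul, hD.sq] at hsq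
  have hgJ : ∀ x, J (g.1 x) = a • g.1 x + b • g.1 (J x) := fun x => by
    have := congrArg g.1 (hAll x)
    rwa [hA, LinearEquiv.apply_symm_apply, map_add, map_smul, map_smul] at this
  have key : (a = 0 ∧ b = 1) ∨ (a = t ∧ b = -1) := by
    by_cases hv : (a - t) • e + (b + 1) • J e = 0
    · obtain ⟨h1, h2⟩ := coeff_bot hD he0 hv
      exact Or.inr ⟨sub_eq_zero.1 h1, eq_neg_of_add_eq_zero_left h2⟩
    obtain ⟨h1, h2⟩ := coeff_bot hD hv (a := a) (b := b - 1) (by
      simp only [map_add, map_smul, hD.sq]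
      linear_combination (norm := module) hsq)
    exact Or.inl ⟨h1, sub_eq_zero.1 h2⟩
  rcases key with ⟨ea, eb⟩ | ⟨ea, eb⟩
  · left; intro x; rw [hgJ, ea, eb]; module
  · right; intro x; rw [hgJ, ea, eb]; module

/-! ### Spreading root groups -/

variable {M : Subgroup (orthGroup Q)}

theorem siegelIn_map {d u : V} (h : SiegelIn M d u) {k : orthGroup Q} (hk : k ∈ M) :
    SiegelIn M (k.1 d) (k.1 u) := fun g hg => by
  have h1 := hg.conj k⁻¹
  rw [inv_inv, show (k⁻¹).1 (k.1 d) = d from k.1.symm_apply_apply d,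
    show (k⁻¹).1 (k.1 u) = u from k.1.symm_apply_apply u] at h1
  have h2 := M.mul_mem (M.mul_mem hk (h _ h1)) (M.inv_mem hk)
  simpa [mul_assoc] using h2

theorem siegelIn_swap {d u : V} (hu : Q u = 0) (hd : Q d = 0) (hdu : polar Q d u = 0) {a : F}
    (h : SiegelIn M d (-a • u)) : SiegelIn M u (a • d) := fun g hg => by
  refine h g ⟨hd, by rw [polar_smul_r', hdu, mul_zero], fun v => ?_⟩
  rw [hg.2.2, quad_smul', quad_smul', hu, hd, polar_smul_l', polar_smul_l']
  module

/-- The root groups of all lines through `v` orthogonal to its line over the extension. -/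
def Rel (M : Subgroup (orthGroup Q)) (J : V →ₗ[F] V) (v : V) : Prop :=
  ∀ y, Q y = 0 → polar Q v y = 0 → polar Q (J v) y = 0 → ∀ a : F, SiegelIn M v (a • y)

variable (hT : ∀ v, Q v = 0 → ∀ a : F, SiegelIn M v (a • J v))
include hT

theorem line_step {u₁ u y : V} (h1 : Q u₁ = 0) (hu : polar Q u₁ u = 0) (hs : ∀ a : F, SiegelIn M u₁ (a • u))
    (hy : Q y = 0) (h1y : polar Q u₁ y = 0) (h1y' : polar Q (J u₁) y = 0) (huy : polar Q u y = 0)
    (huy' : polar Q (J u) y ≠ 0) (a : F) : SiegelIn M u₁ (a • y) := by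
  set r := a / polar Q (J u) y
  have hyJ : polar Q y (r • J y) = 0 := by rw [polar_smul_r', hD.pol, hy]; ring
  obtain ⟨k, hk⟩ := exists_isSiegel hD.nd hy hyJ
  have hkM : k ∈ M := hT y hy r k hk
  have hq : Q (r • J y) = 0 := by rw [quad_smul', hD.quad, hy]; ring
  have e1 : k.1 u₁ = u₁ := by
    rw [hk.2.2, hq, polar_smul_l', polar_comm _ y u₁, h1y, perp_J hD h1y h1y']
    module
  have hru : polar Q (J y) u = -polar Q (J u) y := by
    rw [pol_left hD, polar_comm _ y u, huy, polar_comm _ y (J u)]; ring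
  have e2 : k.1 u = u + a • y := by
    rw [hk.2.2, hq, polar_smul_l', polar_comm _ y u, huy, hru]
    have e : r * polar Q (J u) y = a := div_mul_cancel₀ a huy'
    rw [← e]
    module
  have h := siegelIn_map hD (hs 1) hkM
  rw [one_smul, e1, e2] at h
  have hp : polar Q u₁ (u + a • y) = 0 := by rw [polar_add_right, polar_smul_r', hu, h1y]; ring
  have h' := SiegelIn.add hD.nd h1 hp (show polar Q u₁ ((-1 : F) • u) = 0 by rw [polar_smul_r', hu, mul_zero]) h
    (hs (-1))
  rwa [show u + a • y + (-1 : F) • u = a • y by module] at h'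

/-- One root group off the lines over the extension gives all orthogonal ones. -/
theorem rel_of_seed {u₁ u : V} (h1 : Q u₁ = 0) (hu : polar Q u₁ u = 0) (_hu0 : u₁ ≠ 0) (huL : u ∉ L J u₁)
    (hs : ∀ a : F, SiegelIn M u₁ (a • u)) : Rel M J u₁ := by
  have step : ∀ w, polar Q u₁ w = 0 → w ∉ L J u₁ → (∀ a : F, SiegelIn M u₁ (a • w)) → ∀ z, Q z = 0 →
      polar Q u₁ z = 0 → polar Q (J u₁) z = 0 → z ∉ L J u₁ ⊔ L J w →
      (∀ y₀, (∀ s ∈ L J u₁, polar Q s y₀ = 0) → polar Q w y₀ = 0 → polar Q (J w) y₀ = 1 → polar Q z y₀ = 0 →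
        polar Q (J z) y₀ = 1 →
        finrank F ↥(L J u₁ ⊔ L J w ⊔ L J z) +
            finrank F ↥((L J u₁ ⊔ L J w ⊔ L J z) ⊓ Perp Q (L J u₁ ⊔ L J w ⊔ L J z)) + 2 ≤ finrank F V ∨
          ∃ x ∈ L J u₁ ⊔ L J w ⊔ L J z, (∀ s ∈ L J u₁ ⊔ L J w ⊔ L J z, polar Q s x = 0) ∧ polar Q y₀ x ≠ 0) →
      ∀ a : F, SiegelIn M u₁ (a • z) := by
    intro w hw hwL hws z hz hz1 hz1' hzS hcond a
    obtain ⟨z₁, hz₁, hw₁, hw₁'⟩ := exists_two hD (inv_L hD u₁) hwL 0 1
    obtain ⟨z₂, hz₂, hz₂v, hz₂v'⟩ := exists_two hD (inv_sup hD (inv_L hD u₁) (inv_L hD w)) hzS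
      (0 - polar Q z z₁) (1 - polar Q (J z) z₁)
    obtain ⟨y, hy, hval⟩ := exists_sing hD (S := (L J u₁ ⊔ L J w) ⊔ L J z)
      (inv_sup hD (inv_sup hD (inv_L hD u₁) (inv_L hD w)) (inv_L hD z)) (z₁ + z₂) (hcond _
        (fun s hs => by rw [polar_add_right, hz₁ s hs, hz₂ s (Submodule.mem_sup_left hs), add_zero])
        (by rw [polar_add_right, hw₁, hz₂ w (Submodule.mem_sup_right (mem_L w)), add_zero])
        (by rw [polar_add_right, hw₁', hz₂ _ (Submodule.mem_sup_right (mem_L' w)), add_zero])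
        (by rw [polar_add_right, hz₂v]; ring)
        (by rw [polar_add_right, hz₂v']; ring))
    have v1 : ∀ s ∈ L J u₁, polar Q s y = 0 := fun s hs => by
      rw [hval s (Submodule.mem_sup_left (Submodule.mem_sup_left hs)), polar_add_right, hz₁ s hs,
        hz₂ s (Submodule.mem_sup_left hs), add_zero]
    have v2 : polar Q w y = 0 := by
      rw [hval w (Submodule.mem_sup_left (Submodule.mem_sup_right (mem_L w))), polar_add_right, hw₁,
        hz₂ w (Submodule.mem_sup_right (mem_L w)), add_zero]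
    have v2' : polar Q (J w) y = 1 := by
      rw [hval _ (Submodule.mem_sup_left (Submodule.mem_sup_right (mem_L' w))), polar_add_right, hw₁',
        hz₂ _ (Submodule.mem_sup_right (mem_L' w)), add_zero]
    have v3 : polar Q z y = 0 := by
      rw [hval z (Submodule.mem_sup_right (mem_L z)), polar_add_right, hz₂v]; ring
    have v3' : polar Q (J z) y = 1 := by
      rw [hval _ (Submodule.mem_sup_right (mem_L' z)), polar_add_right, hz₂v']; ring
    have hy1 : polar Q u₁ y = 0 := v1 _ (mem_L u₁)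
    refine line_step hD hT h1 hy1 (line_step hD hT h1 hw hws hy hy1 (v1 _ (mem_L' u₁)) v2
      (by rw [v2']; exact one_ne_zero)) hz hz1 hz1' (by rw [polar_comm]; exact v3) ?_ a
    rw [pol_left hD, polar_comm _ y z, v3, polar_comm _ y (J z), v3']
    simp
  have hline : ∀ x ∈ L J u₁, polar Q u₁ x = 0 ∧ ∀ a : F, SiegelIn M u₁ (a • x) := by
    intro x hx
    obtain ⟨p, r, rfl⟩ := Submodule.mem_span_pair.1 hx
    refine ⟨by rw [polar_add_right, polar_smul_r', polar_smul_r', polar_self', hD.pol, h1]; ring, fun a => ?_⟩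
    rw [smul_add, smul_smul, smul_smul]
    exact SiegelIn.add hD.nd h1 (by rw [polar_smul_r', polar_self', h1]; ring)
      (by rw [polar_smul_r', hD.pol, h1]; ring) (siegelIn_smul_self M h1 _) (hT u₁ h1 _)
  have reach : ∀ w, polar Q u₁ w = 0 → w ∉ L J u₁ → (∀ a : F, SiegelIn M u₁ (a • w)) → ∀ z, Q z = 0 →
      polar Q u₁ z = 0 → polar Q (J u₁) z = 0 → z ∉ L J u₁ ⊔ L J w → ∀ a : F, SiegelIn M u₁ (a • z) := by
    intro w hw hwL hws z hz hz1 hz1' hzS a
    set S := L J u₁ ⊔ L J w ⊔ L J z with hSdef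
    have hSinv : ∀ x ∈ S, J x ∈ S := inv_sup hD (inv_sup hD (inv_L hD u₁) (inv_L hD w)) (inv_L hD z)
    by_cases hgood : ∀ y₀, (∀ s ∈ L J u₁, polar Q s y₀ = 0) → polar Q w y₀ = 0 → polar Q (J w) y₀ = 1 →
        polar Q z y₀ = 0 → polar Q (J z) y₀ = 1 → finrank F S + finrank F ↥(S ⊓ Perp Q S) + 2 ≤ finrank F V ∨
          ∃ x ∈ S, (∀ s ∈ S, polar Q s x = 0) ∧ polar Q y₀ x ≠ 0
    · exact step w hw hwL hws z hz hz1 hz1' hzS hgood a
    -- otherwise the radical contains a translate of `z - w`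
    push Not at hgood
    obtain ⟨y₀, hy1, hyw, hyw', hyz, hyz', hbig, hrad⟩ := hgood
    have hS6 : finrank F S ≤ 6 := (finrank_sup_le _ _).trans (by
      have := finrank_two hD u₁ w; have := finrank_L (J := J) z; omega)
    obtain ⟨x, hxR, hxL⟩ : ∃ x ∈ S ⊓ Perp Q S, x ∉ L J u₁ := by
      by_contra! hh
      have := Submodule.finrank_mono (show S ⊓ Perp Q S ≤ L J u₁ from hh)
      have := finrank_L (J := J) u₁
      have := hD.dim
      omega
    obtain ⟨hxS, hx⟩ := mem_rad.1 hxR
    obtain ⟨l', hl', e, he, hxe⟩ := Submodule.mem_sup.1 hxS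
    obtain ⟨l, hl, e', he', rfl⟩ := Submodule.mem_sup.1 hl'
    obtain ⟨p, r, rfl⟩ := Submodule.mem_span_pair.1 he
    obtain ⟨p', r', rfl⟩ := Submodule.mem_span_pair.1 he'
    have e0 : r' + r = 0 := by
      have h0 := hrad x hxS hx
      rw [← hxe, polar_comm _ y₀] at h0
      simp only [polar_add_left, polar_smul_l', hy1 l hl, hyw, hyw', hyz, hyz'] at h0
      linear_combination h0
    have e1 : p' + p = 0 := by
      have h0 := hrad (J x) (hSinv x hxS) (rad_J hD hSinv hxS hx).1
      rw [← hxe, polar_comm _ y₀] at h0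
      simp only [map_add, map_smul, hD.sq, polar_add_left, polar_sub_left, polar_smul_l',
        hy1 _ (inv_L hD u₁ l hl), hyw, hyw', hyz, hyz'] at h0
      linear_combination h0 - t * e0
    have hxe' : x = l + (p • (z - w) + r • J (z - w)) := by
      rw [← hxe, eq_neg_of_add_eq_zero_left e0, eq_neg_of_add_eq_zero_left e1, map_sub]; module
    have hzw : z - w ∉ L J u₁ ⊔ L J w := fun h => hzS (by
      simpa using Submodule.add_mem _ h (Submodule.mem_sup_right (mem_L w)))
    -- invert `p + r J`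
    obtain ⟨ρ, hρR, l₂, hl₂, hρ⟩ : ∃ ρ ∈ S ⊓ Perp Q S, ∃ l₂ ∈ L J u₁, z - w = ρ + l₂ := by
      have hJx : J x ∈ S ⊓ Perp Q S := mem_rad.2 ⟨hSinv x hxS, (rad_J hD hSinv hxS hx).1⟩
      have hN : p * p + p * r * t + r * r * c ≠ 0 := by
        by_cases hr : r = 0
        · subst hr
          have hp : p ≠ 0 := fun h => hxL (by rw [hxe', h]; simpa using hl)
          simpa using hp
        · exact norm_ne hD hr
      refine ⟨(p * p + p * r * t + r * r * c)⁻¹ • ((p + r * t) • x - r • J x),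
        Submodule.smul_mem _ _ (Submodule.sub_mem _ (Submodule.smul_mem _ _ hxR) (Submodule.smul_mem _ _ hJx)),
        -((p * p + p * r * t + r * r * c)⁻¹ • ((p + r * t) • l - r • J l)),
        Submodule.neg_mem _ (Submodule.smul_mem _ _ (Submodule.sub_mem _ (Submodule.smul_mem _ _ hl)
          (Submodule.smul_mem _ _ (inv_L hD u₁ l hl)))), ?_⟩
      have e : (p + r * t) • x - r • J x =
          (p * p + p * r * t + r * r * c) • (z - w) + ((p + r * t) • l - r • J l) := by
        rw [hxe']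
        simp only [map_add, map_smul, hD.sq]
        module
      rw [e, smul_add, inv_smul_smul₀ hN]
      abel
    obtain ⟨hρS, hρp⟩ := mem_rad.1 hρR
    have hu₁S : u₁ ∈ S := Submodule.mem_sup_left (Submodule.mem_sup_left (mem_L u₁))
    have hu₁S' : J u₁ ∈ S := hSinv _ hu₁S
    have hρnot : ρ ∉ L J u₁ ⊔ L J w := fun h => hzw (hρ ▸ Submodule.add_mem _ h (Submodule.mem_sup_left hl₂))
    have hSρ : L J u₁ ⊔ L J w ⊔ L J ρ ≤ S := sup_le le_sup_left (Submodule.span_le.2 (by
      simp [Set.insert_subset_iff, hρS, hSinv ρ hρS]))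
    have hρs : ∀ a : F, SiegelIn M u₁ (a • ρ) := step w hw hwL hws ρ (rad_J hD hSinv hρS hρp).2
      (hρp _ hu₁S) (hρp _ hu₁S') hρnot fun y₁ _ _ _ _ h5 => Or.inr ⟨J ρ, Submodule.mem_sup_right (mem_L' ρ),
        fun s hs => (rad_J hD hSinv hρS hρp).1 s (hSρ hs), by rw [polar_comm, h5]; exact one_ne_zero⟩
    rw [show a • z = a • w + (a • ρ + a • l₂) by rw [← smul_add, ← hρ, smul_sub]; abel]
    refine SiegelIn.add hD.nd h1 (by rw [polar_smul_r', hw, mul_zero])
      (by rw [polar_add_right, polar_smul_r', polar_smul_r', hρp _ hu₁S, (hline l₂ hl₂).1]; ring) (hws a) ?_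
    exact SiegelIn.add hD.nd h1 (by rw [polar_smul_r', hρp _ hu₁S, mul_zero])
      (by rw [polar_smul_r', (hline l₂ hl₂).1, mul_zero]) (hρs a) ((hline l₂ hl₂).2 a)
  intro z hz hz1 hz1' a
  by_cases hzL : z ∈ L J u₁
  · exact (hline z hzL).2 a
  by_cases hzS : z ∈ L J u₁ ⊔ L J u
  swap
  · exact reach u hu huL hs z hz hz1 hz1' hzS a
  obtain ⟨y, hy, hyS, hval⟩ := exists_perp_out hD u₁ u
  have hy1 : polar Q u₁ y = 0 := hval _ (mem_L u₁)
  have hs' := reach u hu huL hs y hy hy1 (hval _ (mem_L' u₁)) hyS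
  refine reach y hy1 (fun h => hyS (Submodule.mem_sup_left h)) hs' z hz hz1 hz1' (fun hzy => ?_) a
  obtain ⟨l, hl, x, hx, rfl⟩ := Submodule.mem_sup.1 hzy
  obtain ⟨p, r, rfl⟩ := Submodule.mem_span_pair.1 hx
  obtain ⟨rfl, rfl⟩ := coeff_zero hD (inv_sup hD (inv_L hD u₁) (inv_L hD u)) hyS (a := p) (b := r) (by
    have := Submodule.sub_mem _ hzS (Submodule.mem_sup_left hl)
    rwa [add_sub_cancel_left] at this)
  exact hzL (by simpa using hl)

theorem rel_all {u₁ : V} (h1 : Q u₁ = 0) (hu0 : u₁ ≠ 0) (h : Rel M J u₁) {v : V} (hv : Q v = 0) (hv0 : v ≠ 0) :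
    Rel M J v := by
  obtain ⟨y, hy, hyu, hyv, hval⟩ := exists_perp hD u₁ v
  have hy0 : y ≠ 0 := ne_zero_of_notMem hD hyu
  have flip : ∀ p : V, p ≠ 0 → y ∉ L J p → p ∉ L J y := by
    intro p hp hyp hpy
    obtain ⟨a, b, e⟩ := Submodule.mem_span_pair.1 hpy
    obtain ⟨rfl, rfl⟩ := coeff_zero hD (inv_L hD p) hyp (a := a) (b := b) (e.symm ▸ mem_L p)
    exact hp (by simpa using e.symm)
  have y1 : polar Q u₁ y = 0 := hval _ (Submodule.mem_sup_left (mem_L u₁))
  have yv : polar Q v y = 0 := hval _ (Submodule.mem_sup_right (mem_L v))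
  have hy' : Rel M J y := rel_of_seed hD hT hy (u := u₁) (by rw [polar_comm]; exact y1) hy0
    (flip u₁ hu0 hyu)
    fun a => siegelIn_swap hD hy h1 y1 (h y hy y1 (hval _ (Submodule.mem_sup_left (mem_L' u₁))) (-a))
  exact rel_of_seed hD hT hv (u := y) yv hv0 hyv
    fun a => siegelIn_swap hD hv hy (by rw [polar_comm]; exact yv)
      (hy' v hv (by rw [polar_comm]; exact yv) (perp_J hD yv (hval _ (Submodule.mem_sup_right (mem_L' v)))) (-a))

/-- Hyperbolic pairs of lines come from commutators. -/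
theorem siegelIn_all (hall : ∀ v, Q v = 0 → v ≠ 0 → Rel M J v) {d u : V} (hd : Q d = 0) (hd0 : d ≠ 0)
    (hu : Q u = 0) (hdu : polar Q d u = 0) : SiegelIn M d u := by
  by_cases hu0 : u = 0
  · intro g hg
    rw [hg.unique (hu0 ▸ isSiegel_one hd)]; exact M.one_mem
  by_cases hdu' : polar Q (J d) u = 0
  · simpa using hall d hd hd0 u hu hdu hdu' 1
  obtain ⟨w, hw, hwS, hwv⟩ : ∃ y, Q y = 0 ∧ y ∉ L J d ⊔ L J u ∧ ∀ s ∈ L J d ⊔ L J u, polar Q s y = 0 := by
    refine (perp_or_singular hD d u).resolve_right fun h => hdu' ?_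
    exact (h.1 u (Submodule.mem_sup_right (mem_L u))).2 _ (Submodule.mem_sup_left (mem_L' d))
  obtain ⟨z, hz, hzw, -⟩ := exists_two hD (inv_sup hD (inv_L hD d) (inv_L hD u)) hwS 1 0
  obtain ⟨x, hx, hval⟩ := exists_sing hD (S := (L J d ⊔ L J u) ⊔ L J w)
    (inv_sup hD (inv_sup hD (inv_L hD d) (inv_L hD u)) (inv_L hD w)) z
    (Or.inr ⟨w, Submodule.mem_sup_right (mem_L w), fun s hs => by
      obtain ⟨s', hs', r, hr, rfl⟩ := Submodule.mem_sup.1 hs
      obtain ⟨p, q, rfl⟩ := Submodule.mem_span_pair.1 hr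
      rw [polar_add_left, polar_add_left, polar_smul_l', polar_smul_l', hwv s' hs', polar_self', hw, polar_comm _ (J w),
        hD.pol, hw]
      ring, by rw [polar_comm, hzw]; exact one_ne_zero⟩)
  have hx0 : ∀ s ∈ L J d ⊔ L J u, polar Q s x = 0 := fun s hs => by rw [hval s (Submodule.mem_sup_left hs), hz s hs]
  have hxw : polar Q w x = 1 := by rw [hval w (Submodule.mem_sup_right (mem_L w)), hzw]
  have hdx := hx0 d (Submodule.mem_sup_left (mem_L d))
  obtain ⟨h', hh'⟩ := exists_isSiegel hD.nd hu (hwv u (Submodule.mem_sup_right (mem_L u)))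
  have hh'M : h' ∈ M := by
    refine hall u hu hu0 w hw (hwv u (Submodule.mem_sup_right (mem_L u)))
      (hwv _ (Submodule.mem_sup_right (mem_L' u))) 1 h' ?_
    rwa [one_smul]
  obtain ⟨s, hs⟩ := exists_isSiegel hD.nd hd (show polar Q d (-x) = 0 by rw [polar_neg_right, hdx, neg_zero])
  have hsM : s ∈ M := by
    refine hall d hd hd0 x hx hdx (hx0 _ (Submodule.mem_sup_left (mem_L' d))) (-1) s ?_
    rwa [neg_one_smul]
  have e1 : h'.1 d = d := by
    rw [hh'.2.2, polar_comm _ u d, hdu, polar_comm _ w d, hwv d (Submodule.mem_sup_left (mem_L d))]; simp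
  have e2 : h'.1 (-x) = -x + u := by
    rw [hh'.2.2, polar_neg_right, polar_neg_right, hx0 u (Submodule.mem_sup_right (mem_L u)), hxw]
    module
  intro g hg
  obtain ⟨b, hb⟩ := exists_isSiegel hD.nd hd hdx
  have hbM : b ∈ M := hall d hd hd0 x hx hdx (hx0 _ (Submodule.mem_sup_left (mem_L' d))) 1 b (by rwa [one_smul])
  have hc := hs.conj h'
  rw [e1, e2] at hc
  have h2 := hc.mul hb
  rw [show -x + u + x = u by abel] at h2
  rw [hg.unique h2]
  exact M.mul_mem (M.mul_mem (M.mul_mem hh'M hsM) (M.inv_mem hh'M)) hbM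

omit hT in
/-- The normaliser of the extension is maximal in `Ω`. -/
theorem le_of_not_nrm (h4 : Good F V) (hM : ∀ g ∈ commutator (orthGroup Q), Nrm J t g → g ∈ M)
    {g : orthGroup Q} (hg : g ∈ M) (hgN : ¬ Nrm J t g) : commutator (orthGroup Q) ≤ M := by
  have hn : 5 ≤ finrank F V := by have := hD.dim; omega
  obtain ⟨hp⟩ := exists_hypPairs hD.nd hn
  rw [commutator_eq_siegelGroup hD.nd h4 hp hn]
  have hT : ∀ v, Q v = 0 → ∀ a : F, SiegelIn M v (a • J v) := fun v _ a k hk =>
    hM k (by rw [commutator_eq_siegelGroup hD.nd h4 hp hn]; exact hk.mem) (siegel_nrm hD a hk)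
  obtain ⟨v, hv, hmv⟩ := exists_moved hD hgN
  have hv0 : g.1 v ≠ 0 := fun h => hmv (by
    simp [(LinearEquiv.map_eq_zero_iff g.1).1 h])
  have hgv : Q (g.1 v) = 0 := (apply_quad g v).trans hv
  have hrel : Rel M J (g.1 v) := rel_of_seed hD hT hgv (u := g.1 (J v))
    (by rw [polar_isom, hD.pol, hv, mul_zero]) hv0 hmv
    fun a => by
      have := siegelIn_map hD (hT v hv a) hg
      rwa [map_smul] at this
  have hall : ∀ w, Q w = 0 → w ≠ 0 → Rel M J w := fun w hw hw0 => rel_all hD hT hgv hv0 hrel hw hw0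
  refine siegelGroup_le_of_ax fun d hd => ?_
  by_cases hd0 : d = 0
  · rw [hd0]; exact AxIn.zero M
  intro u k hk
  exact siegelIn_of_singular hD.nd hp hd hd0 (fun u hu hu' => siegelIn_all hD hT hall hd hd0 hu' hu) hk.2.1 k hk

end CfsgLib.Classical.UnitarySubOrth
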