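import Cfsg.Agent.Lib.Classical.PrimeGraphTransfer

set_option autoImplicit false
set_option linter.unusedSectionVars false

/-! The prime graphs of `PΩ(2n+1, q)` and `PSp(2n, q)` agree for odd `q`. -/

namespace CfsgLib.Classical.PrimeGraphBC

open Module QuadraticMap CfsgLib.Classical CfsgLib.Orth CfsgLib.Classical.SympOrders
open CfsgLib.Classical.PrimeGraphTransfer

variable {F : Type*} [Field F] [Fintype F] {n : ℕ}

theorem pomega_range (h2 : (2 : F) ≠ 0) (hn : 2 ≤ n) {d : ℕ} :
    d ∈ Set.range (orderOf : Cfsg.POmega F (Cfsg.quadFormOdd n F) → ℕ) ↔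
      ∃ g ∈ commutator (orthGroup (oddForm F n)), orderOf g = d := by
  classical
  have hQ := oddForm_nondeg (F := F) n h2
  let E := omegaEquiv (oddForm F n) (oddForm_apply (F := F) n)
  have hbot : ∀ z ∈ Subgroup.center (Cfsg.Omega F (Cfsg.quadFormOdd n F)), z = 1 := by
    intro z hz
    have hzc : E z ∈ Subgroup.center _ := Subgroup.mem_center_iff.2 fun c => by
      obtain ⟨c, rfl⟩ := E.surjective c
      rw [← map_mul, ← map_mul, Subgroup.mem_center_iff.1 hz c]
    rcases eq_one_or_negEl_of_commute hQ h2 (hypPairs_odd n hn) (E z).1 (central_commutes (E z) hzc) with h | h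
    · exact E.injective (by rw [map_one]; exact Subtype.ext h)
    · exfalso
      have hd := ((mem_commutator_odd hQ h2 (E z).1).1 (E z).2).1
      rw [h, show ((negEl (oddForm F n)).1 : (Unit ⊕ (Fin n ⊕ Fin n) → F) →ₗ[F] _) = (-1 : F) • LinearMap.id from
        LinearMap.ext fun v => (neg_one_smul F v).symm, LinearMap.det_smul, LinearMap.det_id, mul_one,
        Module.finrank_fintype_fun_eq_card] at hd
      simp only [Fintype.card_sum, Fintype.card_unit, Fintype.card_fin] at hd
      rw [show 1 + (n + n) = 2 * n + 1 by ring, (odd_two_mul_add_one n).neg_one_pow] at hd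
      exact h2 (by linear_combination -hd)
  have hinj : Function.Injective (QuotientGroup.mk' (Subgroup.center (Cfsg.Omega F (Cfsg.quadFormOdd n F)))) := by
    rw [injective_iff_map_eq_one]
    exact fun z hz => hbot z ((QuotientGroup.eq_one_iff z).1 hz)
  constructor
  · rintro ⟨y, rfl⟩
    obtain ⟨x, rfl⟩ := QuotientGroup.mk_surjective y
    exact ⟨(E x).1, (E x).2, by
      rw [Subgroup.orderOf_coe, MulEquiv.orderOf_eq]; exact (orderOf_injective _ hinj x).symm⟩
  · rintro ⟨g, hg, rfl⟩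
    refine ⟨QuotientGroup.mk' _ (E.symm ⟨g, hg⟩), ?_⟩
    rw [orderOf_injective _ hinj, MulEquiv.orderOf_eq, ← Subgroup.orderOf_coe]

theorem mem_commutator_of_odd (h2 : (2 : F) ≠ 0) (g : orthGroup (oddForm F n)) (hg : Odd (orderOf g)) :
    g ∈ commutator (orthGroup (oddForm F n)) := by
  rw [mem_commutator_iff]
  obtain ⟨k, hk⟩ := hg
  have h : Abelianization.of g ^ (2 * k + 1) = 1 := by rw [← hk, ← map_pow, pow_orderOf_eq_one, map_one]
  rwa [pow_succ, pow_mul, pow_two, ab_sq (oddForm_nondeg n h2) (good_of_two_ne h2) g, one_pow, one_mul] at h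

theorem pomega_of_odd (h2 : (2 : F) ≠ 0) (hn : 2 ≤ n) (g : orthGroup (oddForm F n)) (hg : Odd (orderOf g)) {d : ℕ}
    (hd : orderOf g = d) : d ∈ Set.range (orderOf : Cfsg.POmega F (Cfsg.quadFormOdd n F) → ℕ) :=
  (pomega_range h2 hn).2 ⟨g, mem_commutator_of_odd h2 g hg, hd⟩

/-- An element of order divisible by `4 M` has a square in `Ω` of order `2 M`. -/
theorem pomega_of_four (h2 : (2 : F) ≠ 0) (hn : 2 ≤ n) (g : orthGroup (oddForm F n)) {M : ℕ}
    (hg : 4 * M ∣ orderOf g) : 2 * M ∈ Set.range (orderOf : Cfsg.POmega F (Cfsg.quadFormOdd n F) → ℕ) := by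
  obtain ⟨x, hx⟩ := mem_range_of_dvd g hg
  refine (pomega_range h2 hn).2 ⟨x * x, ?_, ?_⟩
  · rw [mem_commutator_iff, map_mul, ab_sq (oddForm_nondeg n h2) (good_of_two_ne h2) x]
  · have hM : M ≠ 0 := fun h => by
      rw [h, mul_zero] at hx; exact (orderOf_pos x).ne' hx
    rw [← pow_two, orderOf_pow' x two_ne_zero, hx, Nat.gcd_eq_right (Dvd.intro (2 * M) (by ring))]
    rw [show 4 * M = 2 * M * 2 by ring, Nat.mul_div_cancel _ two_pos]

/-- A rotation of order four of a three-space. -/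
theorem exists_four (h2 : (2 : F) ≠ 0) {m : ℕ} (hm : 1 ≤ m) :
    ∃ J : orthGroup (oddForm F m), orderOf J = 4 := by
  classical
  set Q := oddForm F m
  let a : Unit ⊕ (Fin m ⊕ Fin m) → F := Pi.single (Sum.inl ()) 1
  let b : Unit ⊕ (Fin m ⊕ Fin m) → F :=
    Pi.single (Sum.inr (Sum.inl ⟨0, hm⟩)) 1 + Pi.single (Sum.inr (Sum.inr ⟨0, hm⟩)) 1
  have ha : Q a = 1 := by simp [Q, a, ← oddForm_apply, Cfsg.quadFormOdd, Pi.single_apply]
  have hb : Q b = 1 := by simp [Q, b, ← oddForm_apply, Cfsg.quadFormOdd, Pi.single_apply]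
  have hab : polar Q a b = 0 := by simp [Q, a, b, oddForm_polar, Pi.single_apply]
  have hba : polar Q b a = 0 := by rw [polar_comm]; exact hab
  have hQab : Q (a + b) = 2 := by rw [quad_add', ha, hb, hab]; norm_num
  let J := refl Q a * refl Q (a + b)
  have hfix : ∀ v, polar Q (a + b) v = 2 * (1 : F) → (refl Q (a + b)).1 v = v - (a + b) := fun v hv => by
    rw [refl_apply, hQab, hv, mul_one, inv_mul_cancel₀ h2, one_smul]
  have hJa : J.1 a = -b := by
    show (refl Q a).1 ((refl Q (a + b)).1 a) = -b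
    rw [hfix a (by rw [polar_add_left, polar_self', ha, hba]; ring), show a - (a + b) = -b by abel, map_neg,
      refl_fix Q hab]
  have hJb : J.1 b = a := by
    show (refl Q a).1 ((refl Q (a + b)).1 b) = a
    rw [hfix b (by rw [polar_add_left, polar_self', hb, hab]; ring), show b - (a + b) = -a by abel, map_neg,
      refl_self Q (by rw [ha]; exact one_ne_zero), neg_neg]
  have hJ2 : J * J ≠ 1 := fun h => by
    have h1 : J.1 (J.1 a) = a := LinearEquiv.congr_fun (congrArg Subtype.val h) a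
    rw [hJa, map_neg, hJb] at h1
    have h3 : Q (a + a) = 0 := by nth_rewrite 1 [← h1]; rw [neg_add_cancel]; exact QuadraticMap.map_zero Q
    rw [quad_add', polar_self', ha] at h3
    exact mul_ne_zero h2 h2 (by linear_combination h3)
  have hJ4 : (J * J) * (J * J) = 1 := by
    refine Subtype.ext (LinearEquiv.ext fun v => ?_)
    show J.1 (J.1 (J.1 (J.1 v))) = v
    obtain ⟨x, y, w, hxa, hxb, rfl⟩ : ∃ (x y : F) (w : Unit ⊕ (Fin m ⊕ Fin m) → F),
        polar Q a w = 0 ∧ polar Q b w = 0 ∧ v = x • a + y • b + w :=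
      ⟨polar Q a v / 2, polar Q b v / 2, v - (polar Q a v / 2) • a - (polar Q b v / 2) • b, by
        rw [polar_sub_right, polar_sub_right, polar_smul_r', polar_smul_r', polar_self', ha, hab]
        field_simp; ring, by
        rw [polar_sub_right, polar_sub_right, polar_smul_r', polar_smul_r', polar_self', hb, hba]
        field_simp; ring, by abel⟩
    have hJw : J.1 w = w := by
      show (refl Q a).1 ((refl Q (a + b)).1 w) = w
      rw [refl_fix Q (show polar Q (a + b) w = 0 by rw [polar_add_left, hxa, hxb, add_zero]), refl_fix Q hxa]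
    simp only [map_add, map_smul, map_neg, hJa, hJb, hJw]
    simp
  refine ⟨J, orderOf_eq_prime_pow (p := 2) (n := 1) ?_ ?_⟩
  · rwa [pow_one, pow_two]
  · rw [show (2 : ℕ) ^ (1 + 1) = 2 * 2 from rfl, pow_mul, pow_two, pow_two]; exact hJ4

theorem psp_lift (y : Cfsg.PSp n F) :
    ∃ A : isomGroup (sympBil F n), ∀ i : ℕ, orderOf y ∣ i ↔ (A ^ i = 1 ∨ ∀ x, (A ^ i).1 x = -x) := by
  obtain ⟨g, rfl⟩ := QuotientGroup.mk_surjective y
  refine ⟨spEquiv n g, fun i => ?_⟩
  rw [orderOf_dvd_iff_pow_eq_one, ← QuotientGroup.mk_pow, QuotientGroup.eq_one_iff, ← map_pow,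
    eq_one_iff_forall]
  constructor
  · intro h
    rcases sp_center_eq n h with h1 | h1
    · exact Or.inl fun v => by rw [spEquiv_apply, h1, Matrix.one_mulVec]
    · exact Or.inr fun v => by rw [spEquiv_apply, h1, Matrix.neg_mulVec, Matrix.one_mulVec]
  · intro h
    refine Subgroup.mem_center_iff.2 fun C => (spEquiv n).injective ?_
    rw [map_mul, map_mul]
    refine Subtype.ext (LinearEquiv.ext fun v => ?_)
    show (spEquiv n C).1 ((spEquiv n (g ^ i)).1 v) = (spEquiv n (g ^ i)).1 ((spEquiv n C).1 v)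
    rcases h with h | h
    · rw [h, h]
    · rw [h, h, map_neg]

theorem eq_one_or_neg_sq {m : ℕ} (A : isomGroup (sympBil F m)) (h : A = 1 ∨ ∀ x, A.1 x = -x) : A * A = 1 := by
  rcases h with h | h
  · rw [h, one_mul]
  · exact Subtype.ext (LinearEquiv.ext fun x => by show A.1 (A.1 x) = x; rw [h, h, neg_neg])

theorem not_neg_of_pow_odd (h2 : (2 : F) ≠ 0) {m : ℕ} (hm : 1 ≤ m) (A : isomGroup (sympBil F m)) {M : ℕ}
    (hM : Odd M) (hA : A ^ M = 1) (h : ∀ x, A.1 x = -x) : False := by
  obtain ⟨k, rfl⟩ := hM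
  rw [pow_succ, pow_mul, pow_two, eq_one_or_neg_sq A (Or.inr h), one_pow, one_mul] at hA
  have h1 := h (Pi.single (Sum.inl ⟨0, hm⟩) 1)
  rw [hA] at h1
  have h3 := congrFun h1 (Sum.inl ⟨0, hm⟩)
  simp at h3
  exact h2 (by linear_combination h3)

/-- An element of odd order on one summand and one of coprime order on the other. -/
theorem psp_of_two (h2 : (2 : F) ≠ 0) {j : ℕ} (hj : j ≤ n) (a : isomGroup (sympBil F j))
    (b : isomGroup (sympBil F (n - j))) {M N : ℕ} (ha : ∀ i, a ^ i = 1 ↔ M ∣ i) (hb : ∀ i, b ^ i = 1 ↔ N ∣ i)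
    (hM : Odd M) (hM1 : 1 < M) (hco : Nat.Coprime M N) :
    M * N ∈ Set.range (orderOf : Cfsg.PSp n F → ℕ) := by
  obtain ⟨m, rfl⟩ : ∃ m, n = j + m := ⟨n - j, by omega⟩
  revert b
  rw [show j + m - j = m by omega]
  intro b hb
  obtain ⟨h, hh⟩ := exists_sum a b
  have hj1 : 1 ≤ j := by
    rcases Nat.eq_zero_or_pos j with rfl | h0
    · have : a ^ 1 = 1 := (eq_one_iff_forall _).2 fun x => funext fun i => by
        rcases i with i | i <;> exact i.elim0
      have := Nat.le_of_dvd one_pos ((ha 1).1 this)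
      omega
    · exact h0
  obtain ⟨y, hy⟩ := exists_psp h (N := M * N) fun i hi => by
    rcases hi with hi | hi
    · obtain ⟨h1, h3⟩ := (hh i).1.1 hi
      exact hco.mul_dvd_of_dvd_of_dvd ((ha i).1 h1) ((hb i).1 h3)
    · exact (not_neg_of_pow_odd h2 hj1 (a ^ i) hM (by
        rw [← pow_mul, mul_comm, pow_mul, (ha M).2 dvd_rfl, one_pow]) ((hh i).2 hi).1).elim
  exact mem_range_of_dvd y hy

theorem exists_p_orth (p : ℕ) [Fact p.Prime] [CharP F p] (h2 : (2 : F) ≠ 0) {m : ℕ} (hm : 1 ≤ m) :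
    ∃ u : orthGroup (oddForm F m), orderOf u = p := by
  refine exists_prime_orderOf_dvd_card' p ?_
  rw [card_orth_odd rfl h2]
  obtain ⟨k, -, hk⟩ := FiniteField.card F p
  refine Dvd.dvd.mul_right (Dvd.dvd.mul_left ?_ _) _
  rw [hk, ← pow_mul]
  exact dvd_pow_self p (Nat.mul_pos k.pos (pow_pos (by omega) 2)).ne'

theorem exists_p_symp (p : ℕ) [Fact p.Prime] [CharP F p] (h2 : (2 : F) ≠ 0) {m : ℕ} (hm : 1 ≤ m) :
    ∃ u : isomGroup (sympBil F m), ∀ i, u ^ i = 1 ↔ p ∣ i := by
  have hp := (Fact.out : p.Prime)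
  obtain ⟨h, hh, -⟩ := exists_unipotent p h2 hm
  obtain ⟨k, hk⟩ : ∃ k, Nat.clog p (2 * m) = k + 1 :=
    ⟨Nat.clog p (2 * m) - 1, by have := Nat.clog_pos hp.one_lt (show 2 ≤ 2 * m by omega); omega⟩
  refine ⟨h ^ p ^ k, fun i => ?_⟩
  rw [← pow_mul, hh, hk, pow_succ]
  exact Nat.mul_dvd_mul_iff_left (pow_pos hp.pos k)

theorem pow_eq_one_iff_of_orderOf {G : Type*} [Group G] {x : G} {d : ℕ} (h : orderOf x = d) :
    ∀ i : ℕ, x ^ i = 1 ↔ d ∣ i := fun i => by rw [← h, orderOf_dvd_iff_pow_eq_one]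

section Main

variable {G : Type*} [Group G]

/-- The element `A` in its own centralizer. -/
def self0 (A : G) : Subgroup.centralizer ({A} : Set G) := ⟨A, Subgroup.mem_centralizer_singleton_iff.2 rfl⟩

theorem self0_commute (A C : G) (h : Commute C A) : C ∈ Subgroup.centralizer ({A} : Set G) :=
  Subgroup.mem_centralizer_singleton_iff.2 h.eq

end Main

theorem order_lift {y : Cfsg.PSp n F} {A : isomGroup (sympBil F n)}
    (hA : ∀ i : ℕ, orderOf y ∣ i ↔ (A ^ i = 1 ∨ ∀ x, (A ^ i).1 x = -x)) :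
    A ^ (orderOf y * 2) = 1 := by
  rw [pow_mul, pow_two]
  exact eq_one_or_neg_sq _ ((hA _).1 dvd_rfl)

/-- Odd orders prime to the characteristic. -/
theorem iff_odd (h2 : (2 : F) ≠ 0) (hn : 2 ≤ n) {M : ℕ} (hM : Odd M) (hM1 : 1 < M) (hMF : (M : F) ≠ 0) :
    M ∈ Set.range (orderOf : Cfsg.POmega F (Cfsg.quadFormOdd n F) → ℕ) ↔
      M ∈ Set.range (orderOf : Cfsg.PSp n F → ℕ) := by
  constructor
  · intro h
    obtain ⟨g, -, hg⟩ := (pomega_range h2 hn).1 h
    obtain ⟨j, hjn, χ, hχ, -⟩ := orth_part h2 g hM hMF (hg ▸ pow_orderOf_eq_one g)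
    have ha : ∀ i, χ (self0 g) ^ i = 1 ↔ M ∣ i := fun i => by
      rw [← pow_eq_one_iff_of_orderOf hg]
      constructor
      · intro h; rw [← map_pow] at h; exact hχ _ i rfl h
      · intro h; rw [← map_pow, show self0 g ^ i = 1 from Subtype.ext h, map_one]
    have := psp_of_two (n := n) h2 hjn (χ (self0 g)) 1 (N := 1) ha (fun i => by simp) hM hM1 (Nat.coprime_one_right M)
    rwa [mul_one] at this
  · rintro ⟨y, hy⟩
    obtain ⟨A, hA⟩ := psp_lift y
    have hAo : orderOf (A * A) = M := by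
      refine Nat.dvd_antisymm (orderOf_dvd_of_pow_eq_one ?_) ?_
      · rw [← pow_two, ← pow_mul, mul_comm, ← hy]; exact order_lift hA
      · have hd : orderOf y ∣ 2 * orderOf (A * A) := (hA _).2 (Or.inl (by
          rw [pow_mul, pow_two]; exact pow_orderOf_eq_one _))
        rw [hy] at hd
        exact (Nat.coprime_two_right.2 hM).dvd_of_dvd_mul_left hd
    obtain ⟨j, hjn, QW, hQW, χ, hχ, -⟩ := symp_part h2 (A * A) hM hMF (hAo ▸ pow_orderOf_eq_one _)
    obtain ⟨φ, hφ⟩ := exists_embed (n := n) h2 hQW hjn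
    have hord : orderOf (φ (χ (self0 (A * A)), 1)) = M := by
      rw [orderOf_injective φ hφ, Prod.orderOf, orderOf_one, Nat.lcm_one_right]
      refine Nat.dvd_antisymm (orderOf_dvd_of_pow_eq_one ?_) ?_
      · rw [← map_pow, show self0 (A * A) ^ M = 1 from Subtype.ext (hAo ▸ pow_orderOf_eq_one _), map_one]
      · conv_lhs => rw [← hAo]
        exact orderOf_dvd_of_pow_eq_one (hχ _ _ rfl (by rw [map_pow, pow_orderOf_eq_one]))
    exact pomega_of_odd h2 hn _ (hord ▸ hM) hord

variable (p : ℕ) [Fact p.Prime] [CharP F p]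

/-- The characteristic and an odd prime. -/
theorem iff_char (h2 : (2 : F) ≠ 0) (hp2 : p ≠ 2) (hn : 2 ≤ n) {r : ℕ} (hr : r.Prime) (hr2 : r ≠ 2) (hrp : r ≠ p) :
    r * p ∈ Set.range (orderOf : Cfsg.POmega F (Cfsg.quadFormOdd n F) → ℕ) ↔
      r * p ∈ Set.range (orderOf : Cfsg.PSp n F → ℕ) := by
  have hp := (Fact.out : p.Prime)
  have hrodd := hr.odd_of_ne_two hr2
  have hpodd := hp.odd_of_ne_two hp2
  have hco : Nat.Coprime r p := (Nat.coprime_primes hr hp).2 hrp
  have hrF : (r : F) ≠ 0 := fun h => by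
    rw [CharP.cast_eq_zero_iff F p] at h
    exact hrp ((Nat.prime_dvd_prime_iff_eq hp hr).1 h).symm
  have hrp1 : ¬ r * p ∣ r := fun h => by
    have := Nat.le_of_dvd hr.pos h
    nlinarith [hr.two_le, hp.two_le]
  have hrp2 : ¬ r * p ∣ p := fun h => by
    have := Nat.le_of_dvd hp.pos h
    nlinarith [hr.two_le, hp.two_le]
  constructor
  · intro h
    obtain ⟨g, hgc, hg⟩ := (pomega_range h2 hn).1 h
    have hpw := pow_eq_one_iff_of_orderOf hg
    obtain ⟨j, hjn, χ, hχ, hχ1⟩ := orth_part h2 (g ^ p) hrodd hrF (by rw [← pow_mul, hpw, mul_comm])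
    let g₀ : Subgroup.centralizer ({g ^ p} : Set (orthGroup (oddForm F n))) :=
      ⟨g, self0_commute _ _ ((Commute.refl g).pow_right p)⟩
    have hs : χ (g₀ ^ p) ≠ 1 := fun h => hrp2 ((hpw p).1 (by
      have h' := hχ (g₀ ^ p) 1 rfl (by rwa [pow_one])
      rwa [pow_one] at h'))
    have hall : χ g₀ ^ (r * p) = 1 := by
      rw [← map_pow, show g₀ ^ (r * p) = 1 from Subtype.ext ((hpw _).2 dvd_rfl), map_one]
    by_cases hu : χ g₀ ^ r = 1
    · have hjn' : j < n := by
        refine lt_of_le_of_ne hjn fun hj => hrp1 ((hpw r).1 ?_)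
        have := (hχ1 hj (g₀ ^ r) (Subgroup.pow_mem _ hgc r)).1 (by rw [map_pow, hu])
        exact congrArg Subtype.val this
      obtain ⟨u, hu'⟩ := exists_p_symp (F := F) p h2 (show 1 ≤ n - j by omega)
      haveI := Fact.mk hr
      refine psp_of_two h2 hjn (χ g₀) u (pow_eq_one_iff_of_orderOf (orderOf_eq_prime hu fun h1 => hs ?_)) hu' hrodd
        hr.one_lt hco
      rw [map_pow, h1, one_pow]
    · have := psp_of_two (n := n) h2 hjn (χ g₀) 1 (N := 1)
        (pow_eq_one_iff_of_orderOf (orderOf_eq_prime_mul hr hp hall hu (by rwa [← map_pow]))) (fun i => by simp)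
        (hrodd.mul hpodd) (by nlinarith [hr.two_le, hp.two_le]) (Nat.coprime_one_right _)
      rwa [mul_one] at this
  · rintro ⟨y, hy⟩
    obtain ⟨A, hA⟩ := psp_lift y
    set B := A * A with hB
    have hB2 : B ^ (r * p) = 1 := by rw [hB, ← pow_two, ← pow_mul, mul_comm, ← hy]; exact order_lift hA
    have hBo : ∀ i, B ^ i = 1 → r * p ∣ i := fun i hi => by
      have hd : orderOf y ∣ 2 * i := (hA _).2 (Or.inl (by rw [pow_mul, pow_two, ← hB, hi]))
      rw [hy] at hd
      exact (Nat.coprime_two_right.2 (hrodd.mul hpodd)).dvd_of_dvd_mul_left hd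
    obtain ⟨j, hjn, QW, hQW, χ, hχ, hχ1, -⟩ := symp_part h2 (B ^ p) hrodd hrF (by rw [← pow_mul, mul_comm, hB2])
    obtain ⟨φ, hφ⟩ := exists_embed (n := n) h2 hQW hjn
    let g₀ : Subgroup.centralizer ({B ^ p} : Set (isomGroup (sympBil F n))) :=
      ⟨B, self0_commute _ _ ((Commute.refl B).pow_right p)⟩
    have hs : χ (g₀ ^ p) ≠ 1 := fun h => hrp2 (hBo p (by
      have h' := hχ (g₀ ^ p) 1 rfl (by rwa [pow_one])
      rwa [pow_one] at h'))
    have hall : χ g₀ ^ (r * p) = 1 := by
      rw [← map_pow, show g₀ ^ (r * p) = 1 from Subtype.ext hB2, map_one]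
    by_cases hu : χ g₀ ^ r = 1
    · have hjn' : j < n := by
        refine lt_of_le_of_ne hjn fun hj => hrp1 (hBo r ?_)
        rw [← map_pow, map_eq_one_iff _ (hχ1 hj)] at hu
        exact congrArg Subtype.val hu
      obtain ⟨u, hu'⟩ := exists_p_orth (F := F) p h2 (show 1 ≤ n - j by omega)
      haveI := Fact.mk hr
      have hord : orderOf (φ (χ g₀, u)) = r * p := by
        rw [orderOf_injective φ hφ, Prod.orderOf, orderOf_eq_prime hu fun h1 => hs (by rw [map_pow, h1, one_pow]),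
          hu', hco.lcm_eq_mul]
      exact pomega_of_odd h2 hn _ (hord ▸ hrodd.mul hpodd) hord
    · have hord : orderOf (φ (χ g₀, 1)) = r * p := by
        rw [orderOf_injective φ hφ, Prod.orderOf, orderOf_one, Nat.lcm_one_right,
          orderOf_eq_prime_mul hr hp hall hu (by rwa [← map_pow])]
      exact pomega_of_odd h2 hn _ (hord ▸ hrodd.mul hpodd) hord

/-- Two and the characteristic: both groups have such elements. -/
theorem both_two_char (h2 : (2 : F) ≠ 0) (hp2 : p ≠ 2) (hn : 3 ≤ n) :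
    2 * p ∈ Set.range (orderOf : Cfsg.POmega F (Cfsg.quadFormOdd n F) → ℕ) ∧
      2 * p ∈ Set.range (orderOf : Cfsg.PSp n F → ℕ) := by
  have hp := (Fact.out : p.Prime)
  constructor
  · obtain ⟨J, hJ⟩ := exists_four (F := F) h2 (m := n - 2) (by omega)
    haveI : Finite (orthGroup (plusForm F 2)) := inferInstance
    obtain ⟨u, hu⟩ : ∃ u : orthGroup (plusForm F 2), orderOf u = p := by
      refine exists_prime_orderOf_dvd_card' p ?_
      rw [card_orth_plus rfl 1]
      obtain ⟨k, -, hk⟩ := FiniteField.card F p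
      refine Dvd.dvd.mul_right (Dvd.dvd.mul_right (Dvd.dvd.mul_left ?_ _) _) _
      rw [hk, ← pow_mul]
      exact dvd_pow_self p (Nat.mul_pos k.pos (by norm_num)).ne'
    obtain ⟨φ, hφ⟩ := exists_embed (n := n) h2 (plusForm_nondeg (F := F) 2) (by omega)
    refine pomega_of_four h2 (by omega) (φ (u, J)) (M := p) ?_
    rw [orderOf_injective φ hφ, Prod.orderOf, hu, hJ, Nat.lcm_comm, Nat.Coprime.lcm_eq_mul]
    exact Nat.Coprime.pow_left 2 ((Nat.coprime_primes Nat.prime_two hp).2 hp2.symm)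
  · obtain ⟨m, rfl⟩ : ∃ m, n = 1 + m := ⟨n - 1, by omega⟩
    obtain ⟨⟨y, hy⟩, -⟩ := SympSpectrum.exists_mixed (F := F) p h2 le_rfl (show 1 ≤ m by omega)
    refine mem_range_of_dvd y (dvd_trans (mul_dvd_mul ?_ ?_) hy)
    · rw [pow_one]; exact ((odd_card p h2).add_odd odd_one).two_dvd
    · exact dvd_pow_self p (Nat.clog_pos hp.one_lt (by omega)).ne'

/-- Two and an odd prime different from the characteristic. -/
theorem iff_two (h2 : (2 : F) ≠ 0) (hn : 2 ≤ n) {r : ℕ} (hr : r.Prime) (hr2 : r ≠ 2) (hrp : r ≠ p) :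
    2 * r ∈ Set.range (orderOf : Cfsg.POmega F (Cfsg.quadFormOdd n F) → ℕ) ↔
      2 * r ∈ Set.range (orderOf : Cfsg.PSp n F → ℕ) := by
  have hp := (Fact.out : p.Prime)
  haveI := Fact.mk hr
  have hrodd := hr.odd_of_ne_two hr2
  have hrF : (r : F) ≠ 0 := fun h => by
    rw [CharP.cast_eq_zero_iff F p] at h
    exact hrp ((Nat.prime_dvd_prime_iff_eq hp hr).1 h).symm
  have hco2 : Nat.Coprime 2 r := (Nat.coprime_primes Nat.prime_two hr).2 hr2.symm
  have hco : Nat.Coprime 4 r := hco2.pow_left 2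
  constructor
  · intro h
    obtain ⟨g, hgc, hg⟩ := (pomega_range h2 hn).1 h
    have hpw := pow_eq_one_iff_of_orderOf hg
    obtain ⟨j, hjn, χ, hχ, hχ1⟩ := orth_part h2 (g ^ 2) hrodd hrF (by rw [← pow_mul, hpw])
    let g₀ : Subgroup.centralizer ({g ^ 2} : Set (orthGroup (oddForm F n))) :=
      ⟨g, self0_commute _ _ ((Commute.refl g).pow_right 2)⟩
    have hall : χ g₀ ^ (r * 2) = 1 := by
      rw [← map_pow, show g₀ ^ (r * 2) = 1 from Subtype.ext ((hpw _).2 (dvd_of_eq (mul_comm 2 r))), map_one]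
    have hord2 : orderOf (χ (g₀ ^ 2)) = r := orderOf_eq_prime
      (by rw [map_pow, ← pow_mul, mul_comm, hall]) fun h => by
        have h' := hχ (g₀ ^ 2) 1 rfl (by rwa [pow_one])
        rw [pow_one] at h'
        exact hr2 (((Nat.prime_dvd_prime_iff_eq hr Nat.prime_two).1 ((dvd_mul_left r 2).trans ((hpw 2).1 h'))))
    rcases lt_or_eq_of_le hjn with hlt | hj
    · obtain ⟨b, hb⟩ := exists_neg (F := F) h2 (show 1 ≤ n - j by omega)
      have := psp_of_two h2 hjn (χ (g₀ ^ 2)) b (pow_eq_one_iff_of_orderOf hord2) hb hrodd hr.one_lt hco2.symm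
      rwa [mul_comm] at this
    subst hj
    obtain ⟨hker, hneg⟩ := hχ1 rfl (g₀ ^ r) (Subgroup.pow_mem _ hgc r)
    by_cases hneg' : ∀ x, (χ g₀ ^ r).1 x = -x
    · rw [← map_pow] at hneg'
      obtain ⟨e, he, h4, hrd⟩ := hneg hneg' hr (by omega)
      obtain ⟨m, rfl⟩ : ∃ m, j = m + 1 := ⟨j - 1, by omega⟩
      rw [Nat.add_sub_cancel] at hrd
      have hq1 : ∀ k : ℕ, 1 ≤ Fintype.card F ^ k := fun k => Nat.one_le_pow _ _ Fintype.card_pos
      have hqo := odd_card (F := F) p h2
      rcases (Nat.prime_iff_prime_int.1 hr).dvd_mul.1 hrd with hrd | hrd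
      · have h4r : (4 * r : ℤ) ∣ (Fintype.card F : ℤ) ^ (m + 1) - e := by
          refine IsCoprime.mul_dvd ?_ h4 hrd
          rw [Int.isCoprime_iff_nat_coprime]
          simpa using hco
        obtain ⟨⟨y₁, hy₁⟩, y₂, hy₂⟩ := SympSpectrum.exists_half (F := F) p h2 (show 1 ≤ m + 1 by omega)
        have key : ∀ N : ℕ, ∀ y : Cfsg.PSp (m + 1) F, 4 * r ∣ N → N / 2 ∣ orderOf y →
            2 * r ∈ Set.range (orderOf : Cfsg.PSp (m + 1) F → ℕ) := by
          rintro N y ⟨c, rfl⟩ hy
          refine mem_range_of_dvd y (dvd_trans ⟨c, ?_⟩ hy)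
          rw [show 4 * r * c = 2 * r * c * 2 by ring, Nat.mul_div_cancel _ two_pos]
        rcases mul_self_eq_one_iff.1 he with rfl | rfl
        · refine key _ y₂ ?_ hy₂
          exact Int.natCast_dvd_natCast.1 (by push_cast [Nat.cast_sub (hq1 _)]; exact h4r)
        · refine key _ y₁ ?_ hy₁
          exact Int.natCast_dvd_natCast.1 (by push_cast; rwa [sub_neg_eq_add] at h4r)
      · obtain ⟨⟨y₁, hy₁⟩, y₂, hy₂⟩ := SympSpectrum.exists_mixed (F := F) p h2 (show 1 ≤ m by omega) le_rfl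
        rcases mul_self_eq_one_iff.1 he with rfl | rfl
        · refine mem_range_of_dvd y₁ (dvd_trans (Dvd.dvd.mul_right ?_ _) hy₁)
          refine hco2.mul_dvd_of_dvd_of_dvd (hqo.pow.add_odd odd_one).two_dvd ?_
          exact Int.natCast_dvd_natCast.1 (by push_cast; exact hrd)
        · refine mem_range_of_dvd y₂ (dvd_trans (Dvd.dvd.mul_right ?_ _) hy₂)
          refine hco2.mul_dvd_of_dvd_of_dvd (Nat.Odd.sub_odd hqo.pow odd_one).two_dvd ?_
          exact Int.natCast_dvd_natCast.1 (by push_cast [Nat.cast_sub (hq1 _)]; exact hrd)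
    · have hne : χ g₀ ^ r ≠ 1 := fun h => by
        have h' := hker (by rw [map_pow, h])
        have h6 := Nat.le_of_dvd hr.pos ((hpw r).1 (congrArg Subtype.val h'))
        have h7 := hr.pos
        omega
      obtain ⟨y, hy⟩ := exists_psp (χ g₀) (N := 2 * r) fun i hi => by
        refine hco2.mul_dvd_of_dvd_of_dvd ?_ ?_
        · by_contra hi2
          have hio : Odd i := Nat.not_even_iff_odd.1 fun h => hi2 h.two_dvd
          have hTi : χ g₀ ^ (i * r) = χ g₀ ^ r := by
            obtain ⟨c, rfl⟩ := hio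
            rw [show (2 * c + 1) * r = r * 2 * c + r by ring, pow_add, pow_mul, hall, one_pow, one_mul]
          rw [pow_mul] at hTi
          rcases hi with hi | hi
          · exact hne (by rw [← hTi, hi, one_pow])
          · refine hneg' fun x => ?_
            obtain ⟨c, hc⟩ := hrodd
            rw [← hTi, hc, pow_succ, pow_mul, pow_two, eq_one_or_neg_sq _ (Or.inr hi), one_pow, one_mul, hi]
        · have h1 := eq_one_or_neg_sq _ hi
          rw [← pow_add, ← two_mul, pow_mul, ← map_pow, pow_eq_one_iff_of_orderOf hord2] at h1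
          exact h1
      exact mem_range_of_dvd y hy
  · rintro ⟨y, hy⟩
    obtain ⟨A, hA⟩ := psp_lift y
    have hA4 : A ^ (r * 4) = 1 := by
      have := order_lift hA
      rwa [hy, show 2 * r * 2 = r * 4 by ring] at this
    have hA4ne : A ^ 4 ≠ 1 := fun h => by
      have hd := (hA 4).2 (Or.inl h)
      rw [hy] at hd
      have h3 : r ∣ 2 * 2 := (dvd_mul_left r 2).trans hd
      rcases hr.dvd_mul.1 h3 with h' | h' <;> exact hr2 ((Nat.prime_dvd_prime_iff_eq hr Nat.prime_two).1 h')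
    have hS : (A ^ 4) ^ r = 1 := by rw [← pow_mul, mul_comm, hA4]
    have step : ∀ (S : isomGroup (sympBil F n)), S ^ r = 1 → S ≠ 1 → (∃ x, x ≠ 0 ∧ S.1 x = x) →
        2 * r ∈ Set.range (orderOf : Cfsg.POmega F (Cfsg.quadFormOdd n F) → ℕ) := by
      rintro S hS hS1 ⟨x, hx0, hx⟩
      obtain ⟨j, hjn, QW, hQW, χ, hχ, -, hfix⟩ := symp_part h2 S hrodd hrF hS
      obtain ⟨φ, hφ⟩ := exists_embed (n := n) h2 hQW hjn
      have hlt : j < n := lt_of_le_of_ne hjn fun hj => hx0 (hfix hj x hx)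
      obtain ⟨J, hJ⟩ := exists_four (F := F) h2 (m := n - j) (by omega)
      refine pomega_of_four h2 hn (φ (χ (self0 S), J)) ?_
      rw [orderOf_injective φ hφ, Prod.orderOf, hJ, orderOf_eq_prime (p := r)
        (by rw [← map_pow, show self0 S ^ r = 1 from Subtype.ext hS, map_one])
        (fun h => hS1 (by have h' := hχ (self0 S) 1 rfl (by rwa [pow_one]); rwa [pow_one] at h')),
        Nat.lcm_comm, Nat.Coprime.lcm_eq_mul hco]
    by_cases hK : ∃ x, x ≠ 0 ∧ (A ^ 4).1 x = x
    · exact step _ hS hA4ne hK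
    obtain ⟨j, hjn, QW, hQW, χ, hχ, hχ1, -⟩ := symp_part h2 (A ^ 4) hrodd hrF hS
    let g₀ : Subgroup.centralizer ({A ^ 4} : Set (isomGroup (sympBil F n))) :=
      ⟨A, self0_commute _ _ ((Commute.refl A).pow_right 4)⟩
    set T := A ^ r with hT
    have hTc : Commute (A ^ 4) T := (Commute.refl A).pow_pow 4 r
    by_cases hT2 : T * T = 1
    · -- split the space by the involution
      have hTne : T ≠ 1 ∧ ¬ ∀ x, T.1 x = -x := by
        constructor <;> intro h <;>
          have hd : orderOf y ∣ r := (hA r).2 (by first | exact Or.inl h | exact Or.inr h) <;>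
          rw [hy] at hd <;> have h6 := Nat.le_of_dvd hr.pos hd <;> have h7 := hr.pos <;> omega
      have h22 : ∀ v, T.1 (T.1 v) = v := fun v => LinearEquiv.congr_fun (congrArg Subtype.val hT2) v
      let π : (Fin n ⊕ Fin n → F) →ₗ[F] (Fin n ⊕ Fin n → F) := (2 : F)⁻¹ • (LinearMap.id + (T.1 : _ →ₗ[F] _))
      have hπ : ∀ v, π v = (2 : F)⁻¹ • (v + T.1 v) := fun v => rfl
      have hTπ : ∀ v, T.1 (π v) = π v := fun v => by rw [hπ, map_smul, map_add, h22, add_comm]
      have hTπ' : ∀ v, T.1 (v - π v) = -(v - π v) := fun v => by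
        rw [map_sub, hTπ, hπ]
        match_scalars <;> field_simp <;> ring
      have hcross : ∀ a b, T.1 a = a → T.1 b = -b → sympBil F n a b = 0 ∧ sympBil F n b a = 0 := by
        intro a b ha hb
        have h1 := T.2 a b
        have h3 := T.2 b a
        rw [ha, hb] at h1 h3
        rw [map_neg] at h1
        rw [map_neg, LinearMap.neg_apply] at h3
        exact ⟨(mul_eq_zero.1 (show (2 : F) * sympBil F n a b = 0 by linear_combination -h1)).resolve_left h2,
          (mul_eq_zero.1 (show (2 : F) * sympBil F n b a = 0 by linear_combination -h3)).resolve_left h2⟩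
      set S := A ^ 4
      have hST : ∀ v, T.1 v = v → T.1 (S.1 v) = S.1 v := fun v hv =>
        (LinearEquiv.congr_fun (congrArg Subtype.val hTc.eq) v).symm.trans (congrArg S.1 hv)
      let f : (Fin n ⊕ Fin n → F) →ₗ[F] (Fin n ⊕ Fin n → F) :=
        (S.1 : (Fin n ⊕ Fin n → F) →ₗ[F] _).comp π + (LinearMap.id - π)
      have hf : ∀ v, f v = S.1 (π v) + (v - π v) := fun v => rfl
      have hfB : ∀ u v, sympBil F n (f u) (f v) = sympBil F n u v := by
        intro u v
        have hz := hcross _ _ (hST _ (hTπ u)) (hTπ' v)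
        have hz' := hcross _ _ (hST _ (hTπ v)) (hTπ' u)
        have e1 := hcross _ _ (hTπ u) (hTπ' v)
        have e2 := hcross _ _ (hTπ v) (hTπ' u)
        conv_rhs => rw [← add_sub_cancel (π u) u, ← add_sub_cancel (π v) v]
        rw [hf, hf]
        simp only [map_add, LinearMap.add_apply, hz.1, hz'.2, e1.1, e2.2, (S.2 : ∀ a b, sympBil F n (S.1 a) (S.1 b) = sympBil F n a b) _ _]
      have hfinj : Function.Injective f := by
        rw [injective_iff_map_eq_zero]
        intro v hv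
        exact (sympBil_nondegenerate n).1 v fun w => by rw [← hfB, hv, map_zero, LinearMap.zero_apply]
      let S' : isomGroup (sympBil F n) := ⟨LinearEquiv.ofInjectiveEndo f hfinj, hfB⟩
      have hfix1 : ∀ v, T.1 v = v → π v = v := fun v hv => by
        rw [hπ, hv, ← two_smul F, smul_smul, inv_mul_cancel₀ h2, one_smul]
      have hS'p : ∀ (i : ℕ) v, (S' ^ i).1 v = (S ^ i).1 (π v) + (v - π v) := by
        intro i
        induction i with
        | zero => intro v; simp
        | succ i ih =>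
          intro v
          rw [pow_succ, pow_succ]
          show (S' ^ i).1 (f v) = (S ^ i).1 (S.1 (π v)) + (v - π v)
          have hπf : π (f v) = S.1 (π v) := by
            have hz : π (v - π v) = 0 := by rw [hπ, hTπ', add_neg_cancel, smul_zero]
            rw [hf, map_add, hz, add_zero, hfix1 _ (hST _ (hTπ v))]
          rw [ih, hπf, hf]
          congr 1
          abel
      refine step S' ?_ ?_ ?_
      · refine (eq_one_iff_forall _).2 fun v => ?_
        rw [hS'p, hS, OneMemClass.coe_one]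
        show π v + (v - π v) = v
        abel
      · intro h
        obtain ⟨v, hv⟩ : ∃ v, π v ≠ 0 := by
          by_contra hall'
          push Not at hall'
          refine hTne.2 fun v => ?_
          have h1 := hall' v
          rw [hπ, smul_eq_zero] at h1
          exact eq_neg_of_add_eq_zero_right (h1.resolve_left (inv_ne_zero h2))
        have h1 := hS'p 1 (π v)
        rw [h, one_pow, pow_one, hfix1 _ (hTπ v), sub_self, add_zero] at h1
        exact hK ⟨π v, hv, h1.symm⟩
      · obtain ⟨v, hv⟩ : ∃ v, v - π v ≠ 0 := by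
          by_contra hall'
          push Not at hall'
          refine hTne.1 ((eq_one_iff_forall _).2 fun v => ?_)
          rw [sub_eq_zero.1 (hall' v), hTπ]
        refine ⟨v - π v, hv, ?_⟩
        have hz : π (v - π v) = 0 := by rw [hπ, hTπ', add_neg_cancel, smul_zero]
        show f (v - π v) = v - π v
        rw [hf, hz, map_zero, zero_add, sub_zero]
    · rcases lt_or_eq_of_le hjn with hlt | hj
      · -- the fixed vectors carry an element of order four
        obtain ⟨φ, hφ⟩ := exists_embed (n := n) h2 hQW hjn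
        obtain ⟨J, hJ⟩ := exists_four (F := F) h2 (m := n - j) (by omega)
        refine pomega_of_four h2 hn (φ (χ (self0 (A ^ 4)), J)) ?_
        rw [orderOf_injective φ hφ, Prod.orderOf, hJ, orderOf_eq_prime (p := r)
          (by rw [← map_pow, show self0 (A ^ 4) ^ r = 1 from Subtype.ext hS, map_one])
          (fun h => hA4ne (by have h' := hχ (self0 (A ^ 4)) 1 rfl (by rwa [pow_one]); rwa [pow_one] at h')),
          Nat.lcm_comm, Nat.Coprime.lcm_eq_mul hco]
      obtain ⟨φ, hφ⟩ := exists_embed (n := n) h2 hQW hjn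
      refine pomega_of_four h2 hn (φ (χ g₀, 1)) ?_
      rw [orderOf_injective φ hφ, Prod.orderOf, orderOf_one, Nat.lcm_one_right, orderOf_injective χ (hχ1 hj),
        ← Subgroup.orderOf_coe]
      show 4 * r ∣ orderOf A
      have h1 : orderOf y ∣ orderOf A := (hA _).2 (Or.inl (pow_orderOf_eq_one A))
      rw [hy] at h1
      refine hco.mul_dvd_of_dvd_of_dvd ?_ ((dvd_mul_left r 2).trans h1)
      haveI := Fact.mk Nat.prime_two
      have h4 : orderOf T = 2 ^ (1 + 1) := orderOf_eq_prime_pow (p := 2) (by rwa [pow_one, pow_two])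
        (by rw [hT, ← pow_mul]; exact hA4)
      rw [show (4 : ℕ) = orderOf T from h4.symm]
      exact orderOf_pow_dvd r

include p in
/-- The prime graphs agree. -/
theorem adjacent_iff (h2 : (2 : F) ≠ 0) (hn : 3 ≤ n) {r s : ℕ} (hr : r.Prime) (hs : s.Prime) (hrs : r ≠ s) :
    r * s ∈ Set.range (orderOf : Cfsg.POmega F (Cfsg.quadFormOdd n F) → ℕ) ↔
      r * s ∈ Set.range (orderOf : Cfsg.PSp n F → ℕ) := by
  have hp := (Fact.out : p.Prime)
  have hp2 : p ≠ 2 := by rintro rfl; exact h2 CharTwo.two_eq_zero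
  wlog hle : r = 2 ∨ (s ≠ 2 ∧ (s = p ∨ r ≠ p)) generalizing r s with H
  · have : s = 2 ∨ (r ≠ 2 ∧ (r = p ∨ s ≠ p)) := by
      rcases eq_or_ne s 2 with h | h
      · exact Or.inl h
      · right
        push Not at hle
        exact ⟨hle.1, Or.inl ((hle.2 h).2)⟩
    rw [mul_comm r s]
    exact H hs hr hrs.symm this
  rcases hle with rfl | ⟨hs2, h⟩
  · rcases eq_or_ne s p with rfl | hsp
    · obtain ⟨h1, h3⟩ := both_two_char (F := F) s h2 hp2 hn
      exact iff_of_true h1 h3
    · exact iff_two p h2 (by omega) hs hrs.symm hsp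
  rcases eq_or_ne r 2 with rfl | hr2
  · rcases eq_or_ne s p with rfl | hsp
    · obtain ⟨h1, h3⟩ := both_two_char (F := F) s h2 hp2 hn
      exact iff_of_true h1 h3
    · exact iff_two p h2 (by omega) hs hs2 hsp
  rcases eq_or_ne s p with rfl | hsp
  · exact iff_char s h2 hp2 (by omega) hr hr2 hrs
  · have hrp : r ≠ p := h.resolve_left hsp
    refine iff_odd h2 (by omega) ((hr.odd_of_ne_two hr2).mul (hs.odd_of_ne_two hs2))
      (by nlinarith [hr.two_le, hs.two_le]) ?_
    rw [Nat.cast_mul]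
    refine mul_ne_zero (fun h0 => ?_) fun h0 => ?_ <;> rw [CharP.cast_eq_zero_iff F p] at h0
    · exact hrp ((Nat.prime_dvd_prime_iff_eq hp hr).1 h0).symm
    · exact hsp ((Nat.prime_dvd_prime_iff_eq hp hs).1 h0).symm

end CfsgLib.Classical.PrimeGraphBC
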