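import Cfsg.Agent.Lib.Classical.SympSpectrum
import Cfsg.Agent.Lib.Classical.OrthPOmega
import Cfsg.Agent.Lib.Orth.OddOrderCentralizer
import Cfsg.Agent.Lib.Orth.TorusSign
import Cfsg.Agent.Lib.KnownC.OrthRealise
import Cfsg.Agent.Lib.KnownC.FormConj

set_option autoImplicit false
set_option linter.unusedSectionVars false

/-!
Passing elements between `PSp(2n, q)` and `PΩ(2n+1, q)`, `q` odd: an isometry `a` of odd order splits the space
into its fixed vectors and a part without fixed vectors, and on the latter `a - a⁻¹` exchanges symmetric and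
alternating forms.
-/

namespace CfsgLib.Classical.PrimeGraphTransfer

open Module QuadraticMap CfsgLib.Classical CfsgLib.Orth CfsgLib.Classical.SympOrders CfsgLib.KnownC.FormConj
open CfsgLib.KnownC.OrthSign

variable {F : Type*} [Field F]

theorem mem_range_of_dvd {G : Type*} [Group G] [Finite G] (y : G) {d : ℕ} (h : d ∣ orderOf y) :
    d ∈ Set.range (orderOf : G → ℕ) :=
  ⟨_, orderOf_pow_orderOf_div (orderOf_pos y).ne' h⟩

theorem orderOf_eq_prime_mul {G : Type*} [Group G] {x : G} {r p : ℕ} (hr : r.Prime) (hp : p.Prime)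
    (h : x ^ (r * p) = 1) (h1 : x ^ r ≠ 1) (h2 : x ^ p ≠ 1) : orderOf x = r * p := by
  obtain ⟨a, b, ha, hb, hab⟩ := Nat.dvd_mul.1 (orderOf_dvd_of_pow_eq_one h)
  rcases (Nat.dvd_prime hr).1 ha with rfl | rfl
  · exact absurd (orderOf_dvd_iff_pow_eq_one.1 (hab ▸ (by simpa using hb))) h2
  · rcases (Nat.dvd_prime hp).1 hb with rfl | rfl
    · exact absurd (orderOf_dvd_iff_pow_eq_one.1 (hab ▸ dvd_of_eq (mul_one a))) h1
    · exact hab.symm

/-- An isometry of odd order has no fixed vectors if it has none up to squaring. -/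
theorem fix_of_sq {V : Type*} [AddCommGroup V] [Module F V] (f : V ≃ₗ[F] V) {M : ℕ} (hM : Odd M)
    (hf : f ^ M = 1) {x : V} (h : f (f x) = x) : f x = x := by
  obtain ⟨k, rfl⟩ := hM
  have hk : ∀ i : ℕ, ((f ^ 2) ^ i) x = x := fun i => by
    induction i with
    | zero => rfl
    | succ i ih =>
      rw [pow_succ', LinearEquiv.mul_apply, ih, pow_two]
      exact h
  calc f x = f (((f ^ 2) ^ k) x) := by rw [hk]
    _ = (f * (f ^ 2) ^ k) x := rfl
    _ = (f ^ (2 * k + 1)) x := by rw [← pow_mul, ← pow_succ']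
    _ = x := by rw [hf]; rfl

section Forms

variable {W : Type*} [AddCommGroup W] [Module F W] [FiniteDimensional F W]

/-- From an alternating form to a quadratic one, preserved by the centralizer. -/
theorem exists_quad (h2 : (2 : F) ≠ 0) {B : W →ₗ[F] W →ₗ[F] F} (hA : B.IsAlt) (hN : B.Nondegenerate)
    (a : isomGroup B) {M : ℕ} (hM : Odd M) (ha : a ^ M = 1) (hfix : ∀ x, a.1 x = x → x = 0) :
    ∃ QW : QuadraticForm F W, (QuadraticMap.polarBilin QW).Nondegenerate ∧
      ∀ c : isomGroup B, Commute c a → ∀ x, QW (c.1 x) = QW x := by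
  let D : W →ₗ[F] W := (a.1 : W →ₗ[F] W) - ((a⁻¹).1 : W →ₗ[F] W)
  have hD : ∀ x, D x = a.1 x - (a⁻¹).1 x := fun x => rfl
  have e1 : ∀ x, a.1 ((a⁻¹).1 x) = x := fun x => a.1.apply_symm_apply x
  have hinj : Function.Injective D := by
    rw [injective_iff_map_eq_zero]
    intro x hx
    refine hfix x (fix_of_sq a.1 hM (by rw [← SubmonoidClass.coe_pow, ha]; rfl) ?_)
    rw [hD, sub_eq_zero] at hx
    rw [hx, e1]
  have hsk : ∀ x y, B (D x) y = -B x (D y) := fun x y => by
    have h1 : B (a.1 x) y = B x ((a⁻¹).1 y) := by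
      conv_lhs => rw [← e1 y]
      exact a.2 _ _
    have h3 : B ((a⁻¹).1 x) y = B x (a.1 y) := by
      conv_rhs => rw [← e1 x]
      exact (a.2 _ _).symm
    rw [hD, hD, map_sub, LinearMap.sub_apply, map_sub, h1, h3]
    ring
  let QW : QuadraticForm F W := LinearMap.BilinMap.toQuadraticMap (B.comp D)
  have hQ : ∀ x, QW x = B (D x) x := fun x => rfl
  have hpol : ∀ x y, polar QW x y = 2 * B (D x) y := fun x y => by
    have h := LinearMap.BilinMap.polar_toQuadraticMap (B := B.comp D) x y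
    rw [h, LinearMap.comp_apply, LinearMap.comp_apply, hsk y x, ← hA.neg (D x) y]
    ring
  refine ⟨QW, nondegenerate_of_left fun x hx => hinj ?_, fun c hc x => ?_⟩
  · rw [map_zero]
    exact hN.1 _ fun y => by
      have h := hx y
      change polar QW x y = 0 at h
      rw [hpol] at h
      exact (mul_eq_zero.1 h).resolve_left h2
  · have hcD : D (c.1 x) = c.1 (D x) := by
      rw [hD, hD, map_sub]
      congr 1
      · exact (LinearEquiv.congr_fun (congrArg Subtype.val hc.eq) x).symm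
      · exact (LinearEquiv.congr_fun (congrArg Subtype.val hc.inv_right.eq) x).symm
    rw [hQ, hQ, hcD, c.2]

/-- From a quadratic form to an alternating one, preserved by the centralizer. -/
theorem exists_alt (h2 : (2 : F) ≠ 0) {QW : QuadraticForm F W} (hQW : (QuadraticMap.polarBilin QW).Nondegenerate)
    (a : orthGroup QW) {M : ℕ} (hM : Odd M) (ha : a ^ M = 1) (hfix : ∀ x, a.1 x = x → x = 0) :
    ∃ B : W →ₗ[F] W →ₗ[F] F, B.IsAlt ∧ B.Nondegenerate ∧
      ∀ c : orthGroup QW, Commute c a → ∀ x y, B (c.1 x) (c.1 y) = B x y := by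
  have hinj : Function.Injective (skewEnd a) := by
    rw [injective_iff_map_eq_zero]
    intro x hx
    refine hfix x (fix_of_sq a.1 hM (by rw [← SubmonoidClass.coe_pow, ha]; rfl) ?_)
    have hx' : a.1 x = (a⁻¹).1 x := sub_eq_zero.1 hx
    rw [hx']
    exact a.1.apply_symm_apply x
  let B : W →ₗ[F] W →ₗ[F] F := (QuadraticMap.polarBilin QW).comp (skewEnd a)
  have hA : B.IsAlt := fun x => by
    show polar QW (skewEnd a x) x = 0
    have h := skew_adj a x x
    rw [polar_comm QW x (skewEnd a x)] at h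
    exact (mul_eq_zero.1 (show (2 : F) * polar QW (skewEnd a x) x = 0 by linear_combination h)).resolve_left h2
  refine ⟨B, hA, ?_, fun c hc x y => ?_⟩
  · have h : B.SeparatingLeft := fun x hx => hinj (by
      rw [map_zero]
      exact eq_zero_of_polar hQW fun y => hx y)
    exact ⟨h, fun x hx => h x fun y => hA.isRefl _ _ (hx y)⟩
  · show polar QW (skewEnd a (c.1 x)) (c.1 y) = polar QW (skewEnd a x) y
    rw [show skewEnd a (c.1 x) = c.1 (skewEnd a x) by
      show a.1 (c.1 x) - (a⁻¹).1 (c.1 x) = c.1 (a.1 x - (a⁻¹).1 x)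
      rw [map_sub]
      congr 1
      · exact (LinearEquiv.congr_fun (congrArg Subtype.val hc.eq) x).symm
      · exact (LinearEquiv.congr_fun (congrArg Subtype.val hc.inv_right.eq) x).symm]
    exact polar_isom c _ _

end Forms

section Restrict

variable {V : Type*} [AddCommGroup V] [Module F V]

theorem map_mem_range (a c : V ≃ₗ[F] V) (h : Commute c a) {x : V}
    (hx : x ∈ LinearMap.range ((a : V →ₗ[F] V) - 1)) : c x ∈ LinearMap.range ((a : V →ₗ[F] V) - 1) := by
  obtain ⟨y, rfl⟩ := hx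
  refine ⟨c y, ?_⟩
  show a (c y) - c y = c (a y - y)
  rw [map_sub]
  exact congrArg (· - c y) (LinearEquiv.congr_fun h.eq y).symm

/-- The action of the centralizer of `a` on the image of `a - 1`. -/
def resHom (a : V ≃ₗ[F] V) : Subgroup.centralizer ({a} : Set (V ≃ₗ[F] V)) →*
    (↥(LinearMap.range ((a : V →ₗ[F] V) - 1)) ≃ₗ[F] ↥(LinearMap.range ((a : V →ₗ[F] V) - 1))) where
  toFun c :=
    { toFun := fun x => ⟨c.1 x, map_mem_range a c.1 (Subgroup.mem_centralizer_singleton_iff.1 c.2) x.2⟩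
      invFun := fun x => ⟨(c⁻¹).1 x,
        map_mem_range a (c⁻¹).1 (Subgroup.mem_centralizer_singleton_iff.1 (c⁻¹).2) x.2⟩
      map_add' := fun x y => Subtype.ext (map_add c.1 (x : V) y)
      map_smul' := fun k x => Subtype.ext (map_smul c.1 k (x : V))
      left_inv := fun x => Subtype.ext (c.1.symm_apply_apply x)
      right_inv := fun x => Subtype.ext (c.1.apply_symm_apply x) }
  map_one' := rfl
  map_mul' _ _ := rfl

theorem resHom_apply (a : V ≃ₗ[F] V) (c : Subgroup.centralizer ({a} : Set (V ≃ₗ[F] V)))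
    (x : ↥(LinearMap.range ((a : V →ₗ[F] V) - 1))) : ((resHom a c x : ↥(LinearMap.range _)) : V) = c.1 x := rfl

theorem end_pow (a : V ≃ₗ[F] V) {M : ℕ} (ha : a ^ M = 1) : ((a : V →ₗ[F] V)) ^ M = 1 := by
  rw [← LinearEquiv.automorphismGroup.toLinearMapMonoidHom_apply, ← map_pow, ha, map_one]

end Restrict

variable [Fintype F] {n : ℕ}

/-- The fixed-point-free part of an element of odd order of the symplectic group, as an orthogonal space. -/
theorem symp_part (h2 : (2 : F) ≠ 0) (A : isomGroup (sympBil F n)) {M : ℕ} (hM : Odd M) (hMF : (M : F) ≠ 0)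
    (hA : A ^ M = 1) :
    ∃ j ≤ n, ∃ QW : QuadraticForm F (Fin j ⊕ Fin j → F), (QuadraticMap.polarBilin QW).Nondegenerate ∧
      ∃ χ : Subgroup.centralizer ({A} : Set (isomGroup (sympBil F n))) →* orthGroup QW,
        (∀ c : Subgroup.centralizer ({A} : Set (isomGroup (sympBil F n))), ∀ i : ℕ,
          c.1 = A → χ (c ^ i) = 1 → A ^ i = 1) ∧
        (j = n → Function.Injective χ) ∧ (j = n → ∀ x, A.1 x = x → x = 0) := by
  classical
  set a := A.1 with ha
  have haM : a ^ M = 1 := by rw [ha, ← SubmonoidClass.coe_pow, hA]; rfl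
  set W := LinearMap.range ((a : (Fin n ⊕ Fin n → F) →ₗ[F] (Fin n ⊕ Fin n → F)) - 1) with hW
  have hc := isCompl_ker_range (A := (a : (Fin n ⊕ Fin n → F) →ₗ[F] (Fin n ⊕ Fin n → F))) (end_pow a haM) hMF
  have hiso : ∀ x y, (sympBil F n) (a x) (a y) = (sympBil F n) x y := A.2
  set BW := restrictForm (sympBil F n) W with hBW
  have hBWa : BW.IsAlt := restrictForm_isAlt (sympBil_isAlt n) W
  have hBWn : BW.Nondegenerate := by
    have h : BW.SeparatingLeft := fun x hx => Subtype.ext
      (nondeg_range (sympBil_nondegenerate n) hiso (end_pow a haM) hMF x.2 fun z hz => hx ⟨z, hz⟩)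
    exact ⟨h, fun x hx => h x fun y => hBWa.isRefl _ _ (hx y)⟩
  obtain ⟨j, b, -⟩ := exists_sympBasis hBWa hBWn
  have hj : finrank F W = j + j := by rw [Module.finrank_eq_card_basis b]; simp
  have hjn : j ≤ n := by
    have := Submodule.finrank_le W
    rw [Module.finrank_fintype_fun_eq_card, hj] at this
    simp at this
    omega
  obtain ⟨e, he⟩ := exists_transfer hBWa hBWn hj
  let ρ : Subgroup.centralizer ({A} : Set (isomGroup (sympBil F n))) →* isomGroup BW :=
    { toFun := fun c => ⟨resHom a ⟨c.1.1, Subgroup.mem_centralizer_singleton_iff.2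
          (congrArg Subtype.val (Subgroup.mem_centralizer_singleton_iff.1 c.2))⟩, fun x y => c.1.2 x.1 y.1⟩
      map_one' := rfl
      map_mul' := fun _ _ => rfl }
  let ρ' : Subgroup.centralizer ({A} : Set (isomGroup (sympBil F n))) →* isomGroup (sympBil F j) :=
    (isomGroupCongr e he).toMonoidHom.comp ρ
  let A₀ : Subgroup.centralizer ({A} : Set (isomGroup (sympBil F n))) := ⟨A, Subgroup.mem_centralizer_singleton_iff.2 rfl⟩
  have hρfix : ∀ x, (ρ A₀).1 x = x → x = 0 := fun x hx => Subtype.ext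
    (Submodule.disjoint_def.1 hc.disjoint _ (LinearMap.mem_ker.2 (sub_eq_zero.2 (congrArg Subtype.val hx))) x.2)
  have hfix : ∀ x, (ρ' A₀).1 x = x → x = 0 := fun x hx => by
    have h : e ((ρ A₀).1 (e.symm x)) = x := hx
    have := hρfix (e.symm x) (e.injective (h.trans (e.apply_symm_apply x).symm))
    simpa using this
  obtain ⟨QW, hQW, hinv⟩ := exists_quad h2 (sympBil_isAlt j) (sympBil_nondegenerate j) (ρ' A₀) hM
    (by rw [← map_pow, show A₀ ^ M = 1 from Subtype.ext hA, map_one]) hfix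
  let χ : Subgroup.centralizer ({A} : Set (isomGroup (sympBil F n))) →* orthGroup QW :=
    { toFun := fun c => ⟨(ρ' c).1, hinv _ (Commute.map
        (Subtype.ext (Subgroup.mem_centralizer_singleton_iff.1 c.2) : Commute c A₀) ρ')⟩
      map_one' := Subtype.ext (congrArg Subtype.val (map_one ρ') :)
      map_mul' := fun c d => Subtype.ext (congrArg Subtype.val (map_mul ρ' c d) :) }
  have hker : ∀ c, χ c = 1 → ∀ x ∈ W, c.1.1 x = x := fun c h x hx => by
    have h1 : ρ c = 1 := by
      have h' : ρ' c = 1 := Subtype.ext (congrArg (fun u : orthGroup QW => u.1) h :)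
      exact (isomGroupCongr e he).injective (h'.trans (map_one _).symm)
    exact congrArg Subtype.val (LinearEquiv.congr_fun (congrArg Subtype.val h1) ⟨x, hx⟩)
  have htop : j = n → W = ⊤ := fun h => Submodule.eq_top_of_finrank_eq (by
    rw [hj, h, Module.finrank_fintype_fun_eq_card]; simp)
  refine ⟨j, hjn, QW, hQW, χ, fun c i hc' h => ?_, fun h => ?_, fun h x hx => ?_⟩
  · refine (eq_one_iff_forall _).2 fun x => ?_
    obtain ⟨k, hk, w, hw, rfl⟩ := Submodule.mem_sup.1 (hc.sup_eq_top ▸ Submodule.mem_top :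
      x ∈ LinearMap.ker ((a : (Fin n ⊕ Fin n → F) →ₗ[F] (Fin n ⊕ Fin n → F)) - 1) ⊔ W)
    have h1 := hker _ h w hw
    rw [SubmonoidClass.coe_pow, hc'] at h1
    rw [map_add, h1]
    congr 1
    have hk' : a k = k := sub_eq_zero.1 (LinearMap.mem_ker.1 hk)
    clear h1 h
    induction i with
    | zero => simp
    | succ i ih =>
      rw [pow_succ]
      show (A ^ i).1 (a k) = k
      rw [hk', ih]
  · rw [injective_iff_map_eq_one]
    exact fun c hc' => Subtype.ext ((eq_one_iff_forall _).2 fun x => hker c hc' x (htop h ▸ Submodule.mem_top))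
  · exact Submodule.disjoint_def.1 hc.disjoint _ (LinearMap.mem_ker.2 (sub_eq_zero.2 hx))
      (show x ∈ W from htop h ▸ Submodule.mem_top)

section Count

variable {V : Type*} [AddCommGroup V] [Module F V] [FiniteDimensional F V] {Q : QuadraticForm F V}

/-- The number of singular vectors met by a fixed-point-free isometry of prime order. -/
theorem dvd_sign {m : ℕ} {e : ℤ} (he : e * e = 1) (hs : HasSign Q (m + 1) e) (g : orthGroup Q) {r : ℕ}
    (hr : r.Prime) (hg : g ^ r = 1) (hfix : ∀ x, g.1 x = x → x = 0) :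
    (r : ℤ) ∣ ((Fintype.card F : ℤ) ^ (m + 1) - e) * ((Fintype.card F : ℤ) ^ m + e) := by
  classical
  haveI : Finite V := Module.finite_of_finite F
  letI := Fintype.ofFinite {v : V // Q v = 0}
  set σ := levelPerm Q 0 g with hσ
  have hdvd : r ∣ σ.support.card := by
    rw [← Equiv.Perm.sum_cycleType]
    refine Multiset.dvd_sum fun k hk => ?_
    have h1 : k ∣ r := (Equiv.Perm.dvd_of_mem_cycleType hk).trans
      (orderOf_dvd_of_pow_eq_one (by rw [hσ, ← map_pow, hg, map_one]))
    rcases (Nat.dvd_prime hr).1 h1 with rfl | rfl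
    · have := Equiv.Perm.two_le_of_mem_cycleType hk; omega
    · exact dvd_rfl
  have hsupp : σ.support = Finset.univ.erase ⟨0, QuadraticMap.map_zero Q⟩ := by
    ext v
    rw [Equiv.Perm.mem_support, Finset.mem_erase, and_iff_left (Finset.mem_univ _)]
    constructor
    · rintro h rfl
      exact h (Subtype.ext (map_zero g.1))
    · intro h h'
      exact h (Subtype.ext (hfix _ (congrArg Subtype.val h')))
  rw [hsupp, Finset.card_erase_of_mem (Finset.mem_univ _), Finset.card_univ, ← Nat.card_eq_fintype_card] at hdvd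
  have hZ : 1 ≤ zeroCount Q := Nat.card_pos_iff.2 ⟨⟨⟨0, QuadraticMap.map_zero Q⟩⟩, inferInstance⟩
  have hd' : (r : ℤ) ∣ (zeroCount Q : ℤ) - 1 := by
    have := Int.natCast_dvd_natCast.2 hdvd
    rwa [show Nat.card {v : V // Q v = 0} = zeroCount Q from rfl, Nat.cast_sub hZ, Nat.cast_one] at this
  convert hd' using 1
  unfold HasSign at hs
  refine mul_left_cancel₀ (show (Fintype.card F : ℤ) ≠ 0 by have := two_le_card (F := F); omega) ?_
  rw [show 2 * (m + 1) = (m + 1) + (m + 1) by ring, pow_add, pow_succ] at hs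
  rw [pow_succ]
  linear_combination -hs - (Fintype.card F : ℤ) * he

/-- `-1 ⊕ 1` in the commutator subgroup fixes the sign. -/
theorem four_dvd (h2 : (2 : F) ≠ 0) (hQ : (QuadraticMap.polarBilin Q).Nondegenerate) {W K : Submodule F V}
    (hc : IsCompl K W) (horth : ∀ k ∈ K, ∀ w ∈ W, polar Q k w = 0) (hK : finrank F K = 1) {m : ℕ}
    (hW : finrank F W = 2 * m) (hQW : (QuadraticMap.polarBilin (Q.comp W.subtype)).Nondegenerate) {e : ℤ}
    (he : e * e = 1) (hs : HasSign (Q.comp W.subtype) m e) (t : orthGroup Q) (ht : t ∈ commutator (orthGroup Q))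
    (htK : ∀ k ∈ K, t.1 k = k) (htW : ∀ w ∈ W, t.1 w = -w) :
    (4 : ℤ) ∣ (Fintype.card F : ℤ) ^ m - e := by
  classical
  haveI : Finite V := Module.finite_of_finite F
  letI := Fintype.ofFinite V
  have hsign := ((mem_commutator_odd hQ h2 t).1 ht).2
  unfold levelSign at hsign
  rw [MonoidHom.comp_apply] at hsign
  generalize Classical.decEq {x : V // Q x = 1} = dX at hsign
  generalize Fintype.ofFinite {x : V // Q x = 1} = fX at hsign
  set σ := levelPerm Q 1 t with hσ
  have ht2 : t * t = 1 := by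
    refine Subtype.ext (LinearEquiv.ext fun x => ?_)
    obtain ⟨k, hk, w, hw, rfl⟩ := Submodule.mem_sup.1 (hc.sup_eq_top ▸ Submodule.mem_top : x ∈ K ⊔ W)
    show t.1 (t.1 (k + w)) = k + w
    rw [map_add, htK k hk, htW w hw, map_add, htK k hk, map_neg, htW w hw, neg_neg]
  obtain ⟨s, hs1, hs2⟩ := sign_of_mul_self_eq_one (σ := σ) (by rw [hσ, ← map_mul, ht2, map_one])
  have hseven : Even s := by
    rw [hs2] at hsign
    rcases Nat.even_or_odd s with h | h
    · exact h
    · rw [h.neg_one_pow] at hsign; exact absurd hsign (by decide)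
  set QW := Q.comp W.subtype with hQWdef
  let d := Submodule.prodEquivOfIsCompl K W hc
  have hd : ∀ a, d a = (a.1 : V) + a.2 := fun a => rfl
  have hdQ : ∀ a, Q (d a) = Q (a.1 : V) + QW a.2 := fun a => by
    rw [hd, quad_add', horth _ a.1.2 _ a.2.2, add_zero]; rfl
  have hmoved : ∀ x : {x : V // Q x = 1}, σ x ≠ x ↔ (d.symm x.1).2 ≠ 0 := by
    intro x
    have hx : x.1 = d (d.symm x.1) := (d.apply_symm_apply _).symm
    have htx : t.1 x.1 = d ((d.symm x.1).1, -(d.symm x.1).2) := by
      conv_lhs => rw [hx, hd]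
      rw [map_add, htK _ (d.symm x.1).1.2, htW _ (d.symm x.1).2.2, hd]
      rfl
    rw [not_iff_not, ← Subtype.val_inj, hσ, levelPerm_apply, htx]
    constructor
    · intro h
      have h' := congrArg Prod.snd (d.injective (h.trans hx))
      have h'' : (2 : F) • (d.symm x.1).2 = 0 := by
        rw [two_smul]; nth_rewrite 1 [← h']; exact neg_add_cancel _
      exact (smul_eq_zero.1 h'').resolve_left h2
    · intro h
      rw [h, neg_zero, ← h]
      exact hx.symm
  let E : {x : {x : V // Q x = 1} // x ∈ σ.support} ≃ Σ k : K, {w : W // w ≠ 0 ∧ QW w = 1 - Q (k : V)} :=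
    { toFun := fun x => ⟨(d.symm x.1.1).1, (d.symm x.1.1).2, (hmoved _).1 (Equiv.Perm.mem_support.1 x.2), by
        have h := hdQ (d.symm x.1.1)
        rw [d.apply_symm_apply, x.1.2] at h
        linear_combination -h⟩
      invFun := fun a => ⟨⟨d (a.1, a.2.1), by rw [hdQ, a.2.2.2]; ring⟩, by
        rw [Equiv.Perm.mem_support, hmoved, d.symm_apply_apply]; exact a.2.2.1⟩
      left_inv := fun x => Subtype.ext (Subtype.ext (d.apply_symm_apply _))
      right_inv := by
        rintro ⟨k, w⟩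
        refine Sigma.ext ?_ ?_
        · exact congrArg Prod.fst (d.symm_apply_apply _)
        · refine (Subtype.heq_iff_coe_eq ?_).2 (congrArg Prod.snd (d.symm_apply_apply (k, w.1)))
          intro y; simp }
  set q := Fintype.card F with hq
  set Z := zeroCount QW
  set N := Nat.card {w : W // QW w = 1}
  set L := Nat.card {k : K // Q (k : V) = 1}
  have hcardK : Nat.card K = q := by rw [Module.natCard_eq_pow_finrank (K := F), hK, pow_one, Nat.card_eq_fintype_card]
  have hLK : L ≤ q := hcardK ▸ Nat.card_le_card_of_injective _ Subtype.val_injective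
  have hZ : 1 ≤ Z := Nat.card_pos_iff.2 ⟨⟨⟨0, QuadraticMap.map_zero QW⟩⟩, inferInstance⟩
  have hcount : σ.support.card = L * (Z - 1) + (q - L) * N := by
    rw [← Nat.card_eq_finsetCard, Nat.card_congr E, Nat.card_sigma,
      ← Finset.sum_filter_add_sum_filter_not Finset.univ (fun k : K => Q (k : V) = 1)]
    have h1 : ∀ k ∈ Finset.univ.filter (fun k : K => Q (k : V) = 1),
        Nat.card {w : W // w ≠ 0 ∧ QW w = 1 - Q (k : V)} = Z - 1 := fun k hk => by
      rw [(Finset.mem_filter.1 hk).2, sub_self, Nat.card_eq_fintype_card, Fintype.card_subtype,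
        show Z = (Finset.univ.filter fun w : W => QW w = 0).card by
          show zeroCount QW = _
          rw [zeroCount, Nat.card_eq_fintype_card, Fintype.card_subtype],
        ← Finset.card_erase_of_mem (show (0 : W) ∈ Finset.univ.filter fun w : W => QW w = 0 by simp)]
      congr 1
      ext w; simp
    have h3 : ∀ k ∈ Finset.univ.filter (fun k : K => ¬ Q (k : V) = 1),
        Nat.card {w : W // w ≠ 0 ∧ QW w = 1 - Q (k : V)} = N := fun k hk => by
      have hne : 1 - Q (k : V) ≠ 0 := sub_ne_zero.2 (Ne.symm (Finset.mem_filter.1 hk).2)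
      show _ = Nat.card {w : W // QW w = 1}
      rw [← card_level hQW hW hne]
      exact Nat.card_congr (Equiv.subtypeEquivRight fun w => ⟨fun h => h.2,
        fun h => ⟨fun h0 => hne (by rw [← h, h0, QuadraticMap.map_zero]), h⟩⟩)
    have hL : (Finset.univ.filter fun k : K => Q (k : V) = 1).card = L := by
      rw [← Fintype.card_subtype, ← Nat.card_eq_fintype_card]
    rw [Finset.sum_congr rfl h1, Finset.sum_congr rfl h3, Finset.sum_const, Finset.sum_const, smul_eq_mul,
      smul_eq_mul, Finset.filter_not, Finset.card_sdiff_of_subset (Finset.filter_subset _ _), hL, Finset.card_univ,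
      ← Nat.card_eq_fintype_card, hcardK]
  have hLeven : Even L := by
    have h := card_level_even Q h2 K (one_ne_zero (α := F))
    rwa [show L = Nat.card {v : V // v ∈ K ∧ Q v = 1} from Nat.card_congr
      { toFun := fun k => ⟨k.1.1, k.1.2, k.2⟩
        invFun := fun v => ⟨⟨v.1, v.2.1⟩, v.2.2⟩
        left_inv := fun _ => rfl
        right_inv := fun _ => rfl }]
  have hR := card_space_eq hQW hW
  rw [card_space hW] at hR
  have hqpos : 1 ≤ q := Fintype.card_pos
  have hR' : ((q : ℤ) ^ m) * (q : ℤ) ^ m = (Z : ℤ) + ((q : ℤ) - 1) * (N : ℤ) := by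
    have := congrArg (fun a : ℕ => (a : ℤ)) hR
    rw [← pow_add, ← two_mul]
    rw [← hq] at this
    push_cast [Nat.cast_sub hqpos] at this
    exact this
  have hE : (q : ℤ) * Z = ((q : ℤ) ^ m) * (q : ℤ) ^ m + ((q : ℤ) - 1) * e * (q : ℤ) ^ m := by
    have := hs
    unfold HasSign at this
    rw [two_mul, pow_add] at this
    exact this
  have hmain : ((σ.support.card : ℕ) : ℤ) = ((q : ℤ) ^ m - e) * ((q : ℤ) ^ m + L * e) := by
    rw [hcount]
    push_cast [Nat.cast_sub hLK, Nat.cast_sub hZ]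
    have h2q : (2 : ℤ) ≤ q := two_le_card
    refine mul_left_cancel₀ (show (q : ℤ) * ((q : ℤ) - 1) ≠ 0 from mul_ne_zero (by omega) (by omega)) ?_
    linear_combination ((L : ℤ) * ((q : ℤ) - 1) - ((q : ℤ) - L)) * hE + (-((q : ℤ) - L) * q) * hR' +
      ((L : ℤ) * q * ((q : ℤ) - 1)) * he
  obtain ⟨l, hl⟩ := hLeven
  obtain ⟨s', hs'⟩ := hseven
  have hqodd : Odd q := by
    rw [← Nat.not_even_iff_odd, Nat.even_iff, hq]
    exact fun h => h2 (FiniteField.even_card_iff_char_two.2 h ▸ ringChar.Nat.cast_ringChar : ((2 : ℕ) : F) = 0)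
  obtain ⟨c, hcc⟩ : Odd ((q : ℤ) ^ m) := ((Int.odd_coe_nat q).2 hqodd).pow
  set P := (q : ℤ) ^ m with hP
  have h4 : (P - e) * (P + L * e) = 4 * (s' : ℤ) := by
    rw [← hmain, hs1, hs']; push_cast; ring
  have hodd : P + L * e = 2 * (c + l * e) + 1 := by rw [hcc, hl]; push_cast; ring
  set b := c + l * e
  refine ⟨(s' : ℤ) * (2 * b + 1) - (b * b + b) * (P - e), ?_⟩
  rw [hodd] at h4
  linear_combination (2 * b + 1) * h4

end Count

/-- The fixed-point-free part of an element of odd order of the orthogonal group, as an alternating space. -/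
theorem orth_part (h2 : (2 : F) ≠ 0) (g : orthGroup (oddForm F n)) {M : ℕ} (hM : Odd M) (hMF : (M : F) ≠ 0)
    (hg : g ^ M = 1) :
    ∃ j ≤ n, ∃ χ : Subgroup.centralizer ({g} : Set (orthGroup (oddForm F n))) →* isomGroup (sympBil F j),
      (∀ c : Subgroup.centralizer ({g} : Set (orthGroup (oddForm F n))), ∀ i : ℕ,
        c.1 = g → χ (c ^ i) = 1 → g ^ i = 1) ∧
      (j = n → ∀ c : Subgroup.centralizer ({g} : Set (orthGroup (oddForm F n))),
        c.1 ∈ commutator (orthGroup (oddForm F n)) → (χ c = 1 → c = 1) ∧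
        ((∀ x, (χ c).1 x = -x) → M.Prime → 1 ≤ n →
          ∃ e : ℤ, e * e = 1 ∧ (4 : ℤ) ∣ (Fintype.card F : ℤ) ^ n - e ∧
            (M : ℤ) ∣ ((Fintype.card F : ℤ) ^ n - e) * ((Fintype.card F : ℤ) ^ (n - 1) + e))) := by
  classical
  have hQ := oddForm_nondeg (F := F) n h2
  set a := g.1 with ha
  have haM : a ^ M = 1 := by rw [ha, ← SubmonoidClass.coe_pow, hg]; rfl
  set aE : Module.End F (Unit ⊕ (Fin n ⊕ Fin n) → F) :=
    (a : (Unit ⊕ (Fin n ⊕ Fin n) → F) →ₗ[F] (Unit ⊕ (Fin n ⊕ Fin n) → F)) with haE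
  set W := LinearMap.range (aE - 1) with hW
  set K := LinearMap.ker (aE - 1) with hK
  have hc : IsCompl K W := isCompl_ker_range (end_pow a haM) hMF
  have hiso : ∀ x y, (QuadraticMap.polarBilin (oddForm F n)) (aE x) (aE y) = (QuadraticMap.polarBilin (oddForm F n)) x y :=
    fun x y => polar_isom g x y
  have horth : ∀ k ∈ K, ∀ w ∈ W, polar (oddForm F n) k w = 0 := by
    rintro k hk _ ⟨y, rfl⟩
    exact (perp_ker_range hiso hk y).1
  set QW := (oddForm F n).comp W.subtype with hQW
  have hQWn : (QuadraticMap.polarBilin QW).Nondegenerate := nondegenerate_of_left fun x hx => Subtype.ext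
    (nondeg_range hQ hiso (end_pow a haM) hMF x.2 fun z hz => by
      have := hx ⟨z, hz⟩
      simpa [QW, polar] using this)
  let ρ : Subgroup.centralizer ({g} : Set (orthGroup (oddForm F n))) →* orthGroup QW :=
    { toFun := fun c => ⟨resHom a ⟨c.1.1, Subgroup.mem_centralizer_singleton_iff.2
          (congrArg Subtype.val (Subgroup.mem_centralizer_singleton_iff.1 c.2))⟩, fun x => c.1.2 x.1⟩
      map_one' := rfl
      map_mul' := fun _ _ => rfl }
  let g₀ : Subgroup.centralizer ({g} : Set (orthGroup (oddForm F n))) := ⟨g, Subgroup.mem_centralizer_singleton_iff.2 rfl⟩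
  have hfix : ∀ x, (ρ g₀).1 x = x → x = 0 := fun x hx => Subtype.ext
    (Submodule.disjoint_def.1 hc.disjoint _ (LinearMap.mem_ker.2 (sub_eq_zero.2 (congrArg Subtype.val hx))) x.2)
  obtain ⟨BW, hBWa, hBWn, hinv⟩ := exists_alt h2 hQWn (ρ g₀) hM
    (by rw [← map_pow, show g₀ ^ M = 1 from Subtype.ext hg, map_one]) hfix
  obtain ⟨j, b, -⟩ := exists_sympBasis hBWa hBWn
  have hj : finrank F W = j + j := by rw [Module.finrank_eq_card_basis b]; simp
  have hV : finrank F (Unit ⊕ (Fin n ⊕ Fin n) → F) = 2 * n + 1 := by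
    rw [Module.finrank_fintype_fun_eq_card]; simp; omega
  have hsum := Submodule.finrank_add_eq_of_isCompl hc
  have hjn : j ≤ n := by omega
  obtain ⟨e, he⟩ := exists_transfer hBWa hBWn hj
  let ρ₁ : Subgroup.centralizer ({g} : Set (orthGroup (oddForm F n))) →* isomGroup BW :=
    { toFun := fun c => ⟨(ρ c).1, hinv _ (Commute.map
        (Subtype.ext (Subgroup.mem_centralizer_singleton_iff.1 c.2) : Commute c g₀) ρ)⟩
      map_one' := Subtype.ext (congrArg Subtype.val (map_one ρ) :)
      map_mul' := fun c d => Subtype.ext (congrArg Subtype.val (map_mul ρ c d) :) }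
  let χ : Subgroup.centralizer ({g} : Set (orthGroup (oddForm F n))) →* isomGroup (sympBil F j) :=
    (isomGroupCongr e he).toMonoidHom.comp ρ₁
  have hval : ∀ c (w : W) (s : F), (∀ x, (χ c).1 x = s • x) → c.1.1 (w : Unit ⊕ (Fin n ⊕ Fin n) → F) = s • (w : _) := by
    intro c w s h
    have h1 : e ((ρ₁ c).1 (e.symm (e w))) = s • e w := h (e w)
    rw [e.symm_apply_apply, ← map_smul] at h1
    exact congrArg Subtype.val (e.injective h1)
  have hone : ∀ c, χ c = 1 → ∀ w : W, c.1.1 (w : Unit ⊕ (Fin n ⊕ Fin n) → F) = w := fun c h w => by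
    rw [hval c w 1 (fun x => by rw [h, one_smul]; rfl), one_smul]
  refine ⟨j, hjn, χ, fun c i hc' h => ?_, fun hjn' c hcm => ?_⟩
  · refine Subtype.ext (LinearEquiv.ext fun x => ?_)
    obtain ⟨k, hk, w, hw, rfl⟩ := Submodule.mem_sup.1 (hc.sup_eq_top ▸ Submodule.mem_top : x ∈ K ⊔ W)
    have h1 := hone _ h ⟨w, hw⟩
    rw [SubmonoidClass.coe_pow, hc'] at h1
    show (g ^ i).1 (k + w) = k + w
    rw [map_add, h1]
    congr 1
    have hk' : a k = k := sub_eq_zero.1 (LinearMap.mem_ker.1 hk)
    clear h1 h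
    induction i with
    | zero => simp
    | succ i ih =>
      rw [pow_succ]
      show (g ^ i).1 (a k) = k
      rw [hk', ih]
  have hK1 : finrank F K = 1 := by omega
  obtain ⟨k₀, hk₀, hspan⟩ := finrank_eq_one_iff'.1 hK1
  have hcK : ∀ x ∈ K, c.1.1 x ∈ K := fun x hx => by
    rw [hK, LinearMap.mem_ker, LinearMap.sub_apply, Module.End.one_apply, sub_eq_zero] at hx ⊢
    have h := LinearEquiv.congr_fun (congrArg Subtype.val (Subgroup.mem_centralizer_singleton_iff.1 c.2)) x
    exact (h.symm.trans (congrArg c.1.1 hx) : a (c.1.1 x) = c.1.1 x)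
  obtain ⟨s, hs⟩ := hspan ⟨_, hcK k₀ k₀.2⟩
  have hsK : ∀ x ∈ K, c.1.1 x = s • x := fun x hx => by
    obtain ⟨t, ht⟩ := hspan ⟨x, hx⟩
    have ht' : t • (k₀ : Unit ⊕ (Fin n ⊕ Fin n) → F) = x := congrArg Subtype.val ht
    have hs' : s • (k₀ : Unit ⊕ (Fin n ⊕ Fin n) → F) = c.1.1 k₀ := congrArg Subtype.val hs
    rw [← ht', map_smul, ← hs', smul_comm]
  have hdet : ∀ u : F, (∀ w : W, c.1.1 (w : Unit ⊕ (Fin n ⊕ Fin n) → F) = u • (w : _)) → u ^ (j + j) * s = 1 := by
    intro u hu
    have h1 := ((mem_commutator_odd hQ h2 c.1).1 hcm).1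
    let d := Submodule.prodEquivOfIsCompl K W hc
    have hconj : (c.1.1 : (Unit ⊕ (Fin n ⊕ Fin n) → F) →ₗ[F] _) =
        (d : K × W →ₗ[F] (Unit ⊕ (Fin n ⊕ Fin n) → F)) ∘ₗ (s • LinearMap.id).prodMap (u • LinearMap.id) ∘ₗ (d.symm : _ →ₗ[F] K × W) := by
      refine LinearMap.ext fun y => ?_
      obtain ⟨p, rfl⟩ := d.surjective y
      simp only [LinearMap.comp_apply, LinearEquiv.coe_coe, LinearEquiv.symm_apply_apply]
      show c.1.1 ((p.1 : Unit ⊕ (Fin n ⊕ Fin n) → F) + p.2) = s • (p.1 : _) + u • (p.2 : _)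
      rw [map_add, hsK _ p.1.2, hu]
    rw [hconj, LinearMap.det_conj, LinearMap.det_prodMap, LinearMap.det_smul, LinearMap.det_smul, LinearMap.det_id,
      LinearMap.det_id, hK1, hj] at h1
    linear_combination h1
  refine ⟨fun h => ?_, fun h hMp hn1 => ?_⟩
  · have hs1 := hdet 1 fun w => by rw [one_smul]; exact hone c h w
    rw [one_pow, one_mul] at hs1
    refine Subtype.ext (Subtype.ext (LinearEquiv.ext fun x => ?_))
    obtain ⟨k, hk, w, hw, rfl⟩ := Submodule.mem_sup.1 (hc.sup_eq_top ▸ Submodule.mem_top : x ∈ K ⊔ W)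
    show c.1.1 (k + w) = k + w
    rw [map_add, hsK k hk, hs1, one_smul, hone c h ⟨w, hw⟩]
  · have hw : ∀ w : W, c.1.1 (w : Unit ⊕ (Fin n ⊕ Fin n) → F) = (-1 : F) • (w : _) := fun w =>
      hval c w (-1) fun x => by rw [h, neg_one_smul]
    have hs1 := hdet (-1) hw
    rw [(Even.add_self j).neg_one_pow, one_mul] at hs1
    have hW2 : finrank F W = 2 * n := by omega
    obtain ⟨ε, hε, hεv⟩ : ∃ ε : ℤ, HasSign QW n ε ∧ ε * ε = 1 := by
      rcases exists_sign hQWn hW2 with h | h
      · exact ⟨1, h, rfl⟩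
      · exact ⟨-1, h.1, by norm_num⟩
    refine ⟨ε, hεv, four_dvd h2 hQ hc horth hK1 hW2 hQWn hεv hε c.1 hcm
      (fun k hk => by rw [hsK k hk, hs1, one_smul]) (fun w hw' => by rw [hw ⟨w, hw'⟩, neg_one_smul]), ?_⟩
    obtain ⟨m, rfl⟩ : ∃ m, n = m + 1 := ⟨n - 1, by omega⟩
    rw [Nat.add_sub_cancel]
    exact dvd_sign hεv hε (ρ g₀) hMp (by rw [← map_pow, show g₀ ^ M = 1 from Subtype.ext hg, map_one]) hfix

/-- Orthogonal sums inside the standard space of dimension `2 n + 1`. -/
theorem exists_embed (h2 : (2 : F) ≠ 0) {j : ℕ} {QW : QuadraticForm F (Fin j ⊕ Fin j → F)}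
    (hQW : (QuadraticMap.polarBilin QW).Nondegenerate) (hjn : j ≤ n) :
    ∃ φ : orthGroup QW × orthGroup (oddForm F (n - j)) →* orthGroup (oddForm F n), Function.Injective φ := by
  classical
  let QP := QW.prod (oddForm F (n - j))
  have hQP : (QuadraticMap.polarBilin QP).Nondegenerate := nondegenerate_of_left fun x hx => by
    refine Prod.ext (hQW.1 _ fun y => ?_) ((oddForm_nondeg (n - j) h2).1 _ fun y => ?_)
    · have := hx (y, 0)
      simpa [QP, polar, QuadraticMap.prod_apply] using this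
    · have := hx (0, y)
      simpa [QP, polar, QuadraticMap.prod_apply] using this
  obtain ⟨-, c, e, hc, he⟩ := CfsgLib.KnownC.OrthRealise.classify_odd hQP (m := n) (by simp; omega)
  let mk : orthGroup QW × orthGroup (oddForm F (n - j)) → orthGroup (oddForm F n) := fun p =>
    ⟨e.trans ((p.1.1.prodCongr p.2.1).trans e.symm), fun v => by
      refine mul_left_cancel₀ hc ?_
      rw [← he, ← he]
      show QP (e (e.symm ((p.1.1.prodCongr p.2.1) (e v)))) = QP (e v)
      rw [e.apply_symm_apply, QuadraticMap.prod_apply, QuadraticMap.prod_apply]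
      show QW (p.1.1 (e v).1) + oddForm F (n - j) (p.2.1 (e v).2) = _
      rw [apply_quad, apply_quad]⟩
  refine ⟨MonoidHom.mk' mk fun p p' => Subtype.ext (LinearEquiv.ext fun v => ?_), fun p p' h => ?_⟩
  · show e.symm (((p * p').1.1.prodCongr (p * p').2.1) (e v)) =
      e.symm ((p.1.1.prodCongr p.2.1) (e (e.symm ((p'.1.1.prodCongr p'.2.1) (e v)))))
    rw [e.apply_symm_apply]; rfl
  · have key : ∀ z, (p.1.1.prodCongr p.2.1) z = (p'.1.1.prodCongr p'.2.1) z := fun z => by
      obtain ⟨v, rfl⟩ := e.surjective z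
      exact e.symm.injective (LinearEquiv.congr_fun (congrArg Subtype.val h) v)
    exact Prod.ext (Subtype.ext (LinearEquiv.ext fun x => congrArg Prod.fst (key (x, 0))))
      (Subtype.ext (LinearEquiv.ext fun x => congrArg Prod.snd (key (0, x))))

end CfsgLib.Classical.PrimeGraphTransfer
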