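import Cfsg.Agent.Lib.Classical.SUUnipotentPair

/-!
# Two conjugate regular unipotents in `SU₃(q)`: the parameters
-/

set_option autoImplicit false
set_option linter.unusedSectionVars false
set_option maxHeartbeats 1000000

open Module

namespace CfsgLib.Classical.SUUnipotent

variable {F : Type*} [Field F] [Fintype F] {V : Type*} [AddCommGroup V] [Module F V]
  [FiniteDimensional F V] {σ : F →+* F} {B : V →ₛₗ[σ] V →ₗ[F] F} {u : isomGroup B} {q : ℕ}

theorem subfield_eq_top {S : Subfield F} [Fintype S] (h : Fintype.card S = Fintype.card F) : ∀ x, x ∈ S := by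
  intro x
  obtain ⟨y, rfl⟩ := ((Fintype.bijective_iff_injective_and_card (fun y : S => (y : F))).2
    ⟨Subtype.val_injective, h⟩).2 x
  exact y.2

theorem subfield_pow_card {S : Subfield F} [Fintype S] {x : F} (hx : x ∈ S) : x ^ Fintype.card S = x := by
  simpa using congrArg Subtype.val (FiniteField.pow_card (⟨x, hx⟩ : S))

theorem exists_norm_one_order {F : Type*} [Field F] [Fintype F] {q : ℕ} (hq : 2 ≤ q)
    (hF : Fintype.card F = q ^ 2) : ∃ t : F, orderOf t = q + 1 := by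
  classical
  obtain ⟨g, hg⟩ := IsCyclic.exists_generator (α := Fˣ)
  have hord : orderOf g = (q + 1) * (q - 1) := by
    rw [orderOf_eq_card_of_forall_mem_zpowers hg, Nat.card_eq_fintype_card, Fintype.card_units, hF,
      ← Nat.sq_sub_sq]
  refine ⟨((g ^ (q - 1) : Fˣ) : F), ?_⟩
  rw [orderOf_units, orderOf_pow' _ (by omega), hord, Nat.gcd_eq_right (dvd_mul_left _ _),
    Nat.mul_div_cancel _ (by omega)]

/-- Two conjugates generate, apart from two small fields. -/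
theorem pair_generic (h : IsHermitian B) (hN : B.SeparatingRight) (hu : CfsgLib.KnownC.RegNilp.Reg (nil u))
    (hud : idet B u = 1) (hn : finrank F V = 3) (hF : Fintype.card F = q ^ 2) (hσ : ∀ x, σ x = x ^ q)
    (hq : 3 ≤ q) (h5 : q ≠ 5) (h8 : q ≠ 8) :
    ∃ k : isomGroup B, idet B k = 1 ∧ tGroup B ≤ Subgroup.closure ({u, k * u * k⁻¹} : Set (isomGroup B)) := by
  classical
  obtain ⟨t, hord⟩ := exists_norm_one_order (by omega) hF
  have htn : t * σ t = 1 := by rw [hσ, ← pow_succ', ← hord, pow_orderOf_eq_one]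
  obtain ⟨ε, hε0, hε⟩ := h.conj.exists_div_eq htn
  have hσε0 : σ ε ≠ 0 := fun e => hε0 (by rw [hε, e, mul_zero])
  have ht1 : t + 1 ≠ 0 := fun e => by
    have : t ^ 2 = 1 := by linear_combination (t - 1) * e
    have := Nat.le_of_dvd two_pos (hord ▸ orderOf_dvd_of_pow_eq_one this)
    omega
  have hεtr : ε + σ ε ≠ 0 := by
    rw [show ε + σ ε = (t + 1) * σ ε by linear_combination hε]
    exact mul_ne_zero ht1 hσε0
  obtain ⟨a, z, y, fr⟩ := exists_frame h hN hu hn hεtr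
  set β := ε + σ ε with hβ
  have hβσ := fr.βσ
  have hβ0 := fr.β0
  have hP : (u⁻¹ : isomGroup B).1 y = a + (-1 : F) • z + y := by
    refine inv_apply_eq u ?_
    rw [map_add, map_add, map_smul, fr.ua, fr.uz, fr.uy]
    module
  obtain ⟨k, w, hk, hw, hwa, hab⟩ := fr.exists_turn h hN (inv_mem (Subgroup.mem_zpowers u)) (i := -1)
    (by rw [map_neg, map_one]) hP (ν := ε * σ ε / (β * β))
    (div_ne_zero (mul_ne_zero hε0 hσε0) (mul_ne_zero hβ0 hβ0)) (εp := σ ε) (εq := 3 * ε + σ ε)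
    (by rw [hβ]; ring) (by rw [hβ]; ring) hσε0
    (by simp only [map_mul, map_add, map_ofNat, h.conj.invol]; rw [hβ]; ring)
    (by
      simp only [map_div₀, map_mul, hβσ, h.conj.invol]
      field_simp)
    (by
      simp only [map_div₀, map_mul, hβσ, h.conj.invol]
      field_simp)
  have hlam : ε / σ ε = t := by rw [div_eq_iff hσε0]; exact hε
  rw [hlam] at hwa
  have ht0 : t ≠ 0 := fun e => by rw [e, zero_mul] at htn; exact zero_ne_one htn
  refine ⟨k, hk, fr.core h hN hud hk hw ht0 hwa (fun S hS => ?_) hab⟩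
  haveI : Fintype S := Fintype.ofFinite _
  have h3 : t ^ 3 ∈ S := by
    have e : σ t = t⁻¹ := eq_inv_of_mul_eq_one_right htn
    rw [e, show t⁻¹ * t⁻¹ / t = (t ^ 3)⁻¹ by field_simp] at hS
    simpa using inv_mem hS
  refine subfield_eq_top ?_
  have hcard : Fintype.card F = Fintype.card S ^ finrank S F := Module.card_eq_pow_finrank
  set cS := Fintype.card S with hcS
  have hc2 : 2 ≤ cS := Fintype.one_lt_card
  obtain ⟨d, hd⟩ : ∃ d, d = finrank S F := ⟨_, rfl⟩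
  rw [← hd, hF] at hcard
  have h30 : t ^ 3 ≠ 0 := pow_ne_zero _ ht0
  have hr : orderOf (t ^ 3) ∣ cS - 1 := by
    refine orderOf_dvd_of_pow_eq_one ?_
    have := subfield_pow_card h3
    rw [← hcS, ← Nat.sub_add_cancel (show 1 ≤ cS by omega), pow_succ] at this
    exact (mul_eq_right₀ h30).1 this
  have hr3 : q + 1 ∣ 3 * orderOf (t ^ 3) := by
    rw [← hord]; refine orderOf_dvd_of_pow_eq_one ?_
    rw [pow_mul, pow_orderOf_eq_one]
  rcases (by omega : d = 0 ∨ d = 1 ∨ d = 2 ∨ 3 ≤ d) with rfl | rfl | rfl | hd3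
  · rw [pow_zero] at hcard; nlinarith
  · rw [hF, hcard, pow_one]
  · exfalso
    have hcq : cS = q := (Nat.pow_left_injective two_ne_zero hcard).symm
    have hr1 : orderOf (t ^ 3) ∣ q + 1 := by
      refine orderOf_dvd_of_pow_eq_one ?_
      rw [← pow_mul, mul_comm, pow_mul, ← hord, pow_orderOf_eq_one, one_pow]
    rw [hcq] at hr
    have h2 : orderOf (t ^ 3) ∣ 2 := by
      have := Nat.dvd_sub hr1 hr
      rwa [show q + 1 - (q - 1) = 2 by omega] at this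
    have h6 : q + 1 ∣ 6 := dvd_trans hr3 (Nat.mul_dvd_mul_left 3 h2)
    have := Nat.le_of_dvd (by norm_num) h6
    rcases (by omega : q = 3 ∨ q = 4) with rfl | rfl <;> omega
  · exfalso
    have h1 : q + 1 ≤ 3 * (cS - 1) :=
      Nat.le_of_dvd (by omega) (dvd_trans hr3 (Nat.mul_dvd_mul_left 3 hr))
    have h2 : cS ^ 3 ≤ q ^ 2 := hcard ▸ Nat.pow_le_pow_right (by omega) hd3
    have h4 : (q + 4) ^ 3 ≤ 27 * q ^ 2 := by
      calc (q + 4) ^ 3 ≤ (3 * cS) ^ 3 := Nat.pow_le_pow_left (by omega) 3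
        _ = 27 * cS ^ 3 := by ring
        _ ≤ 27 * q ^ 2 := Nat.mul_le_mul_left _ h2
    rcases (by omega : q ≤ 7 ∨ 9 ≤ q) with h7 | h9
    · interval_cases q <;> omega
    · obtain ⟨m, rfl⟩ : ∃ m, q = 9 + m := ⟨q - 9, by omega⟩
      nlinarith [Nat.zero_le (m * m * m), Nat.zero_le (m * m)]

/-- Two conjugates generate for `q = 5`. -/
theorem pair_five (h : IsHermitian B) (hN : B.SeparatingRight) (hu : CfsgLib.KnownC.RegNilp.Reg (nil u))
    (hud : idet B u = 1) (hn : finrank F V = 3) (hF : Fintype.card F = 5 ^ 2) (hσ : ∀ x, σ x = x ^ 5) :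
    ∃ k : isomGroup B, idet B k = 1 ∧ tGroup B ≤ Subgroup.closure ({u, k * u * k⁻¹} : Set (isomGroup B)) := by
  classical
  have h5 : (5 : F) = 0 := by
    have := FiniteField.cast_card_eq_zero F
    rw [hF, Nat.cast_pow] at this
    exact (pow_eq_zero_iff two_ne_zero).1 this
  have nz : ∀ {x y : F}, x * y = 1 → x ≠ 0 := fun {x y} e h0 => by
    rw [h0, zero_mul] at e
    exact zero_ne_one e
  have h20 : (2 : F) ≠ 0 := nz (y := 3) (by linear_combination h5)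
  obtain ⟨t, hord⟩ := exists_norm_one_order (q := 5) (by norm_num) hF
  have ht6 : t ^ 6 = 1 := by have := pow_orderOf_eq_one t; rwa [hord] at this
  have hne : ∀ m, 1 ≤ m → m < 6 → t ^ m ≠ 1 := fun m h1 h2 e => by
    have := Nat.le_of_dvd (by omega) (hord ▸ orderOf_dvd_of_pow_eq_one e)
    omega
  have ht3 : t ^ 3 + 1 = 0 := by
    have : (t ^ 3 + 1) * (t ^ 3 - 1) = 0 := by linear_combination ht6
    exact (mul_eq_zero.1 this).resolve_right (sub_ne_zero.2 (hne 3 (by norm_num) (by norm_num)))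
  have ht2 : t ^ 2 - t + 1 = 0 := by
    have : (t + 1) * (t ^ 2 - t + 1) = 0 := by linear_combination ht3
    refine (mul_eq_zero.1 this).resolve_left fun e => hne 2 (by norm_num) (by norm_num) ?_
    linear_combination (t - 1) * e
  have hσt : σ t = 1 - t := by
    have ht0 : t * (1 - t) = 1 := by linear_combination -ht2
    refine mul_left_cancel₀ (nz ht0) ?_
    rw [hσ, ← pow_succ', show 5 + 1 = 6 from rfl, ht6, ht0]
  obtain ⟨ε, hε⟩ : ∃ ε, ε = 1 + t := ⟨_, rfl⟩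
  have hσε : σ ε = 2 - t := by rw [hε, map_add, map_one, hσt]; ring
  have hβ3 : ε + σ ε = 3 := by rw [hσε, hε]; ring
  have h30 : (3 : F) ≠ 0 := nz (y := 2) (by linear_combination h5)
  obtain ⟨a, z, y, fr⟩ := exists_frame h hN hu hn (ε := ε) (by rw [hβ3]; exact h30)
  rw [hβ3] at fr
  have ht0 : t ≠ 0 := nz (y := 1 - t) (by linear_combination -ht2)
  have hP : (u * u).1 y = a + (2 : F) • z + y := by
    rw [mul_apply_iso, fr.uy, map_add, fr.uy, fr.uz]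
    module
  obtain ⟨k, w, hk, hw, hwa, hab⟩ := fr.exists_turn h hN
    (mul_mem (Subgroup.mem_zpowers u) (Subgroup.mem_zpowers u)) (i := 2) (map_ofNat σ 2) hP (ν := t + 2)
    (fun e => h20 (by linear_combination (-t + 3) * e - ((-1 : F)) * ht2 - h5))
    (εp := 2 * t) (εq := σ ε)
    (by rw [hε]; linear_combination -h5) (by rw [hσε, hε]; ring)
    (mul_ne_zero h20 ht0)
    (by simp only [map_mul, map_sub, map_add, map_ofNat, map_one, h.conj.invol, hσε, hσt, hε]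
        linear_combination ((-10 : F)) * ht2 + ((-3 : F)) * h5)
    (by simp only [map_mul, map_sub, map_add, map_ofNat, map_one, hσε, hσt, hε]
        linear_combination ((-69 : F) + (4 : F) * t + (-4 : F) * t ^ 2) * ht2 + ((111 : F)) * h5)
    (by simp only [map_mul, map_sub, map_add, map_ofNat, map_one, hσt, hε]
        linear_combination ((191 : F) + (59 : F) * t + (7 : F) * t ^ 2 + (2 : F) * t ^ 3) * ht2 + ((-103 : F) + (8 : F) * t) * h5)
  have hlam0 : ε / (2 * t) ≠ 0 := by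
    refine div_ne_zero (fun e => ?_) (mul_ne_zero h20 ht0)
    rw [e, map_zero, add_zero] at hβ3
    exact h30 hβ3.symm
  refine ⟨k, hk, fr.core h hN hud hk hw hlam0 hwa (fun S hS => ?_) hab⟩
  haveI : Fintype S := Fintype.ofFinite _
  refine subfield_eq_top ?_
  have hcard : Fintype.card F = Fintype.card S ^ finrank S F := Module.card_eq_pow_finrank
  have hdvd : Fintype.card S ∣ 5 ^ 2 := by
    rw [← hF, hcard]
    exact dvd_pow_self _ (Module.finrank_pos).ne'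
  obtain ⟨j, hj, hjc⟩ := (Nat.dvd_prime_pow Nat.prime_five).1 hdvd
  have hc2 : 2 ≤ Fintype.card S := Fintype.one_lt_card
  rcases (by omega : j = 0 ∨ j = 1 ∨ j = 2) with rfl | rfl | rfl
  · omega
  · exfalso
    have hfix := subfield_pow_card hS
    rw [hjc, pow_one, ← hσ] at hfix
    set l := ε / (2 * t) with hl
    have hσl : σ l = (2 - t) / (2 * (1 - t)) := by rw [hl, map_div₀, hσε, map_mul, map_ofNat, hσt]
    have hσl0 : σ l ≠ 0 := fun e => hlam0 (by rw [← h.conj.invol l, e, map_zero])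
    rw [map_div₀, map_mul, h.conj.invol, div_eq_div_iff hσl0 hlam0] at hfix
    have hl' : l = 1 + 2 * t := by
      rw [hl, div_eq_iff (mul_ne_zero h20 ht0), hε]
      linear_combination ((-4 : F)) * ht2 + ((1 : F) + (-1 : F) * t) * h5
    have hσl' : σ l = 3 - 2 * t := by rw [hl', map_add, map_one, map_mul, map_ofNat, hσt]; ring
    rw [hl'] at hfix hσl'
    rw [hσl'] at hfix
    refine one_ne_zero (α := F) ?_
    linear_combination ((4 : F) + (2 : F) * t) * hfix + ((-40 : F) + (-48 : F) * t + (-32 : F) * t ^ 2) * ht2 + ((29 : F) + (-36 : F) * t) * h5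
  · rw [hjc, hF]

/-- The vector with given coordinates. -/
def comb (a z y : V) (x₀ x₁ x₂ : F) : V := x₀ • a + x₁ • z + x₂ • y

theorem comb_eq {a z y : V} {x₀ x₁ x₂ x₀' x₁' x₂' : F} (h₀ : x₀ = x₀') (h₁ : x₁ = x₁') (h₂ : x₂ = x₂') :
    comb a z y x₀ x₁ x₂ = comb a z y x₀' x₁' x₂' := by rw [h₀, h₁, h₂]

/-- Two conjugates generate for `q = 8`. -/
theorem pair_eight (h : IsHermitian B) (hN : B.SeparatingRight) (hu : CfsgLib.KnownC.RegNilp.Reg (nil u))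
    (hud : idet B u = 1) (hn : finrank F V = 3) (hF : Fintype.card F = 8 ^ 2) (hσ : ∀ x, σ x = x ^ 8) :
    ∃ k : isomGroup B, idet B k = 1 ∧ tGroup B ≤ Subgroup.closure ({u, k * u * k⁻¹} : Set (isomGroup B)) := by
  classical
  have h2 : (2 : F) = 0 := by
    have := FiniteField.cast_card_eq_zero F
    rw [hF, Nat.cast_pow] at this
    have h8 := (pow_eq_zero_iff two_ne_zero).1 this
    have e : (2 : F) ^ 3 = 0 := by linear_combination h8
    exact (pow_eq_zero_iff (by norm_num)).1 e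
  obtain ⟨t, hord⟩ := exists_norm_one_order (q := 8) (by norm_num) hF
  have ht9 : t ^ 9 = 1 := by have := pow_orderOf_eq_one t; rwa [hord] at this
  have hΦ : t ^ 6 + t ^ 3 + 1 = 0 := by
    have : (t ^ 6 + t ^ 3 + 1) * (t ^ 3 - 1) = 0 := by linear_combination ht9
    refine (mul_eq_zero.1 this).resolve_right (sub_ne_zero.2 fun e => ?_)
    have := Nat.le_of_dvd (by norm_num) (hord ▸ orderOf_dvd_of_pow_eq_one e)
    omega
  have hσt : σ t = t ^ 2 + t ^ 5 := by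
    rw [hσ]; linear_combination (t ^ 2) * hΦ + (-(t ^ 2) - t ^ 5) * h2
  obtain ⟨ε, hε⟩ : ∃ ε, ε = t ^ 3 := ⟨_, rfl⟩
  have hβ1 : ε + σ ε = 1 := by
    rw [hε, map_pow, hσ]
    linear_combination hΦ - h2 + t ^ 6 * (t ^ 9 + 1) * ht9
  obtain ⟨a, z, y, fr⟩ := exists_frame h hN hu hn (ε := ε) (by rw [hβ1]; exact one_ne_zero)
  rw [hβ1] at fr
  have hσε : σ ε = 1 + t ^ 3 := by linear_combination hβ1 - hε - (t ^ 3) * h2
  obtain ⟨s, hs⟩ : ∃ s, s = t ^ 2 + t ^ 4 := ⟨_, rfl⟩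
  obtain ⟨c, hc⟩ : ∃ c, c = 1 + t + t ^ 4 := ⟨_, rfl⟩
  have hσs : σ s = t + t ^ 4 + t ^ 5 := by
    rw [hs, map_add, map_pow, map_pow, hσt]
    linear_combination ((1 : F) * t + (1 : F) * t ^ 4 + (-1 : F) * t ^ 5 + (2 : F) * t ^ 8 + (3 : F) * t ^ 11 + (1 : F) * t ^ 14) * hΦ + ((-1 : F) * t + (-1 : F) * t ^ 4) * h2
  have hσc : σ c = 1 + t ^ 2 := by
    rw [hc, map_add, map_add, map_one, map_pow, hσt]
    linear_combination ((-1 : F) * t ^ 5 + (2 : F) * t ^ 8 + (3 : F) * t ^ 11 + (1 : F) * t ^ 14) * hΦ + ((1 : F) * t ^ 5) * h2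
  obtain ⟨ω, hω⟩ : ∃ ω, ω = s • (z + ε • a) := ⟨_, rfl⟩
  have hyω : B y ω = 0 := by
    rw [hω]; simp only [map_smul, map_add, fr.yz, fr.ya, smul_eq_mul]
    linear_combination (s * ε) * h2
  have hωω : B ω ω = s * σ s := by
    rw [hω, h.smul_self]
    simp only [map_add, map_smul, map_smulₛₗ, LinearMap.add_apply, LinearMap.smul_apply, smul_eq_mul,
      fr.zz, fr.za, fr.az, fr.aa]
    linear_combination -(s * σ s) * h2
  have hcc : c + σ c = -(s * σ s) := by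
    rw [hσs, hσc, hs, hc]
    linear_combination ((1 : F) * t + (1 : F) * t ^ 2 + (1 : F) * t ^ 3) * hΦ + ((1 : F)) * h2
  obtain ⟨k, hkE, hkd⟩ := exists_isE h hN (a := y) (ω := ω) (c := c) fr.yy hyω (by rw [hωω, hcc])
  have hωr : ∀ x₀ x₁ x₂ : F, B ω (comb a z y x₀ x₁ x₂) = σ s * x₁ := fun x₀ x₁ x₂ => by
    rw [hω, comb]
    simp only [map_add, map_smul, map_smulₛₗ, LinearMap.add_apply, LinearMap.smul_apply, smul_eq_mul,
      fr.zz, fr.za, fr.az, fr.aa, fr.zy, fr.ay]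
    linear_combination (σ s * x₂ * σ ε - σ s * x₁) * h2
  have hyr : ∀ x₀ x₁ x₂ : F, B y (comb a z y x₀ x₁ x₂) = x₀ + ε * x₁ := fun x₀ x₁ x₂ => by
    rw [comb]
    simp only [map_add, map_smul, smul_eq_mul, fr.ya, fr.yz, fr.yy]
    ring
  have hkk : ∀ x₀ x₁ x₂ : F, k.1 (comb a z y x₀ x₁ x₂) = comb a z y (x₀ + s * ε * (x₀ + ε * x₁))
      (x₁ + s * (x₀ + ε * x₁)) (x₂ + σ s * x₁ + c * (x₀ + ε * x₁)) := fun x₀ x₁ x₂ => by
    rw [hkE, hωr, hyr, hω, comb, comb]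
    match_scalars <;> first
      | linear_combination -(σ s * x₁) * h2
      | ring1
  have hki : ∀ x₀ x₁ x₂ : F, (k⁻¹ : isomGroup B).1 (comb a z y x₀ x₁ x₂) =
      comb a z y (x₀ + s * ε * (x₀ + ε * x₁)) (x₁ + s * (x₀ + ε * x₁))
        (x₂ + σ s * x₁ + σ c * (x₀ + ε * x₁)) := fun x₀ x₁ x₂ => by
    refine inv_apply_eq k ?_
    rw [hkk]
    refine comb_eq ?_ ?_ ?_
    · linear_combination (s * ε * (x₀ + ε * x₁) + s * s * ε * ε * (x₀ + ε * x₁)) * h2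
    · linear_combination (s * (x₀ + ε * x₁) + s * s * ε * (x₀ + ε * x₁)) * h2
    · linear_combination (x₀ + ε * x₁) * hcc +
        (σ s * x₁ + c * (s * ε) * (x₀ + ε * x₁)) * h2
  have hu : ∀ x₀ x₁ x₂ : F, u.1 (comb a z y x₀ x₁ x₂) = comb a z y (x₀ + x₁) (x₁ + x₂) x₂ := fun x₀ x₁ x₂ => by
    rw [comb, comb, map_add, map_add, map_smul, map_smul, map_smul, fr.ua, fr.uz, fr.uy]
    module
  rw [hε, hσs, hσc, hs] at hki
  rw [hε, hσs, hc, hs] at hkk
  have s1 : (k⁻¹ : isomGroup B).1 (comb a z y (1 : F) (0 : F) (0 : F)) = comb a z y (1 + t + t ^ 4 + t ^ 5) (t ^ 2 + t ^ 4) (1 + t ^ 2) := by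
    rw [hki]
    exact comb_eq
      (by linear_combination (t) * hΦ + ((-1 : F) * t + (-1 : F) * t ^ 4) * h2)
      (by linear_combination (0 : F) * h2)
      (by linear_combination (0 : F) * h2)
  have s2 : u.1 (comb a z y (1 + t + t ^ 4 + t ^ 5) (t ^ 2 + t ^ 4) (1 + t ^ 2)) = comb a z y (1 + t + t ^ 2 + t ^ 5) (1 + t ^ 4) (1 + t ^ 2) := by
    rw [hu]
    exact comb_eq
      (by linear_combination (t ^ 4) * h2)
      (by linear_combination (t ^ 2) * h2)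
      (by linear_combination (0 : F) * h2)
  have s3 : k.1 (comb a z y (1 + t + t ^ 2 + t ^ 5) (1 + t ^ 4) (1 + t ^ 2)) = comb a z y (1 + t + t ^ 2 + t ^ 3 + t ^ 5) (t ^ 4) (t + t ^ 4) := by
    rw [hkk]
    exact comb_eq
      (by linear_combination ((2 : F) * t ^ 2 + (-1 : F) * t ^ 3 + (2 : F) * t ^ 4 + (-1 : F) * t ^ 5 + (2 : F) * t ^ 6 + t ^ 8) * hΦ + ((-1 : F) * t ^ 2 + (-1 : F) * t ^ 4) * h2)
      (by linear_combination ((-1 : F) + (2 : F) * t + (-1 : F) * t ^ 2 + (2 : F) * t ^ 3 + t ^ 5) * hΦ + ((1 : F) + (-1 : F) * t + t ^ 2 + t ^ 5) * h2)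
      (by linear_combination ((2 : F) * t + t ^ 2 + (2 : F) * t ^ 3 + t ^ 5) * hΦ + ((1 : F) + t ^ 2 + t ^ 5) * h2)
  have s4 : u.1 (comb a z y (1 + t + t ^ 2 + t ^ 3 + t ^ 5) (t ^ 4) (t + t ^ 4)) = comb a z y (1 + t + t ^ 2 + t ^ 3 + t ^ 4 + t ^ 5) (t) (t + t ^ 4) := by
    rw [hu]
    exact comb_eq
      (by linear_combination (0 : F) * h2)
      (by linear_combination (t ^ 4) * h2)
      (by linear_combination (0 : F) * h2)
  have s5 : (k⁻¹ : isomGroup B).1 (comb a z y (1 + t + t ^ 2 + t ^ 3 + t ^ 4 + t ^ 5) (t) (t + t ^ 4)) = comb a z y (1 + t + t ^ 2 + t ^ 3 + t ^ 4) (t + t ^ 2) (t + t ^ 2 + t ^ 3 + t ^ 4 + t ^ 5) := by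
    rw [hki]
    exact comb_eq
      (by linear_combination ((-2 : F) + (2 : F) * t ^ 3 + (2 : F) * t ^ 4 + (2 : F) * t ^ 5 + t ^ 6) * hΦ + ((1 : F) + (-1 : F) * t ^ 4) * h2)
      (by linear_combination ((2 : F) + (2 : F) * t + (2 : F) * t ^ 2 + t ^ 3) * hΦ + ((-1 : F) + (-1 : F) * t + (-1 : F) * t ^ 2 + (-1 : F) * t ^ 3) * h2)
      (by linear_combination ((3 : F) + t) * hΦ + ((-1 : F) + t ^ 2 + (-1 : F) * t ^ 3 + t ^ 4 + t ^ 5) * h2)
  have s6 : u.1 (comb a z y (1 + t + t ^ 2 + t ^ 3 + t ^ 4) (t + t ^ 2) (t + t ^ 2 + t ^ 3 + t ^ 4 + t ^ 5)) = comb a z y (1 + t ^ 3 + t ^ 4) (t ^ 3 + t ^ 4 + t ^ 5) (t + t ^ 2 + t ^ 3 + t ^ 4 + t ^ 5) := by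
    rw [hu]
    exact comb_eq
      (by linear_combination (t + t ^ 2) * h2)
      (by linear_combination (t + t ^ 2) * h2)
      (by linear_combination (0 : F) * h2)
  have s7 : k.1 (comb a z y (1 + t ^ 3 + t ^ 4) (t ^ 3 + t ^ 4 + t ^ 5) (t + t ^ 2 + t ^ 3 + t ^ 4 + t ^ 5)) = comb a z y (1 + t ^ 2 + t ^ 3 + t ^ 5) (t + t ^ 3 + t ^ 4) (t ^ 2 + t ^ 3 + t ^ 4) := by
    rw [hkk]
    exact comb_eq
      (by linear_combination ((-1 : F) * t ^ 2 + (-1 : F) * t ^ 4 + t ^ 5 + (2 : F) * t ^ 7 + t ^ 8 + t ^ 9) * hΦ + (t ^ 4) * h2)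
      (by linear_combination ((-1 : F) * t + t ^ 2 + (2 : F) * t ^ 4 + t ^ 5 + t ^ 6) * hΦ)
      (by linear_combination ((-1 : F) + (2 : F) * t + (4 : F) * t ^ 2 + (2 : F) * t ^ 3 + (2 : F) * t ^ 4 + t ^ 5 + t ^ 6) * hΦ + ((1 : F) + (-2 : F) * t ^ 2 + (-1 : F) * t ^ 5) * h2)
  have s8 : u.1 (comb a z y (1 + t ^ 2 + t ^ 3 + t ^ 5) (t + t ^ 3 + t ^ 4) (t ^ 2 + t ^ 3 + t ^ 4)) = comb a z y (1 + t + t ^ 2 + t ^ 4 + t ^ 5) (t + t ^ 2) (t ^ 2 + t ^ 3 + t ^ 4) := by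
    rw [hu]
    exact comb_eq
      (by linear_combination (t ^ 3) * h2)
      (by linear_combination (t ^ 3 + t ^ 4) * h2)
      (by linear_combination (0 : F) * h2)
  have s9 : u.1 (comb a z y (1 + t + t ^ 2 + t ^ 4 + t ^ 5) (t + t ^ 2) (t ^ 2 + t ^ 3 + t ^ 4)) = comb a z y (1 + t ^ 4 + t ^ 5) (t + t ^ 3 + t ^ 4) (t ^ 2 + t ^ 3 + t ^ 4) := by
    rw [hu]
    exact comb_eq
      (by linear_combination (t + t ^ 2) * h2)
      (by linear_combination (t ^ 2) * h2)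
      (by linear_combination (0 : F) * h2)
  have s10 : (k⁻¹ : isomGroup B).1 (comb a z y (1 + t ^ 4 + t ^ 5) (t + t ^ 3 + t ^ 4) (t ^ 2 + t ^ 3 + t ^ 4)) = comb a z y (1 + t ^ 2 + t ^ 4 + t ^ 5) (t + t ^ 2 + t ^ 3 + t ^ 4 + t ^ 5) (1 + t + t ^ 3 + t ^ 4) := by
    rw [hki]
    exact comb_eq
      (by linear_combination ((-2 : F) + (-3 : F) * t ^ 2 + (2 : F) * t ^ 5 + (2 : F) * t ^ 6 + t ^ 7 + t ^ 8) * hΦ + ((1 : F) + t ^ 2 + t ^ 3 + t ^ 5) * h2)
      (by linear_combination ((2 : F) * t ^ 2 + (2 : F) * t ^ 3 + t ^ 4 + t ^ 5) * hΦ + ((-1 : F) * t ^ 2 + (-1 : F) * t ^ 3 + (-2 : F) * t ^ 5) * h2)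
      (by linear_combination ((2 : F) + (3 : F) * t + (3 : F) * t ^ 2 + (2 : F) * t ^ 3) * hΦ + ((-1 : F) + (-2 : F) * t + (-2 : F) * t ^ 3) * h2)
  have s11 : u.1 (comb a z y (1 + t ^ 2 + t ^ 4 + t ^ 5) (t + t ^ 2 + t ^ 3 + t ^ 4 + t ^ 5) (1 + t + t ^ 3 + t ^ 4)) = comb a z y (1 + t + t ^ 3) (1 + t ^ 2 + t ^ 5) (1 + t + t ^ 3 + t ^ 4) := by
    rw [hu]
    exact comb_eq
      (by linear_combination (t ^ 2 + t ^ 4 + t ^ 5) * h2)
      (by linear_combination (t + t ^ 3 + t ^ 4) * h2)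
      (by linear_combination (0 : F) * h2)
  have s12 : k.1 (comb a z y (1 + t + t ^ 3) (1 + t ^ 2 + t ^ 5) (1 + t + t ^ 3 + t ^ 4)) = comb a z y (1 + t + t ^ 2) (0 : F) (0 : F) := by
    rw [hkk]
    exact comb_eq
      (by linear_combination ((2 : F) + (-2 : F) * t + (3 : F) * t ^ 2 + (-1 : F) * t ^ 3 + (2 : F) * t ^ 4 + t ^ 7 + t ^ 9) * hΦ + ((-1 : F) + t + (-2 : F) * t ^ 2 + (-1 : F) * t ^ 5) * h2)
      (by linear_combination ((-1 : F) + (2 : F) * t + t ^ 4 + t ^ 6) * hΦ + ((1 : F) + (-1 : F) * t + t ^ 2 + t ^ 3 + (-1 : F) * t ^ 4 + (2 : F) * t ^ 5) * h2)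
      (by linear_combination ((2 : F) * t + t ^ 2 + (2 : F) * t ^ 3 + t ^ 4 + t ^ 6) * hΦ + ((1 : F) + t + t ^ 3 + t ^ 4 + t ^ 5) * h2)
  have hv : ∀ x, (k * u * k⁻¹).1 x = k.1 (u.1 ((k⁻¹ : isomGroup B).1 x)) := fun x => by
    rw [mul_apply_iso, mul_apply_iso]
  have ha : comb a z y (1 : F) (0 : F) (0 : F) = a := by simp [comb]
  set v := k * u * k⁻¹ with hvdef
  have huH : u ∈ Subgroup.closure ({u, v} : Set (isomGroup B)) := Subgroup.subset_closure (Or.inl rfl)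
  have hvH : v ∈ Subgroup.closure ({u, v} : Set (isomGroup B)) := Subgroup.subset_closure (Or.inr rfl)
  have hwa : (v * (u * (u * (v * (u * v))))).1 a = (1 + t + t ^ 2) • a := by
    simp only [mul_apply_iso, hv]
    rw [← ha, s1, s2, s3, s4, s5, s6, s7, s8, s9, s10, s11, s12, ha]
    simp [comb]
  have hab : B a (v.1 a) ≠ 0 := by
    rw [hv, ← ha, s1, s2, s3]
    simp only [comb, map_add, map_smul, map_smulₛₗ, LinearMap.add_apply, LinearMap.smul_apply, smul_eq_mul,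
      fr.aa, fr.az, fr.ay, mul_zero, zero_mul, add_zero, zero_add, mul_one, one_mul, map_one, map_zero]
    intro e
    refine one_ne_zero (α := F) ?_
    linear_combination (t ^ 2) * e + ((-1 : F)) * hΦ + ((1 : F)) * h2
  have hσl : σ (1 + t + t ^ 2) = 1 + t + t ^ 2 + t ^ 4 + t ^ 5 := by
    rw [map_add, map_add, map_one, map_pow, hσt]
    linear_combination ((1 : F) * t + (1 : F) * t ^ 4) * hΦ + ((-1 : F) * t + (-1 : F) * t ^ 4) * h2
  have hl0 : (1 + t + t ^ 2 : F) ≠ 0 := fun e => one_ne_zero (α := F) (by linear_combination (t ^ 3 + t ^ 4) * e + ((-1 : F)) * hΦ + ((1 : F) + (-1 : F) * t ^ 4 + (-1 : F) * t ^ 5) * h2)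
  refine ⟨k, hkd, fr.core h hN hud hkd
    (mul_mem hvH (mul_mem huH (mul_mem huH (mul_mem hvH (mul_mem huH hvH))))) hl0 hwa (fun S hS => ?_) hab⟩
  obtain ⟨f, hf⟩ : ∃ f, f = 1 + t + t ^ 3 + t ^ 4 + t ^ 5 := ⟨_, rfl⟩
  have hfe : σ (1 + t + t ^ 2) * σ (1 + t + t ^ 2) / (1 + t + t ^ 2) = f := by
    rw [div_eq_iff hl0, hσl, hf]
    linear_combination ((1 : F) * t ^ 2 + (2 : F) * t ^ 3 + (1 : F) * t ^ 4) * hΦ + ((-1 : F) * t ^ 3) * h2
  rw [hfe] at hS
  have f2 : f ^ 2 = (t + t ^ 3 + t ^ 5) := by rw [hf]; linear_combination ((1 : F) + (1 : F) * t + (3 : F) * t ^ 2 + (2 : F) * t ^ 3 + (1 : F) * t ^ 4) * hΦ + ((-1 : F) * t ^ 2 + (-1 : F) * t ^ 3 + (1 : F) * t ^ 4) * h2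
  have f4 : f ^ 4 = (1 + t + t ^ 2 + t ^ 3) := by rw [show f ^ 4 = (f ^ 2) * (f ^ 2) by ring, f2]; linear_combination ((3 : F) + (-1 : F) * t + (2 : F) * t ^ 2 + (1 : F) * t ^ 4) * hΦ + ((-2 : F) + (-1 : F) * t ^ 2 + (-2 : F) * t ^ 3 + (1 : F) * t ^ 4 + (-1 : F) * t ^ 5) * h2
  have f8 : f ^ 8 = (t ^ 2 + t ^ 3 + t ^ 4) := by rw [show f ^ 8 = (f ^ 4) * (f ^ 4) by ring, f4]; linear_combination ((1 : F)) * hΦ + ((1 : F) * t + (1 : F) * t ^ 2 + (1 : F) * t ^ 3 + (1 : F) * t ^ 4 + (1 : F) * t ^ 5) * h2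
  have g4 : f ^ 4 ≠ f := fun e => one_ne_zero (α := F) (by rw [f4, hf] at e; linear_combination (t + t ^ 2 + t ^ 3 + t ^ 4 + t ^ 5) * e + ((-1 : F) + (2 : F) * t ^ 2 + (2 : F) * t ^ 3 + (1 : F) * t ^ 4) * hΦ + ((1 : F) + (-1 : F) * t ^ 2 + (-1 : F) * t ^ 3 + (-1 : F) * t ^ 4 + (-1 : F) * t ^ 5) * h2)
  have g8 : f ^ 8 ≠ f := fun e => one_ne_zero (α := F) (by rw [f8, hf] at e; linear_combination (t ^ 4 + t ^ 5) * e + ((-1 : F) + (-2 : F) * t + (1 : F) * t ^ 3 + (1 : F) * t ^ 4) * hΦ + ((1 : F) + (1 : F) * t + (1 : F) * t ^ 4 + (1 : F) * t ^ 5) * h2)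
  haveI : Fintype S := Fintype.ofFinite _
  refine subfield_eq_top ?_
  have hcard : Fintype.card F = Fintype.card S ^ finrank S F := Module.card_eq_pow_finrank
  obtain ⟨d, hd⟩ : ∃ d, d = finrank S F := ⟨_, rfl⟩
  rw [← hd, hF] at hcard
  have hd0 : d ≠ 0 := hd ▸ (Module.finrank_pos).ne'
  have hdvd : Fintype.card S ∣ 2 ^ 6 := by
    rw [show (2 : ℕ) ^ 6 = 8 ^ 2 by norm_num, hcard]
    exact dvd_pow_self _ hd0
  obtain ⟨j, hj, hjc⟩ := (Nat.dvd_prime_pow Nat.prime_two).1 hdvd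
  have hc2 : 2 ≤ Fintype.card S := Fintype.one_lt_card
  have hfix := subfield_pow_card hS
  rw [hjc] at hfix hc2 hcard
  rcases (by omega : j = 0 ∨ j = 1 ∨ j = 2 ∨ j = 3 ∨ j = 4 ∨ j = 5 ∨ j = 6) with
    rfl | rfl | rfl | rfl | rfl | rfl | rfl
  · norm_num at hc2
  · norm_num at hfix
    exact absurd (by rw [show f ^ 4 = (f ^ 2) ^ 2 by ring, hfix, hfix]) g4
  · exact absurd hfix g4
  · exact absurd hfix g8
  · exfalso
    rcases (by omega : d = 1 ∨ 2 ≤ d) with rfl | h2'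
    · norm_num at hcard
    · have := Nat.pow_le_pow_right (show 1 ≤ 2 ^ 4 by norm_num) h2'
      rw [← hcard] at this
      norm_num at this
  · exfalso
    rcases (by omega : d = 1 ∨ 2 ≤ d) with rfl | h2'
    · norm_num at hcard
    · have := Nat.pow_le_pow_right (show 1 ≤ 2 ^ 5 by norm_num) h2'
      rw [← hcard] at this
      norm_num at this
  · rw [hjc, hF]; norm_num

end CfsgLib.Classical.SUUnipotent
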