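import Cfsg.Agent.Lib.Classical.TensorSmall
import Cfsg.Agent.Lib.Classical.SubfieldOrth.QuadMax

/-!
# Overgroups of decomposition stabilisers fixing a set of vectors
-/

set_option autoImplicit false
set_option linter.unusedSectionVars false
set_option backward.isDefEq.respectTransparency false

open Module QuadraticMap CfsgLib.Orth Matrix
open scoped commutatorElement

namespace CfsgLib.Classical.RefineSet

variable {F : Type*} [Field F] [Fintype F] {ι : Type} [Fintype ι] [DecidableEq ι] {t : ℕ}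

/-- The matrices mapping a set of vectors onto itself. -/
def setStab (S : Set (ι → F)) : Subgroup (GL ι F) where
  carrier := {g | ∀ x, (g : Matrix ι ι F) *ᵥ x ∈ S ↔ x ∈ S}
  one_mem' := fun x => by simp
  mul_mem' := fun {a b} ha hb x => by rw [Units.val_mul, ← Matrix.mulVec_mulVec, ha, hb]
  inv_mem' := fun {a} ha x => by
    have := (ha (((a⁻¹ : GL ι F) : Matrix ι ι F) *ᵥ x)).symm
    rwa [Matrix.mulVec_mulVec, ← Units.val_mul, mul_inv_cancel, Units.val_one, Matrix.one_mulVec] at this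

theorem mem_setStab_of_mapsTo {S : Set (ι → F)} {g : GL ι F}
    (h : ∀ x ∈ S, (g : Matrix ι ι F) *ᵥ x ∈ S) : g ∈ setStab S := by
  intro x
  refine ⟨fun hx => ?_, h x⟩
  have hinj : Function.Injective ((g : Matrix ι ι F).mulVec) :=
    Function.LeftInverse.injective (g := ((g⁻¹ : GL ι F) : Matrix ι ι F).mulVec) fun y => by
      rw [Matrix.mulVec_mulVec, ← Units.val_mul, inv_mul_cancel, Units.val_one, Matrix.one_mulVec]
  obtain ⟨y, hy, hyx⟩ := (((Set.toFinite S).injOn_iff_bijOn_of_mapsTo h).1 hinj.injOn).surjOn hx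
  exact hinj hyx ▸ hy

variable (Q : QuadraticForm F (ι → F)) (D : Fin t → Submodule F (ι → F))

/-- The vectors of one norm in the members. -/
def memberSet (a : F) : Set (ι → F) := {x | ∃ i, x ∈ D i ∧ Q x = a}

variable {Q D}

/-- A vector pairing with two members lies in no member. -/
theorem not_mem_member (horth : ∀ i j, i ≠ j → ∀ x ∈ D i, ∀ y ∈ D j, polar Q x y = 0) {y : ι → F} {i j : Fin t}
    (hij : i ≠ j) {z z' : ι → F} (hz : z ∈ D i) (hz' : z' ∈ D j) (h : polar Q z y ≠ 0) (h' : polar Q z' y ≠ 0)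
    (l : Fin t) : y ∉ D l := by
  intro hy
  by_cases hli : l = i
  · exact h' (horth j l (by rw [hli]; exact Ne.symm hij) z' hz' y hy)
  · exact h (horth i l (Ne.symm hli) z hz y hy)

theorem orth_of_decomp {Qf : (ι → F) → F} (hQf : ∀ v, Qf v = Q v) {k : ℕ}
    (hD : Cfsg.Geo.IsOrthogonalMDecomposition Qf k D) :
    ∀ i j, i ≠ j → ∀ x ∈ D i, ∀ y ∈ D j, polar Q x y = 0 := fun i j hij x hx y hy => by
  have := hD.decomp.orthogonal i j hij x hx y hy
  rwa [show Qf = ⇑Q from funext hQf] at this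

theorem mem_iff_of_disjoint {k : ℕ} (hD : Cfsg.Geo.IsMDecomposition k D) {x : ι → F} {i j : Fin t}
    (hx : x ∈ D i) (hx' : x ∈ D j) (hx0 : x ≠ 0) : i = j := by
  by_contra hne
  exact hx0 ((Submodule.disjoint_def.1 (hD.indep.pairwiseDisjoint hne)) x hx hx')

/-- A set of vectors invariant under the decomposition stabiliser gives an overgroup. -/
theorem set_nonmax {Qf : (ι → F) → F} (hQf : ∀ v, Qf v = Q v) (S : Set (ι → F))
    (hH : ∀ g : orthGroup Q, (∀ i, ∃ j, ∀ x ∈ D i, g.1 x ∈ D j) → ∀ x ∈ S, g.1 x ∈ S)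
    {k₁ : orthGroup Q} (hk₁ : k₁ ∈ commutator (orthGroup Q)) (hk₁S : ∀ x ∈ S, k₁.1 x ∈ S)
    (hk₁D : ∃ i, ∃ x ∈ D i, ∃ y ∈ D i, ∀ j, k₁.1 x ∈ D j → k₁.1 y ∉ D j)
    {k₂ : orthGroup Q} (hk₂ : k₂ ∈ commutator (orthGroup Q)) (hk₂S : ∃ x ∈ S, k₂.1 x ∉ S) :
    ∃ K : Subgroup (GL ι F), Cfsg.Geo.decompositionStabilizer D ⊓ Cfsg.Geo.omegaGL Qf < K ∧
      K < Cfsg.Geo.omegaGL Qf := by
  have hmv : ∀ (g : orthGroup Q) (y : ι → F), (orthToGL Q hQf g : Matrix ι ι F) *ᵥ y = g.1 y :=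
    fun g y => matOf_mulVec Q g y
  have hmem : ∀ {g : orthGroup Q}, g ∈ commutator (orthGroup Q) →
      orthToGL Q hQf g ∈ Cfsg.Geo.omegaGL Qf := fun {g} hg => by
    rw [omegaGL_eq Q hQf]
    exact Subgroup.mem_map_of_mem _ hg
  refine ⟨setStab S ⊓ Cfsg.Geo.omegaGL Qf, lt_of_le_not_ge (fun h hh => ⟨?_, hh.2⟩) fun hle => ?_,
    lt_of_le_not_ge inf_le_right fun hle => ?_⟩
  · obtain ⟨⟨τ, hτ⟩, hhΩ⟩ := hh
    rw [omegaGL_eq Q hQf] at hhΩ
    obtain ⟨g, -, rfl⟩ := hhΩ
    refine mem_setStab_of_mapsTo fun x hx => ?_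
    rw [hmv]
    refine hH g (fun i => ⟨τ i, fun y hy => ?_⟩) x hx
    exact (hτ i).le ⟨y, hy, by rw [Matrix.toLin'_apply, hmv]⟩
  · obtain ⟨⟨τ, hτ⟩, -⟩ := hle (show orthToGL Q hQf k₁ ∈ _ from
      ⟨mem_setStab_of_mapsTo fun x hx => by rw [hmv]; exact hk₁S x hx, hmem hk₁⟩)
    obtain ⟨i, x, hx, y, hy, hxy⟩ := hk₁D
    refine hxy (τ i) ?_ ?_
    · exact (hτ i).le ⟨x, hx, by rw [Matrix.toLin'_apply, hmv]⟩
    · exact (hτ i).le ⟨y, hy, by rw [Matrix.toLin'_apply, hmv]⟩
  · obtain ⟨hS, -⟩ := hle (hmem hk₂)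
    obtain ⟨x, hx, hxS⟩ := hk₂S
    exact hxS (by rw [← hmv]; exact (hS x).2 hx)

theorem memberSet_invariant (a : F) (g : orthGroup Q) (hg : ∀ i, ∃ j, ∀ x ∈ D i, g.1 x ∈ D j) :
    ∀ x ∈ memberSet Q D a, g.1 x ∈ memberSet Q D a := by
  rintro x ⟨i, hx, hQx⟩
  obtain ⟨j, hj⟩ := hg i
  exact ⟨j, hj x hx, by rw [apply_quad, hQx]⟩

theorem comm_refl (a b : ι → F) :
    ⁅refl Q a, refl Q b⁆ = refl Q a * refl Q ((refl Q b).1 a) := by
  rw [commutatorElement_def, refl_inv, refl_inv, mul_assoc, mul_assoc, ← conj_refl Q (refl Q b) a, refl_inv,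
    ← mul_assoc (refl Q b)]

theorem comm_mem (a b : orthGroup Q) : ⁅a, b⁆ ∈ commutator (orthGroup Q) :=
  Subgroup.commutator_mem_commutator (Subgroup.mem_top _) (Subgroup.mem_top _)

/-- The reflection in the difference of two vectors of equal norm. -/
theorem refl_diff_eq {x y : ι → F} (hxy : polar Q x y = 0) (hQ : Q x = Q y) (h2 : (2 : F) * Q x ≠ 0) :
    Q (x - y) ≠ 0 ∧ (refl Q (x - y)).1 x = y ∧ (refl Q (x - y)).1 y = x ∧
      ∀ z, polar Q x z = 0 → polar Q y z = 0 → (refl Q (x - y)).1 z = z := by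
  have hd : Q (x - y) = 2 * Q x := by
    rw [sub_eq_add_neg, quad_add', QuadraticMap.map_neg, polar_neg_right, hxy, ← hQ]; ring
  have hd0 : Q (x - y) ≠ 0 := by rw [hd]; exact h2
  have h1 := refl_sub_apply Q hQ hd0
  refine ⟨hd0, h1, ?_, fun z hz hz' => refl_fix Q (by rw [sub_eq_add_neg, polar_add_left, polar_neg_left, hz, hz']; ring)⟩
  have h := congrArg (fun g : orthGroup Q => g.1 x) (refl_mul_self Q (x - y))
  change (refl Q (x - y)).1 ((refl Q (x - y)).1 x) = x at h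
  rwa [h1] at h

theorem lines_nonmax {Qf : (ι → F) → F} (hQf : ∀ v, Qf v = Q v) {k : ℕ}
    (hD : Cfsg.Geo.IsOrthogonalMDecomposition Qf k D) (h2 : (2 : F) ≠ 0) (ht : 5 ≤ t) {a : F} (ha : a ≠ 0)
    {i₀ : Fin t} {κ : Type} (b : κ → ι → F) (j₀ j₁ : κ) (hne : j₁ ≠ j₀) (hb : ∀ j, b j ∈ D i₀)
    (hb0 : b j₁ ≠ 0) (hbo : ∀ j, j ≠ j₀ → polar Q (b j₀) (b j) = 0) (hbQ : Q (b j₀) = a)
    (hchar : ∀ x ∈ D i₀, Q x = a → ∃ j, x = b j ∨ x = -b j) :
    ∃ K : Subgroup (GL ι F), Cfsg.Geo.decompositionStabilizer D ⊓ Cfsg.Geo.omegaGL Qf < K ∧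
      K < Cfsg.Geo.omegaGL Qf := by
  classical
  have horth := orth_of_decomp hQf hD
  have hiso : ∀ i, ∃ e : D i₀ ≃ₗ[F] D i, ∀ w : D i₀, Q ((e w : D i) : ι → F) = Q (w : ι → F) := fun i => by
    obtain ⟨e, he⟩ := hD.isometric i₀ i
    exact ⟨e, fun w => by rw [← hQf, he, hQf]⟩
  choose e he using hiso
  let v : Fin t → κ → ι → F := fun i j => (e i ⟨b j, hb j⟩ : D i)
  have hv : ∀ i j, v i j ∈ D i := fun i j => Subtype.coe_prop _
  have hvQ : ∀ i, Q (v i j₀) = a := fun i => (he i ⟨b j₀, hb j₀⟩).trans hbQ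
  have hpol : ∀ i (x y : D i₀), polar Q ((e i x : D i) : ι → F) ((e i y : D i) : ι → F) = polar Q (x : ι → F) y := by
    intro i x y
    simp only [QuadraticMap.polar, ← Submodule.coe_add, ← map_add, he]
  have hvo : ∀ i j, j ≠ j₀ → polar Q (v i j₀) (v i j) = 0 := fun i j hj => (hpol i _ _).trans (hbo j hj)
  have hvS : ∀ i, v i j₀ ∈ memberSet Q D a := fun i => ⟨i, hv i j₀, hvQ i⟩
  have hSchar : ∀ x ∈ memberSet Q D a, ∃ i j, x = v i j ∨ x = -v i j := by
    rintro x ⟨i, hx, hQx⟩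
    set y := (e i).symm ⟨x, hx⟩
    have hy : ((e i y : D i) : ι → F) = x := by simp [y]
    obtain ⟨j, hj⟩ := hchar y y.2 (by rw [← he i y, hy, hQx])
    refine ⟨i, j, ?_⟩
    rcases hj with hj | hj
    · left; rw [← hy, show y = ⟨b j, hb j⟩ from Subtype.ext hj]
    · right; rw [← hy, show y = -⟨b j, hb j⟩ from Subtype.ext hj, map_neg]; rfl
  have hcross : ∀ i i', i ≠ i' → ∀ j j', polar Q (v i j) (v i' j') = 0 := fun i i' h j j' =>
    horth i i' h _ (hv i j) _ (hv i' j')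
  have h2a : (2 : F) * a ≠ 0 := mul_ne_zero h2 ha
  have hvv : ∀ i, polar Q (v i j₀) (v i j₀) = 2 * a := fun i => by rw [polar_self', hvQ]
  have hpres : ∀ p r, p ≠ r → ∀ x ∈ memberSet Q D a,
      (refl Q (v p j₀ - v r j₀)).1 x ∈ memberSet Q D a := by
    intro p r hpr x hx
    obtain ⟨-, h1, h1', hfix⟩ := refl_diff_eq (Q := Q) (hcross p r hpr j₀ j₀) (by rw [hvQ, hvQ]) (by rw [hvQ]; exact h2a)
    obtain ⟨i, j, hij⟩ := hSchar x hx
    have hQx : Q ((refl Q (v p j₀ - v r j₀)).1 x) = a := by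
      obtain ⟨_, _, hQ'⟩ := hx; rw [apply_quad, hQ']
    have key : ∃ l, (refl Q (v p j₀ - v r j₀)).1 (v i j) ∈ D l := by
      by_cases hp : i = p ∧ j = j₀
      · rw [hp.1, hp.2, h1]; exact ⟨r, hv r j₀⟩
      by_cases hr : i = r ∧ j = j₀
      · rw [hr.1, hr.2, h1']; exact ⟨p, hv p j₀⟩
      refine ⟨i, ?_⟩
      rw [hfix]
      · exact hv i j
      · by_cases h : i = p
        · subst h; exact hvo i j fun e => hp ⟨rfl, e⟩
        · exact hcross p i (Ne.symm h) _ _
      · by_cases h : i = r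
        · subst h; exact hvo i j fun e => hr ⟨rfl, e⟩
        · exact hcross r i (Ne.symm h) _ _
    obtain ⟨l, hl⟩ := key
    rcases hij with rfl | rfl
    · exact ⟨l, hl, hQx⟩
    · exact ⟨l, by rw [map_neg]; exact Submodule.neg_mem _ hl, hQx⟩
  let c : ℕ → Fin t := fun m => ⟨m % t, Nat.mod_lt _ (by omega)⟩
  have hc : ∀ m m', m < 5 → m' < 5 → m ≠ m' → c m ≠ c m' := fun m m' h h' hne' e => by
    have := congrArg Fin.val e
    simp only [c] at this
    rw [Nat.mod_eq_of_lt (by omega), Nat.mod_eq_of_lt (by omega)] at this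
    exact hne' this
  set u := fun m => v (c m) j₀ with hu
  have huQ : ∀ m, Q (u m) = a := fun m => hvQ _
  have hu0 : ∀ m m', m < 5 → m' < 5 → m ≠ m' → polar Q (u m) (u m') = 0 := fun m m' h h' hne' =>
    hcross _ _ (hc m m' h h' hne') _ _
  have huu : ∀ m, polar Q (u m) (u m) = 2 * a := fun m => hvv _
  have hd : ∀ m m', m < 5 → m' < 5 → m ≠ m' → _ := fun m m' h h' hne' =>
    refl_diff_eq (Q := Q) (hu0 m m' h h' hne') (by rw [huQ, huQ]) (by rw [huQ]; exact h2a)
  refine set_nonmax (D := D) hQf (memberSet Q D a) (memberSet_invariant a)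
    (k₁ := ⁅refl Q (u 0 - u 1), refl Q (u 0 - u 2)⁆) (comm_mem _ _) ?_ ?_
    (k₂ := ⁅refl Q (u 0 + u 1 + u 2 + u 3), refl Q (u 0 - u 4)⁆) (comm_mem _ _) ?_
  · intro x hx
    rw [commutatorElement_def, refl_inv, refl_inv]
    have p1 := hpres _ _ (hc 0 1 (by omega) (by omega) (by omega))
    have p2 := hpres _ _ (hc 0 2 (by omega) (by omega) (by omega))
    exact p1 _ (p2 _ (p1 _ (p2 x hx)))
  · -- a three-cycle on the chosen lines
    obtain ⟨-, h01, -, hf01⟩ := hd 0 1 (by omega) (by omega) (by omega)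
    obtain ⟨-, h02, -, hf02⟩ := hd 0 2 (by omega) (by omega) (by omega)
    obtain ⟨-, -, -, hf21⟩ := hd 2 1 (by omega) (by omega) (by omega)
    refine ⟨c 0, u 0, hv _ _, v (c 0) j₁, hv _ _, fun l hl => ?_⟩
    have hk : ⁅refl Q (u 0 - u 1), refl Q (u 0 - u 2)⁆ = refl Q (u 0 - u 1) * refl Q (u 2 - u 1) := by
      rw [comm_refl, map_sub, h02, hf02 (u 1) (hu0 0 1 (by omega) (by omega) (by omega))
        (hu0 2 1 (by omega) (by omega) (by omega))]
    rw [hk] at hl ⊢
    change (refl Q (u 0 - u 1)).1 ((refl Q (u 2 - u 1)).1 (u 0)) ∈ D l at hl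
    change (refl Q (u 0 - u 1)).1 ((refl Q (u 2 - u 1)).1 (v (c 0) j₁)) ∉ D l
    rw [hf21 _ (hu0 2 0 (by omega) (by omega) (by omega)) (hu0 1 0 (by omega) (by omega) (by omega)), h01] at hl
    have h1 : ∀ m, m < 5 → m ≠ 0 → polar Q (u m) (v (c 0) j₁) = 0 := fun m hm hm0 =>
      hcross _ _ (hc m 0 hm (by omega) hm0) _ _
    rw [hf21 _ (h1 2 (by omega) (by omega)) (h1 1 (by omega) (by omega)),
      hf01 _ (hvo _ _ hne) (h1 1 (by omega) (by omega))]
    intro h
    have hv1 : v (c 0) j₁ ≠ 0 := fun e0 => hb0 (by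
      have e1 : e (c 0) ⟨b j₁, hb j₁⟩ = 0 := Subtype.ext e0
      exact congrArg Subtype.val ((LinearEquiv.map_eq_zero_iff _).1 e1))
    have hl0 := mem_iff_of_disjoint hD.decomp.decomp h (hv _ _) hv1
    subst hl0
    refine h2a ?_
    rw [← huu 1]
    exact horth (c 1) (c 0) (hc 1 0 (by omega) (by omega) (by omega)) _ (hv _ _) _ hl
  · -- an element spreading a line over the members
    obtain ⟨-, h04, -, hf04⟩ := hd 0 4 (by omega) (by omega) (by omega)
    refine ⟨u 0, hvS _, ?_⟩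
    rw [comm_refl]
    change (refl Q (u 0 + u 1 + u 2 + u 3)).1 ((refl Q ((refl Q (u 0 - u 4)).1 (u 0 + u 1 + u 2 + u 3))).1 (u 0)) ∉ _
    have o : ∀ m m', m < 5 → m' < 5 → m ≠ m' → polar Q (u m) (u m') = 0 := hu0
    rw [map_add, map_add, map_add, h04,
      hf04 (u 1) (o 0 1 (by omega) (by omega) (by omega)) (o 4 1 (by omega) (by omega) (by omega)),
      hf04 (u 2) (o 0 2 (by omega) (by omega) (by omega)) (o 4 2 (by omega) (by omega) (by omega)),
      hf04 (u 3) (o 0 3 (by omega) (by omega) (by omega)) (o 4 3 (by omega) (by omega) (by omega)),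
      refl_fix Q (show polar Q (u 4 + u 1 + u 2 + u 3) (u 0) = 0 by
        rw [polar_add_left, polar_add_left, polar_add_left, o 4 0 (by omega) (by omega) (by omega),
          o 1 0 (by omega) (by omega) (by omega), o 2 0 (by omega) (by omega) (by omega),
          o 3 0 (by omega) (by omega) (by omega)]; simp)]
    set w := u 0 + u 1 + u 2 + u 3 with hw
    have hpw : polar Q w (u 0) = 2 * a := by
      rw [hw, polar_add_left, polar_add_left, polar_add_left, huu, o 1 0 (by omega) (by omega) (by omega),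
        o 2 0 (by omega) (by omega) (by omega), o 3 0 (by omega) (by omega) (by omega)]
      ring
    have hw1 : polar Q (u 1) w = 2 * a := by
      rw [hw, polar_add_right, polar_add_right, polar_add_right, huu, o 1 0 (by omega) (by omega) (by omega),
        o 1 2 (by omega) (by omega) (by omega), o 1 3 (by omega) (by omega) (by omega)]
      ring
    have hw2 : polar Q (u 2) w = 2 * a := by
      rw [hw, polar_add_right, polar_add_right, polar_add_right, huu, o 2 0 (by omega) (by omega) (by omega),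
        o 2 1 (by omega) (by omega) (by omega), o 2 3 (by omega) (by omega) (by omega)]
      ring
    have hQw : Q w = 4 * a := by
      rw [hw, quad_add', quad_add', quad_add', huQ, huQ, huQ, huQ, polar_add_left, polar_add_left, polar_add_left,
        o 0 1 (by omega) (by omega) (by omega), o 0 2 (by omega) (by omega) (by omega),
        o 1 2 (by omega) (by omega) (by omega), o 0 3 (by omega) (by omega) (by omega),
        o 1 3 (by omega) (by omega) (by omega), o 2 3 (by omega) (by omega) (by omega)]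
      ring
    have h4a : (4 : F) * a ≠ 0 := by
      rw [show (4 : F) * a = 2 * (2 * a) by ring]; exact mul_ne_zero h2 h2a
    rintro ⟨l, hl, -⟩
    refine not_mem_member horth (hc 1 2 (by omega) (by omega) (by omega)) (hv (c 1) j₀) (hv (c 2) j₀) ?_ ?_ l hl
    · show polar Q (u 1) _ ≠ 0
      rw [refl_apply, sub_eq_add_neg, polar_add_right, polar_neg_right, polar_smul_r', hQw, hpw, hw1,
        o 1 0 (by omega) (by omega) (by omega), zero_add]
      exact neg_ne_zero.2 (mul_ne_zero (mul_ne_zero (inv_ne_zero h4a) h2a) h2a)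
    · show polar Q (u 2) _ ≠ 0
      rw [refl_apply, sub_eq_add_neg, polar_add_right, polar_neg_right, polar_smul_r', hQw, hpw, hw2,
        o 2 0 (by omega) (by omega) (by omega), zero_add]
      exact neg_ne_zero.2 (mul_ne_zero (mul_ne_zero (inv_ne_zero h4a) h2a) h2a)

end CfsgLib.Classical.RefineSet
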