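import Mathlib
import Cfsg.Agent.Lib.Classical.SLBasic

/-!
# Generation of `SL_n` by regular unipotents and one elation
-/

set_option autoImplicit false
set_option linter.unusedSectionVars false
set_option backward.isDefEq.respectTransparency false

open Matrix

namespace CfsgLib.Classical.UnipotentGen

variable {F : Type*} [Field F]

section Rules

variable {ι : Type*} [Fintype ι] [DecidableEq ι]

/-- The elation with centre `a` and axis `f`. -/
def tv (a f : ι → F) : Matrix ι ι F := 1 + Matrix.vecMulVec a f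

/-- The set of matrices of a subgroup. -/
def HS (H : Subgroup (SpecialLinearGroup ι F)) (A : Matrix ι ι F) : Prop :=
  ∃ h ∈ H, (h : Matrix ι ι F) = A

variable {H : Subgroup (SpecialLinearGroup ι F)}

theorem HS.mul {A B : Matrix ι ι F} (hA : HS H A) (hB : HS H B) : HS H (A * B) := by
  obtain ⟨a, ha, rfl⟩ := hA
  obtain ⟨b, hb, rfl⟩ := hB
  exact ⟨a * b, mul_mem ha hb, rfl⟩

theorem HS.one : HS H (1 : Matrix ι ι F) := ⟨1, one_mem _, rfl⟩

theorem HS.inv {A B : Matrix ι ι F} (hA : HS H A) (h : A * B = 1) : HS H B := by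
  obtain ⟨a, ha, rfl⟩ := hA
  refine ⟨a⁻¹, inv_mem ha, ?_⟩
  calc ((a⁻¹ : SpecialLinearGroup ι F) : Matrix ι ι F)
      = ((a⁻¹ : SpecialLinearGroup ι F) : Matrix ι ι F) * ((a : Matrix ι ι F) * B) := by
        rw [h, mul_one]
    _ = ((a⁻¹ * a : SpecialLinearGroup ι F) : Matrix ι ι F) * B := (mul_assoc _ _ _).symm
    _ = B := by rw [inv_mul_cancel]; exact one_mul B

theorem vv_mul (a f b g : ι → F) :
    vecMulVec a f * vecMulVec b g = (f ⬝ᵥ b) • vecMulVec a g := by
  ext i j
  simp only [Matrix.mul_apply, vecMulVec_apply, Matrix.smul_apply, smul_eq_mul, dotProduct,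
    Finset.sum_mul]
  exact Finset.sum_congr rfl fun k _ => by ring

theorem tv_mul {a f b g : ι → F} :
    tv a f * tv b g = 1 + vecMulVec a f + vecMulVec b g + (f ⬝ᵥ b) • vecMulVec a g := by
  rw [tv, tv, mul_add, mul_one, add_mul, one_mul, vv_mul]
  abel

theorem tv_mul_self {a b f : ι → F} (h : f ⬝ᵥ b = 0) : tv a f * tv b f = tv (a + b) f := by
  rw [tv_mul, h, zero_smul, add_zero, tv, add_vecMulVec, add_assoc]

theorem tv_conj {W W' : Matrix ι ι F} (h : W * W' = 1) (a f : ι → F) :
    W * tv a f * W' = tv (W *ᵥ a) (f ᵥ* W') := by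
  rw [tv, tv, mul_add, mul_one, add_mul, h, mul_vecMulVec, vecMulVec_mul]

theorem HS.conj {W W' : Matrix ι ι F} (hW : HS H W) (h : W * W' = 1) {a f : ι → F}
    (ha : HS H (tv a f)) : HS H (tv (W *ᵥ a) (f ᵥ* W')) := by
  rw [← tv_conj h]
  exact (hW.mul ha).mul (hW.inv h)

theorem HS.add {a b f : ι → F} (hfb : f ⬝ᵥ b = 0) (ha : HS H (tv a f)) (hb : HS H (tv b f)) :
    HS H (tv (a + b) f) := by
  rw [← tv_mul_self hfb]
  exact ha.mul hb

theorem HS.neg {a f : ι → F} (hfa : f ⬝ᵥ a = 0) (ha : HS H (tv a f)) : HS H (tv (-a) f) := by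
  refine ha.inv ?_
  rw [tv_mul_self (by rw [dotProduct_neg, hfa, neg_zero]), add_neg_cancel, tv, zero_vecMulVec, add_zero]

/-- Commutator of two elations. -/
theorem HS.comm {a b f g : ι → F} (hfa : f ⬝ᵥ a = 0) (hgb : g ⬝ᵥ b = 0) (hfb : f ⬝ᵥ b = 0)
    (ha : HS H (tv a f)) (hb : HS H (tv b g)) : HS H (tv (-(g ⬝ᵥ a) • b) f) := by
  have e : tv a f * tv b g * tv (-a) f * tv (-b) g = tv (-(g ⬝ᵥ a) • b) f := by
    have e1 : tv a f * tv b g = 1 + vecMulVec a f + vecMulVec b g := by
      rw [tv_mul, hfb, zero_smul, add_zero]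
    have e2 : tv (-a) f * tv (-b) g = 1 - vecMulVec a f - vecMulVec b g := by
      rw [tv_mul, dotProduct_neg, hfb, neg_zero, zero_smul, add_zero, neg_vecMulVec, neg_vecMulVec]
      abel
    have e3 : tv (-(g ⬝ᵥ a) • b) f = 1 - (g ⬝ᵥ a) • vecMulVec b f := by
      rw [tv, smul_vecMulVec, neg_smul, sub_eq_add_neg]
    rw [mul_assoc, e1, e2, e3]
    simp only [add_mul, mul_sub, one_mul, mul_one, vv_mul, hfa, hgb,
      hfb, zero_smul]
    abel
  rw [← e]
  exact ((ha.mul hb).mul (ha.neg hfa)).mul (hb.neg hgb)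

end Rules

variable {m : ℕ}

/-- The upper shift. -/
def upN (m : ℕ) (F : Type*) [Field F] : Matrix (Fin (m + 1)) (Fin (m + 1)) F :=
  Matrix.of fun i j => if j.val = i.val + 1 then 1 else 0

/-- The weighted lower shift. -/
def loN (b : Fin (m + 1) → F) : Matrix (Fin (m + 1)) (Fin (m + 1)) F :=
  Matrix.of fun i j => if i.val = j.val + 1 then b j else 0

/-- Coordinate vectors. -/
def ev (i : Fin (m + 1)) : Fin (m + 1) → F := Pi.single i 1

theorem upN_mulVec_single {i j : Fin (m + 1)} (h : j.val = i.val + 1) :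
    upN m F *ᵥ ev j = (ev i : Fin (m + 1) → F) := by
  ext k
  rw [ev, ev, mulVec_single_one, Pi.single_apply]
  simp only [col_apply, upN, of_apply, Fin.ext_iff]
  exact if_congr (by omega) rfl rfl

theorem upN_mulVec_zero {j : Fin (m + 1)} (h : j.val = 0) : upN m F *ᵥ ev j = (0 : Fin (m + 1) → F) := by
  ext k
  rw [ev, mulVec_single_one]
  simp [upN, h]

theorem loN_mulVec_single (b : Fin (m + 1) → F) {i j : Fin (m + 1)} (h : j.val = i.val + 1) :
    loN b *ᵥ ev i = b i • (ev j : Fin (m + 1) → F) := by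
  ext k
  rw [ev, ev, mulVec_single_one, Pi.smul_apply, Pi.single_apply]
  simp only [col_apply, loN, of_apply, Fin.ext_iff, smul_eq_mul, mul_ite, mul_one, mul_zero]
  exact if_congr (by omega) rfl rfl

theorem loN_mulVec_apply (b : Fin (m + 1) → F) (y : Fin (m + 1) → F) {i j : Fin (m + 1)}
    (h : j.val = i.val + 1) : (loN b *ᵥ y) j = b i * y i := by
  rw [mulVec, dotProduct, Finset.sum_eq_single i]
  · simp [loN, h]
  · intro k _ hk
    simp only [loN, of_apply]
    rw [if_neg (fun e => hk (Fin.ext (by omega))), zero_mul]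
  · simp

theorem vecMul_upN_last : (ev (Fin.last m) : Fin (m + 1) → F) ᵥ* upN m F = 0 := by
  ext k
  rw [ev, single_one_vecMul]
  simp only [row_apply, upN, of_apply, Fin.val_last, Pi.zero_apply]
  rw [if_neg]; omega

/-- A regular unipotent and a root group generate `SL_{m+1}`. -/
theorem eq_top_of_all [Fintype F] (hm : 2 ≤ m) (H : Subgroup (Matrix.SpecialLinearGroup (Fin (m + 1)) F))
    (b : Fin (m + 1) → F) (hb : ∀ i, b i ≠ 0)
    (hw : HS H (1 + loN b))
    (hall0 : ∀ x : F, HS H (tv (x • ev 0) (ev (Fin.last m)))) : H = ⊤ := by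
  classical
  set f0 : Fin (m + 1) → F := ev (Fin.last m) with hf0
  set W : Matrix (Fin (m + 1)) (Fin (m + 1)) F := 1 + loN b with hW
  obtain ⟨ww, hwH, hwv⟩ := hw
  set W' : Matrix (Fin (m + 1)) (Fin (m + 1)) F := (ww⁻¹).1
  have hWW : W * W' = 1 := by
    rw [← hwv]; exact congrArg Subtype.val (mul_inv_cancel ww)
  have hWW' : W' * W = 1 := by
    rw [← hwv]; exact congrArg Subtype.val (inv_mul_cancel ww)
  set φ : Fin (m + 1) → F := f0 ᵥ* W' with hφ
  -- all coordinates of `φ` are non-zero
  have hφ0 : ∀ i, φ i ≠ 0 := by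
    have hrec : φ ᵥ* W = f0 := by rw [hφ, vecMul_vecMul, hWW', vecMul_one]
    have hj : ∀ i : Fin (m + 1), φ i + (if h : i.val + 1 < m + 1 then φ ⟨i.val + 1, h⟩ * b i else 0) = f0 i := by
      intro i
      rw [← hrec, hW, vecMul_add, vecMul_one, Pi.add_apply]
      congr 1
      split_ifs with h
      · rw [vecMul, dotProduct, Finset.sum_eq_single ⟨i.val + 1, h⟩]
        · simp [loN]
        · intro k _ hk
          simp only [loN, of_apply]
          rw [if_neg (fun e => hk (Fin.ext e)), mul_zero]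
        · simp
      · rw [vecMul, dotProduct, Finset.sum_eq_zero]
        intro k _
        simp only [loN, of_apply]
        rw [if_neg (fun (e : k.val = i.val + 1) => h (e ▸ k.isLt)), mul_zero]
    have : ∀ d : ℕ, ∀ i : Fin (m + 1), i.val + d = m → φ i ≠ 0 := by
      intro d
      induction d with
      | zero =>
        intro i hi h
        have := hj i
        rw [dif_neg (by omega), add_zero, h, hf0, ev,
          show i = Fin.last m from Fin.ext (by simpa using hi), Pi.single_eq_same] at this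
        exact one_ne_zero this.symm
      | succ d ih =>
        intro i hi h
        have := hj i
        rw [dif_pos (by omega : i.val + 1 < m + 1), h, zero_add, hf0, ev,
          Pi.single_eq_of_ne (fun e => by rw [e, Fin.val_last] at hi; omega)] at this
        exact mul_ne_zero (ih _ (by simp only; omega)) (hb i) this
    exact fun i => this (m - i.val) i (by omega)
  have hfev : ∀ i : Fin (m + 1), i.val ≠ m → f0 ⬝ᵥ ev i = (0 : F) := by
    intro i hi
    rw [hf0, ev, ev, single_dotProduct, Pi.single_eq_of_ne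
      (fun e => hi (by rw [← e, Fin.val_last])), mul_zero]
  -- one step: from the scalars `x, y` at `i` to a multiple of `W e_i`
  have hstep : ∀ i j : Fin (m + 1), j.val = i.val + 1 → j.val ≠ m → ∀ x y : F,
      HS H (tv (x • ev i) f0) → HS H (tv (y • ev i) f0) →
        HS H (tv ((-(x * φ i) * y) • (ev i + b i • ev j)) f0) := by
    intro i j hij hjm x y hx hy
    have hwi : W *ᵥ ev i = ev i + b i • (ev j : Fin (m + 1) → F) := by
      rw [hW, add_mulVec, one_mulVec, loN_mulVec_single b hij]
    have hb' : HS H (tv (W *ᵥ (y • ev i)) φ) := HS.conj ⟨ww, hwH, hwv⟩ hWW hy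
    rw [mulVec_smul, hwi] at hb'
    have h1 : f0 ⬝ᵥ (x • ev i) = 0 := by rw [dotProduct_smul, hfev i (by omega), smul_zero]
    have h2 : φ ⬝ᵥ (y • (ev i + b i • ev j)) = 0 := by
      rw [← hwi, dotProduct_smul, hφ, dotProduct_mulVec, vecMul_vecMul, hWW', vecMul_one,
        hfev i (by omega), smul_zero]
    have h3 : f0 ⬝ᵥ (y • (ev i + b i • ev j)) = 0 := by
      rw [dotProduct_smul, dotProduct_add, dotProduct_smul, hfev i (by omega), hfev j hjm, smul_zero,
        add_zero, smul_zero]
    have := HS.comm h1 h2 h3 hx hb'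
    rwa [smul_smul, dotProduct_smul, ev, dotProduct_single, mul_one, smul_eq_mul] at this
  -- all the points
  have hallk : ∀ k : ℕ, ∀ i : Fin (m + 1), i.val = k → k < m → ∀ x : F, HS H (tv (x • ev i) f0) := by
    intro k
    induction k with
    | zero => intro i hi _ x; rw [show i = 0 from Fin.ext hi]; exact hall0 x
    | succ k ih =>
      intro j hj hk x
      set i : Fin (m + 1) := ⟨k, by omega⟩
      have hi := ih i rfl (by omega)
      have h := hstep i j (by simp only [i]; omega) (by omega) (-(x / (b i * φ i))) 1 (hi _) (hi _)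
      have h2 := HS.add (by rw [dotProduct_smul, hfev i (by simp only [i]; omega), smul_zero]) h
        (hi (-(x / (b i * φ i) * φ i)))
      convert h2 using 2
      have := hb i; have := hφ0 i
      rw [mul_one, neg_mul, neg_neg, smul_add, smul_smul, add_comm (_ • ev i), add_assoc, ← add_smul,
        add_neg_cancel, zero_smul, add_zero]
      congr 1
      field_simp
  have hker : ∀ a, f0 ⬝ᵥ a = 0 → HS H (tv a f0) := by
    intro a ha
    have hlast : a (Fin.last m) = 0 := by
      rwa [hf0, ev, single_dotProduct, one_mul] at ha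
    rw [pi_eq_sum_univ' a]
    have : f0 ⬝ᵥ (∑ i : Fin (m + 1), a i • Pi.single i (1 : F)) = 0 ∧
        HS H (tv (∑ i : Fin (m + 1), a i • Pi.single i (1 : F)) f0) := by
      refine Finset.sum_induction _ (fun v => f0 ⬝ᵥ v = 0 ∧ HS H (tv v f0)) ?_ ?_ ?_
      · rintro v v' ⟨h1, h2⟩ ⟨h1', h2'⟩
        exact ⟨by rw [dotProduct_add, h1, h1', add_zero], HS.add h1' h2 h2'⟩
      · exact ⟨dotProduct_zero _, by rw [tv, zero_vecMulVec, add_zero]; exact HS.one⟩
      · intro i _
        by_cases hi : i.val = m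
        · rw [show i = Fin.last m from Fin.ext hi, hlast, zero_smul]
          exact ⟨dotProduct_zero _, by rw [tv, zero_vecMulVec, add_zero]; exact HS.one⟩
        · exact ⟨by rw [dotProduct_smul]; exact smul_eq_zero_of_right _ (hfev i hi),
            hallk i.val i rfl (by omega) _⟩
    exact this.2
  -- the translates of the axis form a basis
  let M : Matrix (Fin (m + 1)) (Fin (m + 1)) F := Matrix.of fun k => f0 ᵥ* W ^ k.val
  have hM : IsUnit M.det := by
    rw [← Matrix.isUnit_iff_isUnit_det, ← Matrix.mulVec_injective_iff_isUnit]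
    refine (injective_iff_map_eq_zero (M.mulVecLin)).2 fun x hx => ?_
    have hx' : ∀ k : ℕ, k ≤ m → (W ^ k *ᵥ x) (Fin.last m) = 0 := by
      intro k hk
      have := congrFun hx ⟨k, by omega⟩
      rw [Matrix.mulVecLin_apply, mulVec, Pi.zero_apply] at this
      change (f0 ᵥ* W ^ k) ⬝ᵥ x = 0 at this
      rwa [← dotProduct_mulVec, hf0, ev, single_dotProduct, one_mul] at this
    have : ∀ d : ℕ, ∀ j : Fin (m + 1), j.val + d = m → ∀ k, k ≤ j.val → (W ^ k *ᵥ x) j = 0 := by
      intro d
      induction d with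
      | zero =>
        intro j hj k hk
        rw [show j = Fin.last m from Fin.ext (by simpa using hj)]
        exact hx' k (by omega)
      | succ d ih =>
        intro i hi k hk
        let j : Fin (m + 1) := ⟨i.val + 1, by omega⟩
        have h1 := ih j (by simp only [j]; omega) (k + 1) (by simp only [j]; omega)
        have h2 := ih j (by simp only [j]; omega) k (by simp only [j]; omega)
        rw [pow_succ', ← mulVec_mulVec] at h1
        nth_rw 1 [hW] at h1
        rw [add_mulVec, one_mulVec, Pi.add_apply, h2, zero_add,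
          loN_mulVec_apply b _ (show j.val = i.val + 1 from rfl)] at h1
        exact (mul_eq_zero.1 h1).resolve_left (hb i)
    ext j
    simpa using this (m - j.val) j (by omega) 0 (Nat.zero_le _)
  have hMM : M * M⁻¹ = 1 := Matrix.mul_nonsing_inv _ hM
  have hMM' : M⁻¹ * M = 1 := Matrix.nonsing_inv_mul _ hM
  let cj : Matrix.SpecialLinearGroup (Fin (m + 1)) F →* Matrix.SpecialLinearGroup (Fin (m + 1)) F :=
    { toFun := fun A => ⟨M⁻¹ * A.1 * M, by
        rw [det_mul, det_mul, A.2, mul_one, ← det_mul, hMM', det_one]⟩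
      map_one' := Subtype.ext (by simp [hMM'])
      map_mul' := fun A B => Subtype.ext (by
        show M⁻¹ * (A.1 * B.1) * M = M⁻¹ * A.1 * M * (M⁻¹ * B.1 * M)
        simp only [mul_assoc]
        rw [← mul_assoc M M⁻¹, hMM, one_mul]) }
  have hsurj : Function.Surjective cj := fun A => by
    refine ⟨⟨M * A.1 * M⁻¹, by
      rw [det_mul, det_mul, A.2, mul_one, ← det_mul, hMM, det_one]⟩, Subtype.ext ?_⟩
    show M⁻¹ * (M * A.1 * M⁻¹) * M = A.1
    simp only [← mul_assoc, hMM', one_mul]
    rw [mul_assoc, hMM', mul_one]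
  have htop : H.comap cj = ⊤ := by
    refine sl_subgroup_eq_top _ fun i j hij c => ?_
    rw [Subgroup.mem_comap]
    suffices h : HS H (tv (c • (M⁻¹ *ᵥ ev i)) (f0 ᵥ* W ^ j.val)) by
      obtain ⟨h, hh, hv⟩ := h
      convert hh using 1
      refine Subtype.ext ?_
      show M⁻¹ * Matrix.transvection i j c * M = h.1
      have e : Matrix.single i j c = vecMulVec (c • ev i) (ev j) := by
        ext a a'
        simp only [ev, vecMulVec_apply, Pi.smul_apply, Pi.single_apply, smul_eq_mul, Matrix.single_apply]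
        by_cases h1 : a = i <;> by_cases h2 : a' = j <;> simp [h1, h2, Ne.symm, eq_comm]
      rw [hv, Matrix.transvection, e, mul_add, mul_one, add_mul, hMM',
        mul_vecMulVec, vecMulVec_mul, tv, mulVec_smul]
      congr 2
      rw [ev, single_one_vecMul]
      rfl
    have hval : (f0 ᵥ* W ^ j.val) ⬝ᵥ (c • (M⁻¹ *ᵥ ev i)) = 0 := by
      rw [dotProduct_smul]
      refine smul_eq_zero_of_right _ ?_
      have : (f0 ᵥ* W ^ j.val) ⬝ᵥ (M⁻¹ *ᵥ ev i) = (M *ᵥ (M⁻¹ *ᵥ ev i)) j := rfl
      rw [this, mulVec_mulVec, hMM, one_mulVec, ev, Pi.single_eq_of_ne hij.symm]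
    have h1 : HS H (tv (W ^ j.val *ᵥ (c • (M⁻¹ *ᵥ ev i))) f0) := hker _ (by rw [dotProduct_mulVec]; exact hval)
    have hpow : HS H (W' ^ j.val) := by
      refine ⟨ww⁻¹ ^ j.val, pow_mem (inv_mem hwH) _, ?_⟩
      exact Matrix.SpecialLinearGroup.coe_pow _ _
    have hinv : W' ^ j.val * W ^ j.val = 1 := by
      rw [← (show Commute W' W from hWW'.trans hWW.symm).mul_pow, hWW', one_pow]
    have := HS.conj hpow hinv h1
    rwa [mulVec_mulVec, hinv, one_mulVec] at this
  rw [← top_le_iff]
  intro A _
  obtain ⟨B, rfl⟩ := hsurj A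
  exact Subgroup.mem_comap.1 (htop ▸ Subgroup.mem_top B)

/-- A regular pair of unipotents and one elation with primitive scalar generate `SL_{m+1}`. -/
theorem eq_top [Fintype F] (hm : 2 ≤ m) (H : Subgroup (Matrix.SpecialLinearGroup (Fin (m + 1)) F))
    (b : Fin (m + 1) → F) (hb : ∀ i, b i ≠ 0)
    (hu : HS H (1 + upN m F)) (hw : HS H (1 + loN b))
    (hc : ∀ K : F, K ≠ 0 → ((∀ i, b i * b i = 1) → K * K = 1) → (∀ x y : F, HS H (tv (x • ev 0) (ev (Fin.last m))) →
        HS H (tv (y • ev 0) (ev (Fin.last m))) → HS H (tv ((K * x * y) • ev 0) (ev (Fin.last m)))) →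
      ∀ x : F, HS H (tv (x • ev 0) (ev (Fin.last m))))
    : H = ⊤ := by
  classical
  set f0 : Fin (m + 1) → F := ev (Fin.last m) with hf0
  set U : Matrix (Fin (m + 1)) (Fin (m + 1)) F := 1 + upN m F with hU
  set W : Matrix (Fin (m + 1)) (Fin (m + 1)) F := 1 + loN b with hW
  obtain ⟨uu, huH, huv⟩ := hu
  obtain ⟨ww, hwH, hwv⟩ := hw
  set U' : Matrix (Fin (m + 1)) (Fin (m + 1)) F := (uu⁻¹).1
  set W' : Matrix (Fin (m + 1)) (Fin (m + 1)) F := (ww⁻¹).1
  have hUU : U * U' = 1 := by
    rw [← huv]; exact congrArg Subtype.val (mul_inv_cancel uu)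
  have hWW : W * W' = 1 := by
    rw [← hwv]; exact congrArg Subtype.val (mul_inv_cancel ww)
  have hWW' : W' * W = 1 := by
    rw [← hwv]; exact congrArg Subtype.val (inv_mul_cancel ww)
  set φ : Fin (m + 1) → F := f0 ᵥ* W' with hφ
  -- all coordinates of `φ` are non-zero
  have hφ0 : ∀ i, φ i ≠ 0 := by
    have hrec : φ ᵥ* W = f0 := by rw [hφ, vecMul_vecMul, hWW', vecMul_one]
    have hj : ∀ i : Fin (m + 1), φ i + (if h : i.val + 1 < m + 1 then φ ⟨i.val + 1, h⟩ * b i else 0) = f0 i := by
      intro i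
      rw [← hrec, hW, vecMul_add, vecMul_one, Pi.add_apply]
      congr 1
      split_ifs with h
      · rw [vecMul, dotProduct, Finset.sum_eq_single ⟨i.val + 1, h⟩]
        · simp [loN]
        · intro k _ hk
          simp only [loN, of_apply]
          rw [if_neg (fun e => hk (Fin.ext e)), mul_zero]
        · simp
      · rw [vecMul, dotProduct, Finset.sum_eq_zero]
        intro k _
        simp only [loN, of_apply]
        rw [if_neg (fun (e : k.val = i.val + 1) => h (e ▸ k.isLt)), mul_zero]
    have : ∀ d : ℕ, ∀ i : Fin (m + 1), i.val + d = m → φ i ≠ 0 := by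
      intro d
      induction d with
      | zero =>
        intro i hi h
        have := hj i
        rw [dif_neg (by omega), add_zero, h, hf0, ev,
          show i = Fin.last m from Fin.ext (by simpa using hi), Pi.single_eq_same] at this
        exact one_ne_zero this.symm
      | succ d ih =>
        intro i hi h
        have := hj i
        rw [dif_pos (by omega : i.val + 1 < m + 1), h, zero_add, hf0, ev,
          Pi.single_eq_of_ne (fun e => by rw [e, Fin.val_last] at hi; omega)] at this
        exact mul_ne_zero (ih _ (by simp only; omega)) (hb i) this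
    exact fun i => this (m - i.val) i (by omega)
  have hφ1 : (∀ i, b i * b i = 1) → ∀ i, φ i * φ i = 1 := by
    intro h1
    have hrec : φ ᵥ* W = f0 := by rw [hφ, vecMul_vecMul, hWW', vecMul_one]
    have hj : ∀ i : Fin (m + 1), φ i + (if h : i.val + 1 < m + 1 then φ ⟨i.val + 1, h⟩ * b i else 0) = f0 i := by
      intro i
      rw [← hrec, hW, vecMul_add, vecMul_one, Pi.add_apply]
      congr 1
      split_ifs with h
      · rw [vecMul, dotProduct, Finset.sum_eq_single ⟨i.val + 1, h⟩]
        · simp [loN]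
        · intro k _ hk
          simp only [loN, of_apply]
          rw [if_neg (fun e => hk (Fin.ext e)), mul_zero]
        · simp
      · rw [vecMul, dotProduct, Finset.sum_eq_zero]
        intro k _
        simp only [loN, of_apply]
        rw [if_neg (fun (e : k.val = i.val + 1) => h (e ▸ k.isLt)), mul_zero]
    have : ∀ d : ℕ, ∀ i : Fin (m + 1), i.val + d = m → φ i * φ i = 1 := by
      intro d
      induction d with
      | zero =>
        intro i hi
        have := hj i
        rw [dif_neg (by omega), add_zero, hf0, ev,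
          show i = Fin.last m from Fin.ext (by simpa using hi), Pi.single_eq_same] at this
        rw [show i = Fin.last m from Fin.ext (by simpa using hi), this, mul_one]
      | succ d ih =>
        intro i hi
        have h := hj i
        rw [dif_pos (by omega : i.val + 1 < m + 1), hf0, ev,
          Pi.single_eq_of_ne (fun e => by rw [e, Fin.val_last] at hi; omega)] at h
        have h2 := ih ⟨i.val + 1, by omega⟩ (by simp only; omega)
        linear_combination (φ i - φ ⟨i.val + 1, by omega⟩ * b i) * h + (b i * b i) * h2 + h1 i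
    exact fun i => this (m - i.val) i (by omega)
  have hfev : ∀ i : Fin (m + 1), i.val ≠ m → f0 ⬝ᵥ ev i = (0 : F) := by
    intro i hi
    rw [hf0, ev, ev, single_dotProduct, Pi.single_eq_of_ne
      (fun e => hi (by rw [← e, Fin.val_last])), mul_zero]
  have hUconj : ∀ a, HS H (tv a f0) → HS H (tv (U *ᵥ a) f0) := by
    intro a ha
    have e : f0 ᵥ* U' = f0 := by
      have h1 : f0 ᵥ* U = f0 := by rw [hU, vecMul_add, vecMul_one, hf0, vecMul_upN_last, add_zero]
      conv_lhs => rw [← h1, vecMul_vecMul, hUU, vecMul_one]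
    have := HS.conj (H := H) ⟨uu, huH, huv⟩ hUU ha
    rwa [e] at this
  -- one step: from the scalars `x, y` at `i` to a multiple of `W e_i`
  have hstep : ∀ i j : Fin (m + 1), j.val = i.val + 1 → j.val ≠ m → ∀ x y : F,
      HS H (tv (x • ev i) f0) → HS H (tv (y • ev i) f0) →
        HS H (tv ((-(x * φ i) * y) • (ev i + b i • ev j)) f0) := by
    intro i j hij hjm x y hx hy
    have hwi : W *ᵥ ev i = ev i + b i • (ev j : Fin (m + 1) → F) := by
      rw [hW, add_mulVec, one_mulVec, loN_mulVec_single b hij]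
    have hb' : HS H (tv (W *ᵥ (y • ev i)) φ) := HS.conj ⟨ww, hwH, hwv⟩ hWW hy
    rw [mulVec_smul, hwi] at hb'
    have h1 : f0 ⬝ᵥ (x • ev i) = 0 := by rw [dotProduct_smul, hfev i (by omega), smul_zero]
    have h2 : φ ⬝ᵥ (y • (ev i + b i • ev j)) = 0 := by
      rw [← hwi, dotProduct_smul, hφ, dotProduct_mulVec, vecMul_vecMul, hWW', vecMul_one,
        hfev i (by omega), smul_zero]
    have h3 : f0 ⬝ᵥ (y • (ev i + b i • ev j)) = 0 := by
      rw [dotProduct_smul, dotProduct_add, dotProduct_smul, hfev i (by omega), hfev j hjm, smul_zero,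
        add_zero, smul_zero]
    have := HS.comm h1 h2 h3 hx hb'
    rwa [smul_smul, dotProduct_smul, ev, dotProduct_single, mul_one, smul_eq_mul] at this
  -- all the scalars at the first point
  have hall0 : ∀ x : F, HS H (tv (x • ev 0) f0) := by
    refine hc (-(φ 0) * b 0) (mul_ne_zero (neg_ne_zero.2 (hφ0 0)) (hb 0)) (fun h1 => by
      linear_combination (b 0 * b 0) * hφ1 h1 0 + h1 0) fun x y hx hy => ?_
    set i1 : Fin (m + 1) := ⟨1, by omega⟩
    have h := hstep 0 i1 (by simp [i1]) (by simp only [i1]; omega) x y hx hy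
    have h' := hUconj _ h
    have e : U *ᵥ ((-(x * φ 0) * y) • (ev 0 + b 0 • ev i1)) =
        (-(x * φ 0) * y) • (ev 0 + b 0 • ev i1) + ((-(φ 0) * b 0) * x * y) • ev 0 := by
      rw [mulVec_smul, hU, add_mulVec, one_mulVec, mulVec_add, mulVec_smul, upN_mulVec_zero rfl,
        upN_mulVec_single (i := 0) (j := i1) (by simp [i1]), zero_add, smul_add _ (_ + _), smul_smul]
      congr 2
      ring
    rw [e] at h'
    have hzero : f0 ⬝ᵥ ((-(x * φ 0) * y) • (ev 0 + b 0 • ev i1)) = 0 := by
      rw [dotProduct_smul, dotProduct_add, dotProduct_smul, hfev 0 (by simp; omega),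
        hfev i1 (by simp only [i1]; omega), smul_zero, add_zero, smul_zero]
    have := HS.add (by rw [dotProduct_neg, hzero, neg_zero]) h' (HS.neg hzero h)
    rwa [add_assoc, add_comm (_ • ev 0), ← add_assoc, add_neg_cancel, zero_add] at this
  exact eq_top_of_all hm H b hb ⟨ww, hwH, hwv⟩ hall0

end CfsgLib.Classical.UnipotentGen
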