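import Mathlib
import Cfsg.Agent.Lib.Classical.UnipotentGen

/-!
# The scalars of the elations next to a lower regular unipotent
-/

set_option autoImplicit false
set_option linter.unusedSectionVars false
set_option backward.isDefEq.respectTransparency false

open Matrix

namespace CfsgLib.Classical.UnipotentGen

variable {F : Type*} [Field F] {m : ℕ}

/-- The unweighted lower regular unipotent. -/
def loW (m : ℕ) (F : Type*) [Field F] : Matrix (Fin (m + 1)) (Fin (m + 1)) F := 1 + loN fun _ => 1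

theorem loN_mulVec_zero (b y : Fin (m + 1) → F) : (loN b *ᵥ y) 0 = 0 := by
  simp [Matrix.mulVec, dotProduct, loN]

theorem loW_pow_mulVec (k : ℕ) (j : Fin (m + 1)) :
    (loW m F ^ k *ᵥ ev 0) j = (Nat.choose k j.val : F) := by
  induction k generalizing j with
  | zero =>
    rw [pow_zero, one_mulVec, ev]
    rcases eq_or_ne j 0 with rfl | hj
    · simp
    · rw [Pi.single_eq_of_ne hj, Nat.choose_eq_zero_of_lt (Nat.pos_of_ne_zero fun e => hj (Fin.ext e)),
        Nat.cast_zero]
  | succ k ih =>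
    rw [pow_succ', ← mulVec_mulVec]
    nth_rw 1 [loW]
    rw [add_mulVec, one_mulVec, Pi.add_apply, ih]
    rcases eq_or_ne j 0 with rfl | hj
    · simp [loN_mulVec_zero]
    · have hj' : 0 < j.val := Nat.pos_of_ne_zero fun e => hj (Fin.ext e)
      rw [loN_mulVec_apply _ _ (i := ⟨j.val - 1, by omega⟩) (show j.val = j.val - 1 + 1 by omega), one_mul,
        ih, ← Nat.cast_add]
      obtain ⟨l, hl⟩ : ∃ l, j.val = l + 1 := ⟨j.val - 1, by omega⟩
      simp only [hl, Nat.add_sub_cancel]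
      rw [Nat.choose_succ_succ, Nat.add_comm]

theorem last_dot_pow (k : ℕ) :
    ev (F := F) (Fin.last m) ⬝ᵥ (loW m F ^ k *ᵥ ev 0) = (Nat.choose k m : F) := by
  rw [ev, single_dotProduct, one_mul]
  exact (loW_pow_mulVec k (Fin.last m)).trans (by rw [Fin.val_last])

theorem ev_last_eq_zero {i : Fin (m + 1)} (h : i.val ≠ m) :
    ev (F := F) (Fin.last m) ⬝ᵥ ev i = 0 := by
  rw [ev, ev, single_dotProduct, Pi.single_eq_of_ne (fun e => h (by rw [← e, Fin.val_last])), mul_zero]

/-- A finite set of scalars stable under two multiplications with generating ratio. -/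
theorem addSubgroup_all [Finite F] (X : AddSubgroup F) {c a t : F} (hc : c ∈ X) (hc0 : c ≠ 0)
    (ha0 : a ≠ 0) (ha : ∀ y ∈ X, a * y ∈ X) (hat : ∀ y ∈ X, a * t * y ∈ X)
    (ht : ∀ S : Subfield F, t ∈ S → S = ⊤) : ∀ x : F, x ∈ X := by
  let G : Subring F :=
    { carrier := {g | ∀ y ∈ X, g * y ∈ X}
      mul_mem' := fun {g g'} hg hg' y hy => by rw [mul_assoc]; exact hg _ (hg' y hy)
      one_mem' := fun y hy => by rw [one_mul]; exact hy
      add_mem' := fun {g g'} hg hg' y hy => by rw [add_mul]; exact add_mem (hg y hy) (hg' y hy)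
      zero_mem' := fun y _ => by rw [zero_mul]; exact zero_mem X
      neg_mem' := fun {g} hg y hy => by rw [neg_mul]; exact neg_mem (hg y hy) }
  have hinv : ∀ g ∈ G, g⁻¹ ∈ G := by
    intro g hg
    rcases eq_or_ne g 0 with rfl | hg0
    · rw [_root_.inv_zero]; exact zero_mem G
    have h1 : g⁻¹ = g ^ (orderOf (Units.mk0 g hg0) - 1) := by
      have hpos := orderOf_pos (Units.mk0 g hg0)
      have h2 : g ^ orderOf (Units.mk0 g hg0) = 1 := by
        have := congrArg Units.val (pow_orderOf_eq_one (Units.mk0 g hg0))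
        rwa [Units.val_pow_eq_pow_val] at this
      refine inv_eq_of_mul_eq_one_right ?_
      rw [← pow_succ', Nat.sub_add_cancel hpos, h2]
    rw [h1]; exact pow_mem hg _
  let S : Subfield F := { G with inv_mem' := hinv }
  have htS : t ∈ S := by
    have : t = a⁻¹ * (a * t) := by rw [← mul_assoc, inv_mul_cancel₀ ha0, one_mul]
    rw [this]
    exact mul_mem (hinv a ha) hat
  intro x
  have hx : x / c ∈ S := by rw [ht S htS]; exact Subfield.mem_top _
  have := hx c hc
  rwa [div_mul_cancel₀ x hc0] at this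

section Closure

variable {H : Subgroup (Matrix.SpecialLinearGroup (Fin (m + 1)) F)}

/-- The scalars of the elations with centre `e₀` and axis `e_m^⊥`. -/
def scalars (hm : 1 ≤ m) (H : Subgroup (Matrix.SpecialLinearGroup (Fin (m + 1)) F)) : AddSubgroup F where
  carrier := {x | HS H (tv (x • ev 0) (ev (Fin.last m)))}
  zero_mem' := by
    show HS H _
    rw [zero_smul, tv, zero_vecMulVec, add_zero]; exact HS.one
  add_mem' := fun {x y} hx hy => by
    show HS H _
    rw [add_smul]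
    refine HS.add ?_ hx hy
    rw [dotProduct_smul, ev_last_eq_zero (by simp; omega), smul_zero]
  neg_mem' := fun {x} hx => by
    show HS H _
    rw [neg_smul]
    refine HS.neg ?_ hx
    rw [dotProduct_smul, ev_last_eq_zero (by simp; omega), smul_zero]

/-- The scalars are stable under multiplication by a scaled copy of themselves, also twisted by a
triangular element. -/
theorem scalars_step (hm : 2 ≤ m) (hw : HS H (loW m F)) {c : F} (hc0 : c ≠ 0)
    (hc : c ∈ scalars (by omega) H) :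
    ∃ k : F, k ≠ 0 ∧ ∀ d ∈ scalars (by omega) H, ∀ y ∈ scalars (by omega) H,
      k * d * y ∈ scalars (by omega) H ∧
      ∀ (Z : Matrix (Fin (m + 1)) (Fin (m + 1)) F) (β t ρ : F), HS H Z → Z *ᵥ ev 0 = β • ev 0 →
        Z *ᵥ ev ⟨1, by omega⟩ = t • ev ⟨1, by omega⟩ + ρ • ev 0 →
        ev (Fin.last m) ᵥ* Z = β • ev (Fin.last m) →
          k * (t / β) * d * y ∈ scalars (by omega) H := by
  classical
  set f0 : Fin (m + 1) → F := ev (Fin.last m) with hf0
  set W := loW m F with hW
  obtain ⟨ww, hwH, hwv⟩ := hw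
  set W' : Matrix (Fin (m + 1)) (Fin (m + 1)) F := (ww⁻¹).1
  have hWW : W * W' = 1 := by rw [← hwv]; exact congrArg Subtype.val (mul_inv_cancel ww)
  have hWW' : W' * W = 1 := by rw [← hwv]; exact congrArg Subtype.val (inv_mul_cancel ww)
  set φ : Fin (m + 1) → F := f0 ᵥ* W' with hφ
  have hd : ∀ k, k < m → f0 ⬝ᵥ (W ^ k *ᵥ ev 0) = 0 := fun k hk => by
    rw [hf0, hW, last_dot_pow, Nat.choose_eq_zero_of_lt hk, Nat.cast_zero]
  have hd0 : f0 ⬝ᵥ ev 0 = 0 := by rw [hf0]; exact ev_last_eq_zero (by simp; omega)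
  have hsplit : ∀ k, 0 < k → k ≤ m → f0 ⬝ᵥ (W ^ k *ᵥ ev 0) = φ ⬝ᵥ (W ^ (k + 1) *ᵥ ev 0) := fun k _ _ => by
    rw [hφ, pow_succ', ← mulVec_mulVec, ← dotProduct_mulVec _ W' , mulVec_mulVec, hWW', one_mulVec]
  have hφ0 : φ ⬝ᵥ ev 0 ≠ 0 := by
    -- `φ W = f0`, so the coordinates of `φ` alternate in sign
    have hrec : φ ᵥ* W = f0 := by rw [hφ, vecMul_vecMul, hWW', vecMul_one]
    intro h0
    rw [ev, dotProduct_single, mul_one] at h0
    have : ∀ k : ℕ, ∀ i : Fin (m + 1), i.val = k → φ i = 0 := by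
      intro k
      induction k with
      | zero => intro i hi; rwa [show i = 0 from Fin.ext hi]
      | succ k ih =>
        intro i hi
        let j : Fin (m + 1) := ⟨k, by omega⟩
        have h1 := congrFun hrec j
        rw [hW, loW, vecMul_add, vecMul_one, Pi.add_apply, ih j rfl, zero_add, hf0, ev,
          Pi.single_eq_of_ne (fun e => by simp [j, Fin.ext_iff] at e; omega)] at h1
        rw [vecMul, dotProduct, Finset.sum_eq_single i] at h1
        · simpa [loN, hi, j] using h1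
        · intro b _ hb
          simp only [loN, of_apply, j]
          rw [if_neg (fun e => hb (Fin.ext (by omega))), mul_zero]
        · simp
    have h2 : f0 (Fin.last m) = 0 := by
      rw [← hrec, vecMul, dotProduct]
      exact Finset.sum_eq_zero fun b _ => by rw [this b.val b rfl, zero_mul]
    rw [hf0, ev, Pi.single_eq_same] at h2
    exact one_ne_zero h2
  set κ : F := -(φ ⬝ᵥ ev 0) * c with hκ
  have hκ0 : κ ≠ 0 := mul_ne_zero (neg_ne_zero.2 hφ0) hc0
  -- climbing along the powers of `W`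
  have hclimb : ∀ i, i < m → ∀ y ∈ scalars (by omega) H,
      HS H (tv ((κ ^ i * y) • (W ^ i *ᵥ ev 0)) f0) := by
    intro i
    induction i with
    | zero => intro _ y hy; simpa using (show HS H _ from hy)
    | succ i ih =>
      intro hi y hy
      have hb := HS.conj (H := H) ⟨ww, hwH, hwv⟩ hWW (ih (by omega) y hy)
      rw [mulVec_smul, mulVec_mulVec, ← pow_succ', ← hφ] at hb
      have h1 : f0 ⬝ᵥ (c • ev 0) = 0 := by rw [dotProduct_smul, hd0, smul_zero]
      have h2 : φ ⬝ᵥ ((κ ^ i * y) • (W ^ (i + 1) *ᵥ ev 0)) = 0 := by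
        rw [dotProduct_smul]
        refine smul_eq_zero_of_right _ ?_
        rw [hφ, ← dotProduct_mulVec, mulVec_mulVec, pow_succ', ← mul_assoc, hWW', one_mul]
        exact hd i (by omega)
      have h3 : f0 ⬝ᵥ ((κ ^ i * y) • (W ^ (i + 1) *ᵥ ev 0)) = 0 := by
        rw [dotProduct_smul, hd _ hi, smul_zero]
      have := HS.comm h1 h2 h3 hc hb
      rw [smul_smul, dotProduct_smul, smul_eq_mul] at this
      convert this using 3
      rw [hκ]; ring
  set Wk := W ^ (m - 1)
  set Wk' := W' ^ (m - 1)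
  have hk1 : Wk' * Wk = 1 := by
    rw [← (show Commute W' W from hWW'.trans hWW.symm).mul_pow, hWW', one_pow]
  have hkH : HS H Wk' := ⟨ww⁻¹ ^ (m - 1), pow_mem (inv_mem hwH) _, Matrix.SpecialLinearGroup.coe_pow _ _⟩
  -- the elations with centre `e₀` and axis moved by `W^(m-1)`
  have hC : ∀ d ∈ scalars (by omega) H, HS H (tv ((κ ^ (m - 1) * d) • ev 0) (f0 ᵥ* Wk)) := by
    intro d hd'
    have := HS.conj hkH hk1 (hclimb (m - 1) (by omega) d hd')
    rwa [mulVec_smul, mulVec_mulVec, hk1, one_mulVec] at this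
  have key : ∀ (a : Fin (m + 1) → F) (g : F), HS H (tv a f0) → f0 ⬝ᵥ a = 0 → (f0 ᵥ* Wk) ⬝ᵥ a = g →
      ∀ d ∈ scalars (by omega) H, g * (κ ^ (m - 1) * d) ∈ scalars (by omega) H := by
    intro a g ha ha0 hg d hd'
    have h2 : (f0 ᵥ* Wk) ⬝ᵥ ((κ ^ (m - 1) * d) • ev 0) = 0 := by
      rw [dotProduct_smul]
      exact smul_eq_zero_of_right _ ((dotProduct_mulVec f0 Wk (ev 0)).symm.trans (hd _ (by omega)))
    have h3 : f0 ⬝ᵥ ((κ ^ (m - 1) * d) • ev 0) = 0 := by rw [dotProduct_smul, hd0, smul_zero]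
    have := HS.comm ha0 h2 h3 ha (hC d hd')
    rw [smul_smul, hg] at this
    have h4 : -g * (κ ^ (m - 1) * d) ∈ scalars (by omega) H := this
    simpa [neg_mul] using neg_mem h4
  have hone : (f0 ᵥ* Wk) ⬝ᵥ (W *ᵥ ev 0) = 1 := by
    rw [← dotProduct_mulVec, mulVec_mulVec, ← pow_succ, show m - 1 + 1 = m by omega, hf0, hW, last_dot_pow,
      Nat.choose_self, Nat.cast_one]
  refine ⟨κ * κ ^ (m - 1), mul_ne_zero hκ0 (pow_ne_zero _ hκ0), fun d hd' y hy => ⟨?_, ?_⟩⟩
  · have hr := hclimb 1 (by omega) y hy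
    rw [pow_one, pow_one] at hr
    have hperp : f0 ⬝ᵥ (W *ᵥ ev 0) = 0 := by simpa using hd 1 (by omega)
    have := key _ (κ * y) hr (by rw [dotProduct_smul, hperp, smul_zero])
      (by rw [dotProduct_smul, hone, smul_eq_mul, mul_one]) d hd'
    convert this using 1
    ring
  · intro Z β t ρ hZ hZ0 hZ1 hZf
    obtain ⟨zz, hzH, hzv⟩ := hZ
    set Z' : Matrix (Fin (m + 1)) (Fin (m + 1)) F := (zz⁻¹).1
    have hZZ : Z * Z' = 1 := by rw [← hzv]; exact congrArg Subtype.val (mul_inv_cancel zz)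
    have hZZ' : Z' * Z = 1 := by rw [← hzv]; exact congrArg Subtype.val (inv_mul_cancel zz)
    have hr := hclimb 1 (by omega) y hy
    rw [pow_one, pow_one] at hr
    have hr' := HS.conj (H := H) ⟨zz, hzH, hzv⟩ hZZ hr
    have hβ : β ≠ 0 := by
      intro h
      have h' : f0 ᵥ* (Z * Z') = 0 := by rw [← vecMul_vecMul, hZf, h, zero_smul, zero_vecMul]
      rw [hZZ, vecMul_one] at h'
      have := congrFun h' (Fin.last m)
      rw [hf0, ev, Pi.single_eq_same] at this
      exact one_ne_zero this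
    have hf' : f0 ᵥ* Z' = β⁻¹ • f0 := by
      have : f0 = β • (f0 ᵥ* Z') := by
        rw [← smul_vecMul, ← hZf, vecMul_vecMul, hZZ, vecMul_one]
      conv_rhs => rw [this, smul_smul, inv_mul_cancel₀ hβ, one_smul]
    rw [hf'] at hr'
    have htv : ∀ (a : Fin (m + 1) → F) (s : F), tv a (s • f0) = tv (s • a) f0 := fun a s => by
      rw [tv, tv, vecMulVec_smul, smul_vecMulVec]
    rw [htv] at hr'
    have e1 : W *ᵥ ev 0 = ev 0 + ev ⟨1, by omega⟩ := by
      rw [hW, loW, add_mulVec, one_mulVec, loN_mulVec_single _ (i := 0) (j := ⟨1, by omega⟩) rfl, one_smul]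
    have e2 : Z *ᵥ (W *ᵥ ev 0) = (β + ρ) • ev 0 + t • ev ⟨1, by omega⟩ := by
      rw [e1, mulVec_add, hZ0, hZ1, add_smul]; abel
    have e3 : f0 ⬝ᵥ ev ⟨1, by omega⟩ = 0 := by rw [hf0]; exact ev_last_eq_zero (by simp only; omega)
    have e4 : (f0 ᵥ* Wk) ⬝ᵥ ev 0 = 0 := (dotProduct_mulVec f0 Wk (ev 0)).symm.trans (hd _ (by omega))
    have e5 : (f0 ᵥ* Wk) ⬝ᵥ ev ⟨1, by omega⟩ = 1 := by
      have := hone
      rwa [e1, dotProduct_add, e4, zero_add] at this
    have := key _ (β⁻¹ * (κ * y * t)) hr'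
      (by rw [dotProduct_smul, mulVec_smul, dotProduct_smul, e2, dotProduct_add, dotProduct_smul,
        dotProduct_smul, hd0, e3]; simp)
      (by rw [dotProduct_smul, mulVec_smul, dotProduct_smul, e2, dotProduct_add, dotProduct_smul,
        dotProduct_smul, e4, e5]; simp) d hd'
    convert this using 1
    field_simp

/-- A lower regular unipotent, a triangular element and one elation. -/
theorem eq_top_of_ratio [Fintype F] (hm : 2 ≤ m) (hw : HS H (loW m F)) {c : F} (hc0 : c ≠ 0)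
    (hc : HS H (tv (c • ev 0) (ev (Fin.last m))))
    (Z : Matrix (Fin (m + 1)) (Fin (m + 1)) F) (β t ρ : F) (hZ : HS H Z) (hZ0 : Z *ᵥ ev 0 = β • ev 0)
    (hZ1 : Z *ᵥ ev ⟨1, by omega⟩ = t • ev ⟨1, by omega⟩ + ρ • ev 0)
    (hZf : ev (Fin.last m) ᵥ* Z = β • ev (Fin.last m))
    (ht : ∀ S : Subfield F, t / β ∈ S → S = ⊤) : H = ⊤ := by
  obtain ⟨k, hk0, hk⟩ := scalars_step hm hw hc0 hc
  refine eq_top_of_all hm H (fun _ => 1) (fun _ => one_ne_zero) hw
    (addSubgroup_all (scalars (by omega) H) (c := c) (a := k * c) (t := t / β) hc hc0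
      (mul_ne_zero hk0 hc0) (fun y hy => (hk c hc y hy).1) (fun y hy => ?_) ht)
  have := (hk c hc y hy).2 Z β t ρ hZ hZ0 hZ1 hZf
  convert this using 1
  ring

/-- A lower regular unipotent and one elation, when the scalars already have a generating ratio. -/
theorem eq_top_of_two [Fintype F] (hm : 2 ≤ m) (hw : HS H (loW m F)) {c d : F} (hc0 : c ≠ 0)
    (hc : HS H (tv (c • ev 0) (ev (Fin.last m)))) (hd : HS H (tv (d • ev 0) (ev (Fin.last m))))
    (ht : ∀ S : Subfield F, d / c ∈ S → S = ⊤) : H = ⊤ := by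
  obtain ⟨k, hk0, hk⟩ := scalars_step hm hw hc0 hc
  refine eq_top_of_all hm H (fun _ => 1) (fun _ => one_ne_zero) hw
    (addSubgroup_all (scalars (by omega) H) (c := c) (a := k * c) (t := d / c) hc hc0
      (mul_ne_zero hk0 hc0) (fun y hy => (hk c hc y hy).1) (fun y hy => ?_) ht)
  have := (hk d hd y hy).1
  convert this using 1
  field_simp

end Closure

end CfsgLib.Classical.UnipotentGen
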