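import Mathlib
import Cfsg.Agent.Lib.Classical.UnipotentScalars

/-!
# Krylov matrices, regular nilpotent matrices and rank-one completions
-/

set_option autoImplicit false
set_option linter.unusedSectionVars false
set_option backward.isDefEq.respectTransparency false

open Matrix

namespace CfsgLib.Classical.UnipotentGen

variable {F : Type*} [Field F] {m : ℕ}

/-- The columns `x, N x, N² x, …`. -/
def kry (N : Matrix (Fin (m + 1)) (Fin (m + 1)) F) (x : Fin (m + 1) → F) :
    Matrix (Fin (m + 1)) (Fin (m + 1)) F := Matrix.of fun i j => (N ^ j.val *ᵥ x) i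

theorem kry_mulVec (N : Matrix (Fin (m + 1)) (Fin (m + 1)) F) (x a : Fin (m + 1) → F) :
    kry N x *ᵥ a = ∑ j, a j • (N ^ j.val *ᵥ x) := by
  ext i
  simp only [mulVec, dotProduct, Finset.sum_apply, Pi.smul_apply, smul_eq_mul, kry, Matrix.of_apply]
  exact Finset.sum_congr rfl fun j _ => mul_comm _ _

theorem kry_mulVec_ev (N : Matrix (Fin (m + 1)) (Fin (m + 1)) F) (x : Fin (m + 1) → F) (j : Fin (m + 1)) :
    kry N x *ᵥ ev j = N ^ j.val *ᵥ x := by
  rw [ev, mulVec_single_one]; rfl

theorem ext_ev {P Q : Matrix (Fin (m + 1)) (Fin (m + 1)) F} (h : ∀ j, P *ᵥ ev j = Q *ᵥ ev j) : P = Q :=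
  Matrix.ext_of_mulVec_single fun j => h j

theorem loN_pow_ev {k : ℕ} {i j : Fin (m + 1)} (h : j.val = i.val + k) :
    loN (fun _ => (1 : F)) ^ k *ᵥ ev i = (ev j : Fin (m + 1) → F) := by
  induction k generalizing j with
  | zero => rw [pow_zero, one_mulVec, show i = j from Fin.ext (by omega)]
  | succ k ih =>
    rw [pow_succ', ← mulVec_mulVec, ih (j := ⟨i.val + k, by omega⟩) rfl,
      loN_mulVec_single _ (j := j) (by simp only; omega), one_smul]

theorem loN_mulVec_last (b : Fin (m + 1) → F) : loN b *ᵥ ev (Fin.last m) = (0 : Fin (m + 1) → F) := by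
  ext k
  rw [ev, mulVec_single_one]
  simp only [col_apply, loN, of_apply, Fin.val_last, Pi.zero_apply]
  rw [if_neg]; omega

variable {N : Matrix (Fin (m + 1)) (Fin (m + 1)) F} {x : Fin (m + 1) → F}

theorem mul_kry (hx : N ^ (m + 1) *ᵥ x = 0) : N * kry N x = kry N x * loN fun _ => 1 := by
  refine ext_ev fun j => ?_
  rw [← mulVec_mulVec, ← mulVec_mulVec, kry_mulVec_ev, mulVec_mulVec, ← pow_succ']
  by_cases hj : j.val = m
  · rw [show j = Fin.last m from Fin.ext hj, loN_mulVec_last, mulVec_zero, Fin.val_last, hx]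
  · rw [loN_mulVec_single _ (j := ⟨j.val + 1, by omega⟩) rfl, one_smul, kry_mulVec_ev]

theorem regular_of_kry (hx : N ^ (m + 1) *ᵥ x = 0) (hK : (kry N x).det ≠ 0) :
    N ^ (m + 1) = 0 ∧ N ^ m ≠ 0 ∧ (1 + N).det = 1 := by
  have hKu : IsUnit (kry N x) := (Matrix.isUnit_iff_isUnit_det _).2 (isUnit_iff_ne_zero.2 hK)
  refine ⟨?_, fun h => ?_, ?_⟩
  · refine hKu.mul_left_eq_zero.1 (ext_ev fun j => ?_)
    rw [← mulVec_mulVec, kry_mulVec_ev, mulVec_mulVec, ← pow_add, Nat.add_comm (m + 1) j.val, pow_add, ← mulVec_mulVec,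
      hx, mulVec_zero, zero_mulVec]
  · have h1 : kry N x *ᵥ ev (Fin.last m) = kry N x *ᵥ 0 := by
      rw [kry_mulVec_ev, Fin.val_last, h, zero_mulVec, mulVec_zero]
    have := Matrix.mulVec_injective_iff_isUnit.2 hKu h1
    have := congrFun this (Fin.last m)
    rw [ev, Pi.single_eq_same] at this
    exact one_ne_zero this
  · have h1 : (1 + N) * kry N x = kry N x * (1 + loN fun _ => 1) := by
      rw [add_mul, one_mul, mul_kry hx, mul_add, mul_one]
    have h2 : (1 + loN fun _ : Fin (m + 1) => (1 : F)).det = 1 := by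
      rw [det_of_lowerTriangular]
      · refine Finset.prod_eq_one fun i _ => ?_
        simp [loN]
      · intro i j hij
        have : i.val < j.val := hij
        simp [loN, Matrix.one_apply, Fin.ext_iff, this.ne, show ¬ i.val = j.val + 1 by omega]
    have := congrArg Matrix.det h1
    rw [det_mul, det_mul, h2, mul_one] at this
    exact mul_right_cancel₀ hK (this.trans (one_mul _).symm)

/-- The regular unipotent attached to `N` is conjugate to the standard one in `SL`. -/
theorem exists_conj (hx : N ^ (m + 1) *ᵥ x = 0) {c : F} (hc : c ≠ 0)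
    (hK : (kry N x).det = c ^ (m + 1)) :
    ∃ g : Matrix.SpecialLinearGroup (Fin (m + 1)) F,
      g.1 * (1 + loN fun _ => 1) = (1 + N) * g.1 := by
  refine ⟨⟨c⁻¹ • kry N x, ?_⟩, ?_⟩
  · rw [det_smul, hK, Fintype.card_fin, ← mul_pow, inv_mul_cancel₀ hc, one_pow]
  · show (c⁻¹ • kry N x) * (1 + loN fun _ => 1) = (1 + N) * (c⁻¹ • kry N x)
    rw [Matrix.smul_mul, Matrix.mul_smul, mul_add, mul_one, add_mul, one_mul, mul_kry hx]

variable {A : Matrix (Fin (m + 1)) (Fin (m + 1)) F}

/-- An upper unitriangular matrix has determinant one. -/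
theorem det_unitri {T : Matrix (Fin (m + 1)) (Fin (m + 1)) F}
    (h0 : ∀ i j : Fin (m + 1), j.val < i.val → T i j = 0) (h1 : ∀ i, T i i = 1) : T.det = 1 := by
  rw [det_of_upperTriangular]
  · exact Finset.prod_eq_one fun i _ => h1 i
  · intro i j hij
    exact h0 i j hij

/-- A rank-one change which turns a cyclic matrix into a regular nilpotent one. -/
theorem exists_completion (e : ℕ) (hK : (kry A x).det ≠ 0)
    (he : ∀ a : Fin (m + 1) → F, kry A x *ᵥ a = A ^ (m + 1) *ᵥ x → ∀ j : Fin (m + 1), j.val < e → a j = 0)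
    (he1 : e ≤ 1) :
    ∃ ρ : Fin (m + 1) → F,
      (A + vecMulVec (A ^ e *ᵥ x) ρ) ^ (m + 1) *ᵥ x = 0 ∧
      (kry (A + vecMulVec (A ^ e *ᵥ x) ρ) x).det = (kry A x).det ∧ (0 < e → ρ ⬝ᵥ x = 0) := by
  classical
  have hKu : IsUnit (kry A x) := (Matrix.isUnit_iff_isUnit_det _).2 (isUnit_iff_ne_zero.2 hK)
  obtain ⟨a, ha⟩ : ∃ a, kry A x *ᵥ a = A ^ (m + 1) *ᵥ x := Matrix.mulVec_surjective_iff_isUnit.2 hKu _
  have ha0 := he a ha
  let c : ℕ → F := fun l => if h : e ≤ l ∧ l ≤ m then -a ⟨m - l + e, by omega⟩ else 0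
  have hc0 : ∀ l, l < e → c l = 0 := fun l hl => dif_neg (by omega)
  let n : ℕ → (Fin (m + 1) → F) := fun i => Nat.rec x (fun l v => A *ᵥ v + c l • (A ^ e *ᵥ x)) i
  have hn : ∀ i, n i = A ^ i *ᵥ x + ∑ l ∈ Finset.range i, c l • (A ^ (i - 1 - l + e) *ᵥ x) := by
    intro i
    induction i with
    | zero => simp [n]
    | succ i ih =>
      show A *ᵥ n i + c i • (A ^ e *ᵥ x) = _
      rw [ih, mulVec_add, mulVec_mulVec, ← pow_succ', mulVec_sum, Finset.sum_range_succ, add_assoc]
      congr 2
      · refine Finset.sum_congr rfl fun l hl => ?_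
        rw [Finset.mem_range] at hl
        rw [mulVec_smul, mulVec_mulVec, ← pow_succ', show i - 1 - l + e + 1 = i + 1 - 1 - l + e by omega]
      · rw [show i + 1 - 1 - i + e = e by omega]
  -- the chain ends at zero
  have hend : n (m + 1) = 0 := by
    refine (hn (m + 1)).trans ?_
    rw [← ha, kry_mulVec, ← Fin.sum_univ_eq_sum_range fun l => c l • (A ^ (m + 1 - 1 - l + e) *ᵥ x)]
    rw [add_eq_zero_iff_eq_neg, ← Finset.sum_neg_distrib]
    obtain rfl | rfl : e = 0 ∨ e = 1 := by omega
    · refine Fintype.sum_equiv Fin.revPerm _ _ fun j => ?_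
      simp only [Fin.revPerm_apply, Fin.val_rev, c]
      rw [dif_pos ⟨Nat.zero_le _, by omega⟩, neg_smul, neg_neg,
        show m + 1 - 1 - (m + 1 - (j.val + 1)) + 0 = j.val by omega]
      congr 2
      exact Fin.ext (by simp only; omega)
    · rw [Fin.sum_univ_succ (f := fun j : Fin (m + 1) => a j • (A ^ j.val *ᵥ x)), ha0 0 (by simp),
        zero_smul, zero_add, Fin.sum_univ_succ, hc0 (0 : Fin (m + 1)).val (by simp), zero_smul, neg_zero,
        zero_add]
      refine Fintype.sum_equiv Fin.revPerm _ _ fun j => ?_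
      simp only [Fin.revPerm_apply, Fin.val_succ, Fin.val_rev, c]
      rw [dif_pos ⟨by omega, by omega⟩, neg_smul, neg_neg,
        show m + 1 - 1 - (m - (j.val + 1) + 1) + 1 = j.val + 1 by omega]
      congr 2
      exact Fin.ext (by simp only [Fin.val_succ]; omega)
  -- the change of basis is unitriangular
  let T : Matrix (Fin (m + 1)) (Fin (m + 1)) F := Matrix.of fun r i =>
    if r.val = i.val then 1 else if r.val < i.val ∧ e ≤ r.val then c (i.val - 1 + e - r.val) else 0
  have hKT : ∀ i : Fin (m + 1), kry A x *ᵥ (T *ᵥ ev i) = n i.val := by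
    intro i
    rw [show T *ᵥ ev i = fun r => T r i from by ext r; rw [ev, mulVec_single_one]; rfl,
      kry_mulVec, hn, ← Finset.add_sum_erase _ _ (Finset.mem_univ i)]
    congr 1
    · simp [T]
    · symm
      rw [← Finset.sum_filter_of_ne (s := Finset.range i.val) (p := fun l => e ≤ l)
        (fun l _ hl => by by_contra h; exact hl (by rw [hc0 l (by omega), zero_smul]))]
      rw [← Finset.sum_filter_of_ne (s := Finset.univ.erase i)
        (p := fun r : Fin (m + 1) => r.val < i.val ∧ e ≤ r.val)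
        (fun r hr h => by
          have hne : r.val ≠ i.val := fun e => (Finset.mem_erase.1 hr).1 (Fin.ext e)
          by_contra h'
          refine h ?_
          simp only [T, Matrix.of_apply, if_neg hne, if_neg h', zero_smul])]
      refine Finset.sum_bij' (fun l _ => (⟨i.val - 1 - l + e, by
          have := i.isLt; simp_all [Finset.mem_filter]; omega⟩ : Fin (m + 1)))
        (fun r _ => i.val - 1 + e - r.val) ?_ ?_ ?_ ?_ ?_
      · intro l hl
        simp only [Finset.mem_filter, Finset.mem_range] at hl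
        simp only [Finset.mem_filter, Finset.mem_erase, Finset.mem_univ, and_true, ne_eq, Fin.ext_iff]
        omega
      · intro r hr
        simp only [Finset.mem_filter, Finset.mem_erase, Finset.mem_univ, and_true] at hr
        simp only [Finset.mem_filter, Finset.mem_range]
        omega
      · intro l hl
        simp only [Finset.mem_filter, Finset.mem_range] at hl
        simp only; omega
      · intro r hr
        simp only [Finset.mem_filter, Finset.mem_erase, Finset.mem_univ, and_true] at hr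
        exact Fin.ext (by simp only; omega)
      · intro l hl
        simp only [Finset.mem_filter, Finset.mem_range] at hl
        simp only [T, Matrix.of_apply]
        rw [if_neg (by omega), if_pos (by omega), show i.val - 1 + e - (i.val - 1 - l + e) = l by omega]
  have hTdet : T.det = 1 := det_unitri
    (fun i j hij => by simp only [T, Matrix.of_apply]; rw [if_neg (by omega), if_neg (by omega)])
    (fun i => by simp [T])
  have hK' : (kry A x * T).det = (kry A x).det := by rw [det_mul, hTdet, mul_one]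
  have hU : IsUnit (kry A x * T).det := by rw [hK']; exact isUnit_iff_ne_zero.2 hK
  let ρ : Fin (m + 1) → F := (fun i : Fin (m + 1) => c i.val) ᵥ* (kry A x * T)⁻¹
  have hρ : ∀ i : Fin (m + 1), ρ ⬝ᵥ n i.val = c i.val := by
    intro i
    rw [← hKT, mulVec_mulVec, dotProduct_mulVec]
    simp only [ρ]
    rw [vecMul_vecMul, Matrix.nonsing_inv_mul _ hU, vecMul_one, ev, dotProduct_single, mul_one]
  set N' := A + vecMulVec (A ^ e *ᵥ x) ρ
  have hN : ∀ i, i ≤ m + 1 → N' ^ i *ᵥ x = n i := by
    intro i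
    induction i with
    | zero => intro _; rw [pow_zero, one_mulVec]; rfl
    | succ i ih =>
      intro hi
      rw [pow_succ', ← mulVec_mulVec, ih (by omega), add_mulVec, vecMulVec_mulVec, hρ ⟨i, by omega⟩,
        op_smul_eq_smul]
  refine ⟨ρ, by rw [hN _ le_rfl, hend], ?_, fun hpos => ?_⟩
  · rw [← hK']
    refine congrArg Matrix.det (ext_ev fun j => ?_)
    rw [kry_mulVec_ev, hN _ (by omega), ← mulVec_mulVec, hKT]
  · have := hρ 0
    rwa [hn, Fin.val_zero, pow_zero, one_mulVec, Finset.sum_range_zero, add_zero, hc0 0 hpos] at this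

/-- Shifting by the identity does not change the Krylov determinant. -/
theorem kry_sub_one (B : Matrix (Fin (m + 1)) (Fin (m + 1)) F) (y : Fin (m + 1) → F) :
    (kry (B - 1) y).det = (kry B y).det := by
  classical
  let T : Matrix (Fin (m + 1)) (Fin (m + 1)) F := Matrix.of fun i j =>
    (Nat.choose j.val i.val : F) * (-1) ^ (j.val - i.val)
  have : kry (B - 1) y = kry B y * T := by
    refine ext_ev fun j => ?_
    rw [← mulVec_mulVec, kry_mulVec_ev, show T *ᵥ ev j = fun i => T i j from by
      ext i; rw [ev, mulVec_single_one]; rfl, kry_mulVec, sub_eq_add_neg,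
      (Commute.one_right B).neg_right.add_pow, sum_mulVec]
    change _ = ∑ i : Fin (m + 1), ((Nat.choose j.val i.val : F) * (-1) ^ (j.val - i.val)) • (B ^ i.val *ᵥ y)
    rw [Fin.sum_univ_eq_sum_range (fun i => ((Nat.choose j.val i : F) * (-1) ^ (j.val - i)) • (B ^ i *ᵥ y))]
    refine Eq.trans (Finset.sum_congr rfl fun i _ => ?_)
      (Finset.sum_subset (Finset.range_mono (by omega : j.val + 1 ≤ m + 1)) fun i _ hi => ?_)
    rotate_left
    · rw [Finset.mem_range] at hi
      rw [Nat.choose_eq_zero_of_lt (by omega), Nat.cast_zero, zero_mul, zero_smul]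
    · have e1 : B ^ i * (-1) ^ (j.val - i) * (Nat.choose j.val i : Matrix (Fin (m + 1)) (Fin (m + 1)) F) =
          ((Nat.choose j.val i : F) * (-1) ^ (j.val - i)) • B ^ i := by
        have h1 : ((-1 : Matrix (Fin (m + 1)) (Fin (m + 1)) F)) ^ (j.val - i) =
            ((-1 : F) ^ (j.val - i)) • 1 := by
          rw [show (-1 : Matrix (Fin (m + 1)) (Fin (m + 1)) F) = (-1 : F) • 1 by simp, smul_pow, one_pow]
        have h2 : (Nat.choose j.val i : Matrix (Fin (m + 1)) (Fin (m + 1)) F) =
            (Nat.choose j.val i : F) • 1 := by rw [Nat.cast_smul_eq_nsmul, nsmul_one]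
        rw [h1, h2, Matrix.mul_smul, mul_one, Matrix.mul_smul, mul_one, smul_smul]
      rw [e1, smul_mulVec]
  rw [this, det_mul, det_unitri (T := T) (fun i j hij => by
    show (Nat.choose j.val i.val : F) * _ = 0
    rw [Nat.choose_eq_zero_of_lt hij, Nat.cast_zero, zero_mul])
    (fun i => by show (Nat.choose i.val i.val : F) * _ = 1; simp), mul_one]

theorem kry_mul_left (B : Matrix (Fin (m + 1)) (Fin (m + 1)) F) (y : Fin (m + 1) → F) :
    kry B (B *ᵥ y) = B * kry B y := by
  refine ext_ev fun j => ?_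
  rw [← mulVec_mulVec, kry_mulVec_ev, kry_mulVec_ev, mulVec_mulVec, mulVec_mulVec, ← pow_succ, ← pow_succ']

/-- The Krylov determinant of a Hessenberg matrix. -/
theorem kry_hessenberg (B : Matrix (Fin (m + 1)) (Fin (m + 1)) F)
    (hB : ∀ i j : Fin (m + 1), j.val + 1 < i.val → B i j = 0) :
    (kry B (ev 0)).det = ∏ j : Fin (m + 1), ∏ l : Fin j.val,
      B ⟨l.val + 1, by omega⟩ ⟨l.val, by omega⟩ := by
  classical
  have key : ∀ k : ℕ, (hk : k ≤ m) →
      (∀ i : Fin (m + 1), k < i.val → (B ^ k *ᵥ ev 0) i = 0) ∧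
      (B ^ k *ᵥ ev 0) ⟨k, by omega⟩ = ∏ l : Fin k, B ⟨l.val + 1, by omega⟩ ⟨l.val, by omega⟩ := by
    intro k
    induction k with
    | zero =>
      intro _
      refine ⟨fun i hi => ?_, ?_⟩
      · rw [pow_zero, one_mulVec, ev, Pi.single_eq_of_ne (fun e => by simp [e] at hi)]
      · rw [pow_zero, one_mulVec, ev, show (⟨0, by omega⟩ : Fin (m + 1)) = 0 from rfl, Pi.single_eq_same]
        simp
    | succ k ih =>
      intro hk
      obtain ⟨h0, h1⟩ := ih (by omega)
      rw [pow_succ', ← mulVec_mulVec]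
      refine ⟨fun i hi => (Finset.sum_eq_zero fun j _ => ?_ :
        ∑ j, B i j * (B ^ k *ᵥ ev 0) j = 0), ?_⟩
      · by_cases hj : k < j.val
        · rw [h0 j hj, mul_zero]
        · rw [hB i j (by omega), zero_mul]
      · rw [mulVec, dotProduct, Finset.sum_eq_single ⟨k, by omega⟩, h1, Fin.prod_univ_castSucc, mul_comm]
        · rfl
        · intro j _ hj
          by_cases hjk : k < j.val
          · rw [h0 j hjk, mul_zero]
          · have : j.val ≠ k := fun e => hj (Fin.ext e)
            rw [hB _ j (by simp only; omega), zero_mul]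
        · simp
  rw [det_of_upperTriangular]
  · refine Finset.prod_congr rfl fun j _ => ?_
    exact (key j.val (by omega)).2
  · intro i j hij
    exact (key j.val (by omega)).1 i hij

end CfsgLib.Classical.UnipotentGen
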