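import Cfsg.Agent.Lib.KnownB.GL2.TableSLApps
import Cfsg.Agent.Lib.KnownB.GL2.TableSLTorus
import Cfsg.Agent.Lib.KnownB.GL2.Pairs1
import Cfsg.Agent.Lib.KnownA.SL2Torus.Sylow
import Cfsg.Agent.Lib.KnownA.SL2Torus.BorelClasses
import Cfsg.Agent.Lib.KnownA.SL2Torus.Classes
import Cfsg.Agent.Lib.Classical.SL2Tori
import Cfsg.Agent.Lib.Char.TwoDegrees.Basic
import Cfsg.Agent.Lib.DegreeTools.Basic

/-!
# Counting the irreducible characters of degree prime to `ℓ` of `SL(2, q)` and of its Sylow normalisers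
-/

set_option autoImplicit false
set_option linter.unusedSectionVars false
set_option linter.style.haveILetI false

namespace CfsgLib.Classical.SL2McKay

open scoped MatrixGroups
open CfsgLib CfsgLib.DegreeTools CfsgLib.KnownB.GL2 CfsgLib.KnownA.SL2Torus CfsgLib.Classical

section General

variable {G : Type*} [Group G]

/-- The number of irreducible characters of degree prime to `l`. -/
noncomputable def cnt (l : ℕ) (G : Type*) [Group G] : ℕ :=
  Nat.card {χ : Cfsg.IrrCharacter G // ¬ l ∣ Cfsg.charDegree (χ : G → ℂ)}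

theorem cnt_congr {H : Type*} [Group H] (l : ℕ) (e : G ≃* H) : cnt l G = cnt l H := by
  refine Nat.card_congr (Equiv.subtypeEquiv
    { toFun := fun χ => ⟨_, Char.IsIrrCharacter.comp_equiv χ.2 e.symm⟩
      invFun := fun χ => ⟨_, Char.IsIrrCharacter.comp_equiv χ.2 e⟩
      left_inv := fun χ => Subtype.ext (funext fun g => by simp)
      right_inv := fun χ => Subtype.ext (funext fun g => by simp) } fun χ => ?_)
  simp [Cfsg.charDegree]

theorem cnt_all [Finite G] (l : ℕ) (h : ∀ χ : Cfsg.IrrCharacter G, ¬ l ∣ Cfsg.charDegree (χ : G → ℂ)) :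
    cnt l G = Nat.card (ConjClasses G) := by
  cases nonempty_fintype G
  rw [cnt, Nat.card_congr (Equiv.subtypeUnivEquiv h), Char.card_irrCharacter]

theorem deg_dvd_index [Finite G] (A : Subgroup G) [A.Normal] (hA : ∀ a ∈ A, ∀ b ∈ A, a * b = b * a)
    (χ : Cfsg.IrrCharacter G) : Cfsg.charDegree (χ : G → ℂ) ∣ A.index := by
  obtain ⟨d, hd, hdvd⟩ := Char.TwoDegrees.exists_degree_dvd_index hA χ.2
  rw [← deg_cast] at hd
  rwa [Nat.cast_injective hd]

theorem cnt_linear [Finite G] (l : ℕ)
    (h : ∀ χ : Cfsg.IrrCharacter G, ¬ l ∣ Cfsg.charDegree (χ : G → ℂ) ↔ Cfsg.charDegree (χ : G → ℂ) = 1) :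
    cnt l G = (commutator G).index := by
  rw [cnt, Nat.card_congr (Equiv.subtypeEquivRight h), card_linear_deg]

theorem two_part_quaternion (k : ℕ) (hk : 1 ≤ k) : cnt 2 (QuaternionGroup (2 ^ k)) = 4 := by
  classical
  haveI : NeZero (2 ^ k) := ⟨pow_ne_zero _ two_ne_zero⟩
  have hconj : ∀ g : QuaternionGroup (2 ^ k), ∀ i : ZMod (2 * 2 ^ k),
      g * QuaternionGroup.a i * g⁻¹ = QuaternionGroup.a i ∨
        g * QuaternionGroup.a i * g⁻¹ = (QuaternionGroup.a i)⁻¹ := by
    intro g i
    rcases g with j | j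
    · left
      rw [mul_inv_eq_iff_eq_mul, QuaternionGroup.a_mul_a, QuaternionGroup.a_mul_a, add_comm]
    · right
      rw [mul_inv_eq_iff_eq_mul, show (QuaternionGroup.a i : QuaternionGroup (2 ^ k))⁻¹ = QuaternionGroup.a (-i)
        from rfl, QuaternionGroup.xa_mul_a, QuaternionGroup.a_mul_xa, sub_neg_eq_add]
  have hnorm : ∀ t : ℕ, (Subgroup.zpowers (QuaternionGroup.a 1 ^ t : QuaternionGroup (2 ^ k))).Normal := fun t =>
    ⟨fun z hz g => by
      obtain ⟨m, rfl⟩ := Subgroup.mem_zpowers_iff.1 hz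
      rw [← conj_zpow]
      refine zpow_mem ?_ m
      rw [QuaternionGroup.a_one_pow]
      rcases hconj g (t : ZMod (2 * 2 ^ k)) with h | h
      · rw [h]; exact Subgroup.mem_zpowers _
      · rw [h]; exact inv_mem (Subgroup.mem_zpowers _)⟩
  have hcard : Nat.card (QuaternionGroup (2 ^ k)) = 4 * 2 ^ k := by
    rw [Nat.card_eq_fintype_card, QuaternionGroup.card]
  have hidx : ∀ (t m : ℕ), t * m = 2 * 2 ^ k →
      (Subgroup.zpowers (QuaternionGroup.a 1 ^ t : QuaternionGroup (2 ^ k))).index = 2 * t := by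
    intro t m htm
    have ht : t ≠ 0 := fun h => by rw [h, zero_mul] at htm; have := Nat.two_pow_pos k; omega
    have h1 := Subgroup.card_mul_index (Subgroup.zpowers (QuaternionGroup.a 1 ^ t : QuaternionGroup (2 ^ k)))
    rw [Nat.card_zpowers, orderOf_pow' _ ht, QuaternionGroup.orderOf_a_one, hcard,
      Nat.gcd_eq_right (Dvd.intro m htm), Nat.div_eq_of_eq_mul_right (Nat.pos_of_ne_zero ht) htm.symm] at h1
    have hm : 0 < m := Nat.pos_of_ne_zero fun h => by rw [h, mul_zero] at htm; have := Nat.two_pow_pos k; omega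
    refine Nat.eq_of_mul_eq_mul_left hm ?_
    rw [h1]
    linarith
  haveI := hnorm 1
  haveI := hnorm 2
  rw [cnt_linear]
  · have h4 : (Subgroup.zpowers (QuaternionGroup.a 1 ^ 2 : QuaternionGroup (2 ^ k))).index = 4 :=
      hidx 2 (2 ^ k) rfl
    have hle : commutator (QuaternionGroup (2 ^ k)) ≤
        Subgroup.zpowers (QuaternionGroup.a 1 ^ 2 : QuaternionGroup (2 ^ k)) := by
      set Z := Subgroup.zpowers (QuaternionGroup.a 1 ^ 2 : QuaternionGroup (2 ^ k))
      haveI : Fact (Nat.Prime 2) := ⟨Nat.prime_two⟩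
      letI : CommGroup (QuaternionGroup (2 ^ k) ⧸ Z) :=
        { (inferInstance : Group (QuaternionGroup (2 ^ k) ⧸ Z)) with
          mul_comm := (IsPGroup.isMulCommutative_of_card_eq_prime_sq (p := 2) (show Nat.card _ = 2 ^ 2 from h4)).is_comm.comm }
      have h := Abelianization.commutator_subset_ker (QuotientGroup.mk' Z)
      rwa [QuotientGroup.ker_mk'] at h
    have hge : Subgroup.zpowers (QuaternionGroup.a 1 ^ 2 : QuaternionGroup (2 ^ k)) ≤
        commutator (QuaternionGroup (2 ^ k)) := by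
      rw [Subgroup.zpowers_le]
      have h := Subgroup.commutator_mem_commutator
        (Subgroup.mem_top (QuaternionGroup.a 1 : QuaternionGroup (2 ^ k)))
        (Subgroup.mem_top (QuaternionGroup.xa 0 : QuaternionGroup (2 ^ k)))
      rw [← commutator_def] at h
      convert h using 1
      rw [commutatorElement_def, mul_assoc (QuaternionGroup.a 1), mul_assoc (QuaternionGroup.a 1),
        show (QuaternionGroup.a 1 : QuaternionGroup (2 ^ k))⁻¹ = QuaternionGroup.a (-1) from rfl,
        show QuaternionGroup.xa 0 * QuaternionGroup.a (-1) * (QuaternionGroup.xa 0)⁻¹ =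
          (QuaternionGroup.a 1 : QuaternionGroup (2 ^ k)) by
          rw [mul_inv_eq_iff_eq_mul, QuaternionGroup.xa_mul_a, QuaternionGroup.a_mul_xa, zero_add, zero_sub],
        pow_two]
    rw [le_antisymm hle hge, h4]
  · intro χ
    have h2 := deg_dvd_index (Subgroup.zpowers (QuaternionGroup.a 1 ^ 1 : QuaternionGroup (2 ^ k)))
      (fun a ha b hb => by
        obtain ⟨i, rfl⟩ := Subgroup.mem_zpowers_iff.1 ha
        obtain ⟨j, rfl⟩ := Subgroup.mem_zpowers_iff.1 hb
        exact zpow_mul_comm _ _ _) χ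
    rw [hidx 1 (2 * 2 ^ k) (one_mul _)] at h2
    rcases (Nat.dvd_prime Nat.prime_two).1 h2 with h | h <;> simp [h]

end General

variable {F : Type*} [Field F] [Fintype F]

local notation "qN" => Fintype.card F

theorem card_classes (hodd : Odd qN) : Nat.card (ConjClasses SL(2, F)) = qN + 4 := by
  classical
  have h := card_classes_SL (F := F)
  rw [card_signs_odd (two_ne_zero_of_odd' hodd)] at h
  omega

/-- The count in `SL(2, q)` in terms of the degrees. -/
theorem cnt_SL (hodd : Odd qN) (hq : 5 ≤ qN) (l : ℕ) :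
    cnt l SL(2, F) = (if l ∣ 1 then 0 else 1) + (if l ∣ qN then 0 else 1) +
      (if l ∣ qN + 1 then 0 else (qN - 3) / 2) + (if l ∣ qN - 1 then 0 else (qN - 1) / 2) +
      (if l ∣ (qN + 1) / 2 then 0 else 2) + (if l ∣ (qN - 1) / 2 then 0 else 2) := by
  classical
  obtain ⟨hcases, hcount⟩ := degrees_SL_odd (F := F) hodd
  obtain ⟨c1, c2, c3, c4, c5, c6⟩ := hcount hq
  letI := Fintype.ofFinite (Cfsg.IrrCharacter SL(2, F))
  let D : Finset ℕ := {1, qN, qN + 1, qN - 1, (qN + 1) / 2, (qN - 1) / 2}
  have hmem : ∀ χ : Cfsg.IrrCharacter SL(2, F), Cfsg.charDegree (χ : SL(2, F) → ℂ) ∈ D := by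
    intro χ
    have h := hcases χ χ.2
    rw [← deg_cast χ, show (Fintype.card F : ℂ) + 1 = ((qN + 1 : ℕ) : ℂ) by push_cast; rfl,
      show (Fintype.card F : ℂ) - 1 = ((qN - 1 : ℕ) : ℂ) by rw [Nat.cast_sub Fintype.card_pos, Nat.cast_one],
      show (1 : ℂ) = ((1 : ℕ) : ℂ) from Nat.cast_one.symm] at h
    simp only [Nat.cast_inj] at h
    simp only [D, Finset.mem_insert, Finset.mem_singleton]
    tauto
  have hfib : ∀ d : ℕ, (Finset.univ.filter fun χ : Cfsg.IrrCharacter SL(2, F) =>
      Cfsg.charDegree (χ : SL(2, F) → ℂ) = d).card =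
        Nat.card {χ : Cfsg.IrrCharacter SL(2, F) // (χ : SL(2, F) → ℂ) 1 = (d : ℂ)} := by
    intro d
    rw [Nat.card_eq_fintype_card, Fintype.card_subtype]
    congr 1
    refine Finset.filter_congr fun χ _ => ?_
    rw [← deg_cast χ, Nat.cast_inj]
  have e1 : qN - 1 = ((qN - 1 : ℕ)) := rfl
  have hodd' := Nat.odd_iff.1 hodd
  have hmain : cnt l SL(2, F) = ∑ d ∈ D, if l ∣ d then 0 else
      Nat.card {χ : Cfsg.IrrCharacter SL(2, F) // (χ : SL(2, F) → ℂ) 1 = (d : ℂ)} := by
    rw [cnt, Nat.card_eq_fintype_card, Fintype.card_subtype, Finset.card_eq_sum_card_fiberwise (t := D)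
      (f := fun χ : Cfsg.IrrCharacter SL(2, F) => Cfsg.charDegree (χ : SL(2, F) → ℂ)) (fun χ _ => hmem χ)]
    refine Finset.sum_congr rfl fun d _ => ?_
    rw [← hfib, Finset.filter_filter]
    split_ifs with h
    · rw [Finset.card_eq_zero, Finset.filter_eq_empty_iff]
      rintro χ - ⟨h1, h2⟩
      exact h1 (h2 ▸ h)
    · congr 1
      refine Finset.filter_congr fun χ _ => ?_
      exact ⟨fun h' => h'.2, fun h' => ⟨h' ▸ h, h'⟩⟩
  rw [hmain]
  simp only [D]
  rw [Finset.sum_insert (by simp; omega), Finset.sum_insert (by simp; omega), Finset.sum_insert (by simp; omega),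
    Finset.sum_insert (by simp; omega), Finset.sum_insert (by simp; omega), Finset.sum_singleton]
  rw [Nat.cast_sub (Fintype.card_pos (α := F)), Nat.cast_add, Nat.cast_one, c1, c2, c3, c4, c5, c6]
  omega

/-- The defining characteristic. -/
theorem defining (hodd : Odd qN) (p : ℕ) [Fact p.Prime] [CharP F p] (S : Sylow p SL(2, F)) :
    cnt p SL(2, F) = cnt p (Subgroup.normalizer ((S : Subgroup SL(2, F)) : Set SL(2, F))) := by
  classical
  obtain ⟨f, hp, hqp⟩ := FiniteField.card F p
  have h2 := two_ne_zero_of_odd' hodd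
  have hpq : p ∣ qN := hqp ▸ dvd_pow_self p f.ne_zero
  have hp2 : p ≠ 2 := by
    rintro rfl
    obtain ⟨c, hc⟩ := hodd
    omega
  have hndvd : ∀ d, (d ∣ qN + 1 ∨ d ∣ qN - 1) → ¬ p ∣ d := by
    intro d hd hpd
    have hq1 : 1 ≤ qN := Fintype.card_pos
    rcases hd with h | h
    · have := Nat.dvd_sub (hpd.trans h) hpq
      rw [Nat.add_sub_cancel_left] at this
      exact hp.not_dvd_one this
    · have := Nat.dvd_sub hpq (hpd.trans h)
      rw [Nat.sub_sub_self hq1] at this
      exact hp.not_dvd_one this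
  -- the count in `SL(2, q)`
  have hG : cnt p SL(2, F) = qN + 3 := by
    have hiff : ∀ χ : Cfsg.IrrCharacter SL(2, F),
        ¬ p ∣ Cfsg.charDegree (χ : SL(2, F) → ℂ) ↔ ¬ (χ : SL(2, F) → ℂ) = stS F := by
      intro χ
      constructor
      · intro h e
        apply h
        have h1 : (χ : SL(2, F) → ℂ) 1 = qN := by rw [e]; exact stS_apply_one
        rw [← deg_cast] at h1
        rw [Nat.cast_injective h1]
        exact hpq
      · intro h
        have hc := (degrees_SL_odd (F := F) hodd).1 χ χ.2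
        rw [← deg_cast χ, show (Fintype.card F : ℂ) + 1 = ((qN + 1 : ℕ) : ℂ) by push_cast; rfl,
          show (Fintype.card F : ℂ) - 1 = ((qN - 1 : ℕ) : ℂ) by rw [Nat.cast_sub Fintype.card_pos, Nat.cast_one],
          show (1 : ℂ) = ((1 : ℕ) : ℂ) from Nat.cast_one.symm] at hc
        simp only [Nat.cast_inj] at hc
        obtain ⟨m, hm⟩ := hodd
        rcases hc with e | e | e | e | e | e
        · rw [e]; exact hp.not_dvd_one
        · refine absurd (eq_stS_of_degree χ.2 ?_) h
          rw [← deg_cast, e]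
        · rw [e]; exact hndvd _ (Or.inl dvd_rfl)
        · rw [e]; exact hndvd _ (Or.inr dvd_rfl)
        · rw [e]; exact hndvd _ (Or.inl (Nat.div_dvd_of_dvd ⟨m + 1, by omega⟩))
        · rw [e]; exact hndvd _ (Or.inr (Nat.div_dvd_of_dvd ⟨m, by omega⟩))
    rw [cnt, Nat.card_congr (Equiv.subtypeEquivRight hiff)]
    letI := Fintype.ofFinite (Cfsg.IrrCharacter SL(2, F))
    have htot : Fintype.card (Cfsg.IrrCharacter SL(2, F)) = qN + 4 := by
      rw [← Nat.card_eq_fintype_card, Char.card_irrCharacter, card_classes hodd]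
    have hone : (Finset.univ.filter fun χ : Cfsg.IrrCharacter SL(2, F) => (χ : SL(2, F) → ℂ) = stS F) =
        {⟨stS F, isIrr_stS⟩} := by
      ext χ
      simp [Subtype.ext_iff]
    rw [Nat.card_eq_fintype_card, Fintype.card_subtype]
    have h := Finset.card_filter_add_card_filter_not (s := (Finset.univ : Finset (Cfsg.IrrCharacter SL(2, F))))
      (fun χ : Cfsg.IrrCharacter SL(2, F) => (χ : SL(2, F) → ℂ) = stS F)
    rw [hone, Finset.card_singleton, Finset.card_univ, htot] at h
    omega
  -- the normaliser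
  obtain ⟨x, hx⟩ := sylowSL2_exists_conj S
  have hbor : bor F = Subgroup.normalizer (unipSL F : Set SL(2, F)) := by
    have hmemU : ∀ u : SL(2, F), u ∈ unipSL F ↔ (u : Matrix (Fin 2) (Fin 2) F) 1 0 = 0 ∧
        (u : Matrix (Fin 2) (Fin 2) F) 0 0 = 1 := by
      intro u
      constructor
      · rintro ⟨c, rfl⟩
        obtain ⟨c, rfl⟩ := Multiplicative.ofAdd.surjective c
        rw [uSL_coe]
        exact ⟨by simp, by simp⟩
      · rintro ⟨h10, h00⟩
        refine ⟨Multiplicative.ofAdd ((u : Matrix (Fin 2) (Fin 2) F) 0 1), Subtype.ext ?_⟩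
        have hd := u.2
        rw [Matrix.det_fin_two, h10, h00, mul_zero, sub_zero, one_mul] at hd
        rw [uSL_coe]
        ext i j
        fin_cases i <;> fin_cases j <;> simp [h10, h00, hd]
    refine le_antisymm (fun g hg => ?_) (fun g hg => ?_)
    · have h10 := mem_bor.1 hg
      refine Subgroup.mem_normalizer_fintype fun u hu => ?_
      obtain ⟨a, b⟩ := (hmemU u).1 hu
      have hd := g.2
      rw [Matrix.det_fin_two, h10, mul_zero, sub_zero] at hd
      rw [SetLike.mem_coe, hmemU]
      simp only [Matrix.SpecialLinearGroup.coe_mul, Matrix.SpecialLinearGroup.coe_inv, Matrix.adjugate_fin_two,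
        Matrix.mul_apply, Fin.sum_univ_two]
      simp [a, b, h10, hd]
    · rw [mem_bor]
      have h1 := (Subgroup.mem_normalizer_iff.1 hg (uSL (Multiplicative.ofAdd 1))).1 ⟨_, rfl⟩
      have h2' := ((hmemU _).1 h1).1
      simp only [Matrix.SpecialLinearGroup.coe_mul, Matrix.SpecialLinearGroup.coe_inv, Matrix.adjugate_fin_two,
        Matrix.mul_apply, Fin.sum_univ_two, uSL_coe] at h2'
      simp at h2'
      have hz : (g : Matrix (Fin 2) (Fin 2) F) 1 0 * (g : Matrix (Fin 2) (Fin 2) F) 1 0 = 0 := by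
        linear_combination -h2'
      exact mul_self_eq_zero.1 hz
  have hN : (Subgroup.normalizer ((unipSL F : Subgroup SL(2, F)) : Set SL(2, F))).map
      (MulAut.conj x).toMonoidHom = Subgroup.normalizer ((S : Subgroup SL(2, F)) : Set SL(2, F)) := by
    rw [Subgroup.map_equiv_normalizer_eq, hx]
    rfl
  rw [hG, ← cnt_congr p (((Subgroup.equivMapOfInjective _ (MulAut.conj x).toMonoidHom
    (MulAut.conj x).injective)).trans (MulEquiv.subgroupCongr hN)), ← cnt_congr p (MulEquiv.subgroupCongr hbor)]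
  rw [cnt_all, card_classes_bor hodd]
  intro χ
  have hle : unipSL F ≤ bor F := hbor ▸ Subgroup.le_normalizer
  haveI : ((unipSL F).subgroupOf (bor F)).Normal :=
    Subgroup.normal_subgroupOf_iff_le_normalizer hle |>.2 hbor.le
  refine hndvd _ (Or.inr ((deg_dvd_index ((unipSL F).subgroupOf (bor F)) ?_ χ).trans ?_))
  · intro a ha b hb
    obtain ⟨c, hc⟩ := Subgroup.mem_subgroupOf.1 ha
    obtain ⟨c', hc'⟩ := Subgroup.mem_subgroupOf.1 hb
    apply Subtype.ext
    show (a : SL(2, F)) * b = (b : SL(2, F)) * a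
    rw [← hc, ← hc', ← map_mul, ← map_mul, mul_comm]
  · have h1 := Subgroup.card_mul_index ((unipSL F).subgroupOf (bor F))
    rw [Nat.card_congr (Subgroup.subgroupOfEquivOfLe hle).toEquiv, card_unipSL, ← Nat.card_congr borEquiv,
      Nat.card_prod, Nat.card_units, Nat.card_eq_fintype_card, mul_comm (qN - 1)] at h1
    exact (Nat.eq_of_mul_eq_mul_left Fintype.card_pos h1) ▸ dvd_rfl

/-- Odd primes dividing `q ± 1`. -/
theorem odd_prime (hodd : Odd qN) (l : ℕ) [Fact l.Prime] (hl : l ≠ 2)
    (hdvd : l ∣ qN - 1 ∨ l ∣ qN + 1) (S : Sylow l SL(2, F)) :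
    cnt l SL(2, F) = cnt l (Subgroup.normalizer ((S : Subgroup SL(2, F)) : Set SL(2, F))) := by
  classical
  have hlp : l.Prime := Fact.out
  obtain ⟨m, hm⟩ := hodd
  have hq : 5 ≤ qN := by
    have h3 : 3 ≤ l := by have := hlp.two_le; omega
    have hq1 : 1 < qN := Fintype.one_lt_card
    rcases hdvd with h | h <;> have := Nat.le_of_dvd (by omega) h
    · omega
    · rcases Nat.lt_or_ge qN 5 with h5 | h5
      · have : qN + 1 = 4 := by omega
        rw [this] at h
        have : l = 3 ∨ l = 4 := by omega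
        rcases this with rfl | rfl
        · omega
        · norm_num at hlp
      · exact h5
  have hodd : Odd qN := ⟨m, hm⟩
  have h2 := two_ne_zero_of_odd' hodd
  obtain ⟨T, hT, hcard, hC, hNcard⟩ := odd_sylow hodd l hl S hdvd
  have hNeq : Subgroup.normalizer ((S : Subgroup SL(2, F)) : Set SL(2, F)) =
      Subgroup.normalizer (T : Set SL(2, F)) := by
    obtain ⟨b, hb, hbb, hinv⟩ := hT.exists_flip h2
    refine Subgroup.eq_of_le_of_card_ge (fun g hg => Subgroup.mem_normalizer_fintype fun t ht => ?_)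
      (by rw [hT.card_normalizer h2 hb hbb hinv, hNcard])
    rw [SetLike.mem_coe, ← hC, Subgroup.mem_centralizer_iff] at ht ⊢
    intro y hy
    have hy' : g⁻¹ * y * g ∈ (S : Subgroup SL(2, F)) := by
      simpa using (Subgroup.mem_normalizer_iff.1 (Subgroup.inv_mem _ hg) y).1 hy
    calc y * (g * t * g⁻¹) = g * (g⁻¹ * y * g * t) * g⁻¹ := by group
      _ = g * t * g⁻¹ * y := by rw [ht _ hy']; group
  have hN : cnt l (Subgroup.normalizer ((S : Subgroup SL(2, F)) : Set SL(2, F))) =
      (Nat.card T + 6) / 2 := by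
    rw [cnt_congr l (MulEquiv.subgroupCongr hNeq), cnt_all]
    · have := hT.card_classes_normalizer h2
      omega
    · intro χ
      have hle : T ≤ Subgroup.normalizer (T : Set SL(2, F)) := Subgroup.le_normalizer
      haveI : (T.subgroupOf (Subgroup.normalizer (T : Set SL(2, F)))).Normal := Subgroup.normal_in_normalizer
      have h1 := deg_dvd_index (T.subgroupOf (Subgroup.normalizer (T : Set SL(2, F))))
        (fun a ha b hb => Subtype.ext (hT.comm (Subgroup.mem_subgroupOf.1 ha) (Subgroup.mem_subgroupOf.1 hb))) χ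
      have hTcard : Nat.card (Subgroup.normalizer (T : Set SL(2, F))) = 2 * Nat.card T := by
        rw [← hNeq]; exact hNcard
      have hidx : (T.subgroupOf (Subgroup.normalizer (T : Set SL(2, F)))).index = 2 := by
        have h := Subgroup.card_mul_index (T.subgroupOf (Subgroup.normalizer (T : Set SL(2, F))))
        rw [Nat.card_congr (Subgroup.subgroupOfEquivOfLe hle).toEquiv, hTcard, mul_comm 2] at h
        exact Nat.eq_of_mul_eq_mul_left Nat.card_pos h
      rw [hidx] at h1
      intro hd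
      exact hl ((Nat.prime_dvd_prime_iff_eq hlp Nat.prime_two).1 (hd.trans h1))
  have hl2 : ¬ l ∣ 2 := fun h => hl ((Nat.prime_dvd_prime_iff_eq hlp Nat.prime_two).1 h)
  have hhalf : ∀ a : ℕ, Even a → (l ∣ a / 2 ↔ l ∣ a) := by
    rintro a ⟨c, rfl⟩
    rw [show (c + c) / 2 = c by omega, ← two_mul, hlp.dvd_mul]
    exact ⟨Or.inr, fun h => h.resolve_left hl2⟩
  rw [hN, cnt_SL hodd hq l]
  simp only [hhalf (qN + 1) ⟨m + 1, by omega⟩, hhalf (qN - 1) ⟨m, by omega⟩]
  have n1 : ¬ l ∣ 1 := hlp.not_dvd_one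
  have hq1 : 1 ≤ qN := by omega
  rcases hdvd with h | h
  · have a1 : ¬ l ∣ qN := fun h' => by
      have := Nat.dvd_sub h' h
      rw [Nat.sub_sub_self hq1] at this
      exact n1 this
    have a2 : ¬ l ∣ qN + 1 := fun h' => by
      have := Nat.dvd_sub h' h
      rw [show qN + 1 - (qN - 1) = 2 by omega] at this
      exact hl2 this
    rcases hcard with ⟨-, hc⟩ | ⟨h', -⟩
    · rw [hc, if_neg n1, if_neg a1, if_neg a2, if_pos h, if_neg a2, if_pos h]
      omega
    · exact absurd h' a2
  · have a1 : ¬ l ∣ qN := fun h' => by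
      have := Nat.dvd_sub h h'
      rw [Nat.add_sub_cancel_left] at this
      exact n1 this
    have a2 : ¬ l ∣ qN - 1 := fun h' => by
      have := Nat.dvd_sub h h'
      rw [show qN + 1 - (qN - 1) = 2 by omega] at this
      exact hl2 this
    rcases hcard with ⟨h', -⟩ | ⟨-, hc⟩
    · exact absurd h' a2
    · rw [hc, if_neg n1, if_neg a1, if_pos h, if_neg a2, if_pos h, if_neg a2]
      omega

/-- The prime two. -/
theorem two (hodd : Odd qN) (S : Sylow 2 SL(2, F)) :
    cnt 2 SL(2, F) = cnt 2 (Subgroup.normalizer ((S : Subgroup SL(2, F)) : Set SL(2, F))) := by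
  classical
  have h2 := two_ne_zero_of_odd' hodd
  obtain ⟨hC, hN1, hN3⟩ := two_sylow hodd S
  obtain ⟨k, hk1, hfac, ⟨e⟩⟩ := sl2_sylow_two hodd S
  obtain ⟨m, hm⟩ := id hodd
  set N := Subgroup.normalizer ((S : Subgroup SL(2, F)) : Set SL(2, F)) with hNdef
  have hq1 : 1 < qN := Fintype.one_lt_card
  rcases Nat.lt_or_ge qN 5 with hq | hq
  · have hq3 : qN = 3 := by omega
    have hcard := hN3 (Or.inl (by rw [hq3]))
    have hS : Nat.card (S : Subgroup SL(2, F)) = 8 := by
      rw [S.card_eq_multiplicity, card_sl2', hq3, show 3 * ((3 - 1) * (3 + 1)) = 2 ^ 3 * 3 by norm_num,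
        Nat.factorization_mul (by norm_num) (by norm_num), Finsupp.add_apply, Nat.factorization_pow_self Nat.prime_two,
        Nat.factorization_eq_zero_of_not_dvd (by norm_num : ¬ 2 ∣ 3)]
      norm_num
    have htop : N = ⊤ := by
      apply Subgroup.eq_top_of_card_eq
      rw [hcard, hS, card_sl2', hq3]
    rw [cnt_congr 2 (MulEquiv.subgroupCongr htop), cnt_congr 2 Subgroup.topEquiv]
  have hG : cnt 2 SL(2, F) = 4 := by
    rw [cnt_SL hodd hq 2, if_neg (by omega), if_neg (by omega), if_pos (by omega), if_pos (by omega)]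
    split_ifs <;> omega
  rw [hG]
  by_cases h8 : qN % 8 = 1 ∨ qN % 8 = 7
  · rw [cnt_congr 2 ((MulEquiv.subgroupCongr (hN1 h8)).trans e), two_part_quaternion k hk1]
  have h8' : qN % 8 = 3 ∨ qN % 8 = 5 := by omega
  obtain rfl : k = 1 := by
    rw [card_sl2'] at hfac
    have := (two_part hodd hq1 hfac).2 h8'
    omega
  have hScard : Nat.card (S : Subgroup SL(2, F)) = 8 := by
    rw [Nat.card_congr e.toEquiv, Nat.card_eq_fintype_card, QuaternionGroup.card]
    rfl
  have hNcard : Nat.card N = 24 := by rw [hN3 h8', hScard]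
  have hSN : (S : Subgroup SL(2, F)) ≤ N := Subgroup.le_normalizer
  set R := (S : Subgroup SL(2, F)).subgroupOf N
  haveI : R.Normal := Subgroup.normal_in_normalizer
  have hRcard : Nat.card R = 8 := by rw [Nat.card_congr (Subgroup.subgroupOfEquivOfLe hSN).toEquiv, hScard]
  have hRidx : R.index = 3 := by
    have h := Subgroup.card_mul_index R
    rw [hRcard, hNcard] at h
    omega
  have hcommR : commutator N ≤ R := by
    haveI : IsCyclic (N ⧸ R) := isCyclic_of_prime_card (p := 3) (hRidx ▸ rfl)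
    letI := (IsCyclic.commGroup : CommGroup (N ⧸ R))
    have h := Abelianization.commutator_subset_ker (QuotientGroup.mk' R)
    rwa [QuotientGroup.ker_mk'] at h
  have hodd3 : (commutator N).index = 3 := by
    by_contra hne
    have hd : R.index ∣ (commutator N).index := Subgroup.index_dvd_of_le hcommR
    have hd' : (commutator N).index ∣ 24 := hNcard ▸ (commutator N).index_dvd_card
    rw [hRidx] at hd
    have h2d : 2 ∣ Nat.card (Abelianization N) := by
      rw [show Nat.card (Abelianization N) = (commutator N).index from rfl]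
      have := Nat.le_of_dvd (by norm_num) hd'
      interval_cases h : (commutator N).index <;> omega
    -- a normal subgroup of index two
    obtain ⟨K, hKn, hK2⟩ : ∃ K : Subgroup N, K.Normal ∧ K.index = 2 := by
      obtain ⟨K', hK'⟩ := Sylow.exists_subgroup_card_pow_prime 2 (n := 0) (G := Abelianization N) (by simp)
      obtain ⟨χ, hχ⟩ : ∃ χ : Abelianization N →* ℂˣ, orderOf χ = 2 := by
        haveI : Finite (Abelianization N →* ℂˣ) := by
          obtain ⟨e'⟩ := CommGroup.monoidHom_mulEquiv_of_hasEnoughRootsOfUnity (Abelianization N) ℂ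
          exact Finite.of_equiv _ e'.toEquiv.symm
        apply exists_prime_orderOf_dvd_card'
        rwa [CommGroup.card_monoidHom_of_hasEnoughRootsOfUnity]
      refine ⟨(χ.comp Abelianization.of).ker, inferInstance, ?_⟩
      rw [Subgroup.index_ker]
      have hle : Nat.card (χ.comp Abelianization.of).range ≤ 2 := by
        refine le_trans (Nat.card_le_card_of_injective
          (fun z : (χ.comp Abelianization.of).range => (⟨(z : ℂˣ), ?_⟩ : rootsOfUnity 2 ℂ))
          (fun z z' h => Subtype.ext (congrArg Subtype.val h :))) (by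
            rw [Complex.card_rootsOfUnity 2] )
        obtain ⟨w, hw⟩ := z.2
        have h := pow_orderOf_eq_one χ
        rw [hχ] at h
        rw [mem_rootsOfUnity, ← hw, MonoidHom.comp_apply, ← MonoidHom.pow_apply, h, MonoidHom.one_apply]
      have hne1 : Nat.card (χ.comp Abelianization.of).range ≠ 1 := by
        intro h
        rw [Subgroup.card_eq_one, MonoidHom.range_eq_bot_iff] at h
        have : χ = 1 := by
          ext a
          exact congrArg Units.val (DFunLike.congr_fun h a)
        rw [this, orderOf_one] at hχ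
        omega
      have := Nat.card_pos (α := (χ.comp Abelianization.of).range)
      omega
    haveI : Fact (Nat.Prime 3) := ⟨Nat.prime_three⟩
    obtain ⟨g, hg⟩ := exists_prime_orderOf_dvd_card' (G := N) 3 (by rw [hNcard]; norm_num)
    have hgK : g ∈ K := by
      have hp := Subgroup.pow_index_mem K g
      rw [hK2] at hp
      have h : (g ^ 2) ^ 2 ∈ K := pow_mem hp 2
      rw [← pow_mul, show g ^ (2 * 2) = g ^ 3 * g by group, ← hg, pow_orderOf_eq_one, one_mul] at h
      exact h
    set C := K ⊓ R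
    haveI : C.Normal := inferInstance
    have hKR : ¬ R ≤ K := fun h => by
      have := Subgroup.card_dvd_of_le h
      have hc := Subgroup.card_mul_index K
      rw [hK2, hNcard] at hc
      rw [hRcard] at this
      omega
    have hCidx : C.relIndex R = 2 := by
      have h1 : C.relIndex R = K.relIndex R := Subgroup.inf_relIndex_right K R
      rw [h1]
      have h2' := Subgroup.relIndex_dvd_index_of_normal K R
      rw [hK2] at h2'
      rcases (Nat.dvd_prime Nat.prime_two).1 h2' with h | h
      · exact absurd (Subgroup.relIndex_eq_one.1 h) hKR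
      · exact h
    have hCcard : Nat.card C = 4 := by
      have h := Subgroup.card_mul_index (C.subgroupOf R)
      rw [Nat.card_congr (Subgroup.subgroupOfEquivOfLe (inf_le_right : C ≤ R)).toEquiv, hRcard,
        show (C.subgroupOf R).index = 2 from hCidx] at h
      show Nat.card ↥(K ⊓ R) = 4
      omega
    -- the only involution
    have hinv : ∀ z : N, z * z = 1 → z = 1 ∨ (z : SL(2, F)) = -1 := fun z hz => by
      by_cases h : (z : SL(2, F)) = 1
      · exact Or.inl (Subtype.ext h)
      · exact Or.inr (sl2_eq_neg_one h2 h (congrArg Subtype.val hz))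
    have hcentC : ∀ c ∈ C, g * c * g⁻¹ = c := by
      have hp : IsPGroup 2 C := IsPGroup.of_card (n := 2) hCcard
      obtain ⟨c₀, hc₀⟩ : ∃ c₀ : C, orderOf c₀ = 4 := by
        by_contra! hno
        have hsq : ∀ c : C, ((c : N) : SL(2, F)) = 1 ∨ ((c : N) : SL(2, F)) = -1 := by
          intro c
          have hd : orderOf c ∣ 2 ^ 2 := by rw [show 2 ^ 2 = Nat.card C by rw [hCcard]; rfl]; exact orderOf_dvd_natCard c
          obtain ⟨i, hi, he⟩ := (Nat.dvd_prime_pow Nat.prime_two).1 hd
          have : i ≤ 1 := by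
            by_contra h
            exact hno c (by rw [he, show i = 2 by omega]; rfl)
          have h' : c * c = 1 := by
            rw [← pow_two]
            exact orderOf_dvd_iff_pow_eq_one.1 (he ▸ (pow_dvd_pow 2 this).trans (by norm_num))
          rcases hinv (c : N) (congrArg Subtype.val h') with h | h
          · exact Or.inl (by rw [h]; rfl)
          · exact Or.inr h
        have : Nat.card C ≤ Nat.card ({1, -1} : Finset SL(2, F)) :=
          Nat.card_le_card_of_injective (fun c => ⟨((c : N) : SL(2, F)), by simpa using hsq c⟩)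
            (fun a b h => Subtype.ext (Subtype.ext (congrArg Subtype.val h :)))
        rw [hCcard, Nat.card_eq_finsetCard] at this
        have := Finset.card_le_two (a := (1 : SL(2, F))) (b := -1)
        omega
      intro c hc
      have hgen : Subgroup.zpowers c₀ = ⊤ := Subgroup.eq_top_of_card_eq _ (by rw [Nat.card_zpowers, hc₀, hCcard])
      have hc0 : g * (c₀ : N) * g⁻¹ = c₀ := by
        have hmem : g * (c₀ : N) * g⁻¹ ∈ C := ‹C.Normal›.conj_mem _ c₀.2 g
        obtain ⟨i, hi⟩ := Subgroup.mem_zpowers_iff.1 (hgen.symm ▸ Subgroup.mem_top (⟨_, hmem⟩ : C))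
        have hi' : g * (c₀ : N) * g⁻¹ = (c₀ : N) ^ i := (congrArg Subtype.val hi).symm
        have hpow : ∀ j : ℕ, g ^ j * (c₀ : N) * (g ^ j)⁻¹ = (c₀ : N) ^ (i ^ j) := by
          intro j
          induction j with
          | zero => simp
          | succ j ih =>
            rw [pow_succ' g, mul_inv_rev, show g * g ^ j * (c₀ : N) * ((g ^ j)⁻¹ * g⁻¹) =
              g * (g ^ j * (c₀ : N) * (g ^ j)⁻¹) * g⁻¹ by group, ih, ← conj_zpow, hi', ← zpow_mul, pow_succ']
        have h3 := hpow 3
        rw [← hg, pow_orderOf_eq_one, hg] at h3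
        simp only [one_mul, inv_one, mul_one] at h3
        have hord : orderOf (c₀ : N) = 4 := by rw [Subgroup.orderOf_coe, hc₀]
        have hdiv : (4 : ℤ) ∣ i ^ 3 - 1 := by
          have : (c₀ : N) ^ (i ^ 3 - 1) = 1 := by rw [zpow_sub, ← h3, zpow_one, mul_inv_cancel]
          have := orderOf_dvd_iff_zpow_eq_one.2 this
          rwa [hord] at this
        have hi1 : (4 : ℤ) ∣ i - 1 := by
          have hz : ∀ x : ZMod 4, x ^ 3 = 1 → x = 1 := by decide
          have h4 := (ZMod.intCast_zmod_eq_zero_iff_dvd (i ^ 3 - 1) 4).2 hdiv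
          push_cast at h4
          have h5 := (ZMod.intCast_zmod_eq_zero_iff_dvd (i - 1) 4).1 (by
            push_cast
            rw [hz _ (sub_eq_zero.1 h4), sub_self])
          exact h5
        rw [hi', ← mul_inv_eq_one]
        have := orderOf_dvd_iff_zpow_eq_one.1 (hord.symm ▸ hi1 : (orderOf (c₀ : N) : ℤ) ∣ i - 1)
        rwa [zpow_sub, zpow_one] at this
      obtain ⟨i, hi⟩ := Subgroup.mem_zpowers_iff.1 (hgen.symm ▸ Subgroup.mem_top (⟨c, hc⟩ : C))
      have : c = (c₀ : N) ^ i := (congrArg Subtype.val hi).symm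
      rw [this, ← conj_zpow, hc0]
    have hcentS : ∀ y ∈ R, g * y * g⁻¹ = y := by
      intro y hy
      have hmem : g * y * g⁻¹ * y⁻¹ ∈ C := by
        refine ⟨?_, R.mul_mem (‹R.Normal›.conj_mem _ hy g) (R.inv_mem hy)⟩
        rw [show g * y * g⁻¹ * y⁻¹ = g * (y * g⁻¹ * y⁻¹) by group]
        exact K.mul_mem hgK (hKn.conj_mem _ (K.inv_mem hgK) y)
      set c := g * y * g⁻¹ * y⁻¹ with hc
      have h1 : g * y * g⁻¹ = c * y := by rw [hc]; group
      have hcc := hcentC c hmem
      have h3 : g ^ 3 * y * (g ^ 3)⁻¹ = c ^ 3 * y := by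
        calc g ^ 3 * y * (g ^ 3)⁻¹ = g * (g * (g * y * g⁻¹) * g⁻¹) * g⁻¹ := by
              simp only [pow_succ, pow_zero, one_mul, mul_inv_rev, mul_assoc]
          _ = g * (g * (c * y) * g⁻¹) * g⁻¹ := by rw [h1]
          _ = g * ((g * c * g⁻¹) * (g * y * g⁻¹)) * g⁻¹ := by group
          _ = g * (c * (c * y)) * g⁻¹ := by rw [hcc, h1]
          _ = (g * c * g⁻¹) * (g * c * g⁻¹) * (g * y * g⁻¹) := by group
          _ = c * c * (c * y) := by rw [hcc, h1]
          _ = c ^ 3 * y := by simp only [pow_succ, pow_zero, one_mul, mul_assoc]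
      rw [← hg, pow_orderOf_eq_one, hg] at h3
      simp only [one_mul, inv_one, mul_one] at h3
      have hc3 : c ^ 3 = 1 := by
        have h' := congrArg (fun z => z * y⁻¹) h3
        simp only [mul_inv_cancel, mul_inv_cancel_right] at h'
        exact h'.symm
      have hc4 : c ^ 4 = 1 := by
        have : (⟨c, hmem⟩ : C) ^ Nat.card C = 1 := pow_card_eq_one'
        rw [hCcard] at this
        exact congrArg Subtype.val this
      rw [h1, show c = 1 by rw [pow_succ, hc3, one_mul] at hc4; exact hc4, one_mul]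
    have hcen : (g : SL(2, F)) ∈ Subgroup.center SL(2, F) := by
      rw [← hC, Subgroup.mem_centralizer_iff]
      intro y hy
      have := congrArg Subtype.val (hcentS ⟨y, hSN hy⟩ (Subgroup.mem_subgroupOf.2 hy))
      simp only [Subgroup.coe_mul, Subgroup.coe_inv] at this
      exact (mul_inv_eq_iff_eq_mul.1 this).symm
    rcases (scal_iff_pm _).1 (scal_of_center hcen) with h | h
    · rw [← Subgroup.orderOf_coe, h, orderOf_one] at hg
      omega
    · rw [← Subgroup.orderOf_coe, h, sl2_orderOf_neg_one h2] at hg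
      omega
  -- degrees
  have hdeg : ∀ χ : Cfsg.IrrCharacter N, Cfsg.charDegree (χ : N → ℂ) ∈ ({1, 2, 3, 4} : Finset ℕ) := by
    intro χ
    have h1 := deg_dvd_index (Subgroup.center N) (fun a ha b _ => (Subgroup.mem_center_iff.1 ha b).symm) χ
    have hneg1 : (-1 : SL(2, F)) ∈ N := Subgroup.mem_normalizer_fintype fun z hz => by
      rwa [← Subgroup.mem_center_iff.1 neg_one_mem_center z, mul_inv_cancel_right]
    have hneg : (⟨-1, hneg1⟩ : N) ∈ Subgroup.center N :=
      Subgroup.mem_center_iff.2 fun z => Subtype.ext (Subgroup.mem_center_iff.1 neg_one_mem_center z.1)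
    have heven : 2 ∣ Nat.card (Subgroup.center N) := by
      have := orderOf_dvd_natCard (⟨_, hneg⟩ : Subgroup.center N)
      rwa [← Subgroup.orderOf_coe, ← Subgroup.orderOf_coe, sl2_orderOf_neg_one h2] at this
    have hmul := Subgroup.card_mul_index (Subgroup.center N)
    rw [hNcard] at hmul
    have h12 : (Subgroup.center N).index ∣ 12 := by
      obtain ⟨c, hc⟩ := heven
      rw [hc, mul_assoc] at hmul
      exact Dvd.intro_left c (by omega)
    have hd12 := h1.trans h12
    have hsq : Cfsg.charDegree (χ : N → ℂ) ^ 2 ≤ 24 := by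
      letI := Fintype.ofFinite (Cfsg.IrrCharacter N)
      rw [← hNcard, ← sum_deg_sq]
      exact Finset.single_le_sum (f := fun χ : Cfsg.IrrCharacter N => Cfsg.charDegree (χ : N → ℂ) ^ 2)
        (fun _ _ => Nat.zero_le _) (Finset.mem_univ χ)
    have hle : Cfsg.charDegree (χ : N → ℂ) ≤ 4 := by nlinarith
    have hpos := deg_pos χ
    simp only [Finset.mem_insert, Finset.mem_singleton]
    omega
  letI := Fintype.ofFinite (Cfsg.IrrCharacter N)
  have hsum := sum_deg_sq (G := N)
  rw [hNcard, ← Finset.sum_fiberwise_of_maps_to (g := fun χ : Cfsg.IrrCharacter N => Cfsg.charDegree (χ : N → ℂ))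
    (fun χ _ => hdeg χ)] at hsum
  rw [Finset.sum_congr rfl (fun d _ => Finset.sum_congr rfl (fun χ hχ => by
    rw [(Finset.mem_filter.1 hχ).2]))] at hsum
  simp only [Finset.sum_const, smul_eq_mul] at hsum
  rw [Finset.sum_insert (by decide), Finset.sum_insert (by decide), Finset.sum_insert (by decide),
    Finset.sum_singleton] at hsum
  have hlin := card_linear_deg (G := N)
  rw [hodd3, Nat.card_eq_fintype_card, Fintype.card_subtype] at hlin
  rw [cnt, Nat.card_eq_fintype_card, Fintype.card_subtype,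
    Finset.card_eq_sum_card_fiberwise (t := ({1, 2, 3, 4} : Finset ℕ))
      (f := fun χ : Cfsg.IrrCharacter N => Cfsg.charDegree (χ : N → ℂ)) (fun χ _ => hdeg χ),
    Finset.sum_insert (by decide), Finset.sum_insert (by decide), Finset.sum_insert (by decide),
    Finset.sum_singleton]
  simp only [Finset.filter_filter]
  have hset : ∀ d : ℕ, (Finset.univ.filter fun χ : Cfsg.IrrCharacter N =>
      ¬ 2 ∣ Cfsg.charDegree (χ : N → ℂ) ∧ Cfsg.charDegree (χ : N → ℂ) = d).card =
        if 2 ∣ d then 0 else (Finset.univ.filter fun χ : Cfsg.IrrCharacter N =>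
          Cfsg.charDegree (χ : N → ℂ) = d).card := by
    intro d
    split_ifs with h
    · rw [Finset.card_eq_zero, Finset.filter_eq_empty_iff]
      rintro χ - ⟨a, b⟩
      exact a (b ▸ h)
    · congr 1
      exact Finset.filter_congr fun χ _ => ⟨fun h' => h'.2, fun h' => ⟨h' ▸ h, h'⟩⟩
  rw [hset, hset, hset, hset, if_neg (by norm_num), if_pos (by norm_num), if_neg (by norm_num),
    if_pos (by norm_num)]
  rw [hlin] at hsum ⊢
  omega

/-- McKay's count for `SL(2, q)`, `q` odd. -/
theorem count (hodd : Odd qN) (l : ℕ) [Fact l.Prime] (S : Sylow l SL(2, F)) :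
    cnt l SL(2, F) = cnt l (Subgroup.normalizer ((S : Subgroup SL(2, F)) : Set SL(2, F))) := by
  classical
  obtain ⟨p, hpc⟩ := CharP.exists F
  obtain ⟨f, hp, hqp⟩ := FiniteField.card F p
  haveI : Fact p.Prime := ⟨hp⟩
  rcases eq_or_ne l p with rfl | hlp
  · exact defining hodd l S
  rcases eq_or_ne l 2 with rfl | hl2
  · exact two hodd S
  by_cases hd : l ∣ qN - 1 ∨ l ∣ qN + 1
  · exact odd_prime hodd l hl2 hd S
  have hndvd : ¬ l ∣ Nat.card SL(2, F) := by
    rw [card_sl2', (Fact.out : l.Prime).dvd_mul, (Fact.out : l.Prime).dvd_mul]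
    rintro (h | h)
    · rw [hqp] at h
      exact hlp ((Nat.prime_dvd_prime_iff_eq Fact.out hp).1 ((Fact.out : l.Prime).dvd_of_dvd_pow h))
    · exact hd h
  have hS : (S : Subgroup SL(2, F)) = ⊥ := by
    rw [← Subgroup.card_eq_one, S.card_eq_multiplicity, Nat.factorization_eq_zero_of_not_dvd hndvd, pow_zero]
  have hN : Subgroup.normalizer ((S : Subgroup SL(2, F)) : Set SL(2, F)) = ⊤ := by
    rw [hS]
    exact Subgroup.normalizer_eq_top (H := (⊥ : Subgroup SL(2, F)))
  rw [cnt_congr l (MulEquiv.subgroupCongr hN), cnt_congr l Subgroup.topEquiv]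

end CfsgLib.Classical.SL2McKay
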