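import Cfsg.Agent.Lib.Classical.Dickson.Generation
import Cfsg.Agent.Lib.FrobRealize.Quaternion

/-!
# Subgroups of `SL₂(q)`, `q` odd, with several Sylow `p`-subgroups
-/

set_option autoImplicit false
set_option linter.unusedSectionVars false
set_option linter.style.haveILetI false
set_option linter.unusedSimpArgs false
set_option backward.isDefEq.respectTransparency false

namespace CfsgLib.Classical.SL2Quaternion

open Matrix
open scoped MatrixGroups
open CfsgLib.Classical.Dickson (lowT upT evE evM evM_mul evE_of closure_transvections)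

variable {F : Type*} [Field F] [Fintype F]

local notation "M2" => Matrix (Fin 2) (Fin 2) F

/-- Two anticommuting square roots of `-1` inside a subgroup. -/
def HasPair (H : Subgroup SL(2, F)) : Prop :=
  ∃ i ∈ H, ∃ j ∈ H, (i : M2) * i = -1 ∧ (j : M2) * j = -1 ∧ (j : M2) * i = -((i : M2) * j)

theorem sylow_not_cyclic (h2 : (2 : F) ≠ 0) {H : Subgroup SL(2, F)} (hH : HasPair H) (S : Sylow 2 H) :
    ¬ IsCyclic (S : Subgroup H) := by
  intro hc
  obtain ⟨i, hi, j, hj, hii, hjj, hji⟩ := hH
  have ei : i * i = -1 := CfsgLib.Classical.sl2_ext (by simpa using hii)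
  have ej : j * j = -1 := CfsgLib.Classical.sl2_ext (by simpa using hjj)
  have eji : j * i = -1 * (i * j) := CfsgLib.Classical.sl2_ext (by simpa using hji)
  let i' : H := ⟨i, hi⟩
  let j' : H := ⟨j, hj⟩
  set K := Subgroup.closure ({i', j'} : Set H) with hK
  -- `j` normalises the cyclic group generated by `i`
  have hconj : j' * i' * j'⁻¹ = i'⁻¹ := Subtype.ext (show j * i * j⁻¹ = i⁻¹ by
    rw [eji, mul_assoc, mul_assoc, mul_inv_cancel, mul_one]
    refine eq_inv_of_mul_eq_one_left ?_
    rw [mul_assoc, ei, neg_one_mul, neg_neg])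
  have o4 : ∀ k : SL(2, F), k * k = -1 → k ^ 4 = 1 := fun k hk => by
    rw [show k ^ 4 = (k * k) * (k * k) by simp [pow_succ, mul_assoc], hk, neg_one_mul, neg_neg]
  have hi4 : i' ^ 4 = 1 := Subtype.ext (by simpa using o4 i ei)
  have hj4 : j' ^ 4 = 1 := Subtype.ext (by simpa using o4 j ej)
  have hA : IsPGroup 2 (Subgroup.zpowers i') := fun x => ⟨2, by
    obtain ⟨k, hk⟩ := Subgroup.mem_zpowers_iff.1 x.2
    refine Subtype.ext ?_
    rw [SubmonoidClass.coe_pow, ← hk, ← zpow_natCast, ← _root_.zpow_mul, mul_comm, _root_.zpow_mul]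
    norm_num [show i' ^ (4 : ℤ) = 1 from by exact_mod_cast hi4]⟩
  have hB : IsPGroup 2 (Subgroup.zpowers j') := fun x => ⟨2, by
    obtain ⟨k, hk⟩ := Subgroup.mem_zpowers_iff.1 x.2
    refine Subtype.ext ?_
    rw [SubmonoidClass.coe_pow, ← hk, ← zpow_natCast, ← _root_.zpow_mul, mul_comm, _root_.zpow_mul]
    norm_num [show j' ^ (4 : ℤ) = 1 from by exact_mod_cast hj4]⟩
  have hle : Subgroup.zpowers j' ≤ Subgroup.normalizer ((Subgroup.zpowers i' : Subgroup H) : Set H) := by
    rw [Subgroup.zpowers_le]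
    have : (Subgroup.zpowers i').map (MulAut.conj j').toMonoidHom = Subgroup.zpowers i' := by
      rw [MonoidHom.map_zpowers]
      show Subgroup.zpowers (j' * i' * j'⁻¹) = _
      rw [hconj, Subgroup.zpowers_inv]
    rw [Subgroup.mem_normalizer_iff]
    intro x
    constructor
    · intro hx
      rw [← this]
      exact ⟨x, hx, rfl⟩
    · intro hx
      rw [← this] at hx
      obtain ⟨y, hy, e⟩ := hx
      have : y = x := by
        have e' : j' * y * j'⁻¹ = j' * x * j'⁻¹ := e
        simpa using e'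
      exact this ▸ hy
  have hP := hB.to_sup_of_normal_right' hA hle
  obtain ⟨T, hT⟩ := hP.exists_le_sylow
  obtain ⟨g, hg⟩ := MulAction.exists_smul_eq H S T
  have eST : (S : Subgroup H) ≃* (T : Subgroup H) := hg ▸ S.equivSMul g
  haveI : IsCyclic (T : Subgroup H) := eST.isCyclic.1 hc
  letI : CommGroup (T : Subgroup H) := IsCyclic.commGroup
  have hiT : i' ∈ (T : Subgroup H) := hT (Subgroup.mem_sup_right (Subgroup.mem_zpowers i'))
  have hjT : j' ∈ (T : Subgroup H) := hT (Subgroup.mem_sup_left (Subgroup.mem_zpowers j'))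
  have hcomm : j * i = i * j :=
    congrArg (fun x : (T : Subgroup H) => ((x : H) : SL(2, F))) (mul_comm (⟨j', hjT⟩ : (T : Subgroup H)) ⟨i', hiT⟩)
  rw [eji] at hcomm
  have h1 : (-1 : SL(2, F)) = 1 := mul_right_cancel (hcomm.trans (one_mul _).symm)
  have h00 := congrArg (fun g : SL(2, F) => (g : M2) 0 0) h1
  simp at h00
  exact h2 (by linear_combination -h00)

/-- Conjugation by an invertible matrix on `SL₂`. -/
noncomputable def conjSL (P : GL (Fin 2) F) : SL(2, F) →* SL(2, F) where
  toFun A := ⟨((P⁻¹ : GL (Fin 2) F) : M2) * (A : M2) * (P : M2), by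
    rw [Matrix.det_mul, Matrix.det_mul, show (A : M2).det = 1 from A.2, mul_one, ← Matrix.det_mul, ← Units.val_mul,
      inv_mul_cancel, Units.val_one, Matrix.det_one]⟩
  map_one' := by
    refine CfsgLib.Classical.sl2_ext ?_
    show ((P⁻¹ : GL (Fin 2) F) : M2) * (1 : M2) * (P : M2) = 1
    rw [mul_one, ← Units.val_mul, inv_mul_cancel, Units.val_one]
  map_mul' A B := by
    refine CfsgLib.Classical.sl2_ext ?_
    show ((P⁻¹ : GL (Fin 2) F) : M2) * ((A : M2) * (B : M2)) * (P : M2) =
      ((P⁻¹ : GL (Fin 2) F) : M2) * (A : M2) * (P : M2) * (((P⁻¹ : GL (Fin 2) F) : M2) * (B : M2) * (P : M2))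
    simp only [mul_assoc]
    rw [← mul_assoc (P : M2) ((P⁻¹ : GL (Fin 2) F) : M2), ← Units.val_mul, mul_inv_cancel, Units.val_one, one_mul]

theorem hasPair_of_conj (P : GL (Fin 2) F) {H : Subgroup SL(2, F)} (h : HasPair (H.map (conjSL P))) : HasPair H := by
  obtain ⟨_, ⟨i, hi, rfl⟩, _, ⟨j, hj, rfl⟩, hii, hjj, hji⟩ := h
  have key : ∀ A B : SL(2, F), (P : M2) * ((conjSL P A : M2) * (conjSL P B : M2)) * ((P⁻¹ : GL (Fin 2) F) : M2) =
      (A : M2) * (B : M2) := fun A B => by
    show (P : M2) * ((((P⁻¹ : GL (Fin 2) F) : M2) * (A : M2) * (P : M2)) *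
      (((P⁻¹ : GL (Fin 2) F) : M2) * (B : M2) * (P : M2))) * ((P⁻¹ : GL (Fin 2) F) : M2) = _
    have h1 : (P : M2) * ((P⁻¹ : GL (Fin 2) F) : M2) = 1 := by rw [← Units.val_mul, mul_inv_cancel, Units.val_one]
    simp only [← mul_assoc, h1, one_mul]
    simp only [mul_assoc, h1, mul_one]
  have hn : (P : M2) * (-1) * ((P⁻¹ : GL (Fin 2) F) : M2) = -1 := by
    rw [mul_neg, mul_one, neg_mul, ← Units.val_mul, mul_inv_cancel, Units.val_one]
  refine ⟨i, hi, j, hj, ?_, ?_, ?_⟩
  · exact (key i i).symm.trans (by rw [hii, hn])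
  · exact (key j j).symm.trans (by rw [hjj, hn])
  · exact (key j i).symm.trans (by rw [hji, mul_neg, neg_mul, key i j])

/-- Two transvections with different centres generate a group with a pair. -/
theorem hasPair_transvections (p : ℕ) [Fact p.Prime] [CharP F p] (h2 : (2 : F) ≠ 0) {l : F} (hl : l ≠ 0) :
    HasPair (Subgroup.closure ({lowT, upT l} : Set SL(2, F))) := by
  classical
  set A := Subfield.closure ({l} : Set F) with hA
  let l' : A := ⟨l, Subfield.subset_closure rfl⟩
  let ψ : SL(2, A) →* SL(2, F) := Matrix.SpecialLinearGroup.map A.subtype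
  have hψ : (Subgroup.closure ({lowT, upT l'} : Set SL(2, A))).map ψ = Subgroup.closure ({lowT, upT l} : Set SL(2, F)) := by
    have e1 : ψ lowT = lowT := CfsgLib.Classical.sl2_ext (by
      ext a b; fin_cases a <;> fin_cases b <;> simp [ψ, lowT])
    have e2 : ψ (upT l') = upT l := CfsgLib.Classical.sl2_ext (by
      ext a b; fin_cases a <;> fin_cases b <;> simp [ψ, upT, l'])
    rw [MonoidHom.map_closure, Set.image_pair, e1, e2]
  have hA2 : (2 : A) ≠ 0 := fun h => h2 ((map_ofNat A.subtype 2).symm.trans ((congrArg A.subtype h).trans (map_zero _)))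
  haveI : CharP A p := inferInstance
  have hl' : l' ≠ 0 := fun h => hl (congrArg Subtype.val h)
  have hgen : Subfield.closure ({l'} : Set A) = ⊤ := by
    rw [eq_top_iff]
    intro x _
    have hle : A ≤ (Subfield.closure ({l'} : Set A)).map A.subtype := by
      refine Subfield.closure_le.2 ?_
      rintro _ rfl
      exact ⟨l', Subfield.subset_closure rfl, rfl⟩
    obtain ⟨y, hy, e⟩ := hle x.2
    exact (Subtype.ext e : y = x) ▸ hy
  have lift : ∀ {i j : SL(2, A)}, i ∈ Subgroup.closure ({lowT, upT l'} : Set SL(2, A)) →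
      j ∈ Subgroup.closure ({lowT, upT l'} : Set SL(2, A)) →
      (i : Matrix (Fin 2) (Fin 2) A) * i = -1 → (j : Matrix (Fin 2) (Fin 2) A) * j = -1 →
      (j : Matrix (Fin 2) (Fin 2) A) * i = -((i : Matrix (Fin 2) (Fin 2) A) * j) →
      HasPair (Subgroup.closure ({lowT, upT l} : Set SL(2, F))) := by
    intro i j hi hj hii hjj hji
    refine ⟨ψ i, hψ ▸ ⟨i, hi, rfl⟩, ψ j, hψ ▸ ⟨j, hj, rfl⟩, ?_, ?_, ?_⟩
    · have := congrArg (A.subtype.mapMatrix) hii
      simp only [map_mul, map_neg, map_one] at this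
      exact this
    · have := congrArg (A.subtype.mapMatrix) hjj
      simp only [map_mul, map_neg, map_one] at this
      exact this
    · have := congrArg (A.subtype.mapMatrix) hji
      simp only [map_mul, map_neg, map_one] at this
      exact this
  rcases closure_transvections p hA2 hl' hgen with ⟨htop, -⟩ | ⟨h9, hl2, -⟩
  · obtain ⟨a, b, hab⟩ := ZMod.sq_add_sq p (-1)
    set a' : A := ZMod.castHom (dvd_refl p) A a
    set b' : A := ZMod.castHom (dvd_refl p) A b
    have hab' : a' ^ 2 + b' ^ 2 = -1 := by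
      rw [← map_pow, ← map_pow, ← map_add, hab, map_neg, map_one]
    refine lift (i := ⟨!![0, 1; -1, 0], by simp⟩) (j := ⟨!![a', b'; b', -a'], by
      simp [Matrix.det_fin_two]; linear_combination -hab'⟩) (htop ▸ Subgroup.mem_top _) (htop ▸ Subgroup.mem_top _)
      ?_ ?_ ?_
    · ext u v; fin_cases u <;> fin_cases v <;> simp [Matrix.mul_apply, Fin.sum_univ_two]
    · ext u v
      have habF := congrArg Subtype.val hab'
      push_cast at habF
      fin_cases u <;> fin_cases v <;> simp [Matrix.mul_apply, Fin.sum_univ_two, Subtype.ext_iff] <;>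
        first | linear_combination habF | ring
    · ext u v; fin_cases u <;> fin_cases v <;> simp [Matrix.mul_apply, Fin.sum_univ_two]
  · haveI : CharP A 3 := by
      obtain ⟨m, -, hm⟩ := FiniteField.card A p
      have : p = 3 := (Nat.prime_dvd_prime_iff_eq Fact.out Nat.prime_three).1
        ((Fact.out : p.Prime).dvd_of_dvd_pow (n := 2) (by
          rw [show (3 : ℕ) ^ 2 = Fintype.card A from h9.symm, hm]; exact dvd_pow_self p m.ne_zero))
      exact this ▸ (inferInstance : CharP A p)
    obtain ⟨e0, e1, el⟩ := evE_of (F := A) l'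
    set u : SL(2, A) := lowT
    set v : SL(2, A) := upT l'
    have hu : (u : Matrix (Fin 2) (Fin 2) A) = evM l' (CfsgLib.Classical.Dickson.Nine.gen 0) := by
      simp [u, lowT, evM, CfsgLib.Classical.Dickson.Nine.gen, e0, e1]
    have hv : (v : Matrix (Fin 2) (Fin 2) A) = evM l' (CfsgLib.Classical.Dickson.Nine.gen 1) := by
      simp [v, upT, evM, CfsgLib.Classical.Dickson.Nine.gen, e0, e1, el]
    have hmu : u ∈ Subgroup.closure ({u, v} : Set SL(2, A)) := Subgroup.subset_closure (Or.inl rfl)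
    have hmv : v ∈ Subgroup.closure ({u, v} : Set SL(2, A)) := Subgroup.subset_closure (Or.inr rfl)
    have hneg : (-1 : Matrix (Fin 2) (Fin 2) A) = evM l' ⟨(2, 0), (0, 0), (0, 0), (2, 0)⟩ := by
      have h3 : (3 : A) = 0 := by exact_mod_cast CharP.cast_eq_zero A 3
      have e2 : evE l' ((2, 0) : CfsgLib.Classical.Dickson.Nine.E) = -1 := by
        rw [evE, map_ofNat, map_zero, zero_mul, add_zero]
        linear_combination h3
      ext a b; fin_cases a <;> fin_cases b <;> simp [evM, e0, e2]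
    have hmin : ∀ X : CfsgLib.Classical.Dickson.Nine.Mat, -(evM l' X) =
        evM l' (CfsgLib.Classical.Dickson.Nine.mm ⟨(2, 0), (0, 0), (0, 0), (2, 0)⟩ X) := fun X => by
      rw [evM_mul hl2, ← hneg, neg_one_mul]
    refine lift (i := u * u * v * u * v) (j := v * u * u * v * u)
      (mul_mem (mul_mem (mul_mem (mul_mem hmu hmu) hmv) hmu) hmv)
      (mul_mem (mul_mem (mul_mem (mul_mem hmv hmu) hmu) hmv) hmu) ?_ ?_ ?_
    · simp only [CfsgLib.Classical.sl2_coe_mul, hu, hv, ← evM_mul hl2, hneg]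
      exact congrArg (evM l') (by decide +kernel)
    · simp only [CfsgLib.Classical.sl2_coe_mul, hu, hv, ← evM_mul hl2, hneg]
      exact congrArg (evM l') (by decide +kernel)
    · simp only [CfsgLib.Classical.sl2_coe_mul, hu, hv, ← evM_mul hl2, hmin]
      exact congrArg (evM l') (by decide +kernel)

theorem nilp_of_pow (p : ℕ) [Fact p.Prime] [CharP F p] {g : SL(2, F)} (hg : g ^ p = 1) :
    ((g : M2) - 1) * ((g : M2) - 1) = 0 := by
  refine CfsgLib.Classical.sl2_sq_of_eigen_one g ?_
  have e : ((g : M2) - 1) ^ p = 0 := by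
    rw [sub_pow_char_of_commute p (Commute.one_right _), one_pow, ← CfsgLib.Classical.sl2_coe_pow, hg]
    exact sub_self _
  have := congrArg Matrix.det e
  rw [Matrix.det_pow, Matrix.det_zero] at this
  exact eq_zero_of_pow_eq_zero this

/-- A subgroup with two non-commuting elements of order `p` has a pair. -/
theorem hasPair_of_unipotents (p : ℕ) [Fact p.Prime] [CharP F p] (h2 : (2 : F) ≠ 0) {H : Subgroup SL(2, F)}
    {x y : SL(2, F)} (hx : x ∈ H) (hy : y ∈ H) (hxp : x ^ p = 1) (hyp : y ^ p = 1) (hxy : x * y ≠ y * x) :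
    HasPair H := by
  set N₁ := (x : M2) - 1 with hN₁
  set N₂ := (y : M2) - 1 with hN₂
  have s1 := nilp_of_pow p hxp
  have s2 := nilp_of_pow p hyp
  have hne : N₁ * N₂ ≠ 0 ∨ N₂ * N₁ ≠ 0 := by
    by_contra hall
    push Not at hall
    refine hxy (CfsgLib.Classical.sl2_ext ?_)
    rw [CfsgLib.Classical.sl2_coe_mul, CfsgLib.Classical.sl2_coe_mul, show (x : M2) = N₁ + 1 by rw [hN₁, sub_add_cancel],
      show (y : M2) = N₂ + 1 by rw [hN₂, sub_add_cancel]]
    simp only [add_mul, mul_add, hall.1, hall.2, one_mul, mul_one]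
    abel
  suffices h : ∀ x y : SL(2, F), x ∈ H → y ∈ H → ((x : M2) - 1) * ((x : M2) - 1) = 0 →
      ((y : M2) - 1) * ((y : M2) - 1) = 0 → ((x : M2) - 1) * ((y : M2) - 1) ≠ 0 → HasPair H by
    rcases hne with h' | h'
    · exact h x y hx hy s1 s2 h'
    · exact h y x hy hx s2 s1 h'
  clear_value N₁ N₂
  intro x y hx hy s1 s2 hne
  set A := (x : M2) - 1 with hA
  set B := (y : M2) - 1 with hB
  -- the first basis vector spans the image of `B`
  obtain ⟨w, hw⟩ : ∃ w, A *ᵥ (B *ᵥ w) ≠ 0 := by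
    by_contra hall
    push Not at hall
    exact hne (Matrix.ext_of_mulVec_single fun i => by rw [← Matrix.mulVec_mulVec, hall, Matrix.zero_mulVec])
  set f := B *ᵥ w with hf
  have hf0 : B *ᵥ f = 0 := by rw [hf, Matrix.mulVec_mulVec, s2, Matrix.zero_mulVec]
  have hAA : A *ᵥ (A *ᵥ f) = 0 := by rw [Matrix.mulVec_mulVec, s1, Matrix.zero_mulVec]
  let Pm : M2 := Matrix.of fun i j => ![f i, (A *ᵥ f) i] j
  have hcol : ∀ c : Fin 2 → F, Pm *ᵥ c = c 0 • f + c 1 • (A *ᵥ f) := fun c => by
    funext i; fin_cases i <;> simp [Pm, Matrix.mulVec, dotProduct, Fin.sum_univ_two] <;> ring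
  have hdet : Pm.det ≠ 0 := by
    intro h0
    obtain ⟨c, hc0, hc⟩ := Matrix.exists_mulVec_eq_zero_iff.2 h0
    rw [hcol] at hc
    have h1 := congrArg (fun z => A *ᵥ z) hc
    simp only [Matrix.mulVec_add, Matrix.mulVec_smul, hAA, smul_zero, add_zero, Matrix.mulVec_zero] at h1
    have hc1 := (smul_eq_zero.1 h1).resolve_right hw
    rw [hc1, zero_smul, zero_add, smul_eq_zero] at hc
    refine hc0 (funext fun i => ?_)
    fin_cases i
    · exact hc1
    · exact hc.resolve_right hw
  let P : GL (Fin 2) F := GeneralLinearGroup.mkOfDetNeZero Pm hdet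
  have hP : (P : M2) = Pm := rfl
  have solve : ∀ v, ∃ c, v = Pm *ᵥ c := fun v => ⟨((P⁻¹ : GL (Fin 2) F) : M2) *ᵥ v, by
    rw [← hP, Matrix.mulVec_mulVec, ← Units.val_mul, mul_inv_cancel, Units.val_one, Matrix.one_mulVec]⟩
  obtain ⟨c, hc⟩ := solve (B *ᵥ (A *ᵥ f))
  rw [hcol] at hc
  have hc1 : c 1 = 0 := by
    have h := congrArg (fun z => B *ᵥ z) hc
    have hBB : ∀ u, B *ᵥ (B *ᵥ u) = 0 := fun u => by rw [Matrix.mulVec_mulVec, s2, Matrix.zero_mulVec]
    simp only [Matrix.mulVec_add, Matrix.mulVec_smul, hf0, smul_zero, zero_add, hBB] at h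
    rw [hc, smul_add, smul_smul, smul_smul] at h
    by_contra h1
    have h' := congrArg (fun z => A *ᵥ z) h
    simp only [Matrix.mulVec_add, Matrix.mulVec_smul, hAA, smul_zero, add_zero, Matrix.mulVec_zero] at h'
    have h0 : c 0 = 0 := (mul_eq_zero.1 ((smul_eq_zero.1 h'.symm).resolve_right hw)).resolve_left h1
    rw [h0, mul_zero, zero_smul, zero_add] at h
    exact h1 (mul_self_eq_zero.1 ((smul_eq_zero.1 h.symm).resolve_right fun e => hw (by rw [e])))
  rw [hc1, zero_smul, add_zero] at hc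
  have hl : c 0 ≠ 0 := by
    intro h0
    rw [h0, zero_smul] at hc
    -- then `B` would vanish
    have hB0 : B = 0 := Matrix.ext_of_mulVec_single fun i => by
      obtain ⟨d, hd⟩ := solve (Pi.single i 1)
      rw [hd, hcol, Matrix.mulVec_add, Matrix.mulVec_smul, Matrix.mulVec_smul, hf0, hc, smul_zero, smul_zero,
        add_zero, Matrix.zero_mulVec]
    exact hne (by rw [hB0, mul_zero])
  refine hasPair_of_conj P ?_
  have conv : ∀ (z T : SL(2, F)), (z : M2) * Pm = Pm * (T : M2) → conjSL P z = T := fun z T h => by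
    refine CfsgLib.Classical.sl2_ext ?_
    show ((P⁻¹ : GL (Fin 2) F) : M2) * (z : M2) * (P : M2) = (T : M2)
    rw [mul_assoc, hP, h, ← hP, ← mul_assoc, ← Units.val_mul, inv_mul_cancel, Units.val_one, one_mul]
  have ex : conjSL P x = lowT := conv x lowT (Matrix.ext_of_mulVec_single fun i => by
    rw [← Matrix.mulVec_mulVec, ← Matrix.mulVec_mulVec, hcol, hcol, show (x : M2) = A + 1 by rw [hA, sub_add_cancel],
      Matrix.add_mulVec, Matrix.one_mulVec, Matrix.mulVec_add, Matrix.mulVec_smul, Matrix.mulVec_smul, hAA]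
    fin_cases i <;> simp [lowT] <;> (try constructor) <;> abel)
  have ey : conjSL P y = upT (c 0) := conv y (upT (c 0)) (Matrix.ext_of_mulVec_single fun i => by
    rw [← Matrix.mulVec_mulVec, ← Matrix.mulVec_mulVec, hcol, hcol, show (y : M2) = B + 1 by rw [hB, sub_add_cancel],
      Matrix.add_mulVec, Matrix.one_mulVec, Matrix.mulVec_add, Matrix.mulVec_smul, Matrix.mulVec_smul, hf0, hc]
    fin_cases i <;> simp [upT])
  have hle : Subgroup.closure ({lowT, upT (c 0)} : Set SL(2, F)) ≤ H.map (conjSL P) := by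
    rw [Subgroup.closure_le]
    rintro z (rfl | rfl)
    · exact ⟨x, hx, ex⟩
    · exact ⟨y, hy, ey⟩
  obtain ⟨i, hi, j, hj, h1, h3, h4⟩ := hasPair_transvections p h2 hl
  exact ⟨i, hle hi, j, hle hj, h1, h3, h4⟩

/-- Several Sylow `p`-subgroups force generalised quaternion Sylow `2`-subgroups. -/
theorem sylow_two_quaternion (p : ℕ) [Fact p.Prime] [CharP F p] (hp : p ≠ 2) (H : Subgroup SL(2, F))
    (hH : 1 < Nat.card (Sylow p H)) (S : Sylow 2 H) :
    ∃ k : ℕ, 1 ≤ k ∧ Nonempty ((S : Subgroup H) ≃* QuaternionGroup (2 ^ k)) := by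
  classical
  have h2 : (2 : F) ≠ 0 := fun h => hp ((Nat.prime_dvd_prime_iff_eq Fact.out Nat.prime_two).1
    ((CharP.cast_eq_zero_iff F p 2).1 (by exact_mod_cast h)))
  obtain ⟨x, y, hxp, hyp, hxy⟩ : ∃ x y : H, x ^ p = 1 ∧ y ^ p = 1 ∧ x * y ≠ y * x := by
    by_contra hall
    push Not at hall
    obtain ⟨P, Q, hPQ⟩ := (Finite.one_lt_card_iff_nontrivial.1 hH).exists_pair_ne
    have hexp : ∀ R : Sylow p H, ∀ g ∈ (R : Subgroup H), g ^ p = 1 := by
      intro R g hg
      obtain ⟨k, hk⟩ := R.isPGroup' ⟨g, hg⟩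
      have hk' : ((g : SL(2, F)) : M2) ^ p ^ k = 1 := by
        rw [← CfsgLib.Classical.sl2_coe_pow, show (g : SL(2, F)) ^ p ^ k = 1 from
          congrArg (fun z : (R : Subgroup H) => ((z : H) : SL(2, F))) hk]
        rfl
      refine Subtype.ext (CfsgLib.Classical.sl2_pow_char p _ ?_)
      have e : (((g : SL(2, F)) : M2) - 1) ^ p ^ k = 0 := by
        rw [sub_pow_char_pow_of_commute p k (Commute.one_right _), one_pow, hk', sub_self]
      have := congrArg Matrix.det e
      rw [Matrix.det_pow, Matrix.det_zero] at this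
      exact eq_zero_of_pow_eq_zero this
    have hle : (Q : Subgroup H) ≤ Subgroup.normalizer ((P : Subgroup H) : Set H) := fun q hq => by
      rw [Subgroup.mem_normalizer_iff]
      intro z
      constructor
      · intro hz
        rw [hall q z (hexp Q q hq) (hexp P z hz), mul_inv_cancel_right]; exact hz
      · intro hz
        have : z = q * z * q⁻¹ := by
          have h := hall (q * z * q⁻¹) q (hexp P _ hz) (hexp Q q hq)
          rw [mul_assoc (q * z), inv_mul_cancel, mul_one, mul_assoc q z] at h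
          exact (mul_left_cancel h).trans (mul_assoc _ _ _).symm
        rw [this]; exact hz
    have hsup := IsPGroup.to_sup_of_normal_right' Q.isPGroup' P.isPGroup' hle
    exact hPQ (Sylow.ext ((P.is_maximal' hsup le_sup_right).symm.trans (Q.is_maximal' hsup le_sup_left)))
  have hpair := hasPair_of_unipotents p h2 x.2 y.2
    (by simpa using congrArg Subtype.val hxp) (by simpa using congrArg Subtype.val hyp)
    (fun h => hxy (Subtype.ext h))
  have hnc := sylow_not_cyclic h2 hpair S
  have hfew : Nat.card {z : (S : Subgroup H) // z ^ 2 = 1} ≤ 2 := by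
    let f : {z : (S : Subgroup H) // z ^ 2 = 1} → Bool := fun z => decide (z.1 = 1)
    refine (Nat.card_le_card_of_injective f fun a b hab => ?_).trans (by simp)
    have neg : ∀ z : {z : (S : Subgroup H) // z ^ 2 = 1}, z.1 ≠ 1 → ((z.1 : H) : SL(2, F)) = -1 := fun z hz =>
      CfsgLib.Classical.sl2_eq_neg_one h2 (fun e => hz (Subtype.ext (Subtype.ext e))) (by
        rw [← pow_two]
        exact congrArg (fun w : (S : Subgroup H) => ((w : H) : SL(2, F))) z.2)
    simp only [f, decide_eq_decide] at hab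
    by_cases ha : a.1 = 1
    · exact Subtype.ext (ha.trans (hab.1 ha).symm)
    · exact Subtype.ext (Subtype.ext (Subtype.ext ((neg a ha).trans (neg b fun e => ha (hab.2 e)).symm)))
  rcases CfsgLib.FrobRealize.Quaternion.cyclic_or_quaternion S.isPGroup' hfew with h | ⟨-, n, hn⟩
  · exact absurd h hnc
  · refine ⟨n, ?_, hn⟩
    by_contra hlt
    obtain rfl : n = 0 := by omega
    obtain ⟨e⟩ := hn
    haveI : IsCyclic (QuaternionGroup (2 ^ 0)) := by
      rw [isCyclic_iff_exists_orderOf_eq_natCard]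
      exact ⟨QuaternionGroup.xa 0, by rw [QuaternionGroup.orderOf_xa, Nat.card_eq_fintype_card, QuaternionGroup.card, pow_zero, mul_one]⟩
    exact hnc (e.isCyclic.2 inferInstance)

end CfsgLib.Classical.SL2Quaternion
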