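import Cfsg.Agent.Lib.Classical.SLBasic
import Cfsg.Agent.Lib.Components.Basic
import Cfsg.Prelude.Def_CaseTheorems

/-!
# The component `SL_k` of the centralizer of a diagonal involution in dimension `k + 1`
-/

set_option autoImplicit false
set_option linter.unusedSectionVars false
set_option linter.unusedSimpArgs false
set_option backward.isDefEq.respectTransparency false

open Matrix
open scoped MatrixGroups commutatorElement

namespace CfsgLib.Classical.BlockComponent

variable {F : Type*} [Field F] {k : ℕ}

/-- `SL_k` is quasisimple apart from `SL₂(2)`, `SL₂(3)`. -/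
theorem sl_isQuasisimple [Fintype F] (hk : 2 ≤ k) (h : k = 2 → 4 ≤ Fintype.card F) :
    Cfsg.IsQuasisimple (SpecialLinearGroup (Fin k) F) := by
  classical
  refine ⟨⟨?_⟩, psl_fin_isSimpleGroup hk h⟩
  rcases Nat.lt_or_ge k 3 with hk3 | hk3
  · obtain rfl : k = 2 := by omega
    refine sl_subgroup_eq_top _ fun i j hij c => ?_
    rw [commutator_eq_closure]
    obtain ⟨g, hg⟩ := IsCyclic.exists_ofOrder_eq_natCard (α := Fˣ)
    rw [Nat.card_eq_fintype_card, Fintype.card_units] at hg
    have hsq : (g : F) ^ 2 ≠ 1 := fun hc => by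
      have h1 : g ^ 2 = 1 := Units.ext hc
      have := Nat.le_of_dvd (by norm_num) (orderOf_dvd_of_pow_eq_one h1)
      have := h rfl
      omega
    exact Subgroup.subset_closure (transvection_mem_commutatorSet_two g.ne_zero hsq hij c)
  · exact sl_perfect (by simpa using hk3)

/-- The diagonal matrix with entries `a, …, a, b`. -/
def bdiag (a b : F) : Matrix (Fin (k + 1)) (Fin (k + 1)) F :=
  Matrix.diagonal (Fin.lastCases b fun _ => a)

/-- The embedding of `SL_k` in the first `k` coordinates. -/
abbrev emb : SpecialLinearGroup (Fin k) F →* SpecialLinearGroup (Fin (k + 1)) F :=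
  slEmbed Fin.castSucc (Fin.castSucc_injective k)

theorem emb_cs (A : SpecialLinearGroup (Fin k) F) (a b : Fin k) :
    (emb A).1 a.castSucc b.castSucc = A.1 a b := by
  simp [slEmbed, incMat, Matrix.mul_apply, Matrix.one_apply, Fin.castSucc_inj, eq_comm]

theorem emb_last_left (A : SpecialLinearGroup (Fin k) F) (s : Fin (k + 1)) :
    (emb A).1 (Fin.last k) s = (1 : Matrix (Fin (k + 1)) (Fin (k + 1)) F) (Fin.last k) s := by
  simp [slEmbed, incMat, Matrix.mul_apply, Matrix.one_apply, (Fin.castSucc_ne_last _).symm]

theorem emb_last_right (A : SpecialLinearGroup (Fin k) F) (r : Fin (k + 1)) :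
    (emb A).1 r (Fin.last k) = (1 : Matrix (Fin (k + 1)) (Fin (k + 1)) F) r (Fin.last k) := by
  simp [slEmbed, incMat, Matrix.mul_apply, Matrix.one_apply, (Fin.castSucc_ne_last _).symm]

theorem emb_injective : Function.Injective (emb (F := F) (k := k)) := fun A B h =>
  Subtype.ext (Matrix.ext fun a b => by rw [← emb_cs A, h, emb_cs])

/-- The matrices commuting with `diag(a, …, a, b)`, `a ≠ b`. -/
theorem commute_bdiag_iff {a b : F} (hab : a ≠ b) (M : Matrix (Fin (k + 1)) (Fin (k + 1)) F) :
    M * bdiag a b = bdiag a b * M ↔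
      ∀ i : Fin k, M (Fin.last k) i.castSucc = 0 ∧ M i.castSucc (Fin.last k) = 0 := by
  constructor
  · intro h i
    constructor
    · have h1 := congrFun (congrFun h (Fin.last k)) i.castSucc
      rw [bdiag, Matrix.mul_diagonal, Matrix.diagonal_mul, Fin.lastCases_castSucc,
        Fin.lastCases_last, mul_comm] at h1
      exact (mul_eq_mul_right_iff.1 h1).resolve_left hab
    · have h1 := congrFun (congrFun h i.castSucc) (Fin.last k)
      rw [bdiag, Matrix.mul_diagonal, Matrix.diagonal_mul, Fin.lastCases_castSucc,
        Fin.lastCases_last, mul_comm] at h1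
      exact (mul_eq_mul_right_iff.1 h1).resolve_left hab.symm
  · intro h
    ext r s
    rw [bdiag, Matrix.mul_diagonal, Matrix.diagonal_mul]
    induction r using Fin.lastCases with
    | last => induction s using Fin.lastCases with
      | last => rw [mul_comm]
      | cast j => simp [(h j).1]
    | cast i => induction s using Fin.lastCases with
      | last => simp [(h i).2]
      | cast j => simp [mul_comm]

theorem mul_last {M N : Matrix (Fin (k + 1)) (Fin (k + 1)) F}
    (hM : ∀ i : Fin k, M (Fin.last k) i.castSucc = 0) :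
    (M * N) (Fin.last k) (Fin.last k) = M (Fin.last k) (Fin.last k) * N (Fin.last k) (Fin.last k) := by
  rw [Matrix.mul_apply, Fin.sum_univ_castSucc]
  simp [hM]

theorem exists_emb {M : SpecialLinearGroup (Fin (k + 1)) F}
    (h : ∀ i : Fin k, M.1 (Fin.last k) i.castSucc = 0 ∧ M.1 i.castSucc (Fin.last k) = 0)
    (hl : M.1 (Fin.last k) (Fin.last k) = 1) : ∃ A, emb A = M := by
  have hdet : (M.1.submatrix Fin.castSucc Fin.castSucc).det = 1 := by
    have h1 := M.2
    rw [Matrix.det_succ_row M.1 (Fin.last k), Fin.sum_univ_castSucc,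
      Finset.sum_eq_zero (fun j _ => by rw [(h j).1]; ring)] at h1
    have h4 : ((-1 : F) ^ (k + k)) = 1 := (Even.add_self k).neg_one_pow
    simpa [hl, Fin.succAbove_last, h4] using h1
  refine ⟨⟨_, hdet⟩, Subtype.ext (Matrix.ext fun r s => ?_)⟩
  induction r using Fin.lastCases with
  | last =>
    rw [emb_last_left]
    induction s using Fin.lastCases with
    | last => rw [hl, Matrix.one_apply_eq]
    | cast j => rw [(h j).1, Matrix.one_apply_ne (Fin.castSucc_ne_last j).symm]
  | cast i =>
    induction s using Fin.lastCases with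
    | last => rw [emb_last_right, (h i).2, Matrix.one_apply_ne (Fin.castSucc_ne_last i)]
    | cast j => exact emb_cs _ i j

/-- The centralizer of the embedded `SL_k` consists of `diag(a, …, a, b)`. -/
theorem eq_bdiag_of_commute (hk : 2 ≤ k) {M : SpecialLinearGroup (Fin (k + 1)) F}
    (h : ∀ A, emb A * M = M * emb A) :
    ∃ a, M.1 = bdiag a (M.1 (Fin.last k) (Fin.last k)) := by
  classical
  have key : ∀ i j : Fin k, i ≠ j →
      (∀ r, r ≠ i.castSucc → M.1 r i.castSucc = 0) ∧ (∀ s, s ≠ j.castSucc → M.1 j.castSucc s = 0) ∧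
      M.1 i.castSucc i.castSucc = M.1 j.castSucc j.castSucc := by
    intro i j hij
    have hij' : i.castSucc ≠ j.castSucc := fun e => hij (Fin.castSucc_inj.1 e)
    have hT : (emb (SpecialLinearGroup.transvection hij (1 : F))).1 =
        Matrix.transvection i.castSucc j.castSucc 1 := by
      rw [slEmbed_coe, show ((SpecialLinearGroup.transvection hij (1 : F)) : Matrix (Fin k) (Fin k) F) =
        Matrix.transvection i j 1 from rfl, Matrix.transvection, add_sub_cancel_left,
        incMat_mul_single_mul, Matrix.transvection]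
    have h1 := congrArg Subtype.val (h (SpecialLinearGroup.transvection hij (1 : F)))
    rw [Matrix.SpecialLinearGroup.coe_mul, Matrix.SpecialLinearGroup.coe_mul, hT] at h1
    refine ⟨fun r hr => ?_, fun s hs => ?_, ?_⟩
    · have h2 := congrFun (congrFun h1 r) j.castSucc
      rw [Matrix.mul_transvection_apply_same, Matrix.transvection_mul_apply_of_ne _ _ _ _ hr, one_mul]
        at h2
      exact add_eq_left.1 h2.symm
    · have h2 := congrFun (congrFun h1 i.castSucc) s
      rw [Matrix.mul_transvection_apply_of_ne _ _ _ _ hs, Matrix.transvection_mul_apply_same, one_mul]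
        at h2
      exact add_eq_left.1 h2
    · have h2 := congrFun (congrFun h1 i.castSucc) j.castSucc
      rw [Matrix.mul_transvection_apply_same, Matrix.transvection_mul_apply_same, one_mul, one_mul]
        at h2
      exact (add_left_cancel h2).symm
  let i₀ : Fin k := ⟨0, by omega⟩
  let i₁ : Fin k := ⟨1, by omega⟩
  have h01 : i₀ ≠ i₁ := by simp [i₀, i₁]
  have hex : ∀ i : Fin k, ∃ j, i ≠ j := fun i => by
    rcases eq_or_ne i i₀ with rfl | hi
    · exact ⟨i₁, h01⟩
    · exact ⟨i₀, hi⟩
  refine ⟨M.1 i₀.castSucc i₀.castSucc, Matrix.ext fun r s => ?_⟩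
  induction r using Fin.lastCases with
  | last =>
    induction s using Fin.lastCases with
    | last => simp [bdiag]
    | cast i =>
      obtain ⟨j, hij⟩ := hex i
      rw [(key i j hij).1 _ (Fin.castSucc_ne_last i).symm, bdiag,
        Matrix.diagonal_apply_ne _ (Fin.castSucc_ne_last i).symm]
  | cast i =>
    obtain ⟨j, hij⟩ := hex i
    rcases eq_or_ne s i.castSucc with rfl | hs
    · rw [bdiag, Matrix.diagonal_apply_eq, Fin.lastCases_castSucc]
      rcases eq_or_ne i i₀ with rfl | hi
      · rfl
      · exact (key i i₀ hi).2.2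
    · rw [(key j i hij.symm).2.1 s hs, bdiag, Matrix.diagonal_apply_ne _ hs.symm]

end CfsgLib.Classical.BlockComponent
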