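import Mathlib
import Cfsg.Agent.Lib.Classical.SLBasic

/-!
# Two explicit generators of `SL_{n+1}` (modulo the centre)
-/

set_option autoImplicit false

open Matrix
open scoped commutatorElement

namespace CfsgLib.Classical.SLTwoGen

variable {K : Type*} [Field K] {n : ℕ}

/-- The monomial matrix of the cycle. -/
def cyc (n : ℕ) (K : Type*) [Field K] : Matrix (Fin (n + 1)) (Fin (n + 1)) K :=
  Matrix.of fun i j => if j.val = i.val + 1 then 1 else if i.val = n ∧ j.val = 0 then (-1) ^ n else 0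

theorem cyc_apply_succ {a b : Fin (n + 1)} (h : b.val = a.val + 1) : cyc n K a b = 1 := by
  simp [cyc, h]

theorem cyc_apply_last {a b : Fin (n + 1)} (ha : a.val = n) (hb : b.val = 0) :
    cyc n K a b = (-1) ^ n := by
  simp only [cyc, Matrix.of_apply]
  rw [if_neg (by omega), if_pos ⟨ha, hb⟩]

theorem cyc_eq_zero {a b : Fin (n + 1)} (h : b.val ≠ a.val + 1) (h' : a.val = n → b.val ≠ 0) :
    cyc n K a b = 0 := by
  simp only [cyc, Matrix.of_apply, if_neg h]
  rw [if_neg fun e => h' e.1 e.2]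

theorem mul_single_col {ι : Type*} [Fintype ι] [DecidableEq ι] (W : Matrix ι ι K) {i' i j : ι} (c : K)
    (h : ∀ a, a ≠ i' → W a i = 0) : W * Matrix.single i j c = Matrix.single i' j (W i' i * c) := by
  ext a b
  by_cases hb : b = j
  · subst hb
    rw [Matrix.mul_single_apply_same]
    by_cases ha : a = i'
    · subst ha; simp
    · rw [h a ha, zero_mul, Matrix.single_apply, if_neg (fun e => ha e.1.symm)]
  · rw [Matrix.mul_single_apply_of_ne (hbj := hb), Matrix.single_apply, if_neg (fun e => hb e.2.symm)]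

theorem single_mul_row {ι : Type*} [Fintype ι] [DecidableEq ι] (W : Matrix ι ι K) {i j j' : ι} (c : K)
    (h : ∀ b, b ≠ j' → W j b = 0) : Matrix.single i j c * W = Matrix.single i j' (c * W j j') := by
  ext a b
  by_cases ha : a = i
  · subst ha
    rw [Matrix.single_mul_apply_same]
    by_cases hb : b = j'
    · subst hb; simp
    · rw [h b hb, mul_zero, Matrix.single_apply, if_neg (fun e => hb e.2.symm)]
  · rw [Matrix.single_mul_apply_of_ne (h := ha), Matrix.single_apply, if_neg (fun e => ha e.1.symm)]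

local notation "T" => SpecialLinearGroup.transvection

variable {w : SpecialLinearGroup (Fin (n + 1)) K}

theorem coe_T {i j : Fin (n + 1)} (h : i ≠ j) (c : K) :
    ((T h c : SpecialLinearGroup (Fin (n + 1)) K) : Matrix (Fin (n + 1)) (Fin (n + 1)) K) =
      1 + Matrix.single i j c := rfl

theorem T_mul {i j : Fin (n + 1)} (h : i ≠ j) (a b : K) : T h a * T h b = T h (a + b) :=
  sl_ext (Matrix.transvection_mul_transvection_same i j h a b)

theorem T_zero {i j : Fin (n + 1)} (h : i ≠ j) : T h (0 : K) = 1 :=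
  sl_ext (Matrix.transvection_zero i j)

theorem mul_ext {A B C D : SpecialLinearGroup (Fin (n + 1)) K}
    (h : (A : Matrix (Fin (n + 1)) (Fin (n + 1)) K) * B = (C : Matrix (Fin (n + 1)) (Fin (n + 1)) K) * D) :
    A * B = C * D := sl_ext h

/-- Shifting a transvection along the cycle. -/
theorem conj_shift (hw : (w : Matrix (Fin (n + 1)) (Fin (n + 1)) K) = cyc n K)
    {i j i' j' : Fin (n + 1)} (hi : i'.val = i.val + 1) (hj : j'.val = j.val + 1) (h : i ≠ j)
    (h' : i' ≠ j') (c : K) : w⁻¹ * T h c * w = T h' c := by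
  rw [mul_assoc, inv_mul_eq_iff_eq_mul]
  apply mul_ext
  rw [coe_T, coe_T, hw, add_mul, mul_add,
    one_mul, mul_one]
  congr 1
  rw [single_mul_row (cyc n K) (j' := j') c (fun b hb => cyc_eq_zero
      (fun e => hb (Fin.ext (by omega))) (fun e => by omega)),
    mul_single_col (cyc n K) (i' := i) c (fun a ha => cyc_eq_zero
      (fun e => ha (Fin.ext (by omega))) (fun _ => by omega)),
    cyc_apply_succ hj, cyc_apply_succ hi, one_mul, mul_one]

theorem conj_wrap (hw : (w : Matrix (Fin (n + 1)) (Fin (n + 1)) K) = cyc n K)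
    {i0 i1 il : Fin (n + 1)} (h0 : i0.val = 0) (h1 : i1.val = 1) (hl : il.val = n) (h : i0 ≠ i1)
    (h' : il ≠ i0) (c : K) : w * T h c * w⁻¹ = T h' ((-1) ^ n * c) := by
  rw [mul_inv_eq_iff_eq_mul]
  apply mul_ext
  rw [coe_T, coe_T, hw, add_mul, mul_add,
    one_mul, mul_one]
  congr 1
  rw [mul_single_col (cyc n K) (i' := il) c (fun a ha => cyc_eq_zero
      (fun e => by omega) (fun e => absurd (Fin.ext (e.trans hl.symm)) ha)),
    single_mul_row (cyc n K) (j' := i1) ((-1) ^ n * c) (fun b hb => cyc_eq_zero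
      (fun e => hb (Fin.ext (by omega))) (fun e => by
        exfalso; exact h' (Fin.ext (by omega)))),
    cyc_apply_last hl h0, cyc_apply_succ (by omega), mul_one]

theorem comm_mem {H : Subgroup (SpecialLinearGroup (Fin (n + 1)) K)} {i j k : Fin (n + 1)}
    (hik : i ≠ k) (hkj : k ≠ j) (hij : i ≠ j) (h1 : ∀ c : K, T hik c ∈ H) (h2 : ∀ c : K, T hkj c ∈ H)
    (c : K) : T hij c ∈ H := by
  rw [show T hij c = ⁅T hik c, T hkj (1 : K)⁆ by rw [commutator_transvection hik hkj hij, mul_one],
    commutatorElement_def]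
  exact H.mul_mem (H.mul_mem (H.mul_mem (h1 c) (h2 1)) (H.inv_mem (h1 c))) (H.inv_mem (h2 1))

/-- The cycle and one root subgroup generate everything. -/
theorem eq_top (hn : 1 ≤ n) (hw : (w : Matrix (Fin (n + 1)) (Fin (n + 1)) K) = cyc n K)
    (H : Subgroup (SpecialLinearGroup (Fin (n + 1)) K)) (hwH : w ∈ H)
    (h01 : (⟨0, Nat.succ_pos n⟩ : Fin (n + 1)) ≠ ⟨1, Nat.succ_lt_succ hn⟩) (hT : ∀ c : K, T h01 c ∈ H) : H = ⊤ := by
  have step : ∀ m : ℕ, ∀ i j : Fin (n + 1), i.val = m → j.val = m + 1 → ∀ (h : i ≠ j) (c : K),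
      T h c ∈ H := by
    intro m
    induction m with
    | zero =>
      intro i j hi hj h c
      have e1 := Fin.ext (b := (⟨0, Nat.succ_pos n⟩ : Fin (n + 1))) hi
      have e2 := Fin.ext (b := (⟨1, Nat.succ_lt_succ hn⟩ : Fin (n + 1))) hj
      subst e1; subst e2
      exact hT c
    | succ m ih =>
      intro i j hi hj h c
      have hi0 : m < n + 1 := by omega
      have hj0 : m + 1 < n + 1 := by omega
      have h0 : (⟨m, hi0⟩ : Fin (n + 1)) ≠ ⟨m + 1, hj0⟩ := fun e => by simp [Fin.ext_iff] at e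
      rw [← conj_shift hw (i := ⟨m, hi0⟩) (j := ⟨m + 1, hj0⟩) hi hj h0 h c]
      exact H.mul_mem (H.mul_mem (H.inv_mem hwH) (ih _ _ rfl rfl h0 c)) hwH
  have hup : ∀ d : ℕ, ∀ i j : Fin (n + 1), j.val = i.val + d + 1 → ∀ (h : i ≠ j) (c : K),
      T h c ∈ H := by
    intro d
    induction d with
    | zero => intro i j hij h c; exact step _ i j rfl hij h c
    | succ d ih =>
      intro i j hij h c
      have hk : i.val + d + 1 < n + 1 := by omega
      refine comm_mem (k := ⟨i.val + d + 1, hk⟩) (fun e => by rw [Fin.ext_iff] at e; simp only at e; omega)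
        (fun e => by rw [Fin.ext_iff] at e; simp only at e; omega) h (fun c => ?_) (fun c => ?_) c
      · exact ih i _ rfl _ c
      · exact step _ _ j rfl (by simp only; omega) _ c
  have hlt : ∀ i j : Fin (n + 1), i.val < j.val → ∀ (h : i ≠ j) (c : K), T h c ∈ H :=
    fun i j hij => hup (j.val - i.val - 1) i j (by omega)
  have hl0 : ∀ i j : Fin (n + 1), i.val = n → j.val = 0 → ∀ (h : i ≠ j) (c : K), T h c ∈ H := by
    intro i j hi hj h c
    have hs : ((-1 : K) ^ n) * ((-1 : K) ^ n) = 1 := by rw [← mul_pow]; simp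
    obtain rfl : j = ⟨0, Nat.succ_pos n⟩ := Fin.ext hj
    have := conj_wrap hw (i1 := ⟨1, Nat.succ_lt_succ hn⟩) rfl rfl hi h01 h ((-1) ^ n * c)
    rw [← mul_assoc, hs, one_mul] at this
    rw [← this]
    exact H.mul_mem (H.mul_mem hwH (hT _)) (H.inv_mem hwH)
  have hln : ∀ i j : Fin (n + 1), i.val = n → j.val < n → ∀ (h : i ≠ j) (c : K), T h c ∈ H := by
    intro i j hi hj h c
    by_cases hj0 : j.val = 0
    · exact hl0 i j hi hj0 h c
    · refine comm_mem (k := (⟨0, Nat.succ_pos n⟩ : Fin (n + 1))) (fun e => by rw [Fin.ext_iff] at e; simp only at e; omega)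
        (fun e => by rw [Fin.ext_iff] at e; simp only at e; omega) h (fun c => hl0 i _ hi rfl _ c)
        (fun c => hlt _ j (by simp only; omega) _ c) c
  refine sl_subgroup_eq_top H fun i j h c => ?_
  rcases lt_trichotomy i.val j.val with hij | hij | hij
  · exact hlt i j hij h c
  · exact absurd (Fin.ext hij) h
  · by_cases hi : i.val = n
    · exact hln i j hi (by omega) h c
    · refine comm_mem (k := (⟨n, by omega⟩ : Fin (n + 1))) (fun e => by rw [Fin.ext_iff] at e; simp only at e; omega)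
        (fun e => by rw [Fin.ext_iff] at e; simp only at e; omega) h
        (fun c => hlt i _ (by simp only; omega) _ c) (fun c => hln _ j rfl (by omega) _ c) c

theorem conj_diag {h : SpecialLinearGroup (Fin (n + 1)) K} {d : Fin (n + 1) → K}
    (hh : (h : Matrix (Fin (n + 1)) (Fin (n + 1)) K) = Matrix.diagonal d)
    {i j : Fin (n + 1)} (hij : i ≠ j) {c c' : K} (hc : d i * c = c' * d j) :
    h * T hij c * h⁻¹ = T hij c' := by
  rw [mul_inv_eq_iff_eq_mul]
  apply mul_ext
  rw [coe_T, coe_T, hh, add_mul, mul_add,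
    one_mul, mul_one]
  congr 1
  rw [mul_single_col _ (i' := i) c (fun a ha => Matrix.diagonal_apply_ne _ ha),
    single_mul_row _ (j' := j) c' (fun b hb => Matrix.diagonal_apply_ne _ (Ne.symm hb)),
    Matrix.diagonal_apply_eq, Matrix.diagonal_apply_eq, hc]

/-- The cycled diagonal. -/
def rot (d : Fin (n + 1) → K) : Fin (n + 1) → K := fun i =>
  if hi : i.val + 1 < n + 1 then d ⟨i.val + 1, hi⟩ else d ⟨0, Nat.succ_pos n⟩

theorem conj_cyc_diag (hn : 1 ≤ n) (w h : SpecialLinearGroup (Fin (n + 1)) K) (d : Fin (n + 1) → K)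
    (hw : (w : Matrix (Fin (n + 1)) (Fin (n + 1)) K) = cyc n K)
    (hh : (h : Matrix (Fin (n + 1)) (Fin (n + 1)) K) = Matrix.diagonal d) :
    ((w * h * w⁻¹ : SpecialLinearGroup (Fin (n + 1)) K) : Matrix (Fin (n + 1)) (Fin (n + 1)) K) =
        Matrix.diagonal (rot d) ∧ rot d ⟨0, Nat.succ_pos n⟩ = d ⟨1, Nat.succ_lt_succ hn⟩ ∧
      ((n = 1 → rot d ⟨1, Nat.succ_lt_succ hn⟩ = d ⟨0, Nat.succ_pos n⟩) ∧
        ∀ h1 : n ≠ 1, rot d ⟨1, Nat.succ_lt_succ hn⟩ = d ⟨2, by omega⟩) := by
  refine ⟨?_, dif_pos (show (0 : ℕ) + 1 < n + 1 by omega), fun h1 => dif_neg ?_, fun h1 => dif_pos ?_⟩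
  rotate_left
  · show ¬ (1 : ℕ) + 1 < n + 1; omega
  · show (1 : ℕ) + 1 < n + 1; omega
  have hwd : cyc n K * Matrix.diagonal d = Matrix.diagonal (rot d) * cyc n K := by
    ext a b
    rw [Matrix.mul_diagonal, Matrix.diagonal_mul]
    by_cases h1 : b.val = a.val + 1
    · rw [cyc_apply_succ h1, one_mul, mul_one, rot, dif_pos (by omega)]
      exact congrArg d (Fin.ext h1)
    · by_cases h2 : a.val = n ∧ b.val = 0
      · rw [rot, dif_neg (by omega), cyc_apply_last h2.1 h2.2, mul_comm,
          show b = ⟨0, Nat.succ_pos n⟩ from Fin.ext h2.2]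
      · rw [cyc_eq_zero h1 (fun e1 e2 => h2 ⟨e1, e2⟩), zero_mul, mul_zero]
  change (w : Matrix (Fin (n + 1)) (Fin (n + 1)) K) * h * (w⁻¹ : SpecialLinearGroup (Fin (n + 1)) K) = _
  rw [hw, hh, hwd, mul_assoc, ← hw]
  change Matrix.diagonal (rot d) * ((w * w⁻¹ : SpecialLinearGroup (Fin (n + 1)) K) : Matrix _ _ K) = _
  rw [mul_inv_cancel]
  exact mul_one _

/-- An additive subgroup containing all squares is everything. -/
theorem addSubgroup_eq_top [Finite K] (A : AddSubgroup K) (hA : ∀ a : K, a * a ∈ A) (a : K) : a ∈ A := by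
  by_cases h2 : (2 : K) = 0
  · have : ringChar K = 2 := by
      haveI := ringChar.charP K
      rcases (Nat.dvd_prime Nat.prime_two).mp ((CharP.cast_eq_zero_iff K (ringChar K) 2).mp
        (by exact_mod_cast h2)) with h | h
      · exact absurd h (CharP.ringChar_ne_one)
      · exact h
    obtain ⟨r, rfl⟩ := FiniteField.isSquare_of_char_two this a
    exact hA r
  · rw [show a = (a + 1) / 2 * ((a + 1) / 2) - (a - 1) / 2 * ((a - 1) / 2) by field_simp; ring]
    exact sub_mem (hA _) (hA _)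

/-- `h` and `x w` generate modulo the centre. -/
theorem gen_large [Fintype K] (hK : 3 < Fintype.card K) (hn : 1 ≤ n) (k : Kˣ)
    (hk : ∀ u : Kˣ, u ∈ Subgroup.zpowers k) (h x w : SpecialLinearGroup (Fin (n + 1)) K)
    (hh : (h : Matrix (Fin (n + 1)) (Fin (n + 1)) K) =
      Matrix.diagonal (fun i => if i.val = 0 then (k : K) else if i.val = 1 then ((k⁻¹ : Kˣ) : K) else 1))
    (hx : (x : Matrix (Fin (n + 1)) (Fin (n + 1)) K) = Matrix.transvection (0 : Fin (n + 1)) (1 : Fin (n + 1)) 1)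
    (hw : (w : Matrix (Fin (n + 1)) (Fin (n + 1)) K) = cyc n K) :
    Subgroup.closure ({h, x * w} : Set (SpecialLinearGroup (Fin (n + 1)) K)) = ⊤ := by
  classical
  set H := Subgroup.closure ({h, x * w} : Set (SpecialLinearGroup (Fin (n + 1)) K))
  have hhH : h ∈ H := Subgroup.subset_closure (by simp)
  have hyH : x * w ∈ H := Subgroup.subset_closure (by simp)
  have e1 : (1 : Fin (n + 1)) = ⟨1, Nat.succ_lt_succ hn⟩ := Fin.ext (by simp; omega)
  have h01 : (⟨0, Nat.succ_pos n⟩ : Fin (n + 1)) ≠ ⟨1, Nat.succ_lt_succ hn⟩ := by simp [Fin.ext_iff]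
  have hxT : x = T h01 1 := by
    apply sl_ext
    rw [hx, coe_T, e1]; rfl
  set d : Fin (n + 1) → K := fun i => if i.val = 0 then (k : K) else if i.val = 1 then ((k⁻¹ : Kˣ) : K) else 1
  have hd0 : d ⟨0, Nat.succ_pos n⟩ = k := by simp [d]
  have hd1 : d ⟨1, Nat.succ_lt_succ hn⟩ = ((k⁻¹ : Kˣ) : K) := by simp [d]
  have hk2 : (k : K) * k ≠ 1 := by
    intro e
    have e' : k ^ 2 = 1 := Units.ext (by rw [pow_two, Units.val_mul, e, Units.val_one])
    have h1 : Nat.card Kˣ ≤ 2 := by
      have ht : Subgroup.zpowers k = ⊤ := eq_top_iff.2 fun u _ => hk u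
      rw [← Subgroup.card_top (G := Kˣ), ← ht, Nat.card_zpowers]
      exact Nat.le_of_dvd two_pos (orderOf_dvd_of_pow_eq_one e')
    rw [Nat.card_units, Nat.card_eq_fintype_card] at h1
    omega
  -- the diagonal conjugate of `h` commutes with `h`
  set h' := w * h * w⁻¹ with hh'
  obtain ⟨hh'v, he0, he1⟩ := conj_cyc_diag hn w h d hw hh
  have hcomm : Commute h h' := by
    apply mul_ext
    rw [hh, hh'v, Matrix.diagonal_mul_diagonal, Matrix.diagonal_mul_diagonal]
    congr 1; funext i; exact mul_comm _ _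
  -- some transvection at (0,1)
  obtain ⟨c, hc0, hcH⟩ : ∃ c : K, c ≠ 0 ∧ T h01 c ∈ H := by
    -- `y h y⁻¹ = x h' x⁻¹`
    have hy : x * h' * x⁻¹ ∈ H := by
      rw [show x * h' * x⁻¹ = x * w * h * (x * w)⁻¹ by rw [hh']; group]
      exact H.mul_mem (H.mul_mem hyH hhH) (H.inv_mem hyH)
    -- some non-trivial root element
    obtain ⟨a, b, ha, hconjh', hab⟩ : ∃ a b : K, a = 1 ∧ h' * x⁻¹ * h'⁻¹ = T h01 b ∧ a + b ≠ 0 := by
      have hvals : ∃ t : K, t ≠ 1 ∧ h' * x⁻¹ * h'⁻¹ = T h01 (-t) := by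
        by_cases hn1 : n = 1
        · replace he1 := he1.1 hn1
          rw [hd0] at he1
          rw [hd1] at he0
          refine ⟨((k⁻¹ * k⁻¹ : Kˣ) : K), fun e => hk2 ?_, ?_⟩
          · have : (k⁻¹ * k⁻¹ : Kˣ) = 1 := Units.ext (by rw [e, Units.val_one])
            rw [← mul_inv, inv_eq_one] at this
            rw [← Units.val_mul, this, Units.val_one]
          · rw [hxT, SpecialLinearGroup.transvection_inv]
            exact conj_diag hh'v h01 (by rw [he0, he1, Units.val_mul]; simp)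
        · replace he1 : rot d ⟨1, Nat.succ_lt_succ hn⟩ = 1 := by
            rw [he1.2 hn1]; simp [d]
          rw [hd1] at he0
          refine ⟨((k⁻¹ : Kˣ) : K), fun e => hk2 ?_, ?_⟩
          · have : k = 1 := inv_eq_one.1 (Units.ext (by rw [e, Units.val_one]))
            rw [this, Units.val_one, one_mul]
          · rw [hxT, SpecialLinearGroup.transvection_inv]
            exact conj_diag hh'v h01 (by rw [he0, he1]; ring)
      obtain ⟨t, ht, hconj⟩ := hvals
      exact ⟨1, -t, rfl, hconj, fun e => ht (by linear_combination -e)⟩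
    subst ha
    have hxh : x * h' * x⁻¹ = T h01 (1 + b) * h' := by
      rw [← T_mul, ← hconjh', ← hxT]; group
    refine ⟨((k : K) * k - 1) * (1 + b), mul_ne_zero (sub_ne_zero.2 hk2) hab, ?_⟩
    have hct : h * T h01 (1 + b) * h⁻¹ = T h01 ((k : K) * k * (1 + b)) :=
      conj_diag hh h01 (by
        show d _ * _ = _ * d _
        rw [hd0, hd1]; simp; field_simp)
    have e : h * (x * h' * x⁻¹) * h⁻¹ * (x * h' * x⁻¹)⁻¹ = T h01 (((k : K) * k - 1) * (1 + b)) := by
      calc h * (x * h' * x⁻¹) * h⁻¹ * (x * h' * x⁻¹)⁻¹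
          = (h * T h01 (1 + b) * h⁻¹) * ((h * h') * h⁻¹ * h'⁻¹) * (T h01 (1 + b))⁻¹ := by
            rw [hxh]; group
        _ = _ := by
          rw [hct, hcomm.eq, mul_inv_cancel_right, mul_inv_cancel, mul_one,
            SpecialLinearGroup.transvection_inv, T_mul]
          congr 1; ring
    rw [← e]
    exact H.mul_mem (H.mul_mem (H.mul_mem hhH hy) (H.inv_mem hhH)) (H.inv_mem hy)
  -- all of the root subgroup
  let A : AddSubgroup K :=
    { carrier := {a | T h01 (a * c) ∈ H}
      zero_mem' := by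
        show T h01 (0 * c) ∈ H
        rw [zero_mul, T_zero]; exact H.one_mem
      add_mem' := fun {a b} ha hb => by
        show T h01 ((a + b) * c) ∈ H
        rw [add_mul, ← T_mul]; exact H.mul_mem ha hb
      neg_mem' := fun {a} ha => by
        show T h01 (-a * c) ∈ H
        rw [neg_mul, ← SpecialLinearGroup.transvection_inv]; exact H.inv_mem ha }
  have hsq : ∀ m : ℕ, T h01 ((k : K) ^ m * (k : K) ^ m * c) ∈ H := by
    intro m
    induction m with
    | zero => simpa using hcH
    | succ m ih =>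
      have e : h * T h01 ((k : K) ^ m * (k : K) ^ m * c) * h⁻¹ =
          T h01 ((k : K) ^ (m + 1) * (k : K) ^ (m + 1) * c) := conj_diag hh h01 (by
        show d _ * _ = _ * d _
        rw [hd0, hd1, pow_succ]; simp; field_simp)
      rw [← e]
      exact H.mul_mem (H.mul_mem hhH ih) (H.inv_mem hhH)
  have hall : ∀ a : K, T h01 a ∈ H := fun a => by
    have hmem : a / c ∈ A := addSubgroup_eq_top A (fun b => by
      show T h01 (b * b * c) ∈ H
      rcases eq_or_ne b 0 with rfl | hb
      · rw [zero_mul, zero_mul, T_zero]; exact H.one_mem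
      · obtain ⟨m, hm⟩ := mem_powers_iff_mem_zpowers.2 (hk (Units.mk0 b hb))
        have : (k : K) ^ m = b := by rw [← Units.val_pow_eq_pow_val]; exact congrArg Units.val hm
        rw [← this]; exact hsq m) _
    have e : T h01 (a / c * c) ∈ H := hmem
    rwa [div_mul_cancel₀ a hc0] at e
  refine eq_top hn hw H ?_ h01 hall
  rw [show w = x⁻¹ * (x * w) by group]
  exact H.mul_mem (H.inv_mem (hxT ▸ hall 1)) hyH

/-- `x` and `w` generate over the prime fields of order at most three. -/
theorem gen_small [Fintype K] (hK : Fintype.card K ≤ 3) (hn : 1 ≤ n)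
    (x w : SpecialLinearGroup (Fin (n + 1)) K)
    (hx : (x : Matrix (Fin (n + 1)) (Fin (n + 1)) K) = Matrix.transvection (0 : Fin (n + 1)) (1 : Fin (n + 1)) 1)
    (hw : (w : Matrix (Fin (n + 1)) (Fin (n + 1)) K) = cyc n K) :
    Subgroup.closure ({x, w} : Set (SpecialLinearGroup (Fin (n + 1)) K)) = ⊤ := by
  classical
  set H := Subgroup.closure ({x, w} : Set (SpecialLinearGroup (Fin (n + 1)) K))
  have e1 : (1 : Fin (n + 1)) = ⟨1, Nat.succ_lt_succ hn⟩ := Fin.ext (by simp; omega)
  have h01 : (⟨0, Nat.succ_pos n⟩ : Fin (n + 1)) ≠ ⟨1, Nat.succ_lt_succ hn⟩ := by simp [Fin.ext_iff]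
  have hxT : T h01 1 = x := by
    apply sl_ext
    rw [hx, coe_T, e1]; rfl
  refine eq_top hn hw H (Subgroup.subset_closure (by simp)) h01 fun c => ?_
  have h1 : T h01 1 ∈ H := hxT ▸ Subgroup.subset_closure (by simp)
  have hneg : T h01 (-1) ∈ H := by
    rw [← SpecialLinearGroup.transvection_inv]; exact H.inv_mem h1
  rcases eq_or_ne c 0 with rfl | hc0
  · rw [T_zero]; exact H.one_mem
  rcases eq_or_ne c 1 with rfl | hc1
  · exact h1
  suffices c = -1 by rw [this]; exact hneg
  have hu : ({(0 : K), 1, c} : Finset K) = Finset.univ := Finset.eq_univ_of_card _ (by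
    refine le_antisymm (Finset.card_le_univ _) ?_
    rw [Finset.card_insert_of_notMem (by simp [hc0.symm]), Finset.card_pair hc1.symm]
    exact hK)
  have hm : (-1 : K) ∈ ({(0 : K), 1, c} : Finset K) := hu ▸ Finset.mem_univ _
  simp only [Finset.mem_insert, Finset.mem_singleton] at hm
  rcases hm with h | h | h
  · exact absurd h (by simp)
  · exfalso
    have h2 : c + 1 ∈ ({(0 : K), 1, c} : Finset K) := hu ▸ Finset.mem_univ _
    simp only [Finset.mem_insert, Finset.mem_singleton] at h2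
    rcases h2 with e | e | e
    · exact hc1 (by linear_combination e + h)
    · exact hc0 (by linear_combination e)
    · exact one_ne_zero (α := K) (by linear_combination e)
  · exact h.symm

end CfsgLib.Classical.SLTwoGen
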