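import Cfsg.Agent.Lib.Classical.HermGen
import Cfsg.Agent.Lib.KnownC.RegNilp

/-!
# Eichler elements inside a subgroup of a unitary group, and regular unipotent isometries
-/

set_option autoImplicit false
set_option linter.unusedSectionVars false

open Module

namespace CfsgLib.Classical.SUUnipotent

variable {F : Type*} [Field F] {V : Type*} [AddCommGroup V] [Module F V] {σ : F →+* F}
  {B : V →ₛₗ[σ] V →ₗ[F] F}

theorem mul_apply_iso (g k : isomGroup B) (x : V) : (g * k).1 x = g.1 (k.1 x) := rfl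

theorem inv_apply_eq (g : isomGroup B) {x y : V} (h : g.1 x = y) : (g⁻¹ : isomGroup B).1 y = x := by
  change g.1.symm y = x
  rw [LinearEquiv.symm_apply_eq, h]

theorem apply_inv_apply (g : isomGroup B) (y : V) : g.1 ((g⁻¹ : isomGroup B).1 y) = y := g.1.apply_symm_apply y

/-- The Eichler element with centre `a`. -/
def IsE (g : isomGroup B) (a ω : V) (c : F) : Prop :=
  ∀ y, g.1 y = y + B a y • ω - B ω y • a + (c * B a y) • a

theorem IsE.unique {g k : isomGroup B} {a ω : V} {c : F} (h : IsE g a ω c) (h' : IsE k a ω c) : g = k :=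
  Subtype.ext (LinearEquiv.ext fun y => by rw [h, h'])

theorem isE_zero_iff {g : isomGroup B} {a : V} {c : F} :
    IsE g a 0 c ↔ ∀ y, g.1 y = y + (c * B a y) • a := by
  simp [IsE]

theorem IsE.conj {g : isomGroup B} {a ω : V} {c : F} (h : IsE g a ω c) (W : isomGroup B) :
    IsE (W * g * W⁻¹) (W.1 a) (W.1 ω) c := by
  intro y
  obtain ⟨x, rfl⟩ := W.1.surjective y
  rw [mul_apply_iso, mul_apply_iso, inv_apply_eq W rfl, h, isomGroup_apply, isomGroup_apply]
  simp only [map_add, map_sub, map_smul]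

theorem IsE.mul {g k : isomGroup B} {a ω ω' : V} {c c' : F} (h : IsE g a ω c) (h' : IsE k a ω' c')
    (ha : B a a = 0) (hω : B ω a = 0) (hω' : B a ω' = 0) :
    IsE (g * k) a (ω + ω') (c + c' - B ω ω') := by
  intro y
  rw [mul_apply_iso, h', h]
  simp only [map_add, map_sub, map_smul, LinearMap.add_apply, smul_eq_mul, ha, hω, hω']
  module

/-- The subgroup contains the Eichler element. -/
def HE (H : Subgroup (isomGroup B)) (a ω : V) (c : F) : Prop := ∃ g ∈ H, IsE g a ω c

/-- The centres of the full transvection groups inside a subgroup. -/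
def Phi (H : Subgroup (isomGroup B)) : Set V := {a | B a a = 0 ∧ ∀ c, c + σ c = 0 → HE H a 0 c}

/-- The translation parts of the Eichler elements with centre `a` inside a subgroup. -/
def InM (H : Subgroup (isomGroup B)) (a ω : V) : Prop := B a ω = 0 ∧ ∃ c, HE H a ω c

variable {H : Subgroup (isomGroup B)}

theorem HE.conj {W : isomGroup B} (hW : W ∈ H) {a ω : V} {c : F} (h : HE H a ω c) :
    HE H (W.1 a) (W.1 ω) c := by
  obtain ⟨g, hg, he⟩ := h
  exact ⟨_, mul_mem (mul_mem hW hg) (inv_mem hW), he.conj W⟩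

theorem he_smul_iff (h : IsHermitian B) {a ω : V} {ζ c : F} :
    HE H (ζ • a) ω c ↔ HE H a (σ ζ • ω) (ζ * σ ζ * c) := by
  refine exists_congr fun g => and_congr_right fun _ => forall_congr' fun y => ?_
  simp only [map_smulₛₗ, LinearMap.smul_apply, smul_eq_mul, h.conj.invol]
  constructor <;> intro hg <;> rw [hg] <;> module

theorem HE.mul {a ω ω' : V} {c c' : F} (h : HE H a ω c) (h' : HE H a ω' c')
    (ha : B a a = 0) (hω : B ω a = 0) (hω' : B a ω' = 0) : HE H a (ω + ω') (c + c' - B ω ω') := by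
  obtain ⟨g, hg, he⟩ := h
  obtain ⟨k, hk, he'⟩ := h'
  exact ⟨_, mul_mem hg hk, he.mul he' ha hω hω'⟩

theorem he_one {a : V} : HE H a 0 0 := ⟨1, one_mem H, fun y => by simp⟩

theorem HE.inv {a ω : V} {c : F} (h : HE H a ω c) (ha : B a a = 0) (hω : B a ω = 0) (hω' : B ω a = 0) :
    HE H a (-ω) (-c - B ω ω) := by
  obtain ⟨g, hg, he⟩ := h
  refine ⟨g⁻¹, inv_mem hg, fun y => inv_apply_eq g ?_⟩
  rw [he]
  simp only [map_add, map_sub, map_smul, map_neg, LinearMap.neg_apply, smul_eq_mul, ha, hω, hω']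
  module

variable [Finite F] [FiniteDimensional F V]

theorem exists_isE (h : IsHermitian B) (hN : B.SeparatingRight) {a ω : V} {c : F} (ha : B a a = 0)
    (hω : B a ω = 0) (hc : c + σ c = -B ω ω) : ∃ g : isomGroup B, IsE g a ω c ∧ idet B g = 1 := by
  have hω' : B ω a = 0 := h.isRefl _ _ hω
  let L : V →ₗ[F] V := (LinearMap.transvection (B a) ω).comp (LinearMap.transvection (c • B a - B ω) a)
  have hL : ∀ y, L y = y + B a y • ω - B ω y • a + (c * B a y) • a := fun y => by
    simp only [L, LinearMap.comp_apply, LinearMap.transvection.apply, LinearMap.sub_apply, LinearMap.smul_apply,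
      map_add, map_smul, smul_eq_mul, ha, mul_zero, add_zero]
    module
  obtain ⟨g, hg⟩ := h.exists_of_preserving hN L fun x y => by
    simp only [hL, map_add, map_sub, map_smul, map_smulₛₗ, LinearMap.add_apply, LinearMap.sub_apply,
      LinearMap.smul_apply, RingHom.id_apply, smul_eq_mul, map_mul, ha, hω, hω', h.symm]
    linear_combination (B x a * B a y) * hc
  refine ⟨g, fun y => by rw [hg, hL], ?_⟩
  have e : (g.1 : V →ₗ[F] V) = L := LinearMap.ext hg
  change LinearMap.det (g.1 : V →ₗ[F] V) = 1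
  rw [e]
  simp only [L, LinearMap.det_comp, LinearMap.transvection.det, LinearMap.sub_apply, LinearMap.smul_apply,
    smul_eq_mul, ha, hω, hω', mul_zero, sub_zero, add_zero, mul_one]

theorem Phi.smul (h : IsHermitian B) {a : V} (ha : a ∈ Phi H) (ζ : F) : ζ • a ∈ Phi H := by
  refine ⟨by rw [h.smul_self, ha.1, mul_zero], fun c hc => ?_⟩
  rw [he_smul_iff h, smul_zero]
  refine ha.2 _ ?_
  rw [map_mul, map_mul, h.conj.invol]
  linear_combination (ζ * σ ζ) * hc

theorem Phi.conj {a : V} {W : isomGroup B} (hW : W ∈ H) (ha : a ∈ Phi H) : W.1 a ∈ Phi H :=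
  ⟨by rw [isomGroup_apply]; exact ha.1, fun c hc => by
    have := (ha.2 c hc).conj hW
    rwa [map_zero] at this⟩

theorem InM.neg (h : IsHermitian B) {a ω : V} (ha : B a a = 0) (hω : InM H a ω) : InM H a (-ω) := by
  obtain ⟨h0, c, hc⟩ := hω
  exact ⟨by rw [map_neg, h0, neg_zero], _, hc.inv ha h0 (h.isRefl _ _ h0)⟩

theorem InM.add (h : IsHermitian B) {a ω ω' : V} (ha : B a a = 0) (hω : InM H a ω) (hω' : InM H a ω') :
    InM H a (ω + ω') := by
  obtain ⟨h0, c, hc⟩ := hω
  obtain ⟨h0', c', hc'⟩ := hω'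
  exact ⟨by rw [map_add, h0, h0', add_zero], _, hc.mul hc' ha (h.isRefl _ _ h0) h0'⟩

theorem InM.sub (h : IsHermitian B) {a ω ω' : V} (ha : B a a = 0) (hω : InM H a ω) (hω' : InM H a ω') :
    InM H a (ω - ω') := by
  rw [sub_eq_add_neg]; exact hω.add h ha (hω'.neg h ha)

theorem InM.conj {W : isomGroup B} (hW : W ∈ H) {a ω : V} (hWa : W.1 a = a) (hω : InM H a ω) :
    InM H a (W.1 ω) := by
  obtain ⟨h0, c, hc⟩ := hω
  refine ⟨?_, c, ?_⟩
  · rw [← hWa, isomGroup_apply, h0]
  · have := hc.conj hW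
    rwa [hWa] at this

/-- Commutators of Eichler elements. -/
theorem he_comm (h : IsHermitian B) {a ω ω' : V} (ha : B a a = 0) (hω : InM H a ω) (hω' : InM H a ω') :
    HE H a 0 (B ω' ω - B ω ω') := by
  obtain ⟨h0, c, hc⟩ := hω
  obtain ⟨h0', c', hc'⟩ := hω'
  have h1 := hc.mul hc' ha (h.isRefl _ _ h0) h0'
  have h2 := hc'.mul hc ha (h.isRefl _ _ h0') h0
  have hs : B a (ω' + ω) = 0 := by rw [map_add, h0, h0', add_zero]
  have h3 := h1.mul (h2.inv ha hs (h.isRefl _ _ hs)) ha
    (by rw [map_add, LinearMap.add_apply, h.isRefl _ _ h0, h.isRefl _ _ h0', add_zero])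
    (by rw [map_neg, hs, neg_zero])
  rw [show ω + ω' + -(ω' + ω) = 0 by abel] at h3
  convert h3 using 1
  simp only [map_add, map_neg, LinearMap.add_apply]
  ring

/-- The Eichler element of two transvection centres which differ by `a`. -/
theorem inM_of_pair (h : IsHermitian B) {a b : V} (hab : B a b = 0) (hb : B b b = 0) {x : F}
    (hx : x + σ x = 0) (h1 : HE H (b + a) 0 x) (h2 : HE H b 0 (-x)) : InM H a (x • b) := by
  refine ⟨by rw [map_smul, hab, smul_zero], x, ?_⟩
  obtain ⟨g, hg, he⟩ := h1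
  obtain ⟨k, hk, hk'⟩ := h2
  refine ⟨_, mul_mem hg hk, fun y => ?_⟩
  have hσx : σ x = -x := eq_neg_of_add_eq_zero_right hx
  rw [mul_apply_iso, isE_zero_iff.1 hk', isE_zero_iff.1 he]
  simp only [map_add, map_smul, map_smulₛₗ, LinearMap.add_apply, LinearMap.smul_apply, smul_eq_mul,
    RingHom.id_apply, hb, hab, hσx]
  module

/-- Transvections fixing `a` act on the translation parts. -/
theorem InM.transv (h : IsHermitian B) {a p ω : V} {c : F} (ha : B a a = 0) (hap : B p a = 0)
    (hp : HE H p 0 c) (hω : InM H a ω) : InM H a ((c * B p ω) • p) := by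
  obtain ⟨g, hg, he⟩ := hp
  have h1 := hω.conj hg (by rw [isE_zero_iff.1 he, hap, mul_zero, zero_smul, add_zero])
  have h2 := h1.sub h ha hω
  rwa [isE_zero_iff.1 he, add_sub_cancel_left] at h2

theorem isE_line {g : isomGroup B} {a : V} {θ c : F} :
    IsE g a (θ • a) c ↔ IsE g a 0 (c + θ - σ θ) := by
  refine forall_congr' fun y => ?_
  simp only [map_smulₛₗ, LinearMap.smul_apply, smul_eq_mul, map_zero, LinearMap.zero_apply, smul_zero,
    zero_smul, add_zero, sub_zero]
  constructor <;> intro hg <;> rw [hg] <;> module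

/-- Moving transvection centres along Eichler elements. -/
theorem phi_move (h : IsHermitian B) {a ω X : V} (ha : a ∈ Phi H) (hω : InM H a ω) (hX : X ∈ Phi H)
    (hβ : B a X ≠ 0) {η : F} (hiso : B (X + B a X • ω + η • a) (X + B a X • ω + η • a) = 0) :
    X + B a X • ω + η • a ∈ Phi H := by
  obtain ⟨h0, c, g, hg, he⟩ := hω
  have h1 : g.1 X ∈ Phi H := Phi.conj hg hX
  set β := B a X with hβdef
  set Y := g.1 X with hYdef
  have hY : Y = X + β • ω - B ω X • a + (c * β) • a := he X
  set d := (η + B ω X - c * β) / β with hd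
  have hXY : X + β • ω + η • a = Y + (d * β) • a := by
    rw [hd, div_mul_cancel₀ _ hβ, hY]; module
  have hBaY : B a Y = β := by
    rw [hY]
    simp only [map_add, map_sub, map_smul, smul_eq_mul, h0, ha.1, mul_zero, add_zero, sub_zero, ← hβdef]
  have hdσ : d + σ d = 0 := by
    rw [hXY, h.add_self, h.smul_self, ha.1, h1.1, map_smul, smul_eq_mul, map_mul, ← h.symm a Y, hBaY,
      map_mul] at hiso
    simp only [map_mul, h.conj.invol] at hiso
    have : β * σ β * (d + σ d) = 0 := by linear_combination hiso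
    refine (mul_eq_zero.1 this).resolve_left (mul_ne_zero hβ fun e => hβ ?_)
    rw [← h.conj.invol β, e, map_zero]
  obtain ⟨t, ht, htE⟩ := ha.2 d hdσ
  have := Phi.conj ht h1
  rwa [isE_zero_iff.1 htE, hBaY, ← hXY] at this

/-- All Eichler elements at one centre give all transvection centres. -/
theorem tGroup_le (h : IsHermitian B) (hN : B.SeparatingRight) {a f : V} (ha : a ∈ Phi H) (hf : f ∈ Phi H)
    (haf : B a f ≠ 0) (hM : ∀ ω, B a ω = 0 → InM H a ω) : tGroup B ≤ H := by
  have hall : ∀ X, B X X = 0 → B a X ≠ 0 → X ∈ Phi H := by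
    intro X hX hβ
    set ζ := B a f / B a X with hζ
    set ω := (B a f)⁻¹ • (ζ • X - f) with hω
    have hω0 : B a ω = 0 := by
      rw [hω, map_smul, map_sub, map_smul, smul_eq_mul, smul_eq_mul, hζ, div_mul_cancel₀ _ hβ, sub_self, mul_zero]
    have e : f + B a f • ω + (0 : F) • a = ζ • X := by
      rw [hω, smul_smul, mul_inv_cancel₀ haf, one_smul, zero_smul, add_zero, add_sub_cancel]
    have := phi_move h ha (hM ω hω0) hf haf (η := 0) (by rw [e, h.smul_self, hX, mul_zero])
    rw [e] at this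
    have h2 := Phi.smul h this ζ⁻¹
    rwa [smul_smul, inv_mul_cancel₀ (div_ne_zero haf hβ), one_smul] at h2
  have hevery : ∀ Y, B Y Y = 0 → Y ∈ Phi H := by
    intro Y hY
    by_cases hYa : B a Y = 0
    swap
    · exact hall Y hY hYa
    by_cases hsp : ∃ θ : F, Y = θ • a
    · obtain ⟨θ, rfl⟩ := hsp; exact Phi.smul h ha θ
    -- a centre which is orthogonal to neither
    obtain ⟨X, hX, hXa, hXY⟩ : ∃ X, B X X = 0 ∧ B a X ≠ 0 ∧ B Y X ≠ 0 := by
      by_cases hYf : B Y f = 0
      swap
      · exact ⟨f, hf.1, haf, hYf⟩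
      obtain ⟨ω, hω, hYω⟩ : ∃ ω, B a ω = 0 ∧ B Y ω ≠ 0 := by
        by_contra hcon
        push Not at hcon
        refine hsp ⟨0, ?_⟩
        rw [zero_smul]
        refine hN Y fun x => h.isRefl _ _ ?_
        have := hcon (x - (B a x / B a f) • f)
          (by rw [map_sub, map_smul, smul_eq_mul, div_mul_cancel₀ _ haf, sub_self])
        rwa [map_sub, map_smul, hYf, smul_zero, sub_zero] at this
      set X₀ := f + ω with hX₀
      have hβ : B a X₀ ≠ 0 := by rw [hX₀, map_add, hω, add_zero]; exact haf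
      obtain ⟨e, he⟩ := h.conj.exists_trace_eq (a := -B X₀ X₀) (by rw [map_neg, h.self_fixed])
      refine ⟨X₀ + σ (e / B a X₀) • a, ?_, ?_, ?_⟩
      · rw [h.add_self, h.smul_self, ha.1, map_smul, smul_eq_mul, map_mul, h.symm, mul_zero, add_zero,
          ← h.symm a X₀, map_div₀]
        have hσ : σ (B a X₀) ≠ 0 := fun e => hβ (by rw [← h.conj.invol (B a X₀), e, map_zero])
        simp only [map_div₀, h.conj.invol]
        rw [div_mul_cancel₀ _ hσ, div_mul_cancel₀ _ hβ]
        linear_combination he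
      · rw [map_add, map_smul, ha.1, smul_zero, add_zero]; exact hβ
      · rw [map_add, map_smul, h.isRefl _ _ hYa, smul_zero, add_zero, hX₀, map_add, hYf, zero_add]
        exact hYω
    have hXP := hall X hX hXa
    obtain ⟨c₀, hc₀, hc₀'⟩ := h.conj.exists_trace_zero
    set y := c₀ / B Y X with hy
    have hy0 : y ≠ 0 := div_ne_zero hc₀ hXY
    have hY' : Y + y • X ∈ Phi H := by
      refine hall _ ?_ ?_
      · rw [h.add_self, h.smul_self, hX, hY, map_smul, smul_eq_mul, hy, div_mul_cancel₀ _ hXY, mul_zero,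
          hc₀']
        ring
      · rw [map_add, map_smul, hYa, zero_add, smul_eq_mul]; exact mul_ne_zero hy0 hXa
    have hXY' : B X Y ≠ 0 := fun e => hXY (h.isRefl _ _ e)
    obtain ⟨t, ht, htE⟩ := hXP.2 (-(y / B X Y)) (by
      have e : σ (B X Y) = B Y X := h.symm X Y
      rw [map_neg, map_div₀, e, hy, map_div₀, h.symm Y X]
      have hσc : σ c₀ = -c₀ := eq_neg_of_add_eq_zero_right hc₀'
      rw [hσc]
      field_simp
      ring)
    have h3 := Phi.conj ht hY'
    rw [isE_zero_iff.1 htE, map_add, map_smul, hX, smul_zero, add_zero, neg_mul, div_mul_cancel₀ _ hXY',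
      neg_smul, add_neg_cancel_right] at h3
    exact h3
  refine (Subgroup.closure_le _).2 ?_
  rintro g ⟨v, c, hv, hc, hg⟩
  obtain ⟨k, hk, hkE⟩ := (hevery v hv).2 c hc
  rwa [show g = k from Subtype.ext (LinearEquiv.ext fun x => by rw [hg, isE_zero_iff.1 hkE])]

/-! ### Regular unipotent isometries -/

/-- `u - 1`. -/
def nil (u : isomGroup B) : V →ₗ[F] V := (u.1 : V →ₗ[F] V) - LinearMap.id

theorem nil_apply (u : isomGroup B) (x : V) : nil u x = u.1 x - x := rfl

theorem nil_comm_inv (u : isomGroup B) (j : ℕ) (x : V) :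
    (nil u ^ j) ((u⁻¹ : isomGroup B).1 x) = (u⁻¹ : isomGroup B).1 ((nil u ^ j) x) := by
  induction j generalizing x with
  | zero => rfl
  | succ j ih =>
    rw [pow_succ, Module.End.mul_apply, Module.End.mul_apply, ← ih]
    congr 1
    rw [nil_apply, nil_apply, map_sub, apply_inv_apply, inv_apply_eq u rfl]

theorem form_nil_left (u : isomGroup B) (x y : V) :
    B (nil u x) y = -B x ((u⁻¹ : isomGroup B).1 (nil u y)) := by
  have e : B (u.1 x) y = B x ((u⁻¹ : isomGroup B).1 y) := by
    conv_lhs => rw [← apply_inv_apply u y, isomGroup_apply]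
  rw [nil_apply, nil_apply, map_sub, LinearMap.sub_apply, e, map_sub, inv_apply_eq u rfl, map_sub]
  ring

variable {u : isomGroup B}

theorem form_vanish (hu : CfsgLib.KnownC.RegNilp.Reg (nil u)) :
    ∀ i j : ℕ, finrank F V ≤ i + j → ∀ x y, B ((nil u ^ i) x) ((nil u ^ j) y) = 0 := by
  intro i
  induction i with
  | zero =>
    intro j hj x y
    obtain ⟨d, rfl⟩ : ∃ d, j = finrank F V + d := ⟨j - finrank F V, by omega⟩
    rw [pow_add, hu.nil, zero_mul, LinearMap.zero_apply, map_zero]
  | succ i ih =>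
    intro j hj x y
    rw [pow_succ' (nil u) i, Module.End.mul_apply, form_nil_left, ← Module.End.mul_apply (nil u),
      ← pow_succ', ← nil_comm_inv, ih (j + 1) (by omega), neg_zero]

theorem form_swap (hu : CfsgLib.KnownC.RegNilp.Reg (nil u)) {i j : ℕ} (hij : finrank F V ≤ i + j + 2)
    (x y : V) : B ((nil u ^ (i + 1)) x) ((nil u ^ j) y) = -B ((nil u ^ i) x) ((nil u ^ (j + 1)) y) := by
  rw [pow_succ' (nil u) i, Module.End.mul_apply, form_nil_left, ← Module.End.mul_apply (nil u),
    ← pow_succ', neg_inj]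
  set z := (nil u ^ (j + 1)) y with hz
  have e : (u⁻¹ : isomGroup B).1 z = z - (nil u ^ (j + 2)) ((u⁻¹ : isomGroup B).1 y) := by
    rw [nil_comm_inv, pow_succ' (nil u) (j + 1), Module.End.mul_apply, ← hz, nil_apply, map_sub, inv_apply_eq u rfl]
    abel
  rw [e, map_sub, form_vanish hu i (j + 2) (by omega), sub_zero]

/-- The anti-diagonal of the Gram matrix. -/
theorem form_antidiag (hu : CfsgLib.KnownC.RegNilp.Reg (nil u)) (x y : V) :
    ∀ j i : ℕ, i + j + 1 = finrank F V →
      B ((nil u ^ i) x) ((nil u ^ j) y) = (-1) ^ j * B ((nil u ^ (finrank F V - 1)) x) y := by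
  intro j
  induction j with
  | zero => intro i hi; rw [show i = finrank F V - 1 by omega]; simp
  | succ j ih =>
    intro i hi
    have := form_swap hu (i := i) (j := j) (by omega) x y
    rw [ih (i + 1) (by omega)] at this
    rw [pow_succ (-1 : F)]
    linear_combination this

/-- The fixed vector is not orthogonal to a cyclic one. -/
theorem form_top_ne (hu : CfsgLib.KnownC.RegNilp.Reg (nil u)) (h : IsHermitian B) (hN : B.SeparatingRight)
    {y : V} (hy : (nil u ^ (finrank F V - 1)) y ≠ 0) : B ((nil u ^ (finrank F V - 1)) y) y ≠ 0 := by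
  intro h0
  refine hy (hN _ fun x => h.isRefl _ _ ?_)
  have hx := CfsgLib.KnownC.RegNilp.span_cyclic hu hy
  have : x ∈ Submodule.span F (Set.range fun i : ℕ => (nil u ^ i) y) := by
    refine Submodule.span_mono ?_ (hx.symm ▸ Submodule.mem_top : x ∈ Submodule.span F
      (Set.range fun i : Fin (finrank F V) => (nil u ^ (i : ℕ)) y))
    rintro _ ⟨i, rfl⟩
    exact ⟨i.val, rfl⟩
  induction this using Submodule.span_induction with
  | mem v hv =>
    obtain ⟨i, rfl⟩ := hv
    rcases Nat.eq_zero_or_pos i with rfl | hi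
    · simpa using h0
    · exact form_vanish hu _ _ (by omega) _ _
  | zero => rw [map_zero]
  | add v v' _ _ e e' => rw [map_add, e, e', add_zero]
  | smul c v _ e => rw [map_smul, e, smul_zero]

end CfsgLib.Classical.SUUnipotent
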