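import Cfsg.Agent.Lib.Classical.SUUnipotentBasic
import Cfsg.Agent.Lib.Classical.SUUnipotentField

/-!
# Three conjugate regular unipotents in a unitary group of dimension at least five
-/

set_option autoImplicit false
set_option linter.unusedSectionVars false

open Module

namespace CfsgLib.Classical.SUUnipotent

variable {F : Type*} [Field F] {V : Type*} [AddCommGroup V] [Module F V] {σ : F →+* F}
  {B : V →ₛₗ[σ] V →ₗ[F] F} {u : isomGroup B} [Fintype F] [FiniteDimensional F V]

theorem apply_eq_nil (u : isomGroup B) (x : V) : u.1 x = x + nil u x := by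
  rw [nil_apply]; abel

theorem nil_self (h : IsHermitian B) (u : isomGroup B) (y : V) :
    B y (nil u y) + σ (B y (nil u y)) + B (nil u y) (nil u y) = 0 := by
  have e := isomGroup_apply u y y
  rw [apply_eq_nil, h.add_self] at e
  linear_combination e

theorem linearIndependent_three {v : Fin 3 → V} {κ : F} (hκ : κ ≠ 0) (h : IsHermitian B) (h0 : v 0 ≠ 0)
    (h11 : B (v 1) (v 1) = 0) (h22 : B (v 2) (v 2) = 0) (h10 : B (v 1) (v 0) = 0) (h20 : B (v 2) (v 0) = 0)
    (h12 : B (v 1) (v 2) = κ) : LinearIndependent F v := by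
  have h21 : B (v 2) (v 1) ≠ 0 := by
    rw [← h.symm, h12]
    exact fun e => hκ (by rw [← h.conj.invol κ, e, map_zero])
  refine Fintype.linearIndependent_iff.2 fun g hg => ?_
  rw [Fin.sum_univ_three] at hg
  have e1 := congrArg (B (v 1)) hg
  have e2 := congrArg (B (v 2)) hg
  simp only [map_add, map_smul, map_zero, smul_eq_mul, h11, h22, h10, h20, h12, mul_zero, zero_add, add_zero] at e1 e2
  have hg2 := (mul_eq_zero.1 e1).resolve_right hκ
  have hg1 := (mul_eq_zero.1 e2).resolve_right h21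
  rw [hg1, hg2, zero_smul, zero_smul, add_zero, add_zero] at hg
  have hg0 := (smul_eq_zero.1 hg).resolve_right h0
  intro i
  fin_cases i <;> assumption

/-- Vectors orthogonal to the fixed vector lie in the image of `u - 1`. -/
theorem perp_top_mem (hu : CfsgLib.KnownC.RegNilp.Reg (nil u)) {a x : V}
    (hx : (nil u ^ (finrank F V - 1)) x ≠ 0) (hax : B a x ≠ 0) (ha : ∀ v, B a (nil u v) = 0) {ω : V}
    (hω : B a ω = 0) : ω ∈ Submodule.span F (Set.range fun i : ℕ => (nil u ^ (i + 1)) x) := by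
  have hsp := CfsgLib.KnownC.RegNilp.span_cyclic hu hx
  obtain ⟨g, hg⟩ := (Submodule.mem_span_range_iff_exists_fun F).1
    (hsp.symm ▸ Submodule.mem_top : ω ∈ Submodule.span F
      (Set.range fun i : Fin (finrank F V) => (nil u ^ (i : ℕ)) x))
  subst hg
  refine Submodule.sum_mem _ fun i _ => ?_
  rcases Nat.eq_zero_or_pos (i : ℕ) with hi | hi
  · have e : g i * B a x = 0 := by
      rw [map_sum, Finset.sum_eq_single i] at hω
      · rwa [map_smul, hi, pow_zero, Module.End.one_apply, smul_eq_mul] at hω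
      · intro j _ hj
        have hj0 : (j : ℕ) ≠ 0 := fun e => hj (Fin.ext (e.trans hi.symm))
        obtain ⟨l, hl⟩ : ∃ l, (j : ℕ) = l + 1 := ⟨(j : ℕ) - 1, by omega⟩
        rw [map_smul, hl, pow_succ', Module.End.mul_apply, ha, smul_zero]
      · simp
    rw [(mul_eq_zero.1 e).resolve_right hax, zero_smul]
    exact zero_mem _
  · exact Submodule.smul_mem _ _ (Submodule.subset_span ⟨(i : ℕ) - 1, by
      show (nil u ^ ((i : ℕ) - 1 + 1)) x = _
      rw [show (i : ℕ) - 1 + 1 = i by omega]⟩)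

variable (h : IsHermitian B) (hu : CfsgLib.KnownC.RegNilp.Reg (nil u))
include h hu

/-- A convenient cyclic vector. -/
theorem exists_good (hN : B.SeparatingRight) (hn : 5 ≤ finrank F V) :
    ∃ y, (nil u ^ (finrank F V - 1)) y ≠ 0 ∧ B y y = 0 ∧ B y (nil u y) = 0 ∧ B (nil u y) (nil u y) = 0 := by
  set P := nil u with hP
  set n := finrank F V with hnd
  have hPP : ∀ (i : ℕ) (x : V), P ((P ^ i) x) = (P ^ (i + 1)) x := fun i x => by
    rw [pow_succ', Module.End.mul_apply]
  have hP1 : ∀ x : V, P x = (P ^ 1) x := fun x => by rw [pow_one]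
  have htop : ∀ (x : V) (t : F) (i : ℕ), 1 ≤ i → (P ^ (n - 1)) (x + t • (P ^ i) x) = (P ^ (n - 1)) x := by
    intro x t i hi
    obtain ⟨d, hd⟩ : ∃ d, n - 1 + i = n + d := ⟨n - 1 + i - n, by omega⟩
    rw [map_add, map_smul, ← Module.End.mul_apply, ← pow_add, hd, pow_add, hu.nil, zero_mul,
      LinearMap.zero_apply, smul_zero, add_zero]
  obtain ⟨y, hy⟩ := CfsgLib.KnownC.RegNilp.exists_cyclic hu (by omega)
  obtain ⟨e₁, he₁⟩ := h.conj.exists_trace_eq (a := (1 : F)) (map_one σ)
  -- the image becomes isotropic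
  obtain ⟨y, hy, hN1⟩ : ∃ y, (P ^ (n - 1)) y ≠ 0 ∧ B (P y) (P y) = 0 := by
    set γ := B (P y) ((P ^ (n - 2)) y)
    have hγ : γ ≠ 0 := by
      show B (P y) ((P ^ (n - 2)) y) ≠ 0
      rw [hP1, form_antidiag hu y y (n - 2) 1 (by omega)]
      exact mul_ne_zero (pow_ne_zero _ (neg_ne_zero.2 one_ne_zero)) (form_top_ne hu h hN hy)
    obtain ⟨e, he⟩ := h.conj.exists_trace_eq (a := -B (P y) (P y)) (by rw [map_neg, h.self_fixed])
    refine ⟨y + (e / γ) • (P ^ (n - 3)) y, by rw [htop y _ _ (by omega)]; exact hy, ?_⟩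
    rw [map_add P, map_smul P, hPP, show n - 3 + 1 = n - 2 by omega, h.add_self, h.smul_self,
      form_vanish hu (n - 2) (n - 2) (by omega), map_smul, smul_eq_mul, div_mul_cancel₀ _ hγ]
    linear_combination he
  -- the inner product with the image vanishes
  obtain ⟨y, hy, hN1, hb⟩ : ∃ y, (P ^ (n - 1)) y ≠ 0 ∧ B (P y) (P y) = 0 ∧ B y (P y) = 0 := by
    set β := B ((P ^ (n - 1)) y) y with hβ
    have hβ0 : β ≠ 0 := form_top_ne hu h hN hy
    have hσβ : σ β ≠ 0 := fun e => hβ0 (by rw [← h.conj.invol β, e, map_zero])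
    set b := B y (P y) with hbdef
    have hbσ : σ b = -b := by
      have := nil_self h u y
      rw [← hP, hN1, ← hbdef, add_zero] at this
      exact eq_neg_of_add_eq_zero_right this
    refine ⟨y + (-(b * e₁) / σ β) • (P ^ (n - 2)) y, by rw [htop y _ _ (by omega)]; exact hy, ?_, ?_⟩
    · rw [map_add P, map_smul P, hPP, show n - 2 + 1 = n - 1 by omega, h.add_self, h.smul_self,
        form_vanish hu (n - 1) (n - 1) (by omega), map_smul, hP1,
        form_vanish hu 1 (n - 1) (by omega), ← hP1, hN1]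
      simp
    · have e1 : B y ((P ^ (n - 1)) y) = σ β := (h.symm _ _).symm
      have e2 : B ((P ^ (n - 2)) y) (P y) = -β := by
        rw [hP1, form_antidiag hu y y 1 (n - 2) (by omega), pow_one, neg_one_mul]
      rw [map_add P, map_smul P, hPP, show n - 2 + 1 = n - 1 by omega]
      simp only [map_add, map_smul, map_smulₛₗ, LinearMap.add_apply, LinearMap.smul_apply, smul_eq_mul,
        RingHom.id_apply]
      rw [e1, e2, show B ((P ^ (n - 2)) y) ((P ^ (n - 1)) y) = 0 from form_vanish hu _ _ (by omega) _ _,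
        ← hbdef, map_div₀, h.conj.invol, map_neg, map_mul, hbσ]
      simp only [mul_zero, add_zero]
      field_simp
      linear_combination -b * he₁
  -- isotropic
  set β := B ((P ^ (n - 1)) y) y with hβ
  have hβ0 : β ≠ 0 := form_top_ne hu h hN hy
  have hσβ : σ β ≠ 0 := fun e => hβ0 (by rw [← h.conj.invol β, e, map_zero])
  obtain ⟨e, he⟩ := h.conj.exists_trace_eq (a := -B y y) (by rw [map_neg, h.self_fixed])
  have hPa : P ((P ^ (n - 1)) y) = 0 := by
    rw [hPP, show n - 1 + 1 = n by omega, hu.nil, LinearMap.zero_apply]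
  have hPy : P (y + (e / σ β) • (P ^ (n - 1)) y) = P y := by
    rw [map_add, map_smul, hPa, smul_zero, add_zero]
  refine ⟨y + (e / σ β) • (P ^ (n - 1)) y, by rw [htop y _ _ (by omega)]; exact hy, ?_, ?_, by rw [hPy]; exact hN1⟩
  · rw [h.add_self, h.smul_self, form_vanish hu (n - 1) (n - 1) (by omega), map_smul, smul_eq_mul,
      ← h.symm ((P ^ (n - 1)) y) y, ← hβ, div_mul_cancel₀ _ hσβ]
    linear_combination he
  · rw [hPy, map_add, LinearMap.add_apply, map_smulₛₗ, LinearMap.smul_apply, hb, hP1,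
      form_vanish hu (n - 1) 1 (by omega)]
    simp

/-- Three conjugates generate, in dimension at least five. -/
theorem big_case (hN : B.SeparatingRight) (hn : 5 ≤ finrank F V) :
    ∃ g k : isomGroup B, idet B g = 1 ∧ idet B k = 1 ∧
      tGroup B ≤ Subgroup.closure ({u, g * u * g⁻¹, k * u * k⁻¹} : Set (isomGroup B)) := by
  classical
  set P := nil u with hP
  set n := finrank F V with hnd
  have hPP : ∀ (i : ℕ) (x : V), P ((P ^ i) x) = (P ^ (i + 1)) x := fun i x => by
    rw [pow_succ', Module.End.mul_apply]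
  have hP1 : ∀ x : V, P x = (P ^ 1) x := fun x => by rw [pow_one]
  have hP11 : ∀ x : V, P (P x) = (P ^ 2) x := fun x => by rw [hP1 x, hPP]
  obtain ⟨y, hy, hyy, hyPy, hPyPy⟩ := exists_good h hu hN hn
  set a := (P ^ (n - 1)) y with ha
  set z := (P ^ (n - 2)) y with hz
  have haa : B a a = 0 := form_vanish hu _ _ (by omega) _ _
  have haz : B a z = 0 := form_vanish hu _ _ (by omega) _ _
  have hzz : B z z = 0 := form_vanish hu _ _ (by omega) _ _
  have hza : B z a = 0 := h.isRefl _ _ haz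
  have haP : ∀ v, B a (P v) = 0 := fun v => by rw [hP1]; exact form_vanish hu _ _ (by omega) _ _
  set β := B a y with hβ
  have hβ0 : β ≠ 0 := form_top_ne hu h hN hy
  have hua : u.1 a = a := by
    rw [apply_eq_nil, ← hP, ha, hPP, show n - 1 + 1 = n by omega, hu.nil, LinearMap.zero_apply, add_zero]
  have huz : u.1 z = z + a := by
    rw [apply_eq_nil, ← hP, hz, hPP, show n - 2 + 1 = n - 1 by omega, ← ha]
  -- the first exponent with non-orthogonal image
  have hpow : ∀ i : ℕ, (u ^ (i + 1)).1 y = u.1 ((u ^ i).1 y) := fun i => by rw [pow_succ', mul_apply_iso]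
  have hex : ∃ i, B y ((u ^ i).1 y) ≠ 0 := by
    by_contra hall
    push Not at hall
    have key : ∀ i j, B y ((P ^ i) ((u ^ j).1 y)) = 0 := by
      intro i
      induction i with
      | zero => exact hall
      | succ i ih =>
        intro j
        have e : (P ^ (i + 1)) ((u ^ j).1 y) = (P ^ i) ((u ^ (j + 1)).1 y) - (P ^ i) ((u ^ j).1 y) := by
          rw [← map_sub, hpow, pow_succ, Module.End.mul_apply, hP, nil_apply]
        rw [e, map_sub, ih, ih, sub_zero]
    exact hβ0 (h.isRefl _ _ (key (n - 1) 0))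
  set r := Nat.find hex with hr
  set κ := B y ((u ^ r).1 y) with hκdef
  have hκ : κ ≠ 0 := Nat.find_spec hex
  have hr2 : 2 ≤ r := by
    by_contra hlt
    rcases (by omega : r = 0 ∨ r = 1) with e | e <;> apply hκ <;> rw [hκdef, e]
    · rw [pow_zero]; exact hyy
    · rw [pow_one, apply_eq_nil, map_add, hyy, hyPy, add_zero]
  -- the vector `d`
  have hBzPy : B z (P y) = -β := by
    rw [hP1, hz, form_antidiag hu y y 1 (n - 2) (by omega), pow_one, neg_one_mul]
  obtain ⟨w, hww, haw, hzw, hPw⟩ :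
      ∃ w, B w w = 0 ∧ B a w = 0 ∧ B z w = -β ∧ B (P w) (P w) ≠ 0 := by
    by_cases hN2 : B ((P ^ 2) y) ((P ^ 2) y) = 0
    swap
    · exact ⟨P y, hPyPy, haP y, hBzPy, by rw [hP11]; exact hN2⟩
    have hn6 : 6 ≤ n := by
      by_contra hlt
      rw [form_antidiag hu y y 2 2 (by omega)] at hN2
      exact (mul_ne_zero (pow_ne_zero _ (neg_ne_zero.2 one_ne_zero)) hβ0) hN2
    obtain ⟨e₁, he₁⟩ := h.conj.exists_trace_eq (a := (1 : F)) (map_one σ)
    set γ := B ((P ^ 2) y) ((P ^ (n - 3)) y)
    have hγ : γ ≠ 0 := by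
      show B ((P ^ 2) y) ((P ^ (n - 3)) y) ≠ 0
      rw [form_antidiag hu y y (n - 3) 2 (by omega)]
      exact mul_ne_zero (pow_ne_zero _ (neg_ne_zero.2 one_ne_zero)) hβ0
    set w₀ := P y + (e₁ / γ) • (P ^ (n - 4)) y with hw₀
    obtain ⟨e₂, he₂⟩ := h.conj.exists_trace_eq (a := -B w₀ w₀) (by rw [map_neg, h.self_fixed])
    set γ' := B w₀ z with hγ'
    have hγ'0 : γ' ≠ 0 := by
      rw [hγ', hw₀, map_add, LinearMap.add_apply, map_smulₛₗ, LinearMap.smul_apply, hz,
        form_vanish hu (n - 4) (n - 2) (by omega), smul_zero, add_zero, hP1,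
        form_antidiag hu y y (n - 2) 1 (by omega)]
      exact mul_ne_zero (pow_ne_zero _ (neg_ne_zero.2 one_ne_zero)) hβ0
    have hPw₀ : P (w₀ + (e₂ / γ') • z) = (P ^ 2) y + (e₁ / γ) • (P ^ (n - 3)) y + (e₂ / γ') • a := by
      rw [hw₀, map_add, map_add, map_smul, map_smul, hP11, hPP, hz, hPP, ha]
      rw [show n - 4 + 1 = n - 3 by omega, show n - 2 + 1 = n - 1 by omega]
    refine ⟨w₀ + (e₂ / γ') • z, ?_, ?_, ?_, ?_⟩
    · rw [h.add_self, h.smul_self, hzz, map_smul, smul_eq_mul, ← hγ', div_mul_cancel₀ _ hγ'0]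
      linear_combination he₂
    · rw [map_add, map_smul, haz, smul_zero, add_zero, hw₀, map_add, map_smul, haP,
        ha, form_vanish hu (n - 1) (n - 4) (by omega), smul_zero, add_zero]
    · rw [map_add, map_smul, hzz, smul_zero, add_zero, hw₀, map_add, map_smul, hBzPy, hz,
        form_vanish hu (n - 2) (n - 4) (by omega), smul_zero, add_zero]
    · have z1 : B ((P ^ 2) y) a = 0 := form_vanish hu _ _ (by omega) _ _
      have z2 : B ((P ^ (n - 3)) y) a = 0 := form_vanish hu _ _ (by omega) _ _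
      have z3 : B ((P ^ (n - 3)) y) ((P ^ (n - 3)) y) = 0 := form_vanish hu _ _ (by omega) _ _
      have eX : B ((P ^ 2) y + (e₁ / γ) • (P ^ (n - 3)) y) ((e₂ / γ') • a) = 0 := by
        simp [z1, z2]
      have eN : B ((P ^ 2) y + (e₁ / γ) • (P ^ (n - 3)) y) ((P ^ 2) y + (e₁ / γ) • (P ^ (n - 3)) y) = 1 := by
        rw [h.add_self, h.smul_self, hN2, z3, map_smul, smul_eq_mul, div_mul_cancel₀ _ hγ]
        linear_combination he₁
      rw [hPw₀, h.add_self, h.smul_self, haa, eN, eX, map_zero]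
      simp
  set μ := κ / -β with hμdef
  have hμ0 : μ ≠ 0 := div_ne_zero hκ (neg_ne_zero.2 hβ0)
  set d := μ • w with hddef
  have hdd : B d d = 0 := by rw [hddef, h.smul_self, hww, mul_zero]
  have had : B a d = 0 := by rw [hddef, map_smul, haw, smul_zero]
  have hzd : B z d = κ := by
    rw [hddef, map_smul, hzw, smul_eq_mul, hμdef, div_mul_cancel₀ _ (neg_ne_zero.2 hβ0)]
  set τ := B d (u.1 d) with hτ
  have htr : τ + σ τ ≠ 0 := by
    have e := nil_self h u d
    rw [hτ, apply_eq_nil, map_add, hdd, zero_add, ← hP]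
    rw [← hP, hddef, map_smul P, h.smul_self μ (P w), ← map_smul P, ← hddef] at e
    intro h0
    rw [h0, zero_add] at e
    have : σ μ ≠ 0 := fun e => hμ0 (by rw [← h.conj.invol μ, e, map_zero])
    exact mul_ne_zero (mul_ne_zero hμ0 this) hPw e
  have hτ0 : τ ≠ 0 := fun e => htr (by rw [e, map_zero, add_zero])
  -- the conjugating element
  set y₁ := (u⁻¹ : isomGroup B).1 y with hy₁
  set y₂ := (u ^ (r - 1)).1 y with hy₂
  have hu1 : u.1 y₁ = y := apply_inv_apply u y
  have hu2 : u.1 y₂ = (u ^ r).1 y := by rw [hy₂, ← hpow, show r - 1 + 1 = r by omega]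
  have g02 : B y y₂ = 0 := by
    by_contra h0
    exact Nat.find_min hex (show r - 1 < r by omega) h0
  have g01 : B y y₁ = 0 := by
    have e : B y y₁ = B (u.1 y) y := by rw [← isomGroup_apply u y y₁, hu1]
    rw [e, apply_eq_nil, map_add, LinearMap.add_apply, hyy, h.isRefl _ _ hyPy, add_zero]
  have g11 : B y₁ y₁ = 0 := by rw [← isomGroup_apply u, hu1, hyy]
  have g22 : B y₂ y₂ = 0 := by rw [hy₂, isomGroup_apply, hyy]
  have g12 : B y₁ y₂ = κ := by rw [← isomGroup_apply u, hu1, hu2]
  have hy0 : y ≠ 0 := fun e => hy (by rw [ha, e, map_zero])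
  have ha0 : a ≠ 0 := hy
  have hindS : LinearIndependent F ![y, y₁, y₂] :=
    linearIndependent_three hκ h (by simpa using hy0) g11 g22 (h.isRefl _ _ g01) (h.isRefl _ _ g02) g12
  have hindT : LinearIndependent F ![a, z, d] :=
    linearIndependent_three hκ h (by simpa using ha0) hzz hdd hza (h.isRefl _ _ had) hzd
  obtain ⟨k₀, hk₀⟩ := h.witt_family hN hindS hindT (fun i j => by
    fin_cases i <;> fin_cases j
    · exact hyy.trans haa.symm
    · exact g01.trans haz.symm
    · exact g02.trans had.symm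
    · exact (h.isRefl _ _ g01).trans hza.symm
    · exact g11.trans hzz.symm
    · exact g12.trans hzd.symm
    · exact (h.isRefl _ _ g02).trans (h.isRefl _ _ had).symm
    · exact ((h.symm _ _).symm.trans ((congrArg σ (g12.trans hzd.symm)).trans (h.symm _ _)))
    · exact g22.trans hdd.symm)
  -- an anisotropic vector orthogonal to all three
  obtain ⟨v, hv, hva, hvz, hvd⟩ : ∃ v, B v v ≠ 0 ∧ B v a = 0 ∧ B v z = 0 ∧ B v d = 0 := by
    set d' := κ⁻¹ • d
    have hd' : B z d' = 1 := by rw [map_smul, hzd, smul_eq_mul, inv_mul_cancel₀ hκ]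
    have hP2 := h.nondegOn_hyp hzz hd'
    have hP2d := h.finrank_hyp hzz hd'
    set W := perp B (Submodule.span F {z, d'}) with hW
    have hWn : NondegOn B W := nondegOn_perp hN hP2
    have hWd := hP2.finrank_perp
    rw [hP2d] at hWd
    have haW : a ∈ W := mem_perp_span.2 (by
      rintro x (rfl | rfl)
      · exact hza
      · rw [map_smulₛₗ, LinearMap.smul_apply, h.isRefl _ _ had, smul_zero])
    obtain ⟨s, hsW, hss, has⟩ := h.exists_partner hWn haW ha0 haa
    obtain ⟨hU, hUd⟩ := h.finrank_inf_perp (h.nondegOn_hyp haa has) hWn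
      (Submodule.span_le.2 (by rintro x (rfl | rfl) <;> assumption))
    rw [h.finrank_hyp haa has] at hUd
    rw [← hW] at hWd
    have hpos : 0 < finrank F (↥(W ⊓ perp B (Submodule.span F {a, s}))) := by omega
    obtain ⟨v, hv, hv1⟩ := h.exists_unit_in hU hpos (a := (1 : F)) (map_one σ)
    have e1 := mem_perp_span.1 hv.1 z (by simp)
    have e2 := mem_perp_span.1 hv.1 d' (by simp)
    have e3 := mem_perp_span.1 hv.2 a (by simp)
    refine ⟨v, by rw [hv1]; exact one_ne_zero, h.isRefl _ _ e3, h.isRefl _ _ e1, h.isRefl _ _ ?_⟩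
    rw [map_smulₛₗ, LinearMap.smul_apply, smul_eq_zero] at e2
    exact e2.resolve_left fun e => inv_ne_zero hκ (by rw [← h.conj.invol κ⁻¹, e, map_zero])
  have hl : (idet B k₀)⁻¹ * σ (idet B k₀)⁻¹ = 1 := by rw [map_inv₀, ← mul_inv, h.idet_norm hN, inv_one]
  obtain ⟨qr, hqr, hqd⟩ := h.exists_qr hN hv hl
  set k := qr * k₀ with hk
  have hkdet : idet B k = 1 := by
    rw [hk, map_mul, hqd, inv_mul_cancel₀]
    intro e
    simpa [e] using h.idet_norm hN k₀
  have hqfix : ∀ x, B v x = 0 → qr.1 x = x := fun x hx => by rw [hqr, hx, mul_zero, zero_smul, add_zero]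
  have hky : k.1 y = a := by
    rw [hk, mul_apply_iso, show k₀.1 y = a from hk₀ 0, hqfix _ hva]
  have hky₁ : k.1 y₁ = z := by
    rw [hk, mul_apply_iso, show k₀.1 y₁ = z from hk₀ 1, hqfix _ hvz]
  have hky₂ : k.1 y₂ = d := by
    rw [hk, mul_apply_iso, show k₀.1 y₂ = d from hk₀ 2, hqfix _ hvd]
  -- the scalar
  obtain ⟨c₀, hc₀, hc₀σ⟩ := h.conj.exists_trace_zero
  have hσc₀ : σ c₀ = -c₀ := eq_neg_of_add_eq_zero_right hc₀σ
  obtain ⟨ν, hνσ, hν0, hνgen⟩ := exists_gen_square (σ := σ) (C := c₀ * c₀ * (τ * σ τ))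
    (by rw [map_mul, map_mul, hσc₀, h.conj.norm_fixed]; ring)
    (mul_ne_zero (mul_ne_zero hc₀ hc₀) (mul_ne_zero hτ0 fun e => hτ0 (by rw [← h.conj.invol τ, e, map_zero])))
  set c := ν * c₀ with hc
  have hc0 : c ≠ 0 := mul_ne_zero hν0 hc₀
  have hσc : σ c = -c := by rw [hc, map_mul, hνσ, hσc₀, mul_neg]
  have hcσ : c + σ c = 0 := by rw [hσc, add_neg_cancel]
  obtain ⟨e₁, he₁⟩ := h.conj.exists_trace_eq (a := (1 : F)) (map_one σ)
  set s := -(c * e₁) with hs
  have hsc : σ s - s = c := by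
    rw [hs, map_neg, map_mul, hσc]
    linear_combination c * he₁
  obtain ⟨g, hgE, hgdet⟩ := exists_isE h hN (a := a) (ω := s • z) (c := 0) haa
    (by rw [map_smul, haz, smul_zero]) (by rw [map_zero, add_zero, h.smul_self, hzz, mul_zero, neg_zero])
  obtain ⟨t, htE, -⟩ := exists_isE h hN (a := a) (ω := 0) (c := c) haa (map_zero _) (by simp [hcσ])
  have ht : g * u * g⁻¹ * u⁻¹ = t := by
    have e1 := hgE.conj u
    rw [hua, map_smul, huz, smul_add] at e1
    have hg' : IsE (t * (u * g * u⁻¹)) a (s • z) 0 := by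
      have e2 := htE.mul e1 haa (by rw [map_zero, LinearMap.zero_apply]) (by
        rw [map_add, map_smul, map_smul, haz, haa, smul_zero, add_zero])
      intro x
      rw [e2 x]
      simp only [map_add, map_smul, map_smulₛₗ, map_zero, LinearMap.add_apply, LinearMap.smul_apply,
        LinearMap.zero_apply, RingHom.id_apply, smul_eq_mul]
      rw [← hsc]
      module
    have : g = t * (u * g * u⁻¹) := hgE.unique hg'
    calc g * u * g⁻¹ * u⁻¹ = g * (u * g * u⁻¹)⁻¹ := by group
      _ = t := by rw [mul_inv_eq_iff_eq_mul]; exact this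
  refine ⟨g, k, hgdet, hkdet, ?_⟩
  set H := Subgroup.closure ({u, g * u * g⁻¹, k * u * k⁻¹} : Set (isomGroup B))
  have huH : u ∈ H := Subgroup.subset_closure (Or.inl rfl)
  have hgH : g * u * g⁻¹ ∈ H := Subgroup.subset_closure (Or.inr (Or.inl rfl))
  have hvH : k * u * k⁻¹ ∈ H := Subgroup.subset_closure (Or.inr (Or.inr rfl))
  set vv := k * u * k⁻¹ with hvv
  have hvk : ∀ (i : ℕ) (x : V), (vv ^ i).1 (k.1 x) = k.1 ((u ^ i).1 x) := fun i x => by
    rw [hvv, conj_pow, mul_apply_iso, mul_apply_iso, inv_apply_eq k rfl]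
  have hvz : (vv⁻¹ : isomGroup B).1 a = z := by
    refine inv_apply_eq _ ?_
    have := hvk 1 y₁
    rwa [pow_one, pow_one, hu1, hky, hky₁] at this
  have hvd : (vv ^ (r - 1)).1 a = d := by
    rw [← hky, hvk, ← hy₂, hky₂]
  have huz' : u.1 z = z + a := huz
  have hcX : HE H a 0 c := ⟨t, ht ▸ mul_mem hgH (inv_mem huH), htE⟩
  -- transvections at the images
  have hHz : ∀ x, HE H a 0 x → HE H z 0 x := fun x hx => by
    have := hx.conj (inv_mem hvH)
    rwa [hvz, map_zero] at this
  have hHza : ∀ x, HE H a 0 x → HE H (z + a) 0 x := fun x hx => by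
    have := (hHz x hx).conj huH
    rwa [huz', map_zero] at this
  have hHd : ∀ x, HE H a 0 x → HE H d 0 x := fun x hx => by
    have := hx.conj (pow_mem hvH (r - 1))
    rwa [hvd, map_zero] at this
  have hHud : ∀ x, HE H a 0 x → HE H (u.1 d) 0 x := fun x hx => by
    have := (hHd x hx).conj huH
    rwa [map_zero] at this
  set p := u.1 d with hp
  have hpa : B p a = 0 := by rw [hp, ← hua, isomGroup_apply, h.isRefl _ _ had]
  have hda : B d a = 0 := h.isRefl _ _ had
  have hpz : B p z = σ κ := by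
    rw [hp, show z = u.1 z - a by rw [huz', add_sub_cancel_right], map_sub, isomGroup_apply, hpa, sub_zero,
      ← h.symm, hzd]
  have hzp : B z p = κ := by rw [← h.symm, hpz, h.conj.invol]
  have hdz : B d z = σ κ := by rw [← h.symm, hzd]
  have hpd : B p d = σ τ := by rw [hτ, h.symm]
  have hdp : B d p = τ := rfl
  -- translation parts
  let X : AddSubgroup F :=
    { carrier := {x | x + σ x = 0 ∧ HE H a 0 x}
      zero_mem' := ⟨by rw [map_zero, add_zero], he_one⟩
      add_mem' := fun {x x'} hx hx' => ⟨by rw [map_add]; linear_combination hx.1 + hx'.1, by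
        have := hx.2.mul hx'.2 haa (by rw [map_zero, LinearMap.zero_apply]) (map_zero _)
        simpa using this⟩
      neg_mem' := fun {x} hx => ⟨by rw [map_neg]; linear_combination -hx.1, by
        have := hx.2.inv haa (map_zero _) (by rw [map_zero, LinearMap.zero_apply])
        simpa using this⟩ }
  have hcmem : c ∈ X := ⟨hcσ, hcX⟩
  have hw1 : ∀ x ∈ X, InM H a (x • z) := fun x hx =>
    inM_of_pair h haz hzz hx.1 (hHza x hx.2) (hHz _ (neg_mem hx).2)
  have hw2 : ∀ x x', x ∈ X → x' ∈ X → InM H a ((x' * x * σ κ) • p) := fun x x' hx hx' => by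
    have := (hw1 x hx).transv h haa hpa (hHud _ hx'.2)
    rwa [map_smul, hpz, smul_eq_mul, ← mul_assoc] at this
  have hd2 : ∀ x x', x ∈ X → x' ∈ X → InM H a ((x' * x * σ κ) • d) := fun x x' hx hx' => by
    have := (hw1 x hx).transv h haa hda (hHd _ hx'.2)
    rwa [map_smul, hdz, smul_eq_mul, ← mul_assoc] at this
  have hstep_d : ∀ m, InM H a (m • p) → InM H a ((c * m * τ) • d) := fun m hm => by
    have := hm.transv h haa hda (hHd _ hcX)
    rwa [map_smul, hdp, smul_eq_mul, ← mul_assoc] at this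
  have hstep_p : ∀ m, InM H a (m • d) → InM H a ((c * m * σ τ) • p) := fun m hm => by
    have := hm.transv h haa hpa (hHud _ hcX)
    rwa [map_smul, hpd, smul_eq_mul, ← mul_assoc] at this
  have hcomm : ∀ (m : F) (e : V), B z e = κ → InM H a (m • e) → ∀ x ∈ X, (m * κ + σ (m * κ)) * x ∈ X := by
    intro m e he hme x hx
    refine ⟨?_, ?_⟩
    · simp only [map_mul, map_add, h.conj.invol]; linear_combination (m * κ + σ m * σ κ) * hx.1
    have := he_comm h haa (hw1 x hx) hme
    have e1 : B e z = σ κ := by rw [← h.symm, he]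
    simp only [map_smul, map_smulₛₗ, LinearMap.smul_apply, RingHom.id_apply, smul_eq_mul, he, e1,
      eq_neg_of_add_eq_zero_right hx.1] at this
    convert this using 1
    rw [map_mul]
    ring
  have m1 : InM H a ((c * c * σ κ) • d) := hd2 c c hcmem hcmem
  have m1' : InM H a ((c * c * σ κ) • p) := hw2 c c hcmem hcmem
  have m2 : InM H a ((c * (c * c * σ κ) * τ) • d) := hstep_d _ m1'
  have m3 : InM H a ((c * (c * (c * c * σ κ) * τ) * σ τ) • p) := hstep_p _ m2
  have m4 : InM H a ((c * (c * (c * (c * c * σ κ) * τ) * σ τ) * τ) • d) := hstep_d _ m3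
  set C := c * c * (τ * σ τ) with hC
  have hCσ : σ C = C := by rw [hC, map_mul, map_mul, hσc, h.conj.norm_fixed]; ring
  have hCgen : ∀ S : Subfield F, C ∈ S → ∀ x, σ x = x → x ∈ S := fun S hS =>
    hνgen S (by convert hS using 1; rw [hC, hc]; ring)
  have hXall : ∀ x, x + σ x = 0 → x ∈ X := by
    by_cases h20 : (2 : F) = 0
    · have hmul : ∀ m : F, (C * m * κ + σ (C * m * κ)) = (m * κ + σ (m * κ)) * C := fun m => by
        rw [map_mul, map_mul, hCσ, map_mul]; ring
      refine imag_all X hcmem hc0 hcσ (Q := (c * (c * c * σ κ) * τ) * κ + σ ((c * (c * c * σ κ) * τ) * κ)) ?_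
        (hcomm _ d hzd m2) (fun x hx => ?_) hCgen
      · have e : (c * (c * c * σ κ) * τ) * κ + σ ((c * (c * c * σ κ) * τ) * κ) =
            c * c * c * (κ * σ κ) * (τ + σ τ) := by
          simp only [map_mul, hσc, h.conj.invol]
          linear_combination (-(c * c * c * κ * σ κ * σ τ)) * h20
        rw [e]
        exact mul_ne_zero (mul_ne_zero (mul_ne_zero (mul_ne_zero hc0 hc0) hc0)
          (mul_ne_zero hκ fun e => hκ (by rw [← h.conj.invol κ, e, map_zero]))) htr
      · have := hcomm _ d hzd m4 x hx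
        convert this using 1
        rw [← hmul, hC]
        ring_nf
    · refine imag_all X hcmem hc0 hcσ (Q := (c * c * σ κ) * κ + σ ((c * c * σ κ) * κ)) ?_
        (hcomm _ d hzd m1) (fun x hx => ?_) hCgen
      · have e : (c * c * σ κ) * κ + σ ((c * c * σ κ) * κ) = 2 * (c * c * (σ κ * κ)) := by
          simp only [map_mul, hσc, h.conj.invol]
          ring
        rw [e]
        exact mul_ne_zero h20 (mul_ne_zero (mul_ne_zero hc0 hc0)
          (mul_ne_zero (fun e => hκ (by rw [← h.conj.invol κ, e, map_zero])) hκ))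
      · have := hcomm _ p hzp m3 x hx
        convert this using 1
        rw [hC]
        simp only [map_mul, hσc, h.conj.invol]
        ring
  have haPhi : a ∈ Phi H := ⟨haa, fun x hx => (hXall x hx).2⟩
  -- a whole line
  have hline : ∀ s' : F, InM H a (s' • d) := by
    intro s'
    set t' := s' / σ κ with ht'
    have hσκ : σ κ ≠ 0 := fun e => hκ (by rw [← h.conj.invol κ, e, map_zero])
    have hX : ∀ r', σ r' = r' → ∃ x ∈ X, c * x = r' := fun r' hr' =>
      ⟨r' / c, hXall _ (by rw [map_div₀, hr', hσc, div_neg, add_neg_cancel]), mul_div_cancel₀ _ hc0⟩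
    set r' := (t' - σ t') / (c * (τ + σ τ)) with hr'
    have hden : c * (τ + σ τ) ≠ 0 := mul_ne_zero hc0 htr
    have hr'σ : σ r' = r' := by
      rw [hr', map_div₀, map_sub, map_mul, map_add, h.conj.invol, h.conj.invol, hσc, ← neg_sub t' (σ t'),
        neg_mul, neg_div_neg_eq, add_comm (σ τ)]
    set r₁ := t' - r' * c * τ with hr₁
    have hr₁σ : σ r₁ = r₁ := by
      have e : r' * (c * (τ + σ τ)) = t' - σ t' := div_mul_cancel₀ _ hden
      rw [hr₁, map_sub, map_mul, map_mul, hr'σ, hσc]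
      linear_combination e
    obtain ⟨x₁, hx₁, e₁⟩ := hX r₁ hr₁σ
    obtain ⟨x₂, hx₂, e₂⟩ := hX r' hr'σ
    have := (hd2 x₁ c hx₁ hcmem).add h haa (hstep_d _ (hw2 x₂ c hx₂ hcmem))
    rw [e₁, e₂, ← add_smul] at this
    convert this using 2
    rw [hr₁, show s' = t' * σ κ from (div_mul_cancel₀ _ hσκ).symm]
    ring
  let K : Submodule F V :=
    { carrier := {ω | ∀ s' : F, InM H a (s' • ω)}
      add_mem' := fun {ω ω'} hω hω' s' => by rw [smul_add]; exact (hω s').add h haa (hω' s')
      zero_mem' := fun s' => by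
        rw [smul_zero]; exact ⟨map_zero _, 0, he_one⟩
      smul_mem' := fun t ω hω s' => by rw [smul_smul]; exact hω _ }
  have hKP : ∀ ω ∈ K, P ω ∈ K := fun ω hω s' => by
    have := ((hω s').conj huH hua).sub h haa (hω s')
    rwa [map_smul, ← smul_sub, ← nil_apply u ω, ← hP] at this
  -- the hyperplane
  have hdmem := perp_top_mem hu hy hβ0 haP had
  obtain ⟨x', hx'⟩ : ∃ x', P x' = d := by
    have : Submodule.span F (Set.range fun i : ℕ => (P ^ (i + 1)) y) ≤ LinearMap.range P :=
      Submodule.span_le.2 (by rintro _ ⟨i, rfl⟩; exact ⟨(P ^ i) y, hPP i y⟩)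
    exact LinearMap.mem_range.1 (this hdmem)
  have hzd' : B z (P x') ≠ 0 := by rw [hx', hzd]; exact hκ
  have hBax : B a x' ≠ 0 := by
    intro e
    refine hzd' ?_
    rw [hP1, hz, form_antidiag hu y x' 1 (n - 2) (by omega), ← ha, e, mul_zero]
  have hx'top : (P ^ (n - 1)) x' ≠ 0 := by
    intro e
    refine hBax ?_
    have h0 := form_antidiag hu y x' (n - 1) 0 (by omega)
    rw [e, map_zero, ← ha] at h0
    exact (mul_eq_zero.1 h0.symm).resolve_left (pow_ne_zero _ (neg_ne_zero.2 one_ne_zero))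
  refine tGroup_le h hN haPhi (f := (vv ^ r).1 a) (Phi.conj (pow_mem hvH r) haPhi) ?_ fun ω hω => ?_
  · rw [← hky, hvk, isomGroup_apply]; exact hκ
  · have hmem := perp_top_mem hu hx'top hBax haP hω
    have hle : Submodule.span F (Set.range fun i : ℕ => (P ^ (i + 1)) x') ≤ K := by
      refine Submodule.span_le.2 ?_
      rintro _ ⟨i, rfl⟩
      show (P ^ (i + 1)) x' ∈ K
      induction i with
      | zero => rw [pow_one, hx']; exact hline
      | succ i ih => rw [← hPP]; exact hKP _ ih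
    simpa using hle hmem 1

end CfsgLib.Classical.SUUnipotent
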