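import Cfsg.Agent.Lib.Classical.SUUnipotentThree

/-!
# Two conjugate regular unipotents in a unitary group of dimension three

If an element of the generated group fixes the fixed line of `u` and turns the middle layer by a
factor generating the field, then the group contains every unitary transvection.
-/

set_option autoImplicit false
set_option linter.unusedSectionVars false

open Module

namespace CfsgLib.Classical.SUUnipotent

variable {F : Type*} [Field F] [Fintype F] {V : Type*} [AddCommGroup V] [Module F V]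
  [FiniteDimensional F V] {σ : F →+* F} {B : V →ₛₗ[σ] V →ₗ[F] F}

/-- Coordinates of a regular unipotent isometry of a three-dimensional space. -/
structure Frame (B : V →ₛₗ[σ] V →ₗ[F] F) (u : isomGroup B) (a z y : V) (ε β : F) : Prop where
  dim : finrank F V = 3
  li : LinearIndependent F ![a, z, y]
  aa : B a a = 0
  az : B a z = 0
  za : B z a = 0
  ay : B a y = β
  ya : B y a = β
  yy : B y y = 0
  yz : B y z = ε
  zy : B z y = σ ε
  zz : B z z = -β
  β_eq : β = ε + σ ε
  β0 : β ≠ 0
  βσ : σ β = β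
  ua : u.1 a = a
  uz : u.1 z = z + a
  uy : u.1 y = y + z

theorem exists_frame (h : IsHermitian B) (hN : B.SeparatingRight) {u : isomGroup B}
    (hu : CfsgLib.KnownC.RegNilp.Reg (nil u)) (hn : finrank F V = 3) {ε : F} (hε : ε + σ ε ≠ 0) :
    ∃ a z y, Frame B u a z y ε (ε + σ ε) := by
  obtain ⟨y, hy, hyy, hyPy⟩ := exists_good_three h hN hu hn hε
  set P := nil u with hP
  have hP1 : ∀ x : V, P x = (P ^ 1) x := fun x => by rw [pow_one]
  set a := (P ^ 2) y with ha
  set z := P y with hz
  have hPz : P z = a := by rw [hz, ha, pow_two, Module.End.mul_apply]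
  have hPa : P a = 0 := by
    rw [ha, ← Module.End.mul_apply, ← pow_succ', show 2 + 1 = finrank F V by omega, hu.nil, LinearMap.zero_apply]
  have haa : B a a = 0 := form_vanish hu 2 2 (by omega) _ _
  have haz : B a z = 0 := by rw [hz, hP1]; exact form_vanish hu 2 1 (by omega) _ _
  have hza : B z a = 0 := h.isRefl _ _ haz
  set β := B a y with hβ
  have hzz : B z z = -β := by
    rw [hz, hP1, form_antidiag hu y y 1 1 (by omega), hn, hβ, ha]; simp [hP]
  have hβeq : β = ε + σ ε := by
    have := nil_self h u y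
    rw [← hP, hyPy, ← hz, hzz] at this
    linear_combination -this
  have hβ0 : β ≠ 0 := hβeq ▸ hε
  have hβσ : σ β = β := by rw [hβeq, map_add, h.conj.invol, add_comm]
  have hya : B y a = β := by rw [← h.symm, ← hβ, hβσ]
  refine ⟨a, z, y, ?_⟩
  rw [← hβeq]
  refine ⟨hn, ?_, haa, haz, hza, rfl, hya, hyy, hyPy, by rw [← h.symm, hyPy], hzz, hβeq, hβ0, hβσ,
    by rw [apply_eq_nil, ← hP, hPa, add_zero], by rw [apply_eq_nil, ← hP, hPz], by rw [apply_eq_nil, ← hP]⟩
  refine Fintype.linearIndependent_iff.2 fun g hg => ?_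
  rw [Fin.sum_univ_three] at hg
  have e1 := congrArg (B a) hg
  simp only [map_add, map_smul, map_zero, smul_eq_mul, Matrix.cons_val_zero, Matrix.cons_val_one,
    Matrix.cons_val, haa, haz, ← hβ, mul_zero, zero_add] at e1
  have g2 := (mul_eq_zero.1 e1).resolve_right hβ0
  have e2 := congrArg (B z) hg
  simp only [map_add, map_smul, map_zero, smul_eq_mul, Matrix.cons_val_zero, Matrix.cons_val_one,
    Matrix.cons_val, hza, hzz, g2, zero_mul, mul_zero, zero_add, add_zero] at e2
  have g1 := (mul_eq_zero.1 e2).resolve_right (neg_ne_zero.2 hβ0)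
  have e3 := congrArg (B y) hg
  simp only [map_add, map_smul, map_zero, smul_eq_mul, Matrix.cons_val_zero, Matrix.cons_val_one,
    Matrix.cons_val, hya, g1, g2, zero_mul, add_zero] at e3
  have g0 := (mul_eq_zero.1 e3).resolve_right hβ0
  intro i; fin_cases i <;> assumption

namespace Frame

variable {u : isomGroup B} {a z y : V} {ε β : F} (fr : Frame B u a z y ε β)
include fr

/-- The basis of the frame. -/
noncomputable def basis : Basis (Fin 3) F V :=
  basisOfLinearIndependentOfCardEqFinrank fr.li (by rw [Fintype.card_fin, fr.dim])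

theorem basis_eq : ⇑fr.basis = ![a, z, y] := coe_basisOfLinearIndependentOfCardEqFinrank _ _

theorem det_eq {w : Fin 3 → V} (M : Matrix (Fin 3) (Fin 3) F)
    (hw : ∀ j, w j = M 0 j • a + M 1 j • z + M 2 j • y) : fr.basis.det w = M.det := by
  rw [Basis.det_apply]
  congr 1
  ext i j
  have e : w j = ∑ k, M k j • fr.basis k := by
    rw [hw, Fin.sum_univ_three, fr.basis_eq]
    simp
  rw [Basis.toMatrix_apply, e, Basis.repr_sum_self]

theorem isE (h : IsHermitian B) (hN : B.SeparatingRight) :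
    IsE u a (β⁻¹ • z) (σ ε / (β * β)) := by
  set ω := β⁻¹ • z with hω
  have hβ0 := fr.β0
  have hωa : B ω a = 0 := by rw [hω, map_smulₛₗ, LinearMap.smul_apply, fr.za, smul_zero]
  obtain ⟨E', hE', -⟩ := exists_isE h hN (a := a) (ω := ω) (c := σ ε / (β * β)) fr.aa (h.isRefl _ _ hωa) (by
    rw [hω, h.smul_self, fr.zz, map_div₀, map_mul, h.conj.invol, fr.βσ, map_inv₀, fr.βσ]
    field_simp
    linear_combination -fr.β_eq)
  have : u = E' := by
    refine Subtype.ext (LinearEquiv.toLinearMap_injective (fr.basis.ext fun i => ?_))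
    simp only [LinearEquiv.coe_coe, fr.basis_eq]
    fin_cases i <;> simp only [Fin.zero_eta, Fin.mk_one, Fin.reduceFinMk, Matrix.cons_val_zero,
      Matrix.cons_val_one, Matrix.cons_val]
    · rw [hE', fr.ua, fr.aa, hωa]; simp
    · rw [hE', fr.uz, fr.az, hω, map_smulₛₗ, LinearMap.smul_apply, fr.zz, map_inv₀, fr.βσ, smul_eq_mul,
        mul_neg, inv_mul_cancel₀ hβ0]
      simp
    · rw [hE', fr.uy, fr.ay, hω, map_smulₛₗ, LinearMap.smul_apply, fr.zy, map_inv₀, fr.βσ, smul_smul,
        mul_inv_cancel₀ hβ0, one_smul, smul_eq_mul]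
      match_scalars <;> field_simp <;> ring
  exact this ▸ hE'

/-- A line stabiliser with a generating factor gives all transvections. -/
theorem core (h : IsHermitian B) (hN : B.SeparatingRight) (hud : idet B u = 1) {k w : isomGroup B}
    (hkd : idet B k = 1) (hw : w ∈ Subgroup.closure ({u, k * u * k⁻¹} : Set (isomGroup B))) {lam : F}
    (hlam : lam ≠ 0) (hwa : w.1 a = lam • a)
    (hgen : ∀ S : Subfield F, σ lam * σ lam / lam ∈ S → ∀ x, x ∈ S)
    (hab : B a ((k * u * k⁻¹).1 a) ≠ 0) :
    tGroup B ≤ Subgroup.closure ({u, k * u * k⁻¹} : Set (isomGroup B)) := by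
  classical
  set H := Subgroup.closure ({u, k * u * k⁻¹} : Set (isomGroup B))
  have huH : u ∈ H := Subgroup.subset_closure (Or.inl rfl)
  have hvH : k * u * k⁻¹ ∈ H := Subgroup.subset_closure (Or.inr rfl)
  have hHdet : ∀ x ∈ H, idet B x = 1 := by
    intro x hx
    induction hx using Subgroup.closure_induction with
    | mem x hx =>
      rcases hx with rfl | rfl
      · exact hud
      · rw [map_mul, map_mul, hud, mul_one, ← map_mul, mul_inv_cancel, map_one]
    | one => exact map_one _
    | mul x x' _ _ e e' => rw [map_mul, e, e', one_mul]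
    | inv x _ e =>
      have := map_mul (idet B) x x⁻¹
      rw [mul_inv_cancel, map_one, e, one_mul] at this
      exact this.symm
  obtain ⟨η, hη⟩ := middle_factor h fr.li fr.dim fr.aa fr.az (by rw [fr.ay]; exact fr.β0) hlam hwa (hHdet w hw)
  set f := σ lam * σ lam / lam with hf
  have hmove : ∀ x, InM H a (x • z) → InM H a ((f * x) • z) := by
    intro x hx
    obtain ⟨-, cc, hcc⟩ := hx
    have := hcc.conj hw
    rw [hwa, he_smul_iff h, map_smul, hη] at this
    refine inM_shift h fr.aa (η := σ lam * (x * η)) ⟨?_, lam * σ lam * cc, ?_⟩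
    · rw [map_add, map_smul, map_smul, fr.az, fr.aa]; simp
    · convert this using 1
      rw [smul_add, smul_add, smul_smul, smul_smul, smul_smul, smul_smul, hf]
      congr 2 <;> ring_nf
  let A : AddSubgroup F :=
    { carrier := {x | InM H a (x • z)}
      zero_mem' := by
        show InM H a ((0 : F) • z)
        exact ⟨by simp, 0, by rw [zero_smul]; exact he_one⟩
      add_mem' := fun {x x'} hx hx' => by
        show InM H a ((x + x') • z)
        rw [add_smul]; exact hx.add h fr.aa hx'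
      neg_mem' := fun {x} hx => by
        show InM H a ((-x) • z)
        rw [neg_smul]; exact hx.neg h fr.aa }
  let G : Subring F :=
    { carrier := {g | ∀ x ∈ A, g * x ∈ A}
      mul_mem' := fun {g g'} hg hg' x hx => by rw [mul_assoc]; exact hg _ (hg' x hx)
      one_mem' := fun x hx => by rw [one_mul]; exact hx
      add_mem' := fun {g g'} hg hg' x hx => by rw [add_mul]; exact add_mem (hg x hx) (hg' x hx)
      zero_mem' := fun x _ => by rw [zero_mul]; exact zero_mem A
      neg_mem' := fun {g} hg x hx => by rw [neg_mul]; exact neg_mem (hg x hx) }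
  have hinv : ∀ g ∈ G, g⁻¹ ∈ G := by
    intro g hg
    rcases eq_or_ne g 0 with rfl | hg0
    · rw [_root_.inv_zero]; exact zero_mem G
    have h2 : g ^ (Fintype.card F - 1) = 1 := FiniteField.pow_card_sub_one_eq_one g hg0
    have h1 : g⁻¹ = g ^ (Fintype.card F - 1 - 1) := by
      refine inv_eq_of_mul_eq_one_right ?_
      rw [← pow_succ', Nat.sub_add_cancel (by have := Fintype.one_lt_card (α := F); omega), h2]
    rw [h1]; exact pow_mem hg _
  let S : Subfield F := { G with inv_mem' := hinv }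
  have hall : ∀ g, ∀ x ∈ A, g * x ∈ A := fun g => hgen S (fun x hx => hmove x hx) g
  have hμ : β⁻¹ ∈ A := ⟨by rw [map_smul, fr.az, smul_zero], _, u, huH, fr.isE h hN⟩
  have hline : ∀ x : F, InM H a (x • z) := fun x => by
    have := hall (x * β) _ hμ
    rwa [mul_inv_cancel_right₀ fr.β0] at this
  obtain ⟨e₁, he₁⟩ := h.conj.exists_trace_eq (a := (1 : F)) (map_one σ)
  have haPhi : a ∈ Phi H := by
    refine ⟨fr.aa, fun c hc => ?_⟩
    have h1 : InM H a ((1 : F) • z) := hline 1
    have h2 := he_comm h fr.aa h1 (hline (c / β * e₁))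
    have hσc : σ (c / β) = -(c / β) := by
      rw [map_div₀, fr.βσ, eq_neg_of_add_eq_zero_right hc, neg_div]
    simp only [map_smul, map_smulₛₗ, LinearMap.smul_apply, smul_eq_mul, fr.zz, map_one, map_mul, hσc] at h2
    convert h2 using 1
    field_simp [fr.β0]
    linear_combination -c * he₁
  refine tGroup_le h hN haPhi (Phi.conj hvH haPhi) hab fun x hx => ?_
  have hrep := fr.basis.sum_repr x
  rw [Fin.sum_univ_three, fr.basis_eq] at hrep
  simp only [Matrix.cons_val_zero, Matrix.cons_val_one, Matrix.cons_val] at hrep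
  set η₀ := fr.basis.repr x 0
  set η₁ := fr.basis.repr x 1
  set η₂ := fr.basis.repr x 2
  have h2 : η₂ = 0 := by
    have := congrArg (B a) hrep
    simp only [map_add, map_smul, smul_eq_mul, fr.aa, fr.az, hx, fr.ay, mul_zero, zero_add] at this
    exact (mul_eq_zero.1 this).resolve_right fr.β0
  rw [h2, zero_smul, add_zero, add_comm] at hrep
  obtain ⟨-, cc, g', hg', hE⟩ := hline η₁
  refine ⟨hx, cc - η₀ + σ η₀, g', hg', fun v' => ?_⟩
  rw [hE, ← hrep]
  simp only [map_add, map_smul, map_smulₛₗ, LinearMap.add_apply, LinearMap.smul_apply, smul_eq_mul]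
  module

/-- A second generator sending three members of the orbit of a cyclic vector to a closed path. -/
theorem exists_turn (h : IsHermitian B) (hN : B.SeparatingRight) {P : isomGroup B}
    (hP : P ∈ Subgroup.zpowers u) {i : F} (hi : σ i = i) (hPy : P.1 y = a + i • z + y) {ν : F} (hν : ν ≠ 0)
    {εp εq : F} (hεp : εp = β + i * ε) (hεq : εq = β + i * σ ε - i * β + ε) (hεp0 : εp ≠ 0)
    (hT : ε * σ εp * σ εq + σ (ε * σ εp * σ εq) = β * β * β)
    (hν2 : ν * σ ν * (β * β * β * β) = ε * σ ε * (εp * σ εp))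
    (hν3 : ν * ν * ν * (ε * εp) = (ν * σ ν) * (ν * σ ν) * (β * β)) :
    ∃ k w : isomGroup B, idet B k = 1 ∧ w ∈ Subgroup.closure ({u, k * u * k⁻¹} : Set (isomGroup B)) ∧
      w.1 a = (ε / εp) • a ∧ B a ((k * u * k⁻¹).1 a) ≠ 0 := by
  classical
  have hσne : ∀ {x : F}, x ≠ 0 → σ x ≠ 0 := fun {x} hx e => hx (by rw [← h.conj.invol x, e, map_zero])
  have hβ0 := fr.β0
  have hε0 : ε ≠ 0 := fun e => hβ0 (by rw [fr.β_eq, e, map_zero, add_zero])
  set N0 := ν * σ ν with hN0def
  have hN0 : N0 ≠ 0 := mul_ne_zero hν (hσne hν)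
  have hN0σ : σ N0 = N0 := h.conj.norm_fixed ν
  obtain ⟨δ, hδ⟩ : ∃ δ, δ = ε / N0 := ⟨_, rfl⟩
  obtain ⟨θ, hθ⟩ : ∃ θ, θ = δ / β := ⟨_, rfl⟩
  obtain ⟨s', hs'⟩ : ∃ s', s' = εp / ε := ⟨_, rfl⟩
  obtain ⟨ε', hε'⟩ : ∃ ε', ε' = ε * σ εp * σ εq / (β * β) := ⟨_, rfl⟩
  have hε'tr : ε' + σ ε' = β := by
    rw [hε', map_div₀, show σ (β * β) = β * β by rw [map_mul, fr.βσ], ← add_div, hT]
    field_simp
  -- the shifted cyclic vector
  obtain ⟨e₁, he₁⟩ := h.conj.exists_trace_eq (a := (1 : F)) (map_one σ)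
  obtain ⟨ρ, hρ⟩ : ∃ ρ, ρ = (ε' - ε) / β * e₁ := ⟨_, rfl⟩
  have hρρ : (ρ - σ ρ) * β = ε' - ε := by
    have : σ ((ε' - ε) / β) = -((ε' - ε) / β) := by
      rw [map_div₀, map_sub, fr.βσ, ← neg_div, neg_sub]
      congr 1
      linear_combination hε'tr + fr.β_eq
    rw [hρ, map_mul, this]
    field_simp
    linear_combination (ε' - ε) * he₁
  obtain ⟨e, he⟩ := h.conj.exists_trace_eq
    (a := ρ * σ ρ * β - (ρ * ε + σ (ρ * ε))) (by
      simp only [map_sub, map_add, map_mul, h.conj.invol, fr.βσ]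
      ring)
  obtain ⟨y', hy'⟩ : ∃ y', y' = (e / β) • a + ρ • z + y := ⟨_, rfl⟩
  have huy' : u.1 y' = (e / β + ρ) • a + (ρ + 1) • z + y := by
    rw [hy', map_add, map_add, map_smul, map_smul, fr.ua, fr.uz, fr.uy]
    module
  have hay' : B a y' = β := by
    rw [hy']; simp [fr.aa, fr.az, fr.ay]
  have hy'y' : B y' y' = 0 := by
    rw [hy']
    simp only [map_add, map_smul, map_smulₛₗ, LinearMap.add_apply, LinearMap.smul_apply, smul_eq_mul,
      RingHom.id_apply, fr.aa, fr.az, fr.za, fr.ay, fr.ya, fr.yy, fr.yz, fr.zy, fr.zz, map_div₀, fr.βσ]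
    rw [map_mul] at he
    field_simp
    linear_combination β ^ 2 * he
  have hy'uy' : B y' (u.1 y') = ε' := by
    rw [huy', hy']
    simp only [map_add, map_smul, map_smulₛₗ, LinearMap.add_apply, LinearMap.smul_apply, smul_eq_mul,
      RingHom.id_apply, fr.aa, fr.az, fr.za, fr.ay, fr.ya, fr.yy, fr.yz, fr.zy, fr.zz, map_div₀, fr.βσ]
    rw [map_mul] at he
    field_simp
    linear_combination β ^ 2 * (he + hρρ)
  obtain ⟨b, hb⟩ : ∃ b, b = θ • y' := ⟨_, rfl⟩
  have hbb : B b b = 0 := by rw [hb, h.smul_self, hy'y', mul_zero]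
  have hab : B a b = δ := by rw [hb, map_smul, hay', smul_eq_mul, hθ, div_mul_cancel₀ _ hβ0]
  have haub : B a (u.1 b) = δ := by
    conv_lhs => rw [← fr.ua, isomGroup_apply, hab]
  have hubub : B (u.1 b) (u.1 b) = 0 := by rw [isomGroup_apply, hbb]
  have hubb : B (u.1 b) b = θ * σ θ * σ ε' := by
    rw [hb]
    simp only [map_smul, map_smulₛₗ, LinearMap.smul_apply, smul_eq_mul, RingHom.id_apply]
    rw [← h.symm y', hy'uy']
    ring
  -- the Gram matrices agree
  have gyy := fr.yy
  have guy : B (u.1 y) (u.1 y) = 0 := by rw [isomGroup_apply, gyy]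
  have gpp : B (P.1 y) (P.1 y) = 0 := by rw [isomGroup_apply, gyy]
  have g01 : B y (u.1 y) = ε := by rw [fr.uy, map_add, gyy, fr.yz, zero_add]
  have g02 : B y (P.1 y) = εp := by
    rw [hPy, hεp, map_add, map_add, map_smul, fr.ya, fr.yz, gyy, smul_eq_mul, add_zero]
  have g21 : B (P.1 y) (u.1 y) = εq := by
    rw [hPy, fr.uy, hεq]
    simp only [map_add, map_smul, map_smulₛₗ, LinearMap.add_apply, LinearMap.smul_apply, smul_eq_mul,
      fr.az, fr.ay, fr.zy, fr.zz, fr.yy, fr.yz, hi]
    ring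
  have t00 : B (ν • a) (ν • a) = 0 := by rw [h.smul_self, fr.aa, mul_zero]
  have t11 : B (ν • b) (ν • b) = 0 := by rw [h.smul_self, hbb, mul_zero]
  have t22 : B ((ν * s') • u.1 b) ((ν * s') • u.1 b) = 0 := by rw [h.smul_self, hubub, mul_zero]
  have t01 : B (ν • a) (ν • b) = ε := by
    simp only [map_smul, map_smulₛₗ, LinearMap.smul_apply, smul_eq_mul, RingHom.id_apply, hab]
    rw [hδ, hN0def]
    have hσν := hσne hν
    field_simp
  have t02 : B (ν • a) ((ν * s') • u.1 b) = εp := by
    simp only [map_smul, map_smulₛₗ, LinearMap.smul_apply, smul_eq_mul, RingHom.id_apply, haub]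
    rw [hδ, hs', hN0def]
    have hσν := hσne hν
    field_simp
  have t21 : B ((ν * s') • u.1 b) (ν • b) = εq := by
    simp only [map_smul, map_smulₛₗ, LinearMap.smul_apply, smul_eq_mul, RingHom.id_apply, hubb]
    rw [hθ, hδ, hs', hε']
    simp only [map_div₀, map_mul, h.conj.invol, fr.βσ, hN0σ]
    have hσν := hσne hν
    have hσε := hσne hε0
    rw [hN0def] at hν2 ⊢
    field_simp
    linear_combination -εq * hν2
  have hliS : LinearIndependent F ![y, u.1 y, P.1 y] := by
    have hd : fr.basis.det ![y, u.1 y, P.1 y] = -1 := by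
      rw [fr.det_eq !![0, 0, 1; 0, 1, i; 1, 1, 1] (fun j => by
        fin_cases j <;> simp [fr.uy, hPy] <;> module), Matrix.det_fin_three]
      simp
    exact ((fr.basis.is_basis_iff_det).2 (by rw [hd]; exact isUnit_one.neg)).1
  have hdT : fr.basis.det ![ν • a, ν • b, (ν * s') • u.1 b] = -(ν * ν * ν * (θ * θ * s')) := by
    rw [fr.det_eq !![ν, ν * θ * (e / β), ν * s' * θ * (e / β + ρ); 0, ν * θ * ρ, ν * s' * θ * (ρ + 1);
      0, ν * θ, ν * s' * θ] (fun j => by
      fin_cases j <;> simp [hb, hy', fr.ua, fr.uz, fr.uy] <;> module), Matrix.det_fin_three]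
    simp
    ring
  have hC : ν * ν * ν * (θ * θ * s') = 1 := by
    rw [hθ, hδ, hs']
    field_simp
    linear_combination hν3
  have hliT : LinearIndependent F ![ν • a, ν • b, (ν * s') • u.1 b] :=
    ((fr.basis.is_basis_iff_det).2 (by rw [hdT, hC]; exact isUnit_one.neg)).1
  obtain ⟨k, hk⟩ := h.witt_family hN hliS hliT (fun i j => by
    have sy : ∀ {x x' w w' : V}, B x x' = B w w' → B x' x = B w' w := fun {x x' w w'} e => by
      rw [← h.symm x x', e, h.symm]
    fin_cases i <;> fin_cases j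
    · exact gyy.trans t00.symm
    · exact g01.trans t01.symm
    · exact g02.trans t02.symm
    · exact sy (g01.trans t01.symm)
    · exact guy.trans t11.symm
    · exact sy (g21.trans t21.symm)
    · exact sy (g02.trans t02.symm)
    · exact g21.trans t21.symm
    · exact gpp.trans t22.symm)
  have hkd : idet B k = 1 := by
    have := fr.basis.det_comp (k.1 : V →ₗ[F] V) ![y, u.1 y, P.1 y]
    rw [show (k.1 : V →ₗ[F] V) ∘ ![y, u.1 y, P.1 y] = ![ν • a, ν • b, (ν * s') • u.1 b] from funext hk,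
      hdT, hC, fr.det_eq !![0, 0, 1; 0, 1, i; 1, 1, 1] (fun j => by
        fin_cases j <;> simp [fr.uy, hPy] <;> module), Matrix.det_fin_three] at this
    change LinearMap.det (k.1 : V →ₗ[F] V) = 1
    simp at this
    exact this.symm
  have hk0 : k.1 y = ν • a := hk 0
  have hk1 : k.1 (u.1 y) = ν • b := hk 1
  have hk2 : k.1 (P.1 y) = (ν * s') • u.1 b := hk 2
  set v := k * u * k⁻¹ with hv
  set H := Subgroup.closure ({u, v} : Set (isomGroup B))
  have huH : u ∈ H := Subgroup.subset_closure (Or.inl rfl)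
  have hvH : v ∈ H := Subgroup.subset_closure (Or.inr rfl)
  have hva : v.1 a = b := by
    have e' : v.1 (ν • a) = ν • b := by
      rw [← hk0, ← hk1, hv, mul_apply_iso, mul_apply_iso, inv_apply_eq k rfl]
    rw [map_smul] at e'
    exact smul_right_injective V hν e'
  obtain ⟨j, hj⟩ := Subgroup.mem_zpowers_iff.1 hP
  have hPH : k * P * k⁻¹ ∈ H := by
    rw [← hj, ← conj_zpow]; exact zpow_mem hvH j
  refine ⟨k, (k * P * k⁻¹)⁻¹ * (u * v), hkd, mul_mem (inv_mem hPH) (mul_mem huH hvH), ?_, ?_⟩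
  · rw [mul_apply_iso, mul_apply_iso, hva]
    refine inv_apply_eq _ ?_
    rw [map_smul, mul_apply_iso, mul_apply_iso]
    have hka : (k⁻¹ : isomGroup B).1 a = ν⁻¹ • y := inv_apply_eq k (by
      rw [map_smul, hk0, smul_smul, inv_mul_cancel₀ hν, one_smul])
    rw [hka, map_smul, map_smul, hk2, smul_smul, smul_smul, hs']
    rw [show ε / εp * ν⁻¹ * (ν * (εp / ε)) = 1 by field_simp, one_smul]
  · rw [hva, hab, hδ]
    exact div_ne_zero hε0 hN0

end Frame

end CfsgLib.Classical.SUUnipotent
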