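import Cfsg.Agent.Lib.Classical.SUUnipotentBig
import Cfsg.Agent.Lib.Classical.Dickson.Generation

/-!
# Three conjugate regular unipotents in a unitary group of dimension three
-/

set_option autoImplicit false
set_option linter.unusedSectionVars false

open Module
open scoped MatrixGroups

namespace CfsgLib.Classical.SUUnipotent

variable {F : Type*} [Field F] {V : Type*} [AddCommGroup V] [Module F V] {σ : F →+* F}
  {B : V →ₛₗ[σ] V →ₗ[F] F} {H : Subgroup (isomGroup B)}

/-- A generator of the units whose cube is not fixed. -/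
theorem exists_primitive_cube [Fintype F] (hc : IsConjugation σ) (hb : BigFixed σ) :
    ∃ ξ : F, ξ ≠ 0 ∧ σ (ξ ^ 3) ≠ ξ ^ 3 ∧
      ∀ x, σ x = x → x ≠ 0 → ∃ k : ℕ, x = (ξ * σ ξ) ^ k := by
  classical
  obtain ⟨g, hg⟩ := IsCyclic.exists_generator (α := Fˣ)
  have hpow : ∀ z : F, z ≠ 0 → ∃ k : ℕ, z = (g : F) ^ k := fun z hz => by
    obtain ⟨k, hk⟩ := (mem_powers_iff_mem_zpowers.2 (hg (Units.mk0 z hz)) : Units.mk0 z hz ∈ Submonoid.powers g)
    exact ⟨k, by simpa using (congrArg Units.val hk).symm⟩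
  refine ⟨g, g.ne_zero, fun h3 => ?_, fun x hx hx0 => ?_⟩
  · have hall : ∀ z : F, σ (z ^ 3) = z ^ 3 := fun z => by
      rcases eq_or_ne z 0 with rfl | hz
      · simp
      obtain ⟨k, rfl⟩ := hpow z hz
      rw [← pow_mul, mul_comm, pow_mul, map_pow, h3]
    by_cases h20 : (2 : F) = 0
    · obtain ⟨z, hz⟩ := hc.exists_trace_eq (a := (1 : F)) (map_one σ)
      obtain ⟨t, ht, ht0, ht1⟩ := hb
      have hσz : σ z = z + 1 := by linear_combination hz - z * h20
      have key : ∀ t : F, σ t = t → (z + t) * (z + t) + (z + t) + 1 = 0 := fun t ht => by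
        have e := hall (z + t)
        rw [map_pow, map_add, hσz, ht] at e
        linear_combination e - ((z + t) * (z + t) + (z + t)) * h20
      have e0 := key 0 (map_zero σ)
      have e1 := key t ht
      have : t * (t + 1) = 0 := by linear_combination e1 - e0 - z * t * h20
      rcases mul_eq_zero.1 this with e | e
      · exact ht0 e
      · exact ht1 (by linear_combination e - h20)
    · obtain ⟨c, hc0, hcσ⟩ := hc.exists_trace_zero
      have hσc : σ c = -c := eq_neg_of_add_eq_zero_right hcσ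
      have e1 := hall (1 + c)
      have e2 := hall (2 + c)
      rw [map_pow, map_add, map_one, hσc] at e1
      rw [map_pow, map_add, map_ofNat, hσc] at e2
      have f1 : c * c + 3 = 0 := by
        have : 2 * c * (c * c + 3) = 0 := by linear_combination -e1
        exact (mul_eq_zero.1 this).resolve_left (mul_ne_zero h20 hc0)
      have f2 : c * c + 12 = 0 := by
        have : 2 * c * (c * c + 12) = 0 := by linear_combination -e2
        exact (mul_eq_zero.1 this).resolve_left (mul_ne_zero h20 hc0)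
      have h30 : (3 : F) = 0 := by
        have : (3 : F) * 3 = 0 := by linear_combination f2 - f1
        exact mul_self_eq_zero.1 this
      exact mul_ne_zero hc0 hc0 (by linear_combination f1 - h30)
  · obtain ⟨z, hz⟩ := hc.exists_norm_eq hx
    have hz0 : z ≠ 0 := fun e => hx0 (by rw [← hz, e, zero_mul])
    obtain ⟨k, rfl⟩ := hpow z hz0
    exact ⟨k, by rw [← hz, map_pow, mul_pow]⟩

/-- Exchanging two transvection centres. -/
theorem exists_swap (h : IsHermitian B) {P Q : V} (hP : B P P = 0) {x y : F}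
    (hx : HE H P 0 x) (hy : HE H Q 0 y) (hxy : x * y * (B P Q * σ (B P Q)) = -1) :
    ∃ k ∈ H, k.1 P = (y * σ (B P Q)) • Q := by
  obtain ⟨s, hs, hsE⟩ := hx
  obtain ⟨t, ht, htE⟩ := hy
  refine ⟨s * (t * s), mul_mem hs (mul_mem ht hs), ?_⟩
  rw [mul_apply_iso, mul_apply_iso, isE_zero_iff.1 hsE P, hP, mul_zero, zero_smul, add_zero,
    isE_zero_iff.1 htE P, ← h.symm P Q, isE_zero_iff.1 hsE, map_add, map_smul, hP, zero_add, smul_eq_mul,
    show x * (y * σ (B P Q) * B P Q) = -1 by linear_combination hxy, neg_one_smul]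
  abel

theorem inM_shift (h : IsHermitian B) {a ω : V} (haa : B a a = 0) {η : F} (hω : InM H a (ω + η • a)) :
    InM H a ω := by
  obtain ⟨h0, c, g, hg, hE⟩ := hω
  refine ⟨by simpa [map_add, haa] using h0, c + η - σ η, g, hg, fun y => ?_⟩
  rw [hE]
  simp only [map_add, map_smulₛₗ, LinearMap.add_apply, LinearMap.smul_apply, smul_eq_mul]
  module

/-- The transvections at one centre, obtained from Dickson's theorem. -/
theorem all_of_dickson [Fintype F] [FiniteDimensional F V] (h : IsHermitian B) (hN : B.SeparatingRight)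
    (h2 : (2 : F) ≠ 0) {a b : V} (haa : B a a = 0) (hbb : B b b = 0) (hab : B a b ≠ 0) {c l : F}
    (hca : HE H a 0 c) (hcb : HE H b 0 c) (hcσ : c + σ c = 0) (hl : l = c * c * (B a b * σ (B a b)))
    (hl0 : l ≠ 0) (hgen : ∀ S : Subfield F, l ∈ S → ∀ x, σ x = x → x ∈ S)
    (hex : Nat.card (fixedField σ) = 9 → l ^ 2 ≠ -1) :
    ∀ x, x + σ x = 0 → HE H a 0 x := by
  classical
  set K := fixedField σ
  haveI : Fintype K := Fintype.ofFinite _
  obtain ⟨p, hp⟩ := CharP.exists K
  haveI : Fact p.Prime := ⟨CharP.char_is_prime K p⟩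
  have hσc : σ c = -c := eq_neg_of_add_eq_zero_right hcσ
  set δ := B a b with hδ
  have hσδ : σ δ ≠ 0 := fun e => hab (by rw [← h.conj.invol δ, e, map_zero])
  have hc0 : c ≠ 0 := fun e => hl0 (by rw [hl, e]; ring)
  have hba : B b a = σ δ := (h.symm a b).symm
  set b' := (c * σ δ) • b with hb'
  let S : Subgroup SL(2, K) :=
    { carrier := {s | ∃ k ∈ H, k.1 a = (s.1 0 0 : F) • a + (s.1 1 0 : F) • b' ∧
        k.1 b' = (s.1 0 1 : F) • a + (s.1 1 1 : F) • b' ∧ ∀ x, B a x = 0 → B b x = 0 → k.1 x = x}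
      one_mem' := ⟨1, one_mem H, by simp, by simp, fun x _ _ => rfl⟩
      mul_mem' := by
        rintro s s' ⟨k, hk, e1, e2, e3⟩ ⟨k', hk', f1, f2, f3⟩
        refine ⟨k * k', mul_mem hk hk', ?_, ?_, fun x hx hx' => by rw [mul_apply_iso, f3 x hx hx', e3 x hx hx']⟩
        · rw [mul_apply_iso, f1, map_add, map_smul, map_smul, e1, e2]
          simp only [Matrix.SpecialLinearGroup.coe_mul, Matrix.mul_apply, Fin.sum_univ_two]
          push_cast
          module
        · rw [mul_apply_iso, f2, map_add, map_smul, map_smul, e1, e2]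
          simp only [Matrix.SpecialLinearGroup.coe_mul, Matrix.mul_apply, Fin.sum_univ_two]
          push_cast
          module
      inv_mem' := by
        rintro s ⟨k, hk, e1, e2, e3⟩
        have hdet : (s.1 0 0 : F) * s.1 1 1 - s.1 0 1 * s.1 1 0 = 1 := by
          have := s.2
          rw [Matrix.det_fin_two] at this
          exact_mod_cast congrArg Subtype.val this
        refine ⟨k⁻¹, inv_mem hk, inv_apply_eq k ?_, inv_apply_eq k ?_, fun x hx hx' => inv_apply_eq k (e3 x hx hx')⟩
        · rw [map_add, map_smul, map_smul, e1, e2]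
          simp only [Matrix.SpecialLinearGroup.coe_inv, Matrix.adjugate_fin_two_of, Matrix.adjugate_fin_two,
            Matrix.of_apply, Matrix.cons_val', Matrix.cons_val_zero, Matrix.cons_val_one, Matrix.empty_val',
            Matrix.cons_val_fin_one]
          push_cast
          match_scalars <;> first
            | linear_combination hdet
            | linear_combination -hdet
            | linear_combination (c * σ δ) * hdet
            | linear_combination -(c * σ δ) * hdet
            | ring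
        · rw [map_add, map_smul, map_smul, e1, e2]
          simp only [Matrix.SpecialLinearGroup.coe_inv, Matrix.adjugate_fin_two_of, Matrix.adjugate_fin_two,
            Matrix.of_apply, Matrix.cons_val', Matrix.cons_val_zero, Matrix.cons_val_one, Matrix.empty_val',
            Matrix.cons_val_fin_one]
          push_cast
          match_scalars <;> first
            | linear_combination hdet
            | linear_combination -hdet
            | linear_combination (c * σ δ) * hdet
            | linear_combination -(c * σ δ) * hdet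
            | ring }
  let lK : K := ⟨l, show σ l = l by rw [hl, map_mul, map_mul, hσc, h.conj.norm_fixed]; ring⟩
  have hlow : Dickson.lowT (F := K) ∈ S := by
    obtain ⟨t, ht, hE⟩ := hcb
    refine ⟨t, ht, ?_, ?_, fun x _ hx => by rw [isE_zero_iff.1 hE, hx, mul_zero, zero_smul, add_zero]⟩
    · rw [isE_zero_iff.1 hE, hba]
      simp [Dickson.lowT, hb']
    · rw [isE_zero_iff.1 hE, hb', map_smul, hbb]
      simp [Dickson.lowT]
  have hup : Dickson.upT lK ∈ S := by
    obtain ⟨t, ht, hE⟩ := hca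
    refine ⟨t, ht, ?_, ?_, fun x hx _ => by rw [isE_zero_iff.1 hE, hx, mul_zero, zero_smul, add_zero]⟩
    · rw [isE_zero_iff.1 hE, haa]
      simp [Dickson.upT]
    · rw [isE_zero_iff.1 hE, hb', map_smul, ← hδ]
      simp only [Dickson.upT, Matrix.of_apply, Matrix.cons_val', Matrix.cons_val_zero, Matrix.cons_val_one,
        Matrix.empty_val', Matrix.cons_val_fin_one, smul_eq_mul]
      rw [show ((lK : K) : F) = l from rfl, hl]
      push_cast
      module
  have h2K : (2 : K) ≠ 0 := fun e => h2 (by simpa [map_ofNat] using congrArg K.subtype e)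
  have hlK : lK ≠ 0 := fun e => hl0 (congrArg Subtype.val e)
  have hgenK : Subfield.closure ({lK} : Set K) = ⊤ := by
    refine eq_top_iff.2 fun x _ => ?_
    have hx := hgen ((Subfield.closure ({lK} : Set K)).map K.subtype)
      ⟨lK, Subfield.subset_closure rfl, rfl⟩ x.1 x.2
    obtain ⟨y, hy, e⟩ := hx
    rwa [show x = y from Subtype.ext e.symm]
  have htop : S = ⊤ := by
    rcases Dickson.closure_transvections p h2K hlK hgenK with ⟨e, -⟩ | ⟨h9, hl2, -⟩
    · rw [eq_top_iff, ← e, Subgroup.closure_le]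
      rintro s (rfl | rfl) <;> assumption
    · exact absurd (by simpa [lK] using congrArg Subtype.val hl2) (hex (by rw [Nat.card_eq_fintype_card, h9]))
  intro x hx
  have hσx : σ x = -x := eq_neg_of_add_eq_zero_right hx
  let l' : K := ⟨c * x * (δ * σ δ), show σ _ = _ by simp only [map_mul, hσc, hσx, h.conj.invol, RingHom.id_apply]; ring⟩
  obtain ⟨k, hk, e1, e2, e3⟩ : Dickson.upT l' ∈ S := htop ▸ Subgroup.mem_top _
  obtain ⟨t, htE, -⟩ := exists_isE h hN (a := a) (ω := 0) (c := x) haa (map_zero _) (by simp [hx])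
  have hka : k.1 a = a := by rw [e1]; simp [Dickson.upT]
  have hkb : k.1 b = t.1 b := by
    have : (c * σ δ) • k.1 b = (c * σ δ) • t.1 b := by
      rw [← map_smul k.1, ← map_smul t.1, ← hb', e2, isE_zero_iff.1 htE, hb', map_smul, ← hδ]
      simp only [Dickson.upT, Matrix.of_apply, Matrix.cons_val', Matrix.cons_val_zero, Matrix.cons_val_one,
        Matrix.empty_val', Matrix.cons_val_fin_one, smul_eq_mul, l']
      push_cast
      module
    exact (smul_right_injective V (mul_ne_zero hc0 hσδ)) this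
  refine ⟨k, hk, ?_⟩
  rwa [show k = t from h.ext_plane haa (s := δ⁻¹ • b) (by rw [h.smul_self, hbb, mul_zero])
    (by rw [map_smul, ← hδ, smul_eq_mul, inv_mul_cancel₀ hab])
    (by rw [hka, isE_zero_iff.1 htE, haa, mul_zero, zero_smul, add_zero])
    (by rw [map_smul, map_smul, hkb]) fun y hy hy' => by
      rw [e3 y hy, isE_zero_iff.1 htE, hy, mul_zero, zero_smul, add_zero]
      rw [map_smulₛₗ, LinearMap.smul_apply, smul_eq_mul, mul_eq_zero] at hy'
      exact hy'.resolve_left fun e => inv_ne_zero hab (by rw [← h.conj.invol δ⁻¹, e, map_zero])]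

variable {u : isomGroup B} [Fintype F] [FiniteDimensional F V]

/-- A cyclic isotropic vector with prescribed product with its image. -/
theorem exists_good_three (h : IsHermitian B) (hN : B.SeparatingRight) (hu : CfsgLib.KnownC.RegNilp.Reg (nil u))
    (hn : finrank F V = 3) {ε : F} (hε : ε + σ ε ≠ 0) :
    ∃ y, (nil u ^ 2) y ≠ 0 ∧ B y y = 0 ∧ B y (nil u y) = ε := by
  set P := nil u with hP
  have hP2 : ∀ x : V, P (P x) = (P ^ 2) x := fun x => by rw [pow_two, Module.End.mul_apply]
  have hP1 : ∀ x : V, P x = (P ^ 1) x := fun x => by rw [pow_one]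
  have hP3 : ∀ x : V, P ((P ^ 2) x) = 0 := fun x => by
    rw [← Module.End.mul_apply, ← pow_succ', show 2 + 1 = finrank F V by omega, hu.nil, LinearMap.zero_apply]
  obtain ⟨y₀, hy₀⟩ := CfsgLib.KnownC.RegNilp.exists_cyclic hu (by omega)
  have hN0 : ∀ x, B (P x) (P x) = -B ((P ^ 2) x) x := fun x => by
    rw [hP1, form_antidiag hu x x 1 1 (by omega), hn]
    simp [hP]
  set β₀ := B ((P ^ 2) y₀) y₀ with hβ₀
  have hβ00 : β₀ ≠ 0 := by
    have := form_top_ne hu h hN hy₀
    rwa [hn] at this
  have hβ₀σ : σ β₀ = β₀ := by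
    have := h.self_fixed (P y₀)
    rw [hN0, map_neg, ← hβ₀] at this
    exact neg_inj.1 this
  obtain ⟨μ, hμ⟩ := h.conj.exists_norm_eq (a := (ε + σ ε) / β₀)
    (by rw [map_div₀, map_add, h.conj.invol, hβ₀σ, add_comm])
  obtain ⟨y₁, hy₁⟩ : ∃ y₁, y₁ = μ • y₀ := ⟨_, rfl⟩
  set β := ε + σ ε with hβ
  have hβσ : σ β = β := by rw [hβ, map_add, h.conj.invol, add_comm]
  have hβ₁ : B ((P ^ 2) y₁) y₁ = β := by
    rw [hy₁]
    simp only [map_smul, map_smulₛₗ, LinearMap.smul_apply, smul_eq_mul, RingHom.id_apply, ← hβ₀]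
    linear_combination β₀ * hμ + div_mul_cancel₀ β hβ00
  have hβ₁' : B y₁ ((P ^ 2) y₁) = β := by rw [← h.symm, hβ₁, hβσ]
  have hNy₁ : B (P y₁) (P y₁) = -β := by rw [hN0, hβ₁]
  set b₁ := B y₁ (P y₁) with hb₁
  have hb₁σ : b₁ + σ b₁ = β := by
    have := nil_self h u y₁
    rw [← hP, hNy₁, ← hb₁] at this
    linear_combination this
  obtain ⟨e₁, he₁⟩ := h.conj.exists_trace_eq (a := (1 : F)) (map_one σ)
  set t := (ε - b₁) / β * e₁ with ht
  have htt : (t - σ t) * β = ε - b₁ := by
    have : σ ((ε - b₁) / β) = -((ε - b₁) / β) := by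
      rw [map_div₀, map_sub, hβσ, ← neg_div, neg_sub]
      congr 1
      linear_combination hβ - hb₁σ
    rw [ht, map_mul, this]
    field_simp
    linear_combination (ε - b₁) * he₁
  have v1 : B (P y₁) ((P ^ 2) y₁) = 0 := by rw [hP1]; exact form_vanish hu 1 2 (by omega) _ _
  have v2 : B ((P ^ 2) y₁) (P y₁) = 0 := h.isRefl _ _ v1
  have v3 : B ((P ^ 2) y₁) ((P ^ 2) y₁) = 0 := form_vanish hu 2 2 (by omega) _ _
  obtain ⟨y₂, hy₂⟩ : ∃ y₂, y₂ = y₁ + t • P y₁ := ⟨_, rfl⟩
  have hPy₂ : P y₂ = P y₁ + t • (P ^ 2) y₁ := by rw [hy₂, map_add, map_smul, hP2]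
  have hP2y₂ : (P ^ 2) y₂ = (P ^ 2) y₁ := by
    rw [← hP2, hPy₂, map_add, map_smul, hP3, smul_zero, add_zero, hP2]
  have hb₂ : B y₂ (P y₂) = ε := by
    rw [hPy₂, hy₂]
    simp only [map_add, map_smul, map_smulₛₗ, LinearMap.add_apply, LinearMap.smul_apply, smul_eq_mul,
      ← hb₁, hNy₁, v1, hβ₁']
    linear_combination htt
  have hβ₂ : B y₂ ((P ^ 2) y₂) = β := by
    rw [hP2y₂, hy₂, map_add, LinearMap.add_apply, map_smulₛₗ, LinearMap.smul_apply, v1, hβ₁', smul_zero, add_zero]
  obtain ⟨e, he⟩ := h.conj.exists_trace_eq (a := -B y₂ y₂) (by rw [map_neg, h.self_fixed])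
  refine ⟨y₂ + (e / β) • (P ^ 2) y₂, ?_, ?_, ?_⟩
  · intro e0
    refine hε ?_
    rw [map_add, map_smul, hP2y₂, ← hP2 ((P ^ 2) y₁), hP3, map_zero, smul_zero, add_zero] at e0
    rw [← hβ₁, e0, map_zero, LinearMap.zero_apply]
  · rw [h.add_self, h.smul_self, hP2y₂, v3, map_smul, smul_eq_mul, ← hP2y₂, hβ₂, div_mul_cancel₀ _ hε]
    linear_combination he
  · rw [map_add P, map_smul P, hP3, smul_zero, add_zero, map_add, LinearMap.add_apply, hb₂, map_smulₛₗ,
      LinearMap.smul_apply, hPy₂, hP2y₂, map_add, map_smul, v2, v3, smul_zero, add_zero, smul_zero, add_zero]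

/-- An element fixing a centre up to a scalar acts on the middle layer by a known factor. -/
theorem middle_factor (h : IsHermitian B) {k : isomGroup B} {a z y : V} (hli : LinearIndependent F ![a, z, y])
    (hn : finrank F V = 3) (haa : B a a = 0) (haz : B a z = 0) (hay : B a y ≠ 0) {lam : F} (hlam : lam ≠ 0)
    (hka : k.1 a = lam • a) (hd : idet B k = 1) : ∃ η : F, k.1 z = (σ lam / lam) • z + η • a := by
  classical
  let bs : Basis (Fin 3) F V := basisOfLinearIndependentOfCardEqFinrank hli (by rw [Fintype.card_fin, hn])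
  have hbs : ∀ i, bs i = ![a, z, y] i := fun i => by simp [bs]
  have hb0 : bs 0 = a := hbs 0
  have hb1 : bs 1 = z := hbs 1
  have hb2 : bs 2 = y := hbs 2
  have hσl : σ lam ≠ 0 := fun e => hlam (by rw [← h.conj.invol lam, e, map_zero])
  have coord : ∀ x, B a x = bs.repr x 2 * B a y := fun x => by
    conv_lhs => rw [← bs.sum_repr x, Fin.sum_univ_three, hb0, hb1, hb2]
    simp only [map_add, map_smul, haa, haz, smul_eq_mul]
    ring
  have hk : ∀ x, σ lam * B a (k.1 x) = B a x := fun x => by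
    rw [← isomGroup_apply k a x, hka, map_smulₛₗ, LinearMap.smul_apply, smul_eq_mul]
  set T := LinearMap.toMatrix bs bs (k.1 : V →ₗ[F] V) with hT
  have hTe : ∀ i j, T i j = bs.repr (k.1 (bs j)) i := fun i j => LinearMap.toMatrix_apply _ _ _ _ _
  have T00 : T 0 0 = lam := by rw [hTe, hb0, hka, ← hb0, map_smul, bs.repr_self]; simp
  have T10 : T 1 0 = 0 := by rw [hTe, hb0, hka, ← hb0, map_smul, bs.repr_self]; simp
  have T20 : T 2 0 = 0 := by rw [hTe, hb0, hka, ← hb0, map_smul, bs.repr_self]; simp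
  have T21 : T 2 1 = 0 := by
    rw [hTe, hb1]
    have := hk z
    rw [haz, coord] at this
    simpa [hσl, hay] using this
  have T22 : σ lam * T 2 2 = 1 := by
    rw [hTe, hb2]
    have := hk y
    rw [coord (k.1 y), ← mul_assoc] at this
    exact mul_right_cancel₀ hay (this.trans (one_mul _).symm)
  have hdet : T.det = 1 := by rw [hT, LinearMap.det_toMatrix]; exact hd
  rw [Matrix.det_fin_three, T00, T10, T20, T21] at hdet
  refine ⟨T 0 1, ?_⟩
  have hz := bs.sum_repr (k.1 z)
  rw [Fin.sum_univ_three, hb0, hb1, hb2, ← hb1, ← hTe, ← hTe, ← hTe, T21, zero_smul, add_zero, hb1] at hz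
  rw [← hz, add_comm]
  congr 2
  rw [eq_div_iff hlam]
  linear_combination σ lam * hdet - lam * T 1 1 * T22

/-- Three conjugates generate, in dimension three. -/
theorem three_case (h : IsHermitian B) (hN : B.SeparatingRight) (hu : CfsgLib.KnownC.RegNilp.Reg (nil u))
    (hud : idet B u = 1) (hn : finrank F V = 3) (hbig : BigFixed σ) :
    ∃ g k : isomGroup B, idet B g = 1 ∧ idet B k = 1 ∧
      tGroup B ≤ Subgroup.closure ({u, g * u * g⁻¹, k * u * k⁻¹} : Set (isomGroup B)) := by
  classical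
  obtain ⟨ξ, hξ0, hξ3, hξgen⟩ := exists_primitive_cube h.conj hbig
  have hσne : ∀ {x : F}, x ≠ 0 → σ x ≠ 0 := fun {x} hx e => hx (by rw [← h.conj.invol x, e, map_zero])
  have hξσ : σ ξ ≠ ξ := fun e => hξ3 (by rw [map_pow, e])
  obtain ⟨Nx, hNx⟩ : ∃ Nx, Nx = ξ * σ ξ := ⟨_, rfl⟩
  have hNx0 : Nx ≠ 0 := by rw [hNx]; exact mul_ne_zero hξ0 (hσne hξ0)
  rw [← hNx] at hξgen
  obtain ⟨c₁, hc₁, hc₁σ⟩ := h.conj.exists_trace_zero
  have hσc₁ : σ c₁ = -c₁ := eq_neg_of_add_eq_zero_right hc₁σ
  obtain ⟨ε, hε⟩ : ∃ ε, ε = ξ * c₁ := ⟨_, rfl⟩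
  have hεtr : ε + σ ε ≠ 0 := by
    rw [hε, map_mul, hσc₁, show ξ * c₁ + σ ξ * -c₁ = (ξ - σ ξ) * c₁ by ring]
    exact mul_ne_zero (sub_ne_zero.2 (Ne.symm hξσ)) hc₁
  have hε0 : ε ≠ 0 := by rw [hε]; exact mul_ne_zero hξ0 hc₁
  obtain ⟨y, hy, hyy, hyPy⟩ := exists_good_three h hN hu hn hεtr
  set P := nil u with hP
  have hP1 : ∀ x : V, P x = (P ^ 1) x := fun x => by rw [pow_one]
  set a := (P ^ 2) y with ha
  set z := P y with hz
  have hPz : P z = a := by rw [hz, ha, pow_two, Module.End.mul_apply]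
  have hPa : P a = 0 := by
    rw [ha, ← Module.End.mul_apply, ← pow_succ', show 2 + 1 = finrank F V by omega, hu.nil, LinearMap.zero_apply]
  have haa : B a a = 0 := form_vanish hu 2 2 (by omega) _ _
  have haz : B a z = 0 := by rw [hz, hP1]; exact form_vanish hu 2 1 (by omega) _ _
  have hza : B z a = 0 := h.isRefl _ _ haz
  set β := B a y with hβ
  have hzz : B z z = -β := by
    rw [hz, hP1, form_antidiag hu y y 1 1 (by omega), hn, hβ, ha]; simp [hP]
  have hβeq : β = ε + σ ε := by
    have := nil_self h u y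
    rw [← hP, hyPy, ← hz, hzz] at this
    linear_combination -this
  have hβ0 : β ≠ 0 := hβeq ▸ hεtr
  have hβσ : σ β = β := by rw [hβeq, map_add, h.conj.invol, add_comm]
  have hya : B y a = β := by rw [← h.symm, ← hβ, hβσ]
  have hyz : B y z = ε := hyPy
  have hzy : B z y = σ ε := by rw [← h.symm, hyz]
  have hua : u.1 a = a := by rw [apply_eq_nil, ← hP, hPa, add_zero]
  have huz : u.1 z = z + a := by rw [apply_eq_nil, ← hP, hPz]
  have huy : u.1 y = y + z := by rw [apply_eq_nil, ← hP]
  have hli : LinearIndependent F ![a, z, y] := by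
    refine Fintype.linearIndependent_iff.2 fun g hg => ?_
    rw [Fin.sum_univ_three] at hg
    have e1 := congrArg (B a) hg
    simp only [map_add, map_smul, map_zero, smul_eq_mul, Matrix.cons_val_zero, Matrix.cons_val_one,
      Matrix.cons_val, haa, haz, ← hβ, mul_zero, zero_add] at e1
    have g2 := (mul_eq_zero.1 e1).resolve_right hβ0
    have e2 := congrArg (B z) hg
    simp only [map_add, map_smul, map_zero, smul_eq_mul, Matrix.cons_val_zero, Matrix.cons_val_one,
      Matrix.cons_val, hza, hzz, g2, zero_mul, mul_zero, zero_add, add_zero] at e2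
    have g1 := (mul_eq_zero.1 e2).resolve_right (neg_ne_zero.2 hβ0)
    have e3 := congrArg (B y) hg
    simp only [map_add, map_smul, map_zero, smul_eq_mul, Matrix.cons_val_zero, Matrix.cons_val_one,
      Matrix.cons_val, hya, g1, g2, zero_mul, add_zero] at e3
    have g0 := (mul_eq_zero.1 e3).resolve_right hβ0
    intro i; fin_cases i <;> assumption
  let bs : Basis (Fin 3) F V := basisOfLinearIndependentOfCardEqFinrank hli (by rw [Fintype.card_fin, hn])
  -- the translation part of `u`
  set ω := β⁻¹ • z with hω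
  set cω := σ ε / (β * β) with hcω
  have hωa : B ω a = 0 := by rw [hω, map_smulₛₗ, LinearMap.smul_apply, hza, smul_zero]
  have haω : B a ω = 0 := h.isRefl _ _ hωa
  have huE : IsE u a ω cω := by
    obtain ⟨E', hE', -⟩ := exists_isE h hN (a := a) (ω := ω) (c := cω) haa haω (by
      rw [hω, h.smul_self, hzz, hcω, map_div₀, map_mul, h.conj.invol, hβσ, map_inv₀, hβσ]
      field_simp
      linear_combination -hβeq)
    have : u = E' := by
      refine Subtype.ext (LinearEquiv.toLinearMap_injective (bs.ext fun i => ?_))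
      simp only [bs, coe_basisOfLinearIndependentOfCardEqFinrank, LinearEquiv.coe_coe]
      fin_cases i <;> simp only [Fin.zero_eta, Fin.mk_one, Fin.reduceFinMk, Matrix.cons_val_zero,
        Matrix.cons_val_one, Matrix.cons_val]
      · rw [hE', hua, haa, hωa]; simp
      · rw [hE', huz, haz, hω, map_smulₛₗ, LinearMap.smul_apply, hzz, map_inv₀, hβσ, smul_eq_mul, mul_neg,
          inv_mul_cancel₀ hβ0]
        simp
      · rw [hE', huy, ← hβ, hω, map_smulₛₗ, LinearMap.smul_apply, hzy, map_inv₀, hβσ, smul_smul,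
          mul_inv_cancel₀ hβ0, one_smul, smul_eq_mul, hcω]
        match_scalars <;> field_simp <;> ring
    exact this ▸ hE'
  -- parameters
  obtain ⟨ν, hν0, hνσ, hodd, heven⟩ : ∃ ν : F, ν ≠ 0 ∧ σ ν = ν ∧ ((2 : F) ≠ 0 → ν = 1) ∧
      ((2 : F) = 0 → ν ^ 4 = ε * σ ε / (β * β * Nx)) := by
    by_cases h20 : (2 : F) = 0
    swap
    · exact ⟨1, one_ne_zero, map_one σ, fun _ => rfl, fun e => absurd e h20⟩
    haveI : CharP F 2 := CharTwo.of_one_ne_zero_of_two_eq_zero one_ne_zero h20
    have hinj : Function.Injective (fun x : F => x ^ 2) := frobenius_inj F 2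
    have hinj4 : Function.Injective (fun x : F => x ^ 4) := fun x x' e => hinj (hinj (by
      simpa [← pow_mul] using e))
    obtain ⟨ν, hν⟩ := (Finite.injective_iff_surjective.1 hinj4) (ε * σ ε / (β * β * Nx))
    refine ⟨ν, fun e => ?_, hinj4 ?_, fun e => absurd h20 e, fun _ => hν⟩
    · rw [e] at hν
      exact div_ne_zero (mul_ne_zero hε0 (hσne hε0)) (mul_ne_zero (mul_ne_zero hβ0 hβ0) hNx0)
        (by simpa using hν.symm)
    · simp only at hν ⊢
      rw [← map_pow, hν, map_div₀, map_mul, map_mul, map_mul, h.conj.invol, hβσ, hNx, map_mul, h.conj.invol]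
      ring
  obtain ⟨δ, hδdef⟩ : ∃ δ, δ = ε / (ν * ν) := ⟨_, rfl⟩
  have hνν : ν * ν ≠ 0 := mul_ne_zero hν0 hν0
  have hδ0 : δ ≠ 0 := by rw [hδdef]; exact div_ne_zero hε0 hνν
  obtain ⟨θ, hθ⟩ : ∃ θ, θ = δ / β := ⟨_, rfl⟩
  have hθ0 : θ ≠ 0 := by rw [hθ]; exact div_ne_zero hδ0 hβ0
  set b := θ • y with hb
  have hbb : B b b = 0 := by rw [hb, h.smul_self, hyy, mul_zero]
  have hab : B a b = δ := by rw [hb, map_smul, ← hβ, smul_eq_mul, hθ, div_mul_cancel₀ _ hβ0]
  set Nd := δ * σ δ with hNd
  have hNd0 : Nd ≠ 0 := mul_ne_zero hδ0 (hσne hδ0)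
  set c := if (2 : F) = 0 then β / Nd else c₁⁻¹ with hc
  have hc0 : c ≠ 0 := by rw [hc]; split <;> simp [hβ0, hNd0, hc₁]
  have hNdσ : σ Nd = Nd := h.conj.norm_fixed δ
  have hσc : σ c = -c := by
    rw [hc]; split
    case isTrue h20 => rw [map_div₀, hβσ, hNdσ]; linear_combination (β / Nd) * h20
    case isFalse => rw [map_inv₀, hσc₁, inv_neg]
  have hcσ : c + σ c = 0 := by rw [hσc, add_neg_cancel]
  -- the second generator
  obtain ⟨e₁, he₁⟩ := h.conj.exists_trace_eq (a := (1 : F)) (map_one σ)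
  set s := -(c * e₁) with hs
  have hsc : σ s - s = c := by
    rw [hs, map_neg, map_mul, hσc]
    linear_combination c * he₁
  obtain ⟨cg, hcg⟩ := h.conj.exists_trace_eq (a := -B (s • z) (s • z)) (by rw [map_neg, h.self_fixed])
  obtain ⟨g, hgE, hgdet⟩ := exists_isE h hN (a := a) (ω := s • z) (c := cg) haa
    (by rw [map_smul, haz, smul_zero]) hcg
  obtain ⟨t, htE, -⟩ := exists_isE h hN (a := a) (ω := 0) (c := c) haa (map_zero _) (by simp [hcσ])
  have ht : g * u * g⁻¹ * u⁻¹ = t := by
    have e1 := hgE.conj u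
    rw [hua, map_smul, huz, smul_add] at e1
    have hg' : IsE (t * (u * g * u⁻¹)) a (s • z) cg := by
      have e2 := htE.mul e1 haa (by rw [map_zero, LinearMap.zero_apply]) (by
        rw [map_add, map_smul, map_smul, haz, haa, smul_zero, add_zero])
      intro x
      rw [e2 x]
      simp only [map_add, map_smul, map_smulₛₗ, map_zero, LinearMap.add_apply, LinearMap.smul_apply,
        LinearMap.zero_apply, smul_eq_mul]
      rw [← hsc]
      module
    have : g = t * (u * g * u⁻¹) := hgE.unique hg'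
    calc g * u * g⁻¹ * u⁻¹ = g * (u * g * u⁻¹)⁻¹ := by group
      _ = t := by rw [mul_inv_eq_iff_eq_mul]; exact this
  -- the third generator
  have pair_li : ∀ {p q : V}, B p p = 0 → B q q = 0 → B p q ≠ 0 → LinearIndependent F ![p, q] := by
    intro p q hp hq hpq
    rw [LinearIndependent.pair_iff]
    intro x x' e
    have e1 := congrArg (B p) e
    have e2 := congrArg (B q) e
    simp only [map_add, map_smul, map_zero, smul_eq_mul, hp, hq, mul_zero, zero_add, add_zero] at e1 e2
    exact ⟨(mul_eq_zero.1 e2).resolve_right fun e' => hpq (h.isRefl _ _ e'), (mul_eq_zero.1 e1).resolve_right hpq⟩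
  have hyuy : B y (u.1 y) = ε := by rw [huy, map_add, hyy, hyz, zero_add]
  have huyuy : B (u.1 y) (u.1 y) = 0 := by rw [isomGroup_apply, hyy]
  have hνa : B (ν • a) (ν • a) = 0 := by rw [h.smul_self, haa, mul_zero]
  have hνb : B (ν • b) (ν • b) = 0 := by rw [h.smul_self, hbb, mul_zero]
  have hνab : B (ν • a) (ν • b) = ε := by
    simp only [map_smul, map_smulₛₗ, LinearMap.smul_apply, hab, hνσ, smul_eq_mul, RingHom.id_apply]
    rw [hδdef]
    field_simp
  obtain ⟨k₀, hk₀⟩ := h.witt_family hN (pair_li hyy huyuy (by rw [hyuy]; exact hε0))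
    (pair_li hνa hνb (by rw [hνab]; exact hε0)) (fun i j => by
    fin_cases i <;> fin_cases j
    · exact hyy.trans hνa.symm
    · exact hyuy.trans hνab.symm
    · exact ((h.symm _ _).symm.trans ((congrArg σ (hyuy.trans hνab.symm)).trans (h.symm _ _)))
    · exact huyuy.trans hνb.symm)
  obtain ⟨w, hw, hwa, hwy⟩ : ∃ w, B w w ≠ 0 ∧ B w a = 0 ∧ B w y = 0 := by
    have hy' : B a (β⁻¹ • y) = 1 := by rw [map_smul, ← hβ, smul_eq_mul, inv_mul_cancel₀ hβ0]
    have hP2 := h.nondegOn_hyp haa hy'
    have hWd := hP2.finrank_perp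
    rw [h.finrank_hyp haa hy'] at hWd
    obtain ⟨w, hw, hw1⟩ := h.exists_unit_in (nondegOn_perp hN hP2) (by omega) (a := (1 : F)) (map_one σ)
    have e1 := mem_perp_span.1 hw a (by simp)
    have e2 := mem_perp_span.1 hw (β⁻¹ • y) (by simp)
    refine ⟨w, by rw [hw1]; exact one_ne_zero, h.isRefl _ _ e1, h.isRefl _ _ ?_⟩
    rw [map_smulₛₗ, LinearMap.smul_apply, smul_eq_zero] at e2
    exact e2.resolve_left (hσne (inv_ne_zero hβ0))
  have hl : (idet B k₀)⁻¹ * σ (idet B k₀)⁻¹ = 1 := by rw [map_inv₀, ← mul_inv, h.idet_norm hN, inv_one]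
  obtain ⟨qr, hqr, hqd⟩ := h.exists_qr hN hw hl
  set k := qr * k₀ with hk
  have hkdet : idet B k = 1 := by
    rw [hk, map_mul, hqd, inv_mul_cancel₀]
    intro e
    simpa [e] using h.idet_norm hN k₀
  have hqfix : ∀ x, B w x = 0 → qr.1 x = x := fun x hx => by rw [hqr, hx, mul_zero, zero_smul, add_zero]
  have hky : k.1 y = ν • a := by
    rw [hk, mul_apply_iso, show k₀.1 y = ν • a from hk₀ 0, hqfix _ (by rw [map_smul, hwa, smul_zero])]
  have hkuy : k.1 (u.1 y) = ν • b := by
    rw [hk, mul_apply_iso, show k₀.1 (u.1 y) = ν • b from hk₀ 1,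
      hqfix _ (by rw [hb, map_smul, map_smul, hwy, smul_zero, smul_zero])]
  refine ⟨g, k, hgdet, hkdet, ?_⟩
  set H := Subgroup.closure ({u, g * u * g⁻¹, k * u * k⁻¹} : Set (isomGroup B))
  have huH : u ∈ H := Subgroup.subset_closure (Or.inl rfl)
  have hgH : g * u * g⁻¹ ∈ H := Subgroup.subset_closure (Or.inr (Or.inl rfl))
  set v := k * u * k⁻¹ with hv
  have hvH : v ∈ H := Subgroup.subset_closure (Or.inr (Or.inr rfl))
  have hHdet : ∀ x ∈ H, idet B x = 1 := by
    intro x hx
    induction hx using Subgroup.closure_induction with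
    | mem x hx =>
      rcases hx with rfl | rfl | rfl
      · exact hud
      · rw [map_mul, map_mul, hud, mul_one, ← map_mul, mul_inv_cancel, map_one]
      · rw [map_mul, map_mul, hud, mul_one, ← map_mul, mul_inv_cancel, map_one]
    | one => exact map_one _
    | mul x x' _ _ e e' => rw [map_mul, e, e', one_mul]
    | inv x _ e =>
      have := map_mul (idet B) x x⁻¹
      rw [mul_inv_cancel, map_one, e, one_mul] at this
      exact this.symm
  have hva : v.1 a = b := by
    have e : v.1 (ν • a) = ν • b := by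
      rw [← hky, ← hkuy, hv, mul_apply_iso, mul_apply_iso, inv_apply_eq k rfl]
    rw [map_smul] at e
    exact smul_right_injective V hν0 e
  have hcX : HE H a 0 c := ⟨t, ht ▸ mul_mem hgH (inv_mem huH), htE⟩
  have hHb : ∀ x, HE H a 0 x → HE H b 0 x := fun x hx => by
    have := hx.conj hvH
    rwa [hva, map_zero] at this
  -- all transvections at `a`
  have hXall : ∀ x, x + σ x = 0 → HE H a 0 x := by
    by_cases h20 : (2 : F) = 0
    · have hcv : c = β / Nd := by rw [hc, if_pos h20]
      have hu2 : HE H a 0 β⁻¹ := by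
        have h1 : HE H a ω cω := ⟨u, huH, huE⟩
        have h2 := h1.mul h1 haa hωa haω
        have e1 : ω + ω = 0 := by rw [← two_smul F, h20, zero_smul]
        have e2 : cω + cω - B ω ω = β⁻¹ := by
          rw [hω, h.smul_self, hzz, map_inv₀, hβσ]
          field_simp
          linear_combination cω * β * h20
        rwa [e1, e2] at h2
      have hγ : β⁻¹ * σ δ * (β⁻¹ * δ) = Nx := by
        have e := heven h20
        rw [hδdef, map_div₀, map_mul, hνσ]
        rw [eq_div_iff (mul_ne_zero (mul_ne_zero hβ0 hβ0) hNx0)] at e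
        field_simp
        linear_combination -e
      obtain ⟨k1, hk1, ek1⟩ := exists_swap h haa hcX (hHb _ hu2) (by
        rw [hab, hcv, ← hNd]; field_simp; linear_combination h20)
      obtain ⟨k2, hk2, ek2⟩ := exists_swap h hbb (hHb _ hcX) hu2 (by
        rw [← h.symm a b, hab, h.conj.invol, mul_comm (σ δ) δ, ← hNd, hcv]; field_simp; linear_combination h20)
      rw [hab] at ek1
      rw [← h.symm a b, hab, h.conj.invol] at ek2
      have hkk : (k2 * k1).1 a = Nx • a := by
        rw [mul_apply_iso, ek1, map_smul, ek2, smul_smul, hγ]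
      have hQ : ∀ x, x + σ x = 0 → HE H a 0 x → HE H a 0 (Nx * Nx * x) := fun x _ hx => by
        have := hx.conj (mul_mem hk2 hk1)
        rw [hkk, map_zero, he_smul_iff h, smul_zero, hNx, h.conj.norm_fixed] at this
        rw [hNx]
        exact this
      let X : AddSubgroup F :=
        { carrier := {x | x + σ x = 0 ∧ HE H a 0 x}
          zero_mem' := ⟨by rw [map_zero, add_zero], he_one⟩
          add_mem' := fun {x x'} hx hx' => ⟨by rw [map_add]; linear_combination hx.1 + hx'.1, by
            have := hx.2.mul hx'.2 haa (by rw [map_zero, LinearMap.zero_apply]) (map_zero _)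
            simpa using this⟩
          neg_mem' := fun {x} hx => ⟨by rw [map_neg]; linear_combination -hx.1, by
            have := hx.2.inv haa (map_zero _) (by rw [map_zero, LinearMap.zero_apply])
            simpa using this⟩ }
      have hNxσ : σ Nx = Nx := by rw [hNx]; exact h.conj.norm_fixed ξ
      have hXQ : ∀ x ∈ X, Nx * Nx * x ∈ X := fun x hx =>
        ⟨by rw [map_mul, map_mul, hNxσ]; linear_combination (Nx * Nx) * hx.1, hQ x hx.1 hx.2⟩
      intro x hx
      refine (imag_all X (c := c) ⟨hcσ, hcX⟩ hc0 hcσ (Q := Nx * Nx) (C := Nx * Nx) (mul_ne_zero hNx0 hNx0) hXQ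
        (fun x' hx' => by rw [mul_assoc]; exact hXQ _ (hXQ x' hx')) (fun S hS x' hx' => ?_) x hx).2
      have hmem : Nx ∈ S := by
        haveI : CharP F 2 := CharTwo.of_one_ne_zero_of_two_eq_zero one_ne_zero h20
        obtain ⟨m, -, hm⟩ := FiniteField.card F 2
        have hh : Fintype.card F = 2 * 2 ^ ((m : ℕ) - 1) := by
          rw [← pow_succ', Nat.sub_add_cancel m.pos, hm]
        have : (Nx * Nx) ^ (2 ^ ((m : ℕ) - 1)) = Nx := by
          rw [← pow_two, ← pow_mul, ← hh, FiniteField.pow_card]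
        exact this ▸ pow_mem hS _
      rcases eq_or_ne x' 0 with rfl | hx0
      · exact zero_mem S
      obtain ⟨j, rfl⟩ := hξgen x' hx' hx0
      exact pow_mem hmem j
    · have hcv : c = c₁⁻¹ := by rw [hc, if_neg h20]
      have hδε : δ = ε := by rw [hδdef, hodd h20, mul_one, div_one]
      have hlv : -Nx = c * c * (B a b * σ (B a b)) := by
        rw [hab, hδε, hcv, hε, map_mul, hσc₁, hNx]
        field_simp
      refine all_of_dickson h hN h20 haa hbb (by rw [hab]; exact hδ0) hcX (hHb _ hcX) hcσ hlv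
        (neg_ne_zero.2 hNx0) (fun S hS x hx => ?_) fun h9 e => ?_
      · rcases eq_or_ne x 0 with rfl | hx0
        · exact zero_mem S
        obtain ⟨j, rfl⟩ := hξgen x hx hx0
        exact pow_mem (by simpa using neg_mem hS) j
      · have h4 : Nx ^ 4 = 1 := by linear_combination (Nx ^ 2 - 1) * e
        have hcard : Nat.card (fixedField σ) ≤ 5 := by
          let f : fixedField σ → Option (Fin 4) := fun x =>
            if hx : (x : F) = 0 then none
            else some ⟨(hξgen _ (mem_fixedField.1 x.2) hx).choose % 4, Nat.mod_lt _ (by norm_num)⟩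
          have hinj : Function.Injective f := by
            intro x x' e
            simp only [f] at e
            split_ifs at e with hx hx' hx'
            · exact Subtype.ext (hx.trans hx'.symm)
            · have e1 := (hξgen _ (mem_fixedField.1 x.2) hx).choose_spec
              have e2 := (hξgen _ (mem_fixedField.1 x'.2) hx').choose_spec
              simp only [Option.some.injEq, Fin.mk.injEq] at e
              exact Subtype.ext (e1.trans ((pow_eq_pow_mod _ h4).trans ((congrArg _ e).trans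
                ((pow_eq_pow_mod _ h4).symm.trans e2.symm))))
          have := Nat.card_le_card_of_injective f hinj
          simpa using this
        omega
  have haPhi : a ∈ Phi H := ⟨haa, hXall⟩
  have hbPhi : b ∈ Phi H := hva ▸ Phi.conj hvH haPhi
  have hqPhi : u.1 b ∈ Phi H := Phi.conj huH hbPhi
  -- scalings of `a`
  have swap : ∀ {P Q : V}, P ∈ Phi H → Q ∈ Phi H → B P Q ≠ 0 → ∀ x, x + σ x = 0 → x ≠ 0 →
      ∃ k ∈ H, k.1 P = (x * σ (B P Q)) • Q := by
    intro P Q hP hQ hPQ x hx hx0
    have hd : B P Q * σ (B P Q) ≠ 0 := mul_ne_zero hPQ (hσne hPQ)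
    refine exists_swap h hP.1 (hP.2 (-1 / (x * (B P Q * σ (B P Q)))) ?_) (hQ.2 x hx) (by field_simp; rw [div_self (hσne hPQ)])
    rw [map_div₀, map_mul, h.conj.norm_fixed, eq_neg_of_add_eq_zero_right hx, map_neg, map_one]
    field_simp
    ring
  have hba : B b a = σ δ := by rw [← h.symm, hab]
  have hbub : B b (u.1 b) = θ * σ θ * ε := by
    rw [hb]
    simp only [map_smul, map_smulₛₗ, LinearMap.smul_apply, hyuy, smul_eq_mul, RingHom.id_apply]
    ring
  have haub : B a (u.1 b) = δ := by
    conv_lhs => rw [← hua, isomGroup_apply, hab]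
  have hNθ : θ * σ θ ≠ 0 := mul_ne_zero hθ0 (hσne hθ0)
  obtain ⟨A1, hA1, eA1⟩ := swap haPhi hbPhi (by rw [hab]; exact hδ0) c hcσ hc0
  obtain ⟨A2, hA2, eA2⟩ := swap hbPhi hqPhi (by rw [hbub]; exact mul_ne_zero hNθ hε0) c hcσ hc0
  obtain ⟨A3, hA3, eA3⟩ := swap hqPhi haPhi
    (fun e => hδ0 (by rw [← haub]; exact h.isRefl _ _ e)) c hcσ hc0
  rw [← h.symm a, haub, h.conj.invol] at eA3
  obtain ⟨lam, hlam⟩ : ∃ lam, lam = c * σ δ * (c * σ (θ * σ θ * ε)) * (c * δ) := ⟨_, rfl⟩
  have hlamA : (A3 * (A2 * A1)).1 a = lam • a := by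
    rw [mul_apply_iso, mul_apply_iso, eA1, hab, map_smul, eA2, hbub, map_smul, map_smul, eA3, smul_smul, smul_smul, hlam]
  have hlam0 : lam ≠ 0 := by
    rw [hlam, map_mul, h.conj.norm_fixed]
    exact mul_ne_zero (mul_ne_zero (mul_ne_zero hc0 (hσne hδ0))
      (mul_ne_zero hc0 (mul_ne_zero hNθ (hσne hε0)))) (mul_ne_zero hc0 hδ0)
  have hlam3 : σ (lam ^ 3) ≠ lam ^ 3 := by
    intro e
    obtain ⟨R, hR⟩ : ∃ R, R = c * c * c * σ c₁ * (θ * σ θ) * Nd := ⟨_, rfl⟩
    have hlR : lam = R * σ ξ := by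
      rw [hlam, hR, hNd, map_mul, h.conj.norm_fixed, hε, map_mul]; ring
    have hR0 : R ≠ 0 := fun e0 => hlam0 (by rw [hlR, e0, zero_mul])
    have hRσ : σ R = R := by
      rw [hR]
      simp only [map_mul, hσc, hσc₁, h.conj.invol, hNdσ, map_neg]
      ring
    refine hξ3 ?_
    rw [hlR, map_pow, map_mul, hRσ, h.conj.invol, mul_pow, mul_pow] at e
    rw [map_pow]
    exact (mul_left_cancel₀ (pow_ne_zero 3 hR0) e).symm
  -- the translation parts
  have hmove : ∀ {K : isomGroup B} {m : F}, K ∈ H → K.1 a = m • a → m ≠ 0 → ∀ x, InM H a (x • z) →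
      InM H a ((σ m * σ m / m * x) • z) := by
    intro K m hK hKa hm x hx
    obtain ⟨η, hη⟩ := middle_factor h hli hn haa haz hβ0 hm hKa (hHdet K hK)
    obtain ⟨-, cc, hcc⟩ := hx
    have := hcc.conj hK
    rw [hKa, he_smul_iff h, map_smul, hη] at this
    refine inM_shift h haa (η := σ m * (x * η)) ⟨?_, m * σ m * cc, ?_⟩
    · rw [map_add, map_smul, map_smul, haz, haa]; simp
    · convert this using 1
      rw [smul_add, smul_add, smul_smul, smul_smul, smul_smul, smul_smul]
      congr 2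
      · ring_nf
      · ring_nf
  have hμ : InM H a (β⁻¹ • z) := ⟨haω, cω, u, huH, huE⟩
  have hreal : ∀ r, σ r = r → r ≠ 0 → ∀ x, InM H a (x • z) → InM H a ((r * x) • z) := by
    intro r hr hr0 x hx
    obtain ⟨K1, hK1, e1⟩ := swap haPhi hbPhi (by rw [hab]; exact hδ0) c hcσ hc0
    obtain ⟨K2, hK2, e2⟩ := swap hbPhi haPhi (by rw [hba]; exact hσne hδ0) (r / (c * Nd))
      (by rw [map_div₀, map_mul, hr, hσc, hNdσ, neg_mul, div_neg, add_neg_cancel])
      (div_ne_zero hr0 (mul_ne_zero hc0 hNd0))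
    have e : (K2 * K1).1 a = r • a := by
      rw [mul_apply_iso, e1, hab, map_smul, e2, hba, h.conj.invol, smul_smul, hNd]
      congr 1
      field_simp
      exact div_self (hσne hδ0)
    have := hmove (mul_mem hK2 hK1) e hr0 x hx
    rwa [hr, mul_div_assoc, div_self hr0, mul_one] at this
  have hline : ∀ x : F, InM H a (x • z) := by
    intro x
    set f := σ lam * σ lam / lam with hf
    have hf0 : f - σ f ≠ 0 := by
      intro e
      refine hlam3 ?_
      rw [hf, map_div₀, map_mul, h.conj.invol, sub_eq_zero, div_eq_div_iff hlam0 (hσne hlam0)] at e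
      rw [map_pow]
      linear_combination e
    obtain ⟨T, hT⟩ : ∃ T, T = x * β := ⟨_, rfl⟩
    set r₂ := (T - σ T) / (f - σ f) with hr₂
    have hr₂σ : σ r₂ = r₂ := by
      rw [hr₂, map_div₀, map_sub, map_sub, h.conj.invol, h.conj.invol, ← neg_sub T, ← neg_sub f, neg_div_neg_eq]
    set r₁ := T - r₂ * f with hr₁
    have hr₁σ : σ r₁ = r₁ := by
      have e : r₂ * (f - σ f) = T - σ T := div_mul_cancel₀ _ hf0
      rw [hr₁, map_sub, map_mul, hr₂σ]
      linear_combination e
    have hz0 : InM H a ((0 : F) • z) := ⟨by simp, 0, by rw [zero_smul]; exact he_one⟩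
    have get : ∀ r, σ r = r → ∀ y', InM H a (y' • z) → InM H a ((r * y') • z) := fun r hr y' hy' => by
      rcases eq_or_ne r 0 with rfl | hr0
      · rwa [zero_mul]
      · exact hreal r hr hr0 y' hy'
    have := (get r₁ hr₁σ _ hμ).add h haa (get r₂ hr₂σ _
      (hmove (mul_mem hA3 (mul_mem hA2 hA1)) hlamA hlam0 _ hμ))
    rw [← hf, ← add_smul] at this
    convert this using 2
    rw [hr₁, hT]
    field_simp
    ring
  refine tGroup_le h hN haPhi hbPhi (by rw [hab]; exact hδ0) fun x hx => ?_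
  have hrep := bs.sum_repr x
  simp only [bs, coe_basisOfLinearIndependentOfCardEqFinrank, Fin.sum_univ_three, Matrix.cons_val_zero,
    Matrix.cons_val_one, Matrix.cons_val] at hrep
  set η₀ := bs.repr x 0
  set η₁ := bs.repr x 1
  set η₂ := bs.repr x 2
  have h2 : η₂ = 0 := by
    have := congrArg (B a) hrep
    simp only [map_add, map_smul, smul_eq_mul, haa, haz, hx, ← hβ, mul_zero, zero_add] at this
    exact (mul_eq_zero.1 this).resolve_right hβ0
  rw [h2, zero_smul, add_zero, add_comm] at hrep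
  obtain ⟨-, cc, g', hg', hE⟩ := hline η₁
  refine ⟨hx, cc - η₀ + σ η₀, g', hg', fun v' => ?_⟩
  rw [hE, ← hrep]
  simp only [map_add, map_smul, map_smulₛₗ, LinearMap.add_apply, LinearMap.smul_apply, smul_eq_mul]
  module

end CfsgLib.Classical.SUUnipotent
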