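import Cfsg.Agent.Lib.Classical.Dickson.PSL
import Cfsg.Agent.Lib.Classical.Dickson.Generation
import Cfsg.Agent.Lib.Classical.Dickson.Rational
import Cfsg.Agent.S3920
import Mathlib

/-!
# `PSL₂(q)` has self-centralising non-cyclic subgroups for `q = 4, 9` and Fermat or Mersenne primes
-/

set_option autoImplicit false
set_option linter.unusedSectionVars false
set_option linter.style.haveILetI false

namespace CfsgLib.Classical.SelfCentPSL

open Matrix OnePoint MulAction CfsgLib.Classical.Dickson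
open scoped MatrixGroups

theorem center_perm_four : Subgroup.center (Equiv.Perm (Fin 4)) = ⊥ := by
  refine (Subgroup.eq_bot_iff_forall _).2 fun σ hσ => ?_
  have h : ∀ τ : Equiv.Perm (Fin 4), (τ * Equiv.swap 0 1 = Equiv.swap 0 1 * τ ∧
      τ * Equiv.swap 1 2 = Equiv.swap 1 2 * τ) → τ = 1 := by decide
  exact h σ ⟨(Subgroup.mem_center_iff.1 hσ _).symm, (Subgroup.mem_center_iff.1 hσ _).symm⟩

theorem dvd_odd_or_two_pow {a m : ℕ} (ha : Odd a ∨ ∃ j, a = 2 ^ j) (hm : m ∣ a) : Odd m ∨ ∃ j, m = 2 ^ j := by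
  rcases ha with h | ⟨j, rfl⟩
  · exact Or.inl (h.of_dvd_nat hm)
  · obtain ⟨i, -, hi⟩ := (Nat.dvd_prime_pow Nat.prime_two).1 hm
    exact Or.inr ⟨i, hi⟩

theorem torus_orders {q : ℕ} (hq : q = 4 ∨ q = 9 ∨ q.Prime ∧ ∃ k : ℕ, q = 2 ^ k + 1 ∨ q = 2 ^ k - 1) :
    (Odd ((q - 1) / Nat.gcd 2 (q - 1)) ∨ ∃ j, (q - 1) / Nat.gcd 2 (q - 1) = 2 ^ j) ∧
      (Odd ((q + 1) / Nat.gcd 2 (q - 1)) ∨ ∃ j, (q + 1) / Nat.gcd 2 (q - 1) = 2 ^ j) := by
  rcases hq with rfl | rfl | ⟨hp, k, hk⟩
  · exact ⟨Or.inl (by decide), Or.inl (by decide)⟩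
  · exact ⟨Or.inr ⟨2, by decide⟩, Or.inl (by decide)⟩
  · by_cases h2 : q = 2
    · subst h2; exact ⟨Or.inl (by decide), Or.inl (by decide)⟩
    have hodd := hp.odd_of_ne_two h2
    have hg : Nat.gcd 2 (q - 1) = 2 := Nat.gcd_eq_left (by obtain ⟨r, hr⟩ := hodd; omega)
    rw [hg]
    have hp2 := hp.two_le
    rcases k with _ | _ | k
    · rcases hk with rfl | rfl <;> simp at hp2 h2
    · rcases hk with rfl | rfl
      · exact ⟨Or.inl (by decide), Or.inr ⟨1, by decide⟩⟩
      · simp at hp2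
    · have h4 : 2 ^ (k + 2) = 4 * 2 ^ k := by ring
      have hpos := Nat.two_pow_pos k
      rcases hk with rfl | rfl
      · exact ⟨Or.inr ⟨k + 1, by rw [pow_succ 2 k]; omega⟩, Or.inl ⟨2 ^ k, by omega⟩⟩
      · exact ⟨Or.inl ⟨2 ^ k - 1, by omega⟩, Or.inr ⟨k + 1, by rw [pow_succ 2 k]; omega⟩⟩

theorem card_le_char_sq {F : Type*} [Field F] [Fintype F] (p : ℕ) [hp : Fact p.Prime] [CharP F p]
    (hq : Fintype.card F = 4 ∨ Fintype.card F = 9 ∨ (Fintype.card F).Prime ∧
      ∃ k : ℕ, Fintype.card F = 2 ^ k + 1 ∨ Fintype.card F = 2 ^ k - 1) :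
    Fintype.card F ≤ p ^ 2 := by
  obtain ⟨f, -, hf⟩ := FiniteField.card F p
  have hp2 := hp.out.two_le
  rcases hq with h | h | ⟨h, -⟩
  · rw [h]; exact le_trans (le_of_eq (by norm_num)) (Nat.pow_le_pow_left hp2 2)
  · have : p ∣ 9 := by rw [← h, hf]; exact dvd_pow_self p f.ne_zero
    have hp3 : p = 3 := by
      have := (Nat.prime_dvd_prime_iff_eq hp.out Nat.prime_three).1
        (hp.out.dvd_of_dvd_pow (m := 3) (n := 2) (by simpa using this))
      exact this
    rw [h, hp3]; norm_num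
  · rw [hf] at h ⊢
    rw [Nat.Prime.eq_one_of_pow h, pow_one]
    exact Nat.le_self_pow two_ne_zero p

variable {F : Type*} [Field F] [Fintype F] [DecidableEq F] (p : ℕ) [hp : Fact p.Prime] [CharP F p]

local notation "PG" => ProjGenLinGroup (Fin 2) F

/-- A group of unipotent elements with a common fixed point has at most `q` elements. -/
theorem card_le_of_unip {K : Subgroup PG} {z : OnePoint F} (hz : ∀ g ∈ K, g • z = z)
    (hu : ∀ g ∈ K, g ^ p = 1) : Nat.card K ≤ Fintype.card F := by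
  obtain ⟨h, hh⟩ := exists_to_infty z
  have hfix : ∀ g : K, (h⁻¹ * (g : PG) * h) • (∞ : OnePoint F) = ∞ := fun g => by
    rw [mul_smul, mul_smul, hh, hz _ g.2, ← hh, inv_smul_smul]
  have hspec : ∀ g : K, h⁻¹ * (g : PG) * h = aff (1 : Fˣ) (exists_aff (hfix g)).choose_spec.choose := fun g => by
    have e := (exists_aff (hfix g)).choose_spec.choose_spec
    have ha : aff (exists_aff (hfix g)).choose (exists_aff (hfix g)).choose_spec.choose ^ p = 1 := by
      rw [← e, show h⁻¹ * (g : PG) * h = MulAut.conj h⁻¹ g by simp, ← map_pow, hu _ g.2, map_one]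
    exact e.trans (congrArg (fun a => aff a _) ((aff_pow_char_eq_one_iff p _ _).1 ha))
  rw [← Nat.card_eq_fintype_card]
  refine Nat.card_le_card_of_injective (fun g : K => (exists_aff (hfix g)).choose_spec.choose) fun a b hab => ?_
  have e := (hspec a).trans ((congrArg (aff (1 : Fˣ)) hab).trans (hspec b).symm)
  exact Subtype.ext (mul_left_cancel (mul_right_cancel e))

theorem lowT_facts : ProjGenLinGroup.mk (SpecialLinearGroup.toGL (lowT (F := F))) • ((0 : F) : OnePoint F) =
    ((0 : F) : OnePoint F) := by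
  have h10 : (SpecialLinearGroup.toGL (lowT (F := F)) : Matrix (Fin 2) (Fin 2) F) = !![1, 0; 1, 1] := rfl
  rw [mk_smul, smul_some_eq_ite]
  simp [h10]

include p in
/-- Only the identity commutes with the rational elements `upT 1` and `lowT`. -/
theorem eq_one_of_commute_ratPSL {A : Subfield F} {y : PG} (hy : ∀ g ∈ ratPSL A, g * y = y * g) : y = 1 := by
  let U : SL(2, A) := ⟨!![1, 1; 0, 1], by simp⟩
  let L : SL(2, A) := ⟨!![1, 0; 1, 1], by simp⟩
  have hU : aff (1 : Fˣ) (1 : F) ∈ ratPSL A := ⟨U, by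
    show ProjGenLinGroup.map A.subtype (ProjGenLinGroup.mk (SpecialLinearGroup.toGL U)) = _
    rw [ProjGenLinGroup.map_mk, aff]
    refine congrArg ProjGenLinGroup.mk (Units.ext ?_)
    ext i j
    fin_cases i <;> fin_cases j <;> simp [affGL, U] <;> rfl⟩
  have hL : ProjGenLinGroup.mk (SpecialLinearGroup.toGL (lowT (F := F))) ∈ ratPSL A := ⟨L, by
    show ProjGenLinGroup.map A.subtype (ProjGenLinGroup.mk (SpecialLinearGroup.toGL L)) = _
    rw [ProjGenLinGroup.map_mk]
    refine congrArg ProjGenLinGroup.mk (Units.ext ?_)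
    ext i j
    fin_cases i <;> fin_cases j <;> simp [lowT, L] <;> rfl⟩
  set u : PG := aff (1 : Fˣ) (1 : F) with hu
  set l : PG := ProjGenLinGroup.mk (SpecialLinearGroup.toGL (lowT (F := F))) with hl
  have hu1 : u ≠ 1 := fun e => one_ne_zero (aff_eq_one_iff.1 e).2
  have hup : u ^ p = 1 := (aff_pow_char_eq_one_iff p _ _).2 rfl
  have huy : u • (y • (∞ : OnePoint F)) = y • (∞ : OnePoint F) := by
    rw [← mul_smul, hy u hU, mul_smul, hu, aff_smul_infty]
  have hyinf : y • (∞ : OnePoint F) = ∞ := fix_of_unip p hu1 hup (aff_smul_infty _ _) huy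
  obtain ⟨a, b, rfl⟩ := exists_aff hyinf
  have hc := hy u hU
  rw [hu, aff_mul, aff_mul] at hc
  have ha : a = 1 := by
    have h := (aff_injective hc).2
    simp only [Units.val_one, one_mul, mul_one] at h
    exact Units.ext (by rw [Units.val_one]; linear_combination -h)
  subst ha
  have hl1 : l ≠ 1 := toPGL_ne_one_of (Or.inl (by simp [lowT]))
  have hlp : l ^ p = 1 := by
    rw [hl, ← map_pow, ← map_pow, lowT_pow_char p, map_one, map_one]
  have hly : l • (aff (1 : Fˣ) b • ((0 : F) : OnePoint F)) = aff (1 : Fˣ) b • ((0 : F) : OnePoint F) := by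
    rw [← mul_smul, hy l hL, mul_smul, hl, lowT_facts]
  have h0 := fix_of_unip p hl1 hlp lowT_facts hly
  rw [aff_smul_coe, coe_eq_coe, Units.val_one, one_mul, zero_add] at h0
  rw [h0, aff_one]

/-- `PSL₂(q)` has self-centralising non-cyclic subgroups for these `q`. -/
theorem mem_of_centralizes (hq : Fintype.card F = 4 ∨ Fintype.card F = 9 ∨ (Fintype.card F).Prime ∧
      ∃ k : ℕ, Fintype.card F = 2 ^ k + 1 ∨ Fintype.card F = 2 ^ k - 1)
    (H : Subgroup (ProjectiveSpecialLinearGroup (Fin 2) F)) (hH : ¬ IsCyclic ↥H)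
    {x : ProjectiveSpecialLinearGroup (Fin 2) F}
    (hx : x ∈ Subgroup.centralizer (H : Set (ProjectiveSpecialLinearGroup (Fin 2) F))) : x ∈ H := by
  classical
  obtain ⟨p, hpc⟩ := CharP.exists F
  obtain ⟨f, hp', -⟩ := FiniteField.card F p
  haveI hpf : Fact p.Prime := ⟨hp'⟩
  let ι := ProjectiveSpecialLinearGroup.toPGL (n := Fin 2) (R := F)
  have hι : Function.Injective ι := ProjectiveSpecialLinearGroup.toPGL_injective
  haveI : Finite (ProjectiveSpecialLinearGroup (Fin 2) F) := Finite.of_injective ι hι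
  set K := H ⊔ Subgroup.zpowers x with hK
  have hxK : x ∈ K := Subgroup.mem_sup_right (Subgroup.mem_zpowers x)
  have hHK : H ≤ K := le_sup_left
  have hKx : ∀ g ∈ K, g * x = x * g := fun g hg => by
    have hle : K ≤ Subgroup.centralizer ({x} : Set (ProjectiveSpecialLinearGroup (Fin 2) F)) := sup_le
      (fun a ha => Subgroup.mem_centralizer_singleton_iff.2 (Subgroup.mem_centralizer_iff.1 hx a ha))
      (Subgroup.zpowers_le.2 (Subgroup.mem_centralizer_singleton_iff.2 rfl))
    exact Subgroup.mem_centralizer_singleton_iff.1 (hle hg)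
  have hKc : ¬ IsCyclic ↥K := fun h => hH (@Subgroup.isCyclic_of_le _ _ _ _ hHK h)
  have hKP : ¬ IsCyclic ↥(inPGL K) := fun h => hKc ((inPGLEquiv K).isCyclic.2 h)
  -- a group with trivial centre
  have htrivial : ∀ {X : Type} [Group X], Nonempty (inPGL K ≃* X) → Subgroup.center X = ⊥ → x ∈ H := by
    intro X _ ⟨e⟩ hX
    have h1 : (((inPGLEquiv K).trans e) ⟨x, hxK⟩) ∈ Subgroup.center X := by
      rw [Subgroup.mem_center_iff]
      intro g
      obtain ⟨w, rfl⟩ := ((inPGLEquiv K).trans e).surjective g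
      rw [← map_mul, ← map_mul]
      exact congrArg _ (Subtype.ext (hKx w w.2))
    rw [hX, Subgroup.mem_bot, EmbeddingLike.map_eq_one_iff, Subtype.ext_iff] at h1
    simp only [Subgroup.coe_one] at h1
    rw [h1]; exact one_mem H
  have hrat : ∀ (A : Subfield F) (h : PG),
      ratPSL A ≤ (inPGL K).map (MulAut.conj h).toMonoidHom → x ∈ H := by
    intro A h hle
    have hy : MulAut.conj h (ι x) = 1 := by
      refine eq_one_of_commute_ratPSL p (A := A) fun g hg => ?_
      obtain ⟨w, ⟨v, hv, rfl⟩, rfl⟩ := hle hg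
      show MulAut.conj h (ι v) * MulAut.conj h (ι x) = MulAut.conj h (ι x) * MulAut.conj h (ι v)
      rw [← map_mul, ← map_mul, ← map_mul, ← map_mul, hKx v hv]
    rw [EmbeddingLike.map_eq_one_iff, map_eq_one_iff _ hι] at hy
    rw [hy]; exact one_mem H
  rcases kind p (inPGL K) with ⟨z, hz⟩ | ⟨c, hc, -⟩ | ⟨c, hc, hpc, hc2, ⟨e⟩⟩ | h | h | h | ⟨A, h, hG⟩ |
      ⟨A, -, h, hG⟩
  · -- a common fixed point
    by_cases hx1 : x = 1
    · rw [hx1]; exact one_mem H
    have hxz : ι x • z = z := hz _ ⟨x, hxK, rfl⟩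
    by_cases hxp : ι x ^ p = 1
    · have hunip : ∀ g ∈ inPGL K, g ^ p = 1 := by
        rintro _ ⟨g, hg, rfl⟩
        by_contra hgp
        refine not_commute_unip p (fun e => hx1 (hι (e.trans (map_one ι).symm))) hxp hxz (hz _ ⟨g, hg, rfl⟩) hgp ?_
        rw [← map_mul, ← map_mul, hKx g hg]
      have hle := card_le_of_unip p hz hunip
      rw [← Nat.card_congr (inPGLEquiv K).toEquiv] at hle
      have hKp : IsPGroup p K := fun g => ⟨1, Subtype.ext (hι (by
        rw [pow_one, Subgroup.coe_pow, map_pow, Subgroup.coe_one, map_one]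
        exact hunip _ ⟨g, g.2, rfl⟩))⟩
      have hHp : IsPGroup p H := hKp.of_injective (Subgroup.inclusion hHK) (Subgroup.inclusion_injective hHK)
      obtain ⟨j, hj⟩ := IsPGroup.iff_card.1 hHp
      have hj2 : 2 ≤ j := by
        by_contra hlt
        refine hH (isCyclic_of_card_dvd_prime (p := p) ?_)
        rw [hj]
        exact (pow_dvd_pow p (by omega : j ≤ 1)).trans (pow_one p).dvd
      have h2 : Nat.card K ≤ Nat.card H := hle.trans ((card_le_char_sq p hq).trans
        (hj ▸ Nat.pow_le_pow_right hpf.out.pos hj2))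
      exact (Subgroup.eq_of_le_of_card_ge hHK h2).symm ▸ hxK
    · exfalso
      refine hKP ?_
      let f : inPGL K →* Fˣ := (multiAt (E := F) z).comp
        ((inPGL K).subtype.codRestrict (stabilizer PG z) fun g => hz _ g.2)
      refine isCyclic_of_injective f ((injective_iff_map_eq_one f).2 fun g hg => ?_)
      have hgp : (g : PG) ^ p = 1 := (multiAt_eq_one_iff p z _).1 hg
      by_contra hg1
      obtain ⟨w, hw, hwg⟩ := g.2
      refine not_commute_unip p (fun e => hg1 (Subtype.ext e)) hgp (hz _ g.2) hxz hxp ?_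
      rw [← hwg]
      show ι x * ι w = ι w * ι x
      rw [← map_mul, ← map_mul, hKx w hw]
  · exfalso
    exact hKP (hc ▸ (inferInstance : IsCyclic ↥(Subgroup.zpowers c)))
  · -- dihedral
    obtain ⟨c0, -, rfl⟩ := hc
    rw [orderOf_injective _ hι] at hpc hc2 e
    have hord : Odd (orderOf c0) ∨ ∃ j, orderOf c0 = 2 ^ j := by
      rcases psl_order_dvd p hpc with hd | hd
      · exact dvd_odd_or_two_pow (torus_orders hq).1 hd
      · exact dvd_odd_or_two_pow (torus_orders hq).2 hd
    let φ : K ≃* DihedralGroup (orderOf c0) := (inPGLEquiv K).trans e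
    rcases Nat.lt_or_ge (orderOf c0) 3 with h3 | h3
    · have hm2 : orderOf c0 = 2 := by omega
      have hcard : Nat.card K = 4 := by
        rw [Nat.card_congr φ.toEquiv, DihedralGroup.nat_card, hm2]
      have hdvd : Nat.card H ∣ 4 := hcard ▸ Subgroup.card_dvd_of_le hHK
      haveI : Fact (Nat.Prime 2) := ⟨Nat.prime_two⟩
      obtain ⟨i, hi, hi'⟩ := (Nat.dvd_prime_pow Nat.prime_two).1 (show Nat.card H ∣ 2 ^ 2 from hdvd)
      rcases Nat.lt_or_ge i 2 with h1 | h1
      · refine absurd (isCyclic_of_card_dvd_prime (p := 2) ?_) hH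
        rw [hi']
        exact (pow_dvd_pow 2 (by omega : i ≤ 1)).trans (pow_one 2).dvd
      · have : i = 2 := by omega
        subst this
        exact (Subgroup.eq_of_le_of_card_ge hHK (by rw [hcard, hi']; norm_num)).symm ▸ hxK
    · have hD := (Cfsg.Agent.S3920.result (orderOf c0) h3).2 hord
      set H' := (H.subgroupOf K).map φ.toMonoidHom with hH'
      have hH'c : ¬ IsCyclic ↥H' := fun h => hH (((H.subgroupOf K).equivMapOfInjective φ.toMonoidHom φ.injective
        |>.symm.trans (Subgroup.subgroupOfEquivOfLe hHK)).isCyclic.1 h)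
      have hxH' : φ ⟨x, hxK⟩ ∈ H' := by
        refine hD H' hH'c (Subgroup.mem_centralizer_iff.2 ?_)
        rintro _ ⟨w, -, rfl⟩
        show φ w * φ ⟨x, hxK⟩ = φ ⟨x, hxK⟩ * φ w
        rw [← map_mul, ← map_mul]
        exact congrArg φ (Subtype.ext (hKx w w.2))
      obtain ⟨w, hw, hwx⟩ := hxH'
      rw [φ.injective hwx] at hw
      exact hw
  · exact htrivial h (alternatingGroup.center_eq_bot (by simp))
  · exact htrivial h center_perm_four
  · exact htrivial h (alternatingGroup.center_eq_bot (by simp))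
  · exact hrat A h (hG ▸ ratPSL_le A)
  · exact hrat A h (le_of_eq hG.symm)

end CfsgLib.Classical.SelfCentPSL
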