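import Mathlib
import Cfsg.Prelude.Def_Classical
import Cfsg.Agent.Lib.Classical.SL2Tori
import Cfsg.Agent.Lib.Classical.SL2Fours
import Cfsg.Agent.Lib.Classical.SLOrders
import Cfsg.Agent.Lib.Classical.SympMatrix
import Cfsg.Agent.Lib.Classical.HermMatrix

/-!
Elements of order sixty-five in small classical groups over the field of eight elements.
-/

set_option autoImplicit false

namespace CfsgLib.Classical.SixtyFive

open Matrix

variable {F : Type*} [Field F]

/-- The quotient by a trivial subgroup keeps the orders. -/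
theorem exists_orderOf_quotient {G : Type*} [Group G] {N : Subgroup G} [N.Normal] (hN : N = ⊥) {n : ℕ}
    (h : ∃ g : G, orderOf g = n) : ∃ g : G ⧸ N, orderOf g = n := by
  obtain ⟨g, hg⟩ := h
  exact ⟨QuotientGroup.mk' N g, by
    rw [orderOf_injective _ ((MonoidHom.ker_eq_bot_iff _).1 (by rw [QuotientGroup.ker_mk', hN])), hg]⟩

theorem exists_of_hom {G H : Type*} [Group G] [Group H] (φ : G →* H) (hφ : Function.Injective φ) {n : ℕ}
    (h : ∃ g : G, orderOf g = n) : ∃ g : H, orderOf g = n := by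
  obtain ⟨g, hg⟩ := h
  exact ⟨φ g, by rw [orderOf_injective φ hφ, hg]⟩

theorem psl2 [Fintype F] (h64 : Fintype.card F = 64) :
    ∃ g : ProjectiveSpecialLinearGroup (Fin 2) F, orderOf g = 65 := by
  have : Fact (Nat.Prime 2) := ⟨Nat.prime_two⟩
  have : CharP F 2 := charP_of_card_eq_prime_pow (f := 6) (by simpa using h64)
  obtain ⟨g, hg⟩ := exists_sl2_plus (F := F) 2
  refine exists_orderOf_quotient ?_ ⟨g, by rw [hg, h64]⟩
  refine (Subgroup.eq_bot_iff_forall _).2 fun z hz => ?_
  rcases sl2_center_eq hz with h | h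
  · exact h
  · rw [h]
    exact Subtype.ext (by simp [CharTwo.neg_eq])

section Eight

/-- The quadratic extension by a cube root of unity. -/
abbrev Ext (F : Type*) [Field F] : Type _ := QuadraticAlgebra F 1 1

variable [CharP F 2]

/-- The regular representation of the extension by symmetric matrices. -/
def reg : Ext F →ₐ[F] Matrix (Fin 2) (Fin 2) F :=
  QuadraticAlgebra.lift ⟨!![0, 1; 1, 1], by
    ext i j
    fin_cases i <;> fin_cases j <;> simp [Matrix.mul_apply, Fin.sum_univ_two, CharTwo.two_eq_zero] <;> ring_nf <;>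
      simp [CharTwo.two_eq_zero]⟩

theorem reg_transpose (x : Ext F) : (reg x)ᵀ = reg x := by
  ext i j
  fin_cases i <;> fin_cases j <;> simp [reg, QuadraticAlgebra.lift]

theorem reg_block_mem {A B C D : Ext F} (h : A * D - B * C = 1) :
    fromBlocks (reg A) (reg B) (reg C) (reg D) ∈ symplecticGroup (Fin 2) F := by
  refine SymplecticGroup.fromBlocks_mem_iff.2 ?_
  simp only [reg_transpose, ← map_mul, ← map_sub, mul_comm C A, mul_comm D B, mul_comm C B, h, map_one, and_self]

variable [hab : Fact (∀ r : F, r ^ 2 ≠ 1 + 1 * r)]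

/-- Restriction of scalars of `SL₂` to the symplectic group. -/
noncomputable def toSp : SpecialLinearGroup (Fin 2) (Ext F) →* symplecticGroup (Fin 2) F where
  toFun g := ⟨fromBlocks (reg (g.1 0 0)) (reg (g.1 0 1)) (reg (g.1 1 0)) (reg (g.1 1 1)),
    reg_block_mem (by rw [← Matrix.det_fin_two]; exact g.2)⟩
  map_one' := Subtype.ext (by simp)
  map_mul' g h := Subtype.ext (by
    rw [Submonoid.coe_mul]
    simp [fromBlocks_multiply, Matrix.mul_apply, Fin.sum_univ_two, map_add, map_mul])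

theorem toSp_injective : Function.Injective (toSp (F := F)) := by
  intro g h e
  have hr : Function.Injective (reg (F := F)) := RingHom.injective (reg (F := F)).toRingHom
  have e' : fromBlocks (reg (g.1 0 0)) (reg (g.1 0 1)) (reg (g.1 1 0)) (reg (g.1 1 1)) =
      fromBlocks (reg (h.1 0 0)) (reg (h.1 0 1)) (reg (h.1 1 0)) (reg (h.1 1 1)) := congrArg Subtype.val e
  obtain ⟨e1, e2, e3, e4⟩ := fromBlocks_inj.1 e'
  refine Subtype.ext (Matrix.ext fun i j => ?_)
  fin_cases i <;> fin_cases j <;> [exact hr e1; exact hr e2; exact hr e3; exact hr e4]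

end Eight

theorem fact_no_root [Fintype F] (h8 : Fintype.card F = 8) [CharP F 2] :
    Fact (∀ r : F, r ^ 2 ≠ 1 + 1 * r) := ⟨fun r h => by
  rw [one_mul] at h
  have hr0 : r ≠ 0 := by rintro rfl; simp at h
  have h3 : r ^ 3 = 1 := by
    calc r ^ 3 = r ^ 2 * r := by ring
      _ = r + r ^ 2 := by rw [h]; ring_nf; rw [h]; ring
      _ = 1 + (r + r) := by rw [h]; ring
      _ = 1 := by rw [CharTwo.add_self_eq_zero, add_zero]
  have h7 : r ^ 7 = 1 := by
    rw [show 7 = Fintype.card F - 1 by omega]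
    exact FiniteField.pow_card_sub_one_eq_one r hr0
  have h1 : r = 1 := by
    rw [show r ^ 7 = (r ^ 3) ^ 2 * r by ring, h3, one_pow, one_mul] at h7
    exact h7
  subst h1
  rw [one_pow, CharTwo.add_self_eq_zero] at h
  exact one_ne_zero h⟩

theorem sp4 [Fintype F] (h8 : Fintype.card F = 8) : ∃ g : symplecticGroup (Fin 2) F, orderOf g = 65 := by
  classical
  have : Fact (Nat.Prime 2) := ⟨Nat.prime_two⟩
  have : CharP F 2 := charP_of_card_eq_prime_pow (f := 3) (by simpa using h8)
  have := fact_no_root h8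
  let _ : Fintype (Ext F) := Fintype.ofEquiv _ (QuadraticAlgebra.equivProd (1 : F) 1).symm
  have hc : Fintype.card (Ext F) = 64 := by
    rw [Fintype.card_congr (QuadraticAlgebra.equivProd (1 : F) 1), Fintype.card_prod, h8]
  have : CharP (Ext F) 2 := charP_of_card_eq_prime_pow (f := 6) (by simpa using hc)
  obtain ⟨g, hg⟩ := exists_sl2_plus (F := Ext F) 2
  exact exists_of_hom toSp toSp_injective ⟨g, by rw [hg, hc]⟩

theorem sp_center_bot [CharP F 2] (m : ℕ) : Subgroup.center (symplecticGroup (Fin m) F) = ⊥ := by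
  refine (Subgroup.eq_bot_iff_forall _).2 fun z hz => ?_
  rcases sp_center_eq m hz with h | h
  · exact Subtype.ext h
  · refine Subtype.ext ?_
    rw [h, Submonoid.coe_one]
    ext i j
    simp [CharTwo.neg_eq]

theorem psp4 [Fintype F] (h8 : Fintype.card F = 8) : ∃ g : Cfsg.PSp 2 F, orderOf g = 65 := by
  have : Fact (Nat.Prime 2) := ⟨Nat.prime_two⟩
  have : CharP F 2 := charP_of_card_eq_prime_pow (f := 3) (by simpa using h8)
  exact exists_orderOf_quotient (sp_center_bot 2) (sp4 h8)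

section Pad

/-- A symplectic matrix extended by the identity. -/
def pad (M : Matrix (Fin 2 ⊕ Fin 2) (Fin 2 ⊕ Fin 2) F) : Matrix (Fin 3 ⊕ Fin 3) (Fin 3 ⊕ Fin 3) F :=
  let e : (Fin 2 ⊕ Fin 1) ≃ Fin 3 := finSumFinEquiv
  fromBlocks (reindex e e (fromBlocks M.toBlocks₁₁ 0 0 1)) (reindex e e (fromBlocks M.toBlocks₁₂ 0 0 0))
    (reindex e e (fromBlocks M.toBlocks₂₁ 0 0 0)) (reindex e e (fromBlocks M.toBlocks₂₂ 0 0 1))

theorem pad_mem {M : Matrix (Fin 2 ⊕ Fin 2) (Fin 2 ⊕ Fin 2) F} (h : M ∈ symplecticGroup (Fin 2) F) :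
    pad M ∈ symplecticGroup (Fin 3) F := by
  rw [← fromBlocks_toBlocks M] at h
  obtain ⟨h1, h2, h3⟩ := SymplecticGroup.fromBlocks_mem_iff.1 h
  refine SymplecticGroup.fromBlocks_mem_iff.2 ?_
  simp [reindex_apply, transpose_submatrix, fromBlocks_transpose, submatrix_mul_equiv, fromBlocks_multiply,
    h1, h2]
  rw [sub_eq_iff_eq_add, ← submatrix_one_equiv (finSumFinEquiv (m := 2) (n := 1)).symm]
  show _ = ((1 : Matrix (Fin 2 ⊕ Fin 1) (Fin 2 ⊕ Fin 1) F) + fromBlocks (M.toBlocks₂₁ᵀ * M.toBlocks₁₂) 0 0 0).submatrix _ _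
  rw [← fromBlocks_one, fromBlocks_add, sub_eq_iff_eq_add.1 h3]
  simp

/-- The extension as a homomorphism. -/
def padHom : symplecticGroup (Fin 2) F →* symplecticGroup (Fin 3) F where
  toFun M := ⟨pad M.1, pad_mem M.2⟩
  map_one' := Subtype.ext (by
    simp only [pad, Submonoid.coe_one]
    rw [← fromBlocks_one, toBlocks_fromBlocks₁₁, toBlocks_fromBlocks₁₂, toBlocks_fromBlocks₂₁,
      toBlocks_fromBlocks₂₂]
    simp [reindex_apply, fromBlocks_one])
  map_mul' a b := Subtype.ext (by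
    show pad (a * b).1 = pad a.1 * pad b.1
    have e : (a * b).1 = fromBlocks a.1.toBlocks₁₁ a.1.toBlocks₁₂ a.1.toBlocks₂₁ a.1.toBlocks₂₂ *
        fromBlocks b.1.toBlocks₁₁ b.1.toBlocks₁₂ b.1.toBlocks₂₁ b.1.toBlocks₂₂ := by
      rw [fromBlocks_toBlocks, fromBlocks_toBlocks]; rfl
    rw [fromBlocks_multiply] at e
    have hs : ∀ X Y : Matrix (Fin 2 ⊕ Fin 1) (Fin 2 ⊕ Fin 1) F,
        X.submatrix finSumFinEquiv.symm finSumFinEquiv.symm + Y.submatrix finSumFinEquiv.symm finSumFinEquiv.symm =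
          (X + Y).submatrix finSumFinEquiv.symm finSumFinEquiv.symm := fun _ _ => rfl
    simp [pad, e, reindex_apply, fromBlocks_multiply, submatrix_mul_equiv, hs, fromBlocks_add])

theorem padHom_injective : Function.Injective (padHom (F := F)) := by
  intro a b h
  have h' : pad a.1 = pad b.1 := congrArg Subtype.val h
  simp only [pad, fromBlocks_inj] at h'
  obtain ⟨e1, e2, e3, e4⟩ := h'
  refine Subtype.ext ?_
  rw [← fromBlocks_toBlocks a.1, ← fromBlocks_toBlocks b.1, (fromBlocks_inj.1 ((reindex _ _).injective e1)).1,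
    (fromBlocks_inj.1 ((reindex _ _).injective e2)).1, (fromBlocks_inj.1 ((reindex _ _).injective e3)).1,
    (fromBlocks_inj.1 ((reindex _ _).injective e4)).1]

end Pad

theorem psp6 [Fintype F] (h8 : Fintype.card F = 8) : ∃ g : Cfsg.PSp 3 F, orderOf g = 65 := by
  have : Fact (Nat.Prime 2) := ⟨Nat.prime_two⟩
  have : CharP F 2 := charP_of_card_eq_prime_pow (f := 3) (by simpa using h8)
  exact exists_orderOf_quotient (sp_center_bot 3) (exists_of_hom padHom padHom_injective (sp4 h8))

theorem sp4_det (M : symplecticGroup (Fin 2) F) : M.1.det = 1 := SymplecticGroup.det_eq_one M.2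

/-- The symplectic group inside `SL₄`. -/
def spToSL : symplecticGroup (Fin 2) F →* SpecialLinearGroup (Fin 4) F where
  toFun M := ⟨M.1.reindex finSumFinEquiv finSumFinEquiv, by rw [det_reindex_self]; exact sp4_det M⟩
  map_one' := Subtype.ext (by
    show (1 : Matrix (Fin 2 ⊕ Fin 2) (Fin 2 ⊕ Fin 2) F).submatrix finSumFinEquiv.symm finSumFinEquiv.symm = 1
    rw [submatrix_one_equiv])
  map_mul' a b := Subtype.ext (by
    show (a.1 * b.1).submatrix finSumFinEquiv.symm finSumFinEquiv.symm =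
      a.1.submatrix finSumFinEquiv.symm finSumFinEquiv.symm * b.1.submatrix finSumFinEquiv.symm finSumFinEquiv.symm
    rw [submatrix_mul_equiv])

theorem spToSL_injective : Function.Injective (spToSL (F := F)) := fun _ _ h =>
  Subtype.ext ((reindex finSumFinEquiv finSumFinEquiv :
    Matrix (Fin 2 ⊕ Fin 2) (Fin 2 ⊕ Fin 2) F ≃ Matrix (Fin 4) (Fin 4) F).injective (congrArg Subtype.val h))

theorem psl4 [Fintype F] (h8 : Fintype.card F = 8) :
    ∃ g : ProjectiveSpecialLinearGroup (Fin 4) F, orderOf g = 65 := by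
  refine exists_orderOf_quotient (Subgroup.card_eq_one.1 ?_) (exists_of_hom spToSL spToSL_injective (sp4 h8))
  rw [card_center_sl 4 (by norm_num), h8]
  rfl

section Unitary

variable {L : Type*} [Field L]

/-- A basis change from the alternating form to the Hermitian one. -/
def baseChange (w : L) : Matrix (Fin 4) (Fin 4) L :=
  (fromBlocks 1 (w • 1) 1 ((w ^ 2) • 1) : Matrix (Fin 2 ⊕ Fin 2) (Fin 2 ⊕ Fin 2) L).reindex
    finSumFinEquiv finSumFinEquiv

theorem baseChange_gram [CharP L 2] {w : L} (hw : w ^ 2 = 1 + w) {σ : L →+* L} (hσ : ∀ x, σ x = x ^ 8) :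
    (baseChange w)ᵀ * (baseChange w).map σ = (J (Fin 2) L).reindex finSumFinEquiv finSumFinEquiv := by
  have h3 : w ^ 3 = 1 := by
    calc w ^ 3 = w ^ 2 * w := by ring
      _ = w + w ^ 2 := by rw [hw]; ring_nf; rw [hw]; ring
      _ = 1 + (w + w) := by rw [hw]; ring
      _ = 1 := by rw [CharTwo.add_self_eq_zero, add_zero]
  have hs1 : σ w = w ^ 2 := by rw [hσ, show w ^ 8 = (w ^ 3) ^ 2 * w ^ 2 by ring, h3, one_pow, one_mul]
  have hs2 : σ (w ^ 2) = w := by
    rw [map_pow, hs1, ← pow_mul, show w ^ (2 * 2) = w ^ 3 * w by ring, h3, one_mul]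
  simp only [baseChange, reindex_apply, transpose_submatrix, ← submatrix_map, submatrix_mul_equiv,
    fromBlocks_transpose, fromBlocks_map, fromBlocks_multiply, J]
  congr 1
  have e1 : (1 : L) + 1 = 0 := CharTwo.add_self_eq_zero _
  have e2 : w + w ^ 2 = 1 := by rw [hw, add_left_comm, CharTwo.add_self_eq_zero, add_zero]
  have e3 : w * w ^ 2 = 1 := by rw [← pow_succ', h3]
  ext (i | i) (j | j) <;> fin_cases i <;> fin_cases j <;>
    simp [map_zero, map_one, hs1, hs2, CharTwo.neg_eq, e1, e2, e3, mul_comm (w ^ 2) w, add_comm (w ^ 2) w]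

/-- The symplectic group moved to the Hermitian form. -/
theorem exists_su4 (φ : F →+* L) [Fintype F] [Fintype L] [CharP L 2] (h8 : Fintype.card F = 8) (h64 : Fintype.card L = 64)
    {w : L} (hw : w ^ 2 = 1 + w) : ∃ g : Cfsg.SU 4 L 8, orderOf g = 65 := by
  classical
  obtain ⟨σ, hσ, -⟩ := exists_frob (F := L) (q := 8) (by rw [h64]; norm_num)
  set P := baseChange w
  set J4 := (J (Fin 2) L).reindex finSumFinEquiv finSumFinEquiv with hJ4
  have hP : Pᵀ * P.map σ = J4 := baseChange_gram hw hσ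
  have hJdet : IsUnit J4.det := by rw [hJ4, det_reindex_self]; exact isUnit_det_J _ _
  have hPdet : IsUnit P.det := by
    rw [← hP, det_mul, det_transpose] at hJdet
    exact isUnit_of_mul_isUnit_left hJdet
  let R : symplecticGroup (Fin 2) F → Matrix (Fin 4) (Fin 4) L := fun M =>
    (M.1.map φ).reindex finSumFinEquiv finSumFinEquiv
  have hfix : ∀ M, (R M).map σ = R M := fun M => by
    ext i j
    show σ (φ _) = φ _
    rw [hσ, ← map_pow, ← h8, FiniteField.pow_card]
  have hR : ∀ M, (R M)ᵀ * J4 * R M = J4 := fun M => by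
    simp only [R, hJ4, reindex_apply, transpose_submatrix, submatrix_mul_equiv]
    rw [SymplecticGroup.mem_iff'.1 (SymplecticGroup.map_mem M.2 φ)]
  have hdet : ∀ M, (P * R M * P⁻¹).det = 1 := fun M => by
    rw [det_mul, det_mul, mul_right_comm, ← det_mul, mul_nonsing_inv _ hPdet, det_one, one_mul]
    simp only [R]
    rw [det_reindex_self, SymplecticGroup.det_eq_one (SymplecticGroup.map_mem M.2 φ)]
  have hgram : ∀ M, (P * R M * P⁻¹)ᵀ * (P * R M * P⁻¹).map σ = 1 := fun M => by
    rw [Matrix.map_mul, Matrix.map_mul, hfix, transpose_mul, transpose_mul]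
    calc P⁻¹ᵀ * ((R M)ᵀ * Pᵀ) * (P.map σ * R M * P⁻¹.map σ)
        = P⁻¹ᵀ * ((R M)ᵀ * (Pᵀ * P.map σ) * R M) * P⁻¹.map σ := by simp only [Matrix.mul_assoc]
      _ = (P⁻¹ᵀ * Pᵀ) * (P.map σ * P⁻¹.map σ) := by
        rw [hP, hR, ← hP]; simp only [Matrix.mul_assoc]
      _ = 1 := by
        rw [← transpose_mul, ← Matrix.map_mul, mul_nonsing_inv _ hPdet, transpose_one, Matrix.map_one _ (map_zero σ)
          (map_one σ), one_mul]
  let U : symplecticGroup (Fin 2) F → Cfsg.SU 4 L 8 := fun M => ⟨⟨P * R M * P⁻¹, hdet M⟩, fun u v => by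
    show Cfsg.hermForm 4 L 8 ((P * R M * P⁻¹) *ᵥ u) ((P * R M * P⁻¹) *ᵥ v) = Cfsg.hermForm 4 L 8 u v
    have hh : ∀ u v : Fin 4 → L, Cfsg.hermForm 4 L 8 u v = u ⬝ᵥ (σ ∘ v) := fun u v => by
      simp [Cfsg.hermForm, dotProduct, hσ]
    rw [hh, hh, show σ ∘ ((P * R M * P⁻¹) *ᵥ v) = (P * R M * P⁻¹).map σ *ᵥ (σ ∘ v) from
      funext fun i => RingHom.map_mulVec σ _ _ i, dotProduct_mulVec, ← mulVec_transpose, mulVec_mulVec,
      show ((P * R M * P⁻¹).map σ)ᵀ * (P * R M * P⁻¹) = 1 by
        have h := congrArg transpose (hgram M)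
        rwa [transpose_mul, transpose_transpose, transpose_one] at h, one_mulVec]⟩
  let ψ : symplecticGroup (Fin 2) F →* Cfsg.SU 4 L 8 := MonoidHom.mk' U fun a b => Subtype.ext (Subtype.ext (by
    show P * R (a * b) * P⁻¹ = P * R a * P⁻¹ * (P * R b * P⁻¹)
    have e : R (a * b) = R a * R b := by
      simp only [R, reindex_apply, Submonoid.coe_mul, Matrix.map_mul, submatrix_mul_equiv]
    rw [e]
    simp only [Matrix.mul_assoc, nonsing_inv_mul_cancel_left _ _ hPdet]))
  refine exists_of_hom ψ (fun a b h => ?_) (sp4 h8)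
  have h' : P * R a * P⁻¹ = P * R b * P⁻¹ := congrArg (fun x : Cfsg.SU 4 L 8 => x.1.1) h
  have h2 := congrArg (fun X => P⁻¹ * X * P) h'
  simp only [Matrix.mul_assoc, nonsing_inv_mul _ hPdet, Matrix.mul_one,
    nonsing_inv_mul_cancel_left _ _ hPdet] at h2
  exact Subtype.ext (Matrix.map_injective φ.injective ((reindex _ _).injective h2))

end Unitary

theorem psu4 [Fintype F] (h8 : Fintype.card F = 8) {L : Type*} [Field L] [Fintype L]
    (h64 : Fintype.card L = 64) : ∃ g : Cfsg.PSU 4 L 8, orderOf g = 65 := by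
  classical
  have : Fact (Nat.Prime 2) := ⟨Nat.prime_two⟩
  have : CharP F 2 := charP_of_card_eq_prime_pow (f := 3) (by simpa using h8)
  have : CharP L 2 := charP_of_card_eq_prime_pow (f := 6) (by simpa using h64)
  have := fact_no_root h8
  let _ : Fintype (Ext F) := Fintype.ofEquiv _ (QuadraticAlgebra.equivProd (1 : F) 1).symm
  have hc : Fintype.card (Ext F) = 64 := by
    rw [Fintype.card_congr (QuadraticAlgebra.equivProd (1 : F) 1), Fintype.card_prod, h8]
  let e : Ext F ≃+* L := FiniteField.ringEquivOfCardEq (hc.trans h64.symm)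
  refine exists_orderOf_quotient (Subgroup.card_eq_one.1 ?_)
    (exists_su4 (e.toRingHom.comp (algebraMap F (Ext F))) h8 h64 (w := e QuadraticAlgebra.omega) ?_)
  · rw [card_center_SU (q := 8) (by rw [h64]; norm_num) (by norm_num)]
    rfl
  · rw [← map_pow, pow_two, QuadraticAlgebra.omega_mul_omega_eq_add, map_add, one_smul, one_smul, map_one]

end CfsgLib.Classical.SixtyFive
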