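import Cfsg.Agent.Lib.KnownB.MinDeg.SpSiegel
import Cfsg.Agent.Lib.Classical.RegularNilpotent

/-!
# Transvection sets and regular unipotents of the symplectic group
-/

set_option autoImplicit false
set_option linter.unusedSectionVars false

open Matrix CfsgLib.MinDeg

namespace CfsgLib.Classical.SpUnipotent

variable {F : Type*} [Field F] {n : ℕ}

/-- The transvection as an element of the symplectic group. -/
noncomputable def trv (w : Fin n ⊕ Fin n → F) (c : F) : symplecticGroup (Fin n) F :=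
  (spEquiv n).symm (tv (sympBil_isAlt n) w c)

theorem trv_coe (w : Fin n ⊕ Fin n → F) (c : F) :
    (trv w c).1 = Cfsg.sympTransvection n w c := (sympTransvection_eq n w c).symm

theorem trv_mulVec (w : Fin n ⊕ Fin n → F) (c : F) (x : Fin n ⊕ Fin n → F) :
    (trv w c).1 *ᵥ x = x + (c * sympBil F n x w) • w := by
  rw [trv_coe, sympTransvection_mulVec, tv_apply]

theorem trv_conj (A : symplecticGroup (Fin n) F) (w : Fin n ⊕ Fin n → F) (c : F) :
    A * trv w c * A⁻¹ = trv (A.1 *ᵥ w) c := by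
  refine (spEquiv n).injective ?_
  rw [map_mul, map_mul, map_inv, trv, trv, MulEquiv.apply_symm_apply, MulEquiv.apply_symm_apply, conj_tv,
    spEquiv_apply]

theorem trv_mul (w : Fin n ⊕ Fin n → F) (c d : F) : trv w c * trv w d = trv w (c + d) := by
  rw [trv, trv, trv, ← map_mul, tv_mul]

theorem trv_zero (w : Fin n ⊕ Fin n → F) : trv w 0 = 1 := by
  rw [trv, tv_zero, map_one]

theorem trv_smul (w : Fin n ⊕ Fin n → F) (a c : F) : trv (a • w) c = trv w (a * a * c) := by
  rw [trv, trv, tv_smul]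

theorem trv_neg (w : Fin n ⊕ Fin n → F) (c : F) : trv w (-c) = (trv w c)⁻¹ := by
  refine eq_inv_of_mul_eq_one_left ?_
  rw [trv_mul, neg_add_cancel, trv_zero]

theorem eq_top_of_trv [Fintype F] [DecidableEq F] (H : Subgroup (symplecticGroup (Fin n) F))
    (h : ∀ (w : Fin n ⊕ Fin n → F) (c : F), trv w c ∈ H) : H = ⊤ := by
  rw [eq_top_iff, ← closure_sympTransvection F n, Subgroup.closure_le]
  rintro A ⟨w, c, hA⟩
  have : A = trv w c := Subtype.ext (hA.trans (trv_coe w c).symm)
  rw [this]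
  exact h w c

/-- The centres of the transvection groups inside a subgroup. -/
def Phi (H : Subgroup (symplecticGroup (Fin n) F)) : Set (Fin n ⊕ Fin n → F) :=
  {a | ∀ x, trv a x ∈ H}

variable {H : Subgroup (symplecticGroup (Fin n) F)}

theorem phi_smul {a : Fin n ⊕ Fin n → F} (ha : a ∈ Phi H) (c : F) : c • a ∈ Phi H := fun x => by
  rw [trv_smul]; exact ha _

theorem phi_conj {W : symplecticGroup (Fin n) F} (hW : W ∈ H) {a : Fin n ⊕ Fin n → F}
    (ha : a ∈ Phi H) : W.1 *ᵥ a ∈ Phi H := fun x => by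
  rw [← trv_conj]; exact mul_mem (mul_mem hW (ha x)) (inv_mem hW)

theorem phi_add_of_ne {a b : Fin n ⊕ Fin n → F} (ha : a ∈ Phi H) (hb : b ∈ Phi H)
    (h : sympBil F n a b ≠ 0) : a + b ∈ Phi H := by
  have := phi_conj (hb (sympBil F n a b)⁻¹) ha
  rwa [trv_mulVec, inv_mul_cancel₀ h, one_smul] at this

theorem bil_swap (x y : Fin n ⊕ Fin n → F) : sympBil F n x y = -sympBil F n y x :=
  alt_swap (sympBil_isAlt n) x y

theorem bil_swap_ne {x y : Fin n ⊕ Fin n → F} (h : sympBil F n x y ≠ 0) : sympBil F n y x ≠ 0 := by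
  rw [bil_swap]; exact neg_ne_zero.2 h

/-- Adjacency of transvection centres. -/
def Adj (H : Subgroup (symplecticGroup (Fin n) F)) (x y : Fin n ⊕ Fin n → F) : Prop :=
  x ∈ Phi H ∧ y ∈ Phi H ∧ sympBil F n x y ≠ 0

theorem Adj.symm {x y : Fin n ⊕ Fin n → F} (h : Adj H x y) : Adj H y x :=
  ⟨h.2.1, h.1, bil_swap_ne h.2.2⟩

theorem phi_add_of_chain {a b c : Fin n ⊕ Fin n → F} (ha : a ∈ Phi H) (hb : b ∈ Phi H) (hc : c ∈ Phi H)
    (hac : sympBil F n a c ≠ 0) (hbc : sympBil F n b c ≠ 0) (hs : sympBil F n (a + b) c ≠ 0) :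
    a + b ∈ Phi H := by
  by_cases hab : sympBil F n a b = 0
  · have h1 := phi_add_of_ne ha hc hac
    have h2 := phi_add_of_ne h1 hb (by
      rw [map_add, LinearMap.add_apply, hab, zero_add]; exact bil_swap_ne hbc)
    have h3 := phi_add_of_ne h2 (phi_smul hc (-1)) (by
      rw [map_smul, map_add, map_add, LinearMap.add_apply, LinearMap.add_apply, sympBil_isAlt n c, add_zero,
        ← LinearMap.add_apply, ← map_add, smul_eq_mul]
      exact mul_ne_zero (neg_ne_zero.2 one_ne_zero) hs)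
    convert h3 using 1
    rw [neg_one_smul]; abel
  · exact phi_add_of_ne ha hb hab

/-- A connected spanning set of transvection centres generates. -/
theorem eq_top_of_connected [Fintype F] [DecidableEq F] (hF : ∀ r : F, ∃ ν : F, ν ≠ 0 ∧ ν ≠ r)
    (a : Fin n ⊕ Fin n → F) (ha : a ∈ Phi H)
    (hspan : Submodule.span F {e | Relation.ReflTransGen (Adj H) a e} = ⊤) : H = ⊤ := by
  have hnb : ∀ x : Fin n ⊕ Fin n → F, x ≠ 0 →
      ∃ e, Relation.ReflTransGen (Adj H) a e ∧ sympBil F n e x ≠ 0 := by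
    intro x hx
    by_contra hcon
    push Not at hcon
    have : (sympBil F n).flip x = 0 := LinearMap.ext_on hspan fun e he => by
      rw [LinearMap.flip_apply, hcon e he, LinearMap.zero_apply]
    exact hx ((sympBil_nondegenerate n).2 x fun y => LinearMap.congr_fun this y)
  have hmem : ∀ e, Relation.ReflTransGen (Adj H) a e → e ∈ Phi H := by
    intro e he
    induction he with
    | refl => exact ha
    | tail _ h _ => exact h.2.1
  have hconn : ∀ x ∈ Phi H, x ≠ 0 → Relation.ReflTransGen (Adj H) a x := by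
    intro x hx hx0
    obtain ⟨e, he, hex⟩ := hnb x hx0
    exact he.tail ⟨hmem e he, hx, hex⟩
  have hrev : ∀ e, Relation.ReflTransGen (Adj H) a e → Relation.ReflTransGen (Adj H) e a := by
    intro e he
    induction he with
    | refl => exact Relation.ReflTransGen.refl
    | tail _ h ih => exact Relation.ReflTransGen.head h.symm ih
  have hcommon : ∀ x ∈ Phi H, x ≠ 0 → ∀ y, Relation.ReflTransGen (Adj H) x y →
      sympBil F n x y ≠ 0 ∨ ∃ c ∈ Phi H, sympBil F n x c ≠ 0 ∧ sympBil F n y c ≠ 0 := by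
    intro x hx hx0 y hy
    induction hy with
    | refl =>
      obtain ⟨e, he, hex⟩ := hnb x hx0
      exact Or.inr ⟨e, hmem e he, bil_swap_ne hex, bil_swap_ne hex⟩
    | @tail b d _ hbd ih =>
      by_cases hxd : sympBil F n x d = 0
      · refine Or.inr ?_
        by_cases hxb : sympBil F n x b = 0
        · obtain ⟨c, hc, hxc, hbc⟩ := ih.resolve_left (fun h => h hxb)
          by_cases hdc : sympBil F n d c = 0
          · refine ⟨c + b, phi_add_of_ne hc hbd.1 (bil_swap_ne hbc), ?_, ?_⟩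
            · rw [map_add, hxb, add_zero]; exact hxc
            · rw [map_add, hdc, zero_add]; exact bil_swap_ne hbd.2.2
          · exact ⟨c, hc, hxc, hdc⟩
        · exact ⟨b, hbd.1, hxb, bil_swap_ne hbd.2.2⟩
      · exact Or.inl hxd
  have hadd : ∀ x ∈ Phi H, ∀ y ∈ Phi H, x + y ∈ Phi H := by
    intro x hx y hy
    by_cases hxy : sympBil F n x y = 0
    swap
    · exact phi_add_of_ne hx hy hxy
    by_cases hx0 : x = 0
    · rw [hx0, zero_add]; exact hy
    by_cases hy0 : y = 0
    · rw [hy0, add_zero]; exact hx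
    by_cases hs0 : x + y = 0
    · rw [hs0]
      have := phi_smul hx (0 : F)
      rwa [zero_smul] at this
    have hyx : Relation.ReflTransGen (Adj H) x y := (hrev x (hconn x hx hx0)).trans (hconn y hy hy0)
    obtain ⟨c, hc, hxc, hyc⟩ := (hcommon x hx hx0 y hyx).resolve_left (fun h => h hxy)
    obtain ⟨e, he, hes⟩ := hnb (x + y) hs0
    have hse : sympBil F n (x + y) e ≠ 0 := bil_swap_ne hes
    have heP := hmem e he
    -- replace the common neighbour by one not orthogonal to the sum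
    have key : ∀ x y : Fin n ⊕ Fin n → F, x ∈ Phi H → y ∈ Phi H → sympBil F n x c ≠ 0 → sympBil F n y c ≠ 0 →
        sympBil F n (x + y) c = 0 → sympBil F n (x + y) e ≠ 0 → sympBil F n y e = 0 →
        x + y ∈ Phi H := by
      intro x y hx hy hxc hyc hsc hse hye
      have hxe : sympBil F n x e ≠ 0 := by
        rwa [map_add, LinearMap.add_apply, hye, add_zero] at hse
      obtain ⟨ν, hν0, hν⟩ := hF (-(sympBil F n x e) / sympBil F n x c)
      have hxν : sympBil F n x (e + ν • c) ≠ 0 := by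
        rw [map_add, map_smul, smul_eq_mul]
        intro h
        exact hν (by rw [eq_div_iff hxc]; linear_combination h)
      have hd : e + ν • c ∈ Phi H := by
        by_cases hec : sympBil F n e (ν • c) = 0
        · refine phi_add_of_chain heP (phi_smul hc ν) hx (bil_swap_ne hxe) ?_ (bil_swap_ne hxν)
          refine bil_swap_ne ?_
          rw [map_smul, smul_eq_mul]; exact mul_ne_zero hν0 hxc
        · exact phi_add_of_ne heP (phi_smul hc ν) hec
      refine phi_add_of_chain hx hy hd hxν ?_ ?_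
      · rw [map_add, map_smul, hye, zero_add, smul_eq_mul]; exact mul_ne_zero hν0 hyc
      · rw [map_add (sympBil F n (x + y)), map_smul, hsc, smul_zero, add_zero]; exact hse
    by_cases hsc : sympBil F n (x + y) c = 0
    swap
    · exact phi_add_of_chain hx hy hc hxc hyc hsc
    by_cases hye : sympBil F n y e = 0
    · exact key x y hx hy hxc hyc hsc hse hye
    by_cases hxe : sympBil F n x e = 0
    · rw [add_comm] at hsc hse ⊢
      exact key y x hy hx hyc hxc hsc hse hxe
    exact phi_add_of_chain hx hy heP hxe hye hse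
  refine eq_top_of_trv H fun w => ?_
  have : w ∈ Submodule.span F {e | Relation.ReflTransGen (Adj H) a e} := by rw [hspan]; trivial
  change w ∈ Phi H
  induction this using Submodule.span_induction with
  | mem v hv => exact hmem v hv
  | zero =>
    have := phi_smul ha (0 : F)
    rwa [zero_smul] at this
  | add v v' _ _ h h' => exact hadd v h v' h'
  | smul c v _ h => exact phi_smul h c

theorem sympBil_elim (p q p' q' : Fin n → F) :
    sympBil F n (Sum.elim p q) (Sum.elim p' q') = q ⬝ᵥ p' - p ⬝ᵥ q' := by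
  rw [sympBil_apply, sympForm_eq, Finset.sum_sub_distrib]
  rfl

theorem siegel_mulVec (S : symMat F n) (p q : Fin n → F) :
    (siegel S).1 *ᵥ Sum.elim p q = Sum.elim (p + (S : Matrix (Fin n) (Fin n) F) *ᵥ q) q := by
  rw [siegel_coe, fromBlocks_mulVec]
  simp [Function.comp_def]

theorem levi_mulVec (A : GL (Fin n) F) (p q : Fin n → F) :
    (levi A).1 *ᵥ Sum.elim p q = Sum.elim ((A : Matrix (Fin n) (Fin n) F) *ᵥ p)
      (((A⁻¹ : GL (Fin n) F) : Matrix (Fin n) (Fin n) F)ᵀ *ᵥ q) := by
  rw [levi_coe, fromBlocks_mulVec]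
  simp [Function.comp_def]

theorem symJ_mulVec (p q : Fin n → F) :
    (SymplecticGroup.symJ (Fin n) F).1 *ᵥ Sum.elim p q = Sum.elim (-q) p := by
  rw [SymplecticGroup.coe_J, Matrix.J, fromBlocks_mulVec]
  simp [Function.comp_def, Matrix.neg_mulVec]

theorem siegel_zero : siegel (0 : symMat F n) = 1 := by
  have h := siegel_add (0 : symMat F n) 0
  rw [add_zero] at h
  exact mul_right_cancel (h.symm.trans (one_mul _).symm)

theorem siegel_neg (S : symMat F n) : siegel (-S) = (siegel S)⁻¹ := by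
  refine eq_inv_of_mul_eq_one_left ?_
  rw [← siegel_add, neg_add_cancel, siegel_zero]

theorem siegel_sub (S T : symMat F n) : siegel (S - T) = siegel S * (siegel T)⁻¹ := by
  rw [sub_eq_add_neg, siegel_add, siegel_neg]

theorem levi_mul (A B : GL (Fin n) F) : levi (A * B) = levi A * levi B := by
  refine Subtype.ext ?_
  show fromBlocks _ _ _ _ = fromBlocks _ _ _ _ * fromBlocks _ _ _ _
  rw [fromBlocks_multiply, _root_.mul_inv_rev, Units.val_mul, Units.val_mul, transpose_mul]
  simp

theorem levi_one : levi (1 : GL (Fin n) F) = 1 := by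
  have h := levi_mul (1 : GL (Fin n) F) 1
  rw [mul_one] at h
  exact mul_right_cancel (h.symm.trans (one_mul _).symm)

theorem levi_inv (A : GL (Fin n) F) : levi A⁻¹ = (levi A)⁻¹ := by
  refine eq_inv_of_mul_eq_one_left ?_
  rw [← levi_mul, inv_mul_cancel, levi_one]

theorem levi_siegel_conj (A : GL (Fin n) F) (S : symMat F n) :
    levi A * siegel S * (levi A)⁻¹ = siegel (congS (A : Matrix (Fin n) (Fin n) F) S) := by
  rw [levi_siegel, mul_inv_cancel_right]

theorem par_mul (S T : symMat F n) (A B : GL (Fin n) F) :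
    siegel S * levi A * (siegel T * levi B) =
      siegel (S + congS (A : Matrix (Fin n) (Fin n) F) T) * levi (A * B) := by
  rw [siegel_add, levi_mul, mul_assoc (siegel S) _ (levi A * levi B), ← mul_assoc _ (levi A) (levi B),
    ← levi_siegel]
  simp only [mul_assoc]

theorem siegel_injective : Function.Injective (siegel : symMat F n → symplecticGroup (Fin n) F) := by
  intro S T h
  have := congrArg Subtype.val h
  rw [siegel_coe, siegel_coe, fromBlocks_inj] at this
  exact Subtype.ext this.2.1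

/-- `siegel` of a multiple of a symmetric square. -/
theorem siegel_eq_trv (S : symMat F n) (v : Fin n → F) (c : F)
    (h : (S : Matrix (Fin n) (Fin n) F) = c • vecMulVec v v) : siegel S = trv (Sum.elim v 0) c := by
  refine Subtype.ext (Matrix.ext_of_mulVec_single fun k => ?_)
  obtain ⟨p, q, hpq⟩ : ∃ p q, (Pi.single k (1 : F)) = Sum.elim p q :=
    ⟨_, _, (Sum.elim_comp_inl_inr _).symm⟩
  rw [hpq, siegel_mulVec, trv_mulVec, sympBil_elim, h, smul_mulVec, vecMulVec_mulVec, op_smul_eq_smul]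
  funext i
  rcases i with i | i
  · simp [smul_smul, dotProduct_comm v q]
  · simp

section Regular

variable {m : ℕ}

/-- A regular element of the Siegel parabolic. -/
theorem reg_siegel_levi (S : symMat F (m + 1)) (A : GL (Fin (m + 1)) F)
    (N : Matrix (Fin (m + 1)) (Fin (m + 1)) F) (hA : (A : Matrix (Fin (m + 1)) (Fin (m + 1)) F) = 1 + N)
    (hN : N ^ (m + 1) = 0) (hQ : N ^ m * (S : Matrix (Fin (m + 1)) (Fin (m + 1)) F) * (N ^ m)ᵀ ≠ 0) :
    IsNilpotent ((siegel S * levi A).1 - 1) ∧ ((siegel S * levi A).1 - 1) ^ (2 * (m + 1) - 1) ≠ 0 := by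
  set Ai : Matrix (Fin (m + 1)) (Fin (m + 1)) F := ((A⁻¹ : GL (Fin (m + 1)) F) : Matrix (Fin (m + 1)) (Fin (m + 1)) F) with hAi
  have hAA : (1 + N) * Ai = 1 := by rw [← hA, hAi, ← Units.val_mul, mul_inv_cancel, Units.val_one]
  have hAA' : Ai * (1 + N) = 1 := by rw [← hA, hAi, ← Units.val_mul, inv_mul_cancel, Units.val_one]
  have hcomm : Commute N Ai := by
    show N * Ai = Ai * N
    have h1 : N * Ai = 1 - Ai := by rw [eq_sub_iff_add_eq', ← hAA, add_mul, one_mul]
    have h2 : Ai * N = 1 - Ai := by rw [eq_sub_iff_add_eq', ← hAA', mul_add, mul_one]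
    rw [h1, h2]
  have hd : Ai - 1 = -(N * Ai) := by
    rw [eq_neg_iff_add_eq_zero, sub_add_eq_add_sub, sub_eq_zero, ← hAA, add_mul, one_mul]
  have hNA : N ^ m * Ai = N ^ m := by
    have h1 : N ^ m * (1 + N) = N ^ m := by rw [mul_add, mul_one, ← pow_succ, hN, add_zero]
    conv_lhs => rw [← h1, mul_assoc, hAA, mul_one]
  have hNAk : ∀ k : ℕ, N ^ m * Ai ^ k = N ^ m := by
    intro k
    induction k with
    | zero => rw [pow_zero, mul_one]
    | succ k ih => rw [pow_succ, ← mul_assoc, ih, hNA]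
  have hMm : (Ai - 1) ^ m = (-1 : F) ^ m • N ^ m := by
    rw [hd, ← neg_one_smul F (N * Ai), smul_pow, hcomm.mul_pow, hNAk]
  have hM1 : (Ai - 1) ^ (m + 1) = 0 := by
    rw [hd, neg_pow, hcomm.mul_pow, hN, zero_mul, mul_zero]
  have eU : (siegel S * levi A).1 - 1 =
      fromBlocks N ((S : Matrix (Fin (m + 1)) (Fin (m + 1)) F) * Aiᵀ) 0 ((Ai - 1)ᵀ) := by
    show fromBlocks _ _ _ _ * fromBlocks _ _ _ _ - 1 = _
    rw [fromBlocks_multiply, sub_eq_iff_eq_add, ← fromBlocks_one, fromBlocks_add, ← hAi, hA]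
    simp [add_comm]
  rw [eU]
  set Y := fromBlocks N ((S : Matrix (Fin (m + 1)) (Fin (m + 1)) F) * Aiᵀ) 0 ((Ai - 1)ᵀ) with hY
  have hpow : ∀ k : ℕ, ∃ P, Y ^ k = fromBlocks (N ^ k) P 0 (((Ai - 1) ^ k)ᵀ) := by
    intro k
    induction k with
    | zero => exact ⟨0, by rw [pow_zero, pow_zero, pow_zero, transpose_one, fromBlocks_one]⟩
    | succ k ih =>
      obtain ⟨P, hP⟩ := ih
      refine ⟨N ^ k * ((S : Matrix (Fin (m + 1)) (Fin (m + 1)) F) * Aiᵀ) + P * (Ai - 1)ᵀ, ?_⟩
      rw [pow_succ, hP, hY, fromBlocks_multiply, pow_succ N k, pow_succ' (Ai - 1) k, transpose_mul]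
      simp
  obtain ⟨P, hP⟩ := hpow m
  have hNN : N ^ m * N = 0 := by rw [← pow_succ]; exact hN
  have hMM : (Ai - 1)ᵀ * ((Ai - 1) ^ m)ᵀ = 0 := by
    rw [← transpose_mul, ← pow_succ, hM1, transpose_zero]
  have hMM' : ((Ai - 1) ^ m)ᵀ * (Ai - 1)ᵀ = 0 := by
    rw [← transpose_mul, ← pow_succ', hM1, transpose_zero]
  have e1 : Y ^ (2 * m + 1) =
      fromBlocks 0 (N ^ m * ((S : Matrix (Fin (m + 1)) (Fin (m + 1)) F) * Aiᵀ) * ((Ai - 1) ^ m)ᵀ) 0 0 := by
    rw [show 2 * m + 1 = m + 1 + m by omega, pow_add, pow_succ, hP, hY, fromBlocks_multiply,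
      fromBlocks_multiply]
    simp only [Matrix.mul_zero, Matrix.zero_mul, add_zero, zero_add, hNN, add_mul]
    simp only [Matrix.mul_assoc]
    simp only [hMM, hMM', Matrix.mul_zero, Matrix.zero_mul, add_zero, zero_add]
  refine ⟨⟨2 * m + 1 + 1, ?_⟩, ?_⟩
  · rw [pow_succ, e1, hY, fromBlocks_multiply]
    simp only [Matrix.mul_zero, Matrix.zero_mul, add_zero, zero_add, Matrix.mul_assoc, hMM', fromBlocks_zero]
  · rw [show 2 * (m + 1) - 1 = 2 * m + 1 by omega, e1]
    intro h
    rw [← fromBlocks_zero, fromBlocks_inj] at h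
    refine hQ ?_
    have h1 := h.2.1
    rw [hMm, transpose_smul, Matrix.mul_smul, smul_eq_zero] at h1
    have h2 := h1.resolve_left (pow_ne_zero _ (neg_ne_zero.2 one_ne_zero))
    rw [Matrix.mul_assoc, Matrix.mul_assoc, ← transpose_mul, hNA, ← Matrix.mul_assoc] at h2
    exact h2

open UnipotentGen in
theorem loN_one_pow : (loN fun _ : Fin (m + 1) => (1 : F)) ^ (m + 1) = 0 := by
  have h0 : (loN fun _ : Fin (m + 1) => (1 : F)) ^ (m + 1) *ᵥ ev 0 = 0 := by
    rw [pow_succ', ← mulVec_mulVec, loN_pow_ev (j := Fin.last m) (by simp), loN_mulVec_last]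
  have hK : kry (loN fun _ : Fin (m + 1) => (1 : F)) (ev 0) = 1 := ext_ev fun j => by
    rw [kry_mulVec_ev, loN_pow_ev (j := j) (by simp), one_mulVec]
  exact (regular_of_kry h0 (by rw [hK, det_one]; exact one_ne_zero)).1

open UnipotentGen in
theorem loN_one_pow_apply (i j : Fin (m + 1)) :
    ((loN fun _ : Fin (m + 1) => (1 : F)) ^ m) i j = if j = 0 ∧ i = Fin.last m then 1 else 0 := by
  have hc : ((loN fun _ : Fin (m + 1) => (1 : F)) ^ m) i j =
      ((loN fun _ : Fin (m + 1) => (1 : F)) ^ m *ᵥ ev j) i := by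
    rw [ev, mulVec_single_one]; rfl
  rw [hc]
  by_cases hj : j = 0
  · subst hj
    rw [loN_pow_ev (j := Fin.last m) (by simp), ev, Pi.single_apply]
    simp
  · rw [if_neg (fun h => hj h.1), ← loN_pow_ev (F := F) (i := 0) (j := j) (k := j.val) (by simp),
      mulVec_mulVec, ← pow_add]
    have hpos : 0 < j.val := Nat.pos_of_ne_zero fun e => hj (Fin.ext e)
    rw [show m + j.val = m + 1 + (j.val - 1) by omega, pow_add, loN_one_pow, zero_mul, zero_mulVec,
      Pi.zero_apply]

end Regular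

end CfsgLib.Classical.SpUnipotent
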