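import Mathlib
import Cfsg.Agent.Lib.Classical.RegularNilpotent

/-!
# Two regular unipotents whose quotient is triangular with a repeated root
-/

set_option autoImplicit false
set_option linter.unusedSectionVars false
set_option backward.isDefEq.respectTransparency false

open Matrix

namespace CfsgLib.Classical.UnipotentGen

variable {F : Type*} [Field F] {m : ℕ}

/-- `u` is a regular unipotent. -/
def Reg (u : Matrix.SpecialLinearGroup (Fin (m + 1)) F) : Prop :=
  IsNilpotent (u.1 - 1) ∧ (u.1 - 1) ^ m ≠ 0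

theorem det_loW : (loW m F).det = 1 := by
  rw [loW, det_of_lowerTriangular]
  · refine Finset.prod_eq_one fun i _ => ?_
    simp [loN]
  · intro i j hij
    have : i.val < j.val := hij
    simp [loN, Matrix.one_apply, Fin.ext_iff, this.ne, show ¬ i.val = j.val + 1 by omega]

/-- The standard lower regular unipotent. -/
def loU (m : ℕ) (F : Type*) [Field F] : Matrix.SpecialLinearGroup (Fin (m + 1)) F := ⟨loW m F, det_loW⟩

theorem loW_mulVec_zero (hm : 1 ≤ m) :
    loW m F *ᵥ ev 0 = ev 0 + ev ⟨1, by omega⟩ := by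
  rw [loW, add_mulVec, one_mulVec, loN_mulVec_single _ (i := 0) (j := ⟨1, by omega⟩) rfl, one_smul]

theorem loW_mulVec_last : loW m F *ᵥ ev (Fin.last m) = ev (Fin.last m) := by
  rw [loW, add_mulVec, one_mulVec, loN_mulVec_last, add_zero]

theorem reg_loU : Reg (loU m F) := by
  have h0 : (loN fun _ : Fin (m + 1) => (1 : F)) ^ (m + 1) *ᵥ ev 0 = 0 := by
    rw [pow_succ', ← mulVec_mulVec, loN_pow_ev (j := Fin.last m) (by simp), loN_mulVec_last]
  have hK : kry (loN fun _ : Fin (m + 1) => (1 : F)) (ev 0) = 1 := ext_ev fun j => by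
    rw [kry_mulVec_ev, loN_pow_ev (j := j) (by simp), one_mulVec]
  obtain ⟨h1, h2, -⟩ := regular_of_kry h0 (by rw [hK, det_one]; exact one_ne_zero)
  have e : (loU m F).1 - 1 = loN fun _ => 1 := add_sub_cancel_left _ _
  exact ⟨⟨m + 1, by rw [e]; exact h1⟩, by rw [e]; exact h2⟩

/-- The triangular quotient yields an elation. -/
theorem core (hm : 2 ≤ m) (D : Matrix (Fin (m + 1)) (Fin (m + 1)) F) (β : F)
    (σ x : Fin (m + 1) → F) (M : ℕ) (hdet : D.det = 1)
    (hD0 : D *ᵥ ev 0 = β • ev 0) (hDl : D *ᵥ ev (Fin.last m) = β • ev (Fin.last m))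
    (hDM : D ^ M = 1) (hβM : β ^ M = 1) (hM0 : 1 ≤ M) (hM : (M : F) ≠ 0)
    (hleft : ∀ r : Fin (m + 1) → F, r ᵥ* D = β • r → r 0 = 0 → ∀ i, i ≠ Fin.last m → r i = 0)
    (hσ : σ (Fin.last m) ≠ 0)
    (hnil : (loW m F * (D * (1 + vecMulVec (ev 0) σ)) - 1) ^ (m + 1) *ᵥ x = 0)
    (hK : (kry (loW m F * (D * (1 + vecMulVec (ev 0) σ)) - 1) x).det ≠ 0) :
    σ 0 = 0 ∧ ∃ u : Matrix.SpecialLinearGroup (Fin (m + 1)) F, Reg u ∧
      (∀ c : F, c ≠ 0 → (kry (loW m F * (D * (1 + vecMulVec (ev 0) σ)) - 1) x).det = c ^ (m + 1) →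
        ∃ g : Matrix.SpecialLinearGroup (Fin (m + 1)) F, g * loU m F * g⁻¹ = u) ∧
      HS (Subgroup.closure {u, loU m F}) (D * (1 + vecMulVec (ev 0) σ)) ∧
      ∃ c : F, c ≠ 0 ∧ HS (Subgroup.closure {u, loU m F}) (tv (c • ev 0) (ev (Fin.last m))) := by
  classical
  set Z := D * (1 + vecMulVec (ev 0) σ) with hZdef
  set N := loW m F * Z - 1 with hN
  obtain ⟨hN1, hN2, hdetN⟩ := regular_of_kry hnil hK
  have eN : 1 + N = loW m F * Z := add_sub_cancel _ _
  have hσ0 : σ 0 = 0 := by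
    rw [eN, det_mul, det_loW, one_mul, hZdef, det_mul, hdet, one_mul] at hdetN
    rw [det_of_upperTriangular] at hdetN
    · rw [Finset.prod_eq_single 0] at hdetN
      · simpa [ev, vecMulVec_apply] using hdetN
      · intro b _ hb
        simp [ev, vecMulVec_apply, Pi.single_eq_of_ne hb]
      · simp
    · intro i j hij
      have hij' : j.val < i.val := hij
      have hi : i ≠ 0 := fun e => by rw [e] at hij'; simp at hij'
      have hne : i ≠ j := fun e => by rw [e] at hij'; exact lt_irrefl _ hij'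
      simp [ev, vecMulVec_apply, Pi.single_eq_of_ne hi, Matrix.one_apply_ne hne]
  refine ⟨hσ0, ⟨1 + N, hdetN⟩, ?_, ?_, ?_⟩
  · have e : (1 + N) - 1 = N := add_sub_cancel_left _ _
    exact ⟨⟨m + 1, by show ((1 + N) - 1) ^ _ = 0; rw [e]; exact hN1⟩,
      by show ((1 + N) - 1) ^ m ≠ 0; rw [e]; exact hN2⟩
  · intro c hc hd
    obtain ⟨g, hg⟩ := exists_conj hnil hc hd
    exact ⟨g, mul_inv_eq_iff_eq_mul.2 (Subtype.ext hg)⟩
  set u : Matrix.SpecialLinearGroup (Fin (m + 1)) F := ⟨1 + N, hdetN⟩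
  set H := Subgroup.closure ({u, loU m F} : Set (Matrix.SpecialLinearGroup (Fin (m + 1)) F))
  have hu : u ∈ H := Subgroup.subset_closure (by simp)
  have hv : loU m F ∈ H := Subgroup.subset_closure (by simp)
  have hZ : HS H Z := by
    refine ⟨(loU m F)⁻¹ * u, mul_mem (inv_mem hv) hu, ?_⟩
    show ((loU m F)⁻¹).1 * (1 + N) = Z
    rw [eN, ← mul_assoc, show ((loU m F)⁻¹).1 * loW m F = 1 from congrArg Subtype.val (inv_mul_cancel (loU m F)),
      one_mul]
  refine ⟨hZ, ?_⟩
  have eZ : Z = D + vecMulVec (β • ev 0) σ := by rw [hZdef, mul_add, mul_one, mul_vecMulVec, hD0]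
  -- powers of the triangular element
  have hpow : ∀ i : ℕ, ∃ τ : Fin (m + 1) → F, Z ^ i = D ^ i + vecMulVec (ev 0) τ ∧ τ 0 = 0 ∧
      τ (Fin.last m) = (i : F) * β ^ i * σ (Fin.last m) ∧
      τ ᵥ* D - β • τ = β • (σ ᵥ* D ^ i - β ^ i • σ) := by
    intro i
    induction i with
    | zero =>
      refine ⟨0, by rw [pow_zero, pow_zero, vecMulVec_zero, add_zero], rfl, by simp, ?_⟩
      rw [zero_vecMul, smul_zero, sub_zero, pow_zero, pow_zero, vecMul_one, one_smul, sub_self, smul_zero]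
    | succ i ih =>
      obtain ⟨τ, h1, h2, h3, h4⟩ := ih
      refine ⟨β • τ + β • (σ ᵥ* D ^ i), ?_, ?_, ?_, ?_⟩
      · rw [pow_succ', h1, eZ, add_mul, mul_add, mul_add, ← pow_succ', mul_vecMulVec, hD0,
          vecMulVec_mul, vv_mul, show σ ⬝ᵥ ev 0 = 0 by rw [ev, dotProduct_single, mul_one, hσ0], zero_smul,
          add_zero, vecMulVec_add, smul_vecMulVec, smul_vecMulVec, vecMulVec_smul, vecMulVec_smul]
        abel
      · have h5 : (σ ᵥ* D ^ i) 0 = σ ⬝ᵥ (D ^ i *ᵥ ev 0) := by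
          rw [dotProduct_mulVec, ev, dotProduct_single, mul_one]
        have h6 : ∀ i : ℕ, D ^ i *ᵥ ev 0 = β ^ i • ev 0 := by
          intro i
          induction i with
          | zero => rw [pow_zero, pow_zero, one_mulVec, one_smul]
          | succ i ih =>
            rw [pow_succ', ← mulVec_mulVec, ih, mulVec_smul, hD0, smul_smul, ← pow_succ]
        rw [Pi.add_apply, Pi.smul_apply, Pi.smul_apply, h5, h6, h2, dotProduct_smul, ev, dotProduct_single,
          hσ0]
        simp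
      · have h5 : (σ ᵥ* D ^ i) (Fin.last m) = σ ⬝ᵥ (D ^ i *ᵥ ev (Fin.last m)) := by
          rw [dotProduct_mulVec, ev, dotProduct_single, mul_one]
        have h6 : ∀ i : ℕ, D ^ i *ᵥ ev (Fin.last m) = β ^ i • ev (Fin.last m) := by
          intro i
          induction i with
          | zero => rw [pow_zero, pow_zero, one_mulVec, one_smul]
          | succ i ih =>
            rw [pow_succ', ← mulVec_mulVec, ih, mulVec_smul, hDl, smul_smul, ← pow_succ]
        rw [Pi.add_apply, Pi.smul_apply, Pi.smul_apply, h5, h6, h3, dotProduct_smul, ev, dotProduct_single,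
          smul_eq_mul, smul_eq_mul, smul_eq_mul, pow_succ]
        push_cast
        ring
      · have e : (β • τ + β • (σ ᵥ* D ^ i)) ᵥ* D - β • (β • τ + β • (σ ᵥ* D ^ i)) =
            β • (τ ᵥ* D - β • τ) + β • (σ ᵥ* D ^ (i + 1)) - β • (β • (σ ᵥ* D ^ i)) := by
          rw [add_vecMul, smul_vecMul, smul_vecMul, vecMul_vecMul, ← pow_succ, smul_add, smul_sub]
          abel
        rw [e, h4]
        ext j
        simp only [Pi.add_apply, Pi.sub_apply, Pi.smul_apply, smul_eq_mul, pow_succ']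
        ring
  obtain ⟨τ, h1, h2, h3, h4⟩ := hpow M
  rw [hDM] at h1 h4
  rw [vecMul_one, hβM, one_smul, sub_self, smul_zero, sub_eq_zero] at h4
  refine ⟨τ (Fin.last m), ?_, ?_⟩
  · rw [h3, hβM, mul_one]
    exact mul_ne_zero hM hσ
  · obtain ⟨g, hgH, hgv⟩ := hZ
    refine ⟨g ^ M, pow_mem hgH _, ?_⟩
    rw [Matrix.SpecialLinearGroup.coe_pow, hgv, h1, tv]
    congr 1
    have hτ : τ = τ (Fin.last m) • ev (Fin.last m) := by
      ext i
      rcases eq_or_ne i (Fin.last m) with rfl | hi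
      · simp [ev]
      · rw [hleft τ h4 h2 i hi, Pi.smul_apply, ev, Pi.single_eq_of_ne hi, smul_zero]
    conv_lhs => rw [hτ, vecMulVec_smul]
    rw [smul_vecMulVec]

/-- The diagonal case. -/
theorem exists_diag [Fintype F] (hm : 2 ≤ m) (t : Fin (m + 1) → F) (β : F) (h0 : t 0 = β)
    (hl : t (Fin.last m) = β) (hmid : ∀ i, i ≠ 0 → i ≠ Fin.last m → t i ≠ β) (hprod : ∏ i, t i = 1)
    (hβ : β ≠ 1) :
    ∃ u : Matrix.SpecialLinearGroup (Fin (m + 1)) F, Reg u ∧
      (∀ c : F, c ≠ 0 →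
        (∏ j : Fin (m + 1), ∏ l : Fin j.val, t ⟨l.val, by omega⟩) = c ^ (m + 1) →
        ∃ g : Matrix.SpecialLinearGroup (Fin (m + 1)) F, g * loU m F * g⁻¹ = u) ∧
      ((∀ S : Subfield F, t ⟨1, by omega⟩ / β ∈ S → S = ⊤) →
        Subgroup.closure ({u, loU m F} : Set (Matrix.SpecialLinearGroup (Fin (m + 1)) F)) = ⊤) := by
  classical
  have ht : ∀ i, t i ≠ 0 := fun i h => by
    rw [Finset.prod_eq_zero (Finset.mem_univ i) h] at hprod; exact zero_ne_one hprod
  set D := Matrix.diagonal t with hD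
  have hDev : ∀ i, D *ᵥ ev i = t i • ev i := fun i => by
    rw [hD, ev]; exact (diagonal_mulVec_single _ _ _).trans (by rw [← Pi.single_smul, smul_eq_mul])
  set B := loW m F * D with hB
  have hBsub : ∀ i j : Fin (m + 1), B i j = (loW m F) i j * t j := fun i j => by rw [hB, hD, Matrix.mul_diagonal]
  have hkB : (kry B (ev 0)).det = ∏ j : Fin (m + 1), ∏ l : Fin j.val, t ⟨l.val, by omega⟩ := by
    rw [kry_hessenberg B fun i j hij => by
      rw [hBsub, loW, Matrix.add_apply, Matrix.one_apply_ne (fun e => by rw [e] at hij; omega)]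
      simp [loN, show ¬ i.val = j.val + 1 by omega]]
    refine Finset.prod_congr rfl fun j _ => Finset.prod_congr rfl fun l _ => ?_
    rw [hBsub, loW, Matrix.add_apply, Matrix.one_apply_ne (fun e => by simp [Fin.ext_iff] at e)]
    simp [loN]
  set y := B *ᵥ ev 0 with hy
  have hdetB : B.det = 1 := by rw [hB, det_mul, det_loW, hD, det_diagonal, hprod, one_mul]
  have hkA : (kry (B - 1) y).det = (kry B (ev 0)).det := by
    rw [kry_sub_one, hy, kry_mul_left, det_mul, hdetB, one_mul]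
  have hne : (kry (B - 1) y).det ≠ 0 := by
    rw [hkA, hkB]
    exact Finset.prod_ne_zero_iff.2 fun j _ => Finset.prod_ne_zero_iff.2 fun l _ => ht _
  obtain ⟨ρ, hρn, hρd, -⟩ := exists_completion (A := B - 1) (x := y) 0 hne (fun _ _ j hj => absurd hj (by simp)) (by simp)
  rw [pow_zero, one_mulVec] at hρn hρd
  have eN : loW m F * (D * (1 + vecMulVec (ev 0) ρ)) - 1 = B - 1 + vecMulVec y ρ := by
    rw [← mul_assoc, ← hB, mul_add, mul_one, mul_vecMulVec, ← hy]; abel
  have hσ : ρ (Fin.last m) ≠ 0 := by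
    intro h
    obtain ⟨hN, -, -⟩ := regular_of_kry hρn (by rw [hρd]; exact hne)
    have h1 : (B - 1 + vecMulVec y ρ) *ᵥ ev (Fin.last m) = (β - 1) • ev (Fin.last m) := by
      rw [add_mulVec, vecMulVec_mulVec, ev, dotProduct_single, mul_one, h, ← ev, sub_mulVec, one_mulVec, hB,
        ← mulVec_mulVec, hDev, hl, mulVec_smul, loW_mulVec_last, sub_smul, one_smul]
      simp
    have h2 : ∀ k : ℕ, (B - 1 + vecMulVec y ρ) ^ k *ᵥ ev (Fin.last m) = (β - 1) ^ k • ev (Fin.last m) := by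
      intro k
      induction k with
      | zero => rw [pow_zero, pow_zero, one_mulVec, one_smul]
      | succ k ih => rw [pow_succ', ← mulVec_mulVec, ih, mulVec_smul, h1, smul_smul, ← pow_succ]
    have := congrFun (h2 (m + 1)) (Fin.last m)
    rw [hN, zero_mulVec, Pi.smul_apply, ev, Pi.single_eq_same, smul_eq_mul, mul_one, Pi.zero_apply] at this
    exact pow_ne_zero _ (sub_ne_zero.2 hβ) this.symm
  have hcard : 2 ≤ Fintype.card F := Fintype.one_lt_card
  obtain ⟨hρ0, u, hu, hconj, hZ, c, hc0, hc⟩ := core hm D β ρ y (Fintype.card F - 1)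
    (by rw [hD, det_diagonal, hprod]) (by rw [hDev, h0]) (by rw [hDev, hl])
    (by rw [hD, Matrix.diagonal_pow, ← Matrix.diagonal_one]; congr 1; funext i
        exact FiniteField.pow_card_sub_one_eq_one _ (ht i))
    (FiniteField.pow_card_sub_one_eq_one _ (h0 ▸ ht 0)) (by omega)
    (by rw [Nat.cast_sub (by omega), FiniteField.cast_card_eq_zero, Nat.cast_one, zero_sub]
        exact neg_ne_zero.2 one_ne_zero)
    (fun r hr hr0 i hi => by
      rcases eq_or_ne i 0 with rfl | hi0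
      · exact hr0
      have := congrFun hr i
      rw [hD, vecMul_diagonal, Pi.smul_apply, smul_eq_mul, mul_comm β] at this
      by_contra h
      exact hmid i hi0 hi (mul_left_cancel₀ h this))
    hσ (by rw [eN]; exact hρn) (by rw [eN, hρd]; exact hne)
  refine ⟨u, hu, fun d hd hp => hconj d hd (by rw [eN, hρd, hkA, hkB, hp]), fun hS => ?_⟩
  have hi1 : (⟨1, by omega⟩ : Fin (m + 1)) ≠ Fin.last m := fun e => by
    have := congrArg Fin.val e; simp only [Fin.val_last] at this; omega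
  refine eq_top_of_ratio hm ⟨loU m F, Subgroup.subset_closure (by simp), rfl⟩ hc0 hc
    (D * (1 + vecMulVec (ev 0) ρ)) β (t ⟨1, by omega⟩) (β * ρ ⟨1, by omega⟩) hZ ?_ ?_ ?_ hS
  · rw [← mulVec_mulVec, add_mulVec, one_mulVec, vecMulVec_mulVec,
      show ρ ⬝ᵥ ev 0 = 0 by rw [ev, dotProduct_single, mul_one, hρ0]]
    simp [hDev, h0]
  · rw [← mulVec_mulVec, add_mulVec, one_mulVec, vecMulVec_mulVec, op_smul_eq_smul,
      show ρ ⬝ᵥ ev ⟨1, by omega⟩ = ρ ⟨1, by omega⟩ by rw [ev, dotProduct_single, mul_one],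
      mulVec_add, mulVec_smul, hDev, hDev, h0, smul_smul, mul_comm (ρ _)]
  · rw [← vecMul_vecMul]
    have : ev (Fin.last m) ᵥ* D = β • ev (Fin.last m) := by
      ext i
      rw [hD, vecMul_diagonal, Pi.smul_apply, smul_eq_mul, ev]
      rcases eq_or_ne i (Fin.last m) with rfl | hi
      · rw [hl, mul_comm]
      · rw [Pi.single_eq_of_ne hi, zero_mul, mul_zero]
    rw [this, smul_vecMul, vecMul_add, vecMul_one, vecMul_vecMulVec,
      ev_last_eq_zero (by simp; omega), zero_smul, add_zero]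

/-- The case of a root different from one, from a cyclic vector. -/
theorem exists_of_cyclic (hm : 2 ≤ m) (D : Matrix (Fin (m + 1)) (Fin (m + 1)) F) (β : F) (M : ℕ)
    (hdet : D.det = 1) (hD0 : D *ᵥ ev 0 = β • ev 0) (hDl : D *ᵥ ev (Fin.last m) = β • ev (Fin.last m))
    (hDM : D ^ M = 1) (hβM : β ^ M = 1) (hM0 : 1 ≤ M) (hM : (M : F) ≠ 0) (hβ : β ≠ 1)
    (hleft : ∀ r : Fin (m + 1) → F, r ᵥ* D = β • r → r 0 = 0 → ∀ i, i ≠ Fin.last m → r i = 0)
    (hcyc : (kry (loW m F * D) (ev 0)).det ≠ 0) :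
    ∃ u : Matrix.SpecialLinearGroup (Fin (m + 1)) F, Reg u ∧
      (∀ c : F, c ≠ 0 → (kry (loW m F * D) (ev 0)).det = c ^ (m + 1) →
        ∃ g : Matrix.SpecialLinearGroup (Fin (m + 1)) F, g * loU m F * g⁻¹ = u) ∧
      ∃ c : F, c ≠ 0 ∧ HS (Subgroup.closure {u, loU m F}) (tv (c • ev 0) (ev (Fin.last m))) := by
  classical
  set B := loW m F * D with hB
  set y := B *ᵥ ev 0 with hy
  have hdetB : B.det = 1 := by rw [hB, det_mul, det_loW, hdet, one_mul]
  have hkA : (kry (B - 1) y).det = (kry B (ev 0)).det := by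
    rw [kry_sub_one, hy, kry_mul_left, det_mul, hdetB, one_mul]
  have hne : (kry (B - 1) y).det ≠ 0 := by rw [hkA]; exact hcyc
  obtain ⟨ρ, hρn, hρd, -⟩ :=
    exists_completion (A := B - 1) (x := y) 0 hne (fun _ _ j hj => absurd hj (by simp)) (by simp)
  rw [pow_zero, one_mulVec] at hρn hρd
  have eN : loW m F * (D * (1 + vecMulVec (ev 0) ρ)) - 1 = B - 1 + vecMulVec y ρ := by
    rw [← mul_assoc, ← hB, mul_add, mul_one, mul_vecMulVec, ← hy]; abel
  have hσ : ρ (Fin.last m) ≠ 0 := by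
    intro h
    obtain ⟨hN, -, -⟩ := regular_of_kry hρn (by rw [hρd]; exact hne)
    have h1 : (B - 1 + vecMulVec y ρ) *ᵥ ev (Fin.last m) = (β - 1) • ev (Fin.last m) := by
      rw [add_mulVec, vecMulVec_mulVec, ev, dotProduct_single, mul_one, h, ← ev, sub_mulVec, one_mulVec, hB,
        ← mulVec_mulVec, hDl, mulVec_smul, loW_mulVec_last, sub_smul, one_smul]
      simp
    have h2 : ∀ k : ℕ, (B - 1 + vecMulVec y ρ) ^ k *ᵥ ev (Fin.last m) = (β - 1) ^ k • ev (Fin.last m) := by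
      intro k
      induction k with
      | zero => rw [pow_zero, pow_zero, one_mulVec, one_smul]
      | succ k ih => rw [pow_succ', ← mulVec_mulVec, ih, mulVec_smul, h1, smul_smul, ← pow_succ]
    have := congrFun (h2 (m + 1)) (Fin.last m)
    rw [hN, zero_mulVec, Pi.smul_apply, ev, Pi.single_eq_same, smul_eq_mul, mul_one, Pi.zero_apply] at this
    exact pow_ne_zero _ (sub_ne_zero.2 hβ) this.symm
  obtain ⟨-, u, hu, hconj, -, hc⟩ := core hm D β ρ y M hdet hD0 hDl hDM hβM hM0 hM hleft hσ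
    (by rw [eN]; exact hρn) (by rw [eN, hρd]; exact hne)
  exact ⟨u, hu, fun d hd hp => hconj d hd (by rw [eN, hρd, hkA, hp]), hc⟩

end CfsgLib.Classical.UnipotentGen
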