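import Cfsg.Agent.Lib.Classical.SpUnipotentBasic
import Cfsg.Agent.Lib.Classical.TwoUnipotent
import Cfsg.Agent.Lib.Classical.SubfieldGen

/-!
# Three conjugate regular unipotents of the symplectic group, odd characteristic
-/

set_option autoImplicit false
set_option linter.unusedSectionVars false

open Matrix CfsgLib.MinDeg CfsgLib.Classical.UnipotentGen

namespace CfsgLib.Classical.SpUnipotent

variable {F : Type*} [Field F] {n : ℕ}

theorem sp_preserves (W : symplecticGroup (Fin n) F) (x y : Fin n ⊕ Fin n → F) :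
    sympBil F n (W.1 *ᵥ x) (W.1 *ᵥ y) = sympBil F n x y := by
  rw [sympBil_apply, sympBil_apply]
  exact (mem_symplecticGroup_iff_preserves n).1 W.2 x y

theorem sp_mul_mulVec (V W : symplecticGroup (Fin n) F) (x : Fin n ⊕ Fin n → F) :
    (V * W).1 *ᵥ x = V.1 *ᵥ (W.1 *ᵥ x) := (mulVec_mulVec _ _ _).symm

/-- A proper subspace has a non-zero orthogonal vector. -/
theorem exists_perp (K : Submodule F (Fin n ⊕ Fin n → F)) (hK : K ≠ ⊤) :
    ∃ y : Fin n ⊕ Fin n → F, y ≠ 0 ∧ ∀ x ∈ K, sympBil F n x y = 0 := by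
  by_contra h
  push Not at h
  have hinj : Function.Injective ((sympBil F n).flip.compl₂ K.subtype) := by
    refine (injective_iff_map_eq_zero _).2 fun y hy => ?_
    by_contra hy0
    obtain ⟨x, hx, hxy⟩ := h y hy0
    exact hxy (LinearMap.congr_fun hy ⟨x, hx⟩)
  have hle := LinearMap.finrank_le_finrank_of_injective hinj
  rw [Subspace.dual_finrank_eq] at hle
  exact hK (Submodule.eq_top_of_finrank_eq (le_antisymm (Submodule.finrank_le K) hle))

/-- A unipotent fixes a non-zero vector orthogonal to an invariant set. -/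
theorem exists_fixed (W : symplecticGroup (Fin n) F) (hW : IsNilpotent (W.1 - 1))
    (K : Submodule F (Fin n ⊕ Fin n → F)) (hK : ∀ x ∈ K, (W⁻¹).1 *ᵥ x ∈ K)
    (y : Fin n ⊕ Fin n → F) (hy0 : y ≠ 0) (hy : ∀ x ∈ K, sympBil F n x y = 0) :
    ∃ z : Fin n ⊕ Fin n → F, z ≠ 0 ∧ (∀ x ∈ K, sympBil F n x z = 0) ∧ W.1 *ᵥ z = z := by
  obtain ⟨k, hk⟩ := hW
  have key : ∀ (k : ℕ) (y : Fin n ⊕ Fin n → F), y ≠ 0 → (∀ x ∈ K, sympBil F n x y = 0) →
      (W.1 - 1) ^ k *ᵥ y = 0 →
      ∃ z : Fin n ⊕ Fin n → F, z ≠ 0 ∧ (∀ x ∈ K, sympBil F n x z = 0) ∧ W.1 *ᵥ z = z := by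
    intro k
    induction k with
    | zero =>
      intro y hy0 _ h
      rw [pow_zero, one_mulVec] at h
      exact absurd h hy0
    | succ k ih =>
      intro y hy0 hy h
      by_cases hP : (W.1 - 1) *ᵥ y = 0
      · rw [sub_mulVec, one_mulVec, sub_eq_zero] at hP
        exact ⟨y, hy0, hy, hP⟩
      refine ih _ hP (fun x hx => ?_) (by rw [mulVec_mulVec, ← pow_succ]; exact h)
      rw [sub_mulVec, one_mulVec, map_sub, hy x hx, sub_zero]
      have := sp_preserves W ((W⁻¹).1 *ᵥ x) y
      rw [mulVec_mulVec, sp_mul_inv n W, one_mulVec, hy _ (hK x hx)] at this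
      exact this
  exact key k y hy0 hy (by rw [hk, zero_mulVec])

variable {H : Subgroup (symplecticGroup (Fin n) F)}

theorem span_phi_mulVec {W : symplecticGroup (Fin n) F} (hW : W ∈ H) {x : Fin n ⊕ Fin n → F}
    (hx : x ∈ Submodule.span F (Phi H)) : W.1 *ᵥ x ∈ Submodule.span F (Phi H) := by
  induction hx using Submodule.span_induction with
  | mem v hv => exact Submodule.subset_span (phi_conj hW hv)
  | zero => rw [mulVec_zero]; exact zero_mem _
  | add v v' _ _ h h' => rw [mulVec_add]; exact add_mem h h'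
  | smul c v _ h => rw [mulVec_smul]; exact Submodule.smul_mem _ c h

theorem component_mulVec {W : symplecticGroup (Fin n) F} (hW : W ∈ H) {a : Fin n ⊕ Fin n → F}
    (ha : W.1 *ᵥ a = a) {x : Fin n ⊕ Fin n → F}
    (hx : x ∈ Submodule.span F {e | Relation.ReflTransGen (Adj H) a e}) :
    W.1 *ᵥ x ∈ Submodule.span F {e | Relation.ReflTransGen (Adj H) a e} := by
  induction hx using Submodule.span_induction with
  | mem v hv =>
    refine Submodule.subset_span ?_
    have key : ∀ e, Relation.ReflTransGen (Adj H) a e → Relation.ReflTransGen (Adj H) a (W.1 *ᵥ e) := by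
      intro e he
      induction he with
      | refl => rw [ha]
      | tail _ h ih =>
        exact ih.tail ⟨phi_conj hW h.1, phi_conj hW h.2.1, by rw [sp_preserves]; exact h.2.2⟩
    exact key v hv
  | zero => rw [mulVec_zero]; exact zero_mem _
  | add v v' _ _ h h' => rw [mulVec_add]; exact add_mem h h'
  | smul c v _ h => rw [mulVec_smul]; exact Submodule.smul_mem _ c h

/-- Three conjugate regular unipotents in odd characteristic. -/
theorem odd_case [Fintype F] {m : ℕ} (hm : 1 ≤ m) (h2 : (2 : F) ≠ 0) :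
    ∃ u g h : symplecticGroup (Fin (m + 1)) F,
      IsNilpotent (u.1 - 1) ∧ (u.1 - 1) ^ (2 * (m + 1) - 1) ≠ 0 ∧
      Subgroup.closure ({u, g * u * g⁻¹, h * u * h⁻¹} : Set (symplecticGroup (Fin (m + 1)) F)) = ⊤ := by
  classical
  obtain ⟨z, hz⟩ := IsCyclic.exists_generator (α := Fˣ)
  set ρ : F := (z : F) with hρ
  have hρ0 : ρ ≠ 0 := z.ne_zero
  have hF : ∀ r : F, ∃ ν : F, ν ≠ 0 ∧ ν ≠ r := fun r => by
    by_cases hr : r = 1
    · refine ⟨2, h2, fun e => ?_⟩
      exact one_ne_zero (α := F) (by linear_combination e + hr)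
    · exact ⟨1, one_ne_zero, Ne.symm hr⟩
  set L : Matrix (Fin (m + 1)) (Fin (m + 1)) F := loN fun _ => 1 with hL
  set N := upN m F with hNdef
  have eN : N = Lᵀ := by ext i j; simp [hNdef, hL, upN, loN]
  have hN : N ^ (m + 1) = 0 := by
    rw [eN, ← transpose_pow, hL, loN_one_pow, transpose_zero]
  obtain ⟨A, hA⟩ : ∃ A : GL (Fin (m + 1)) F, A.val = 1 + N :=
    ⟨(IsNilpotent.isUnit_one_add ⟨m + 1, hN⟩).unit, IsUnit.unit_spec _⟩
  set S : symMat F (m + 1) := rootS (Fin.last m) 1 with hS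
  set u := siegel S * levi A with hu
  obtain ⟨hnil, hreg⟩ := reg_siegel_levi S A N hA hN (by
    intro h
    have eLm : L ^ m = Matrix.single (Fin.last m) 0 1 := by
      ext i j
      rw [hL, loN_one_pow_apply, Matrix.single_apply]
      exact if_congr ⟨fun h => ⟨h.2.symm, h.1.symm⟩, fun h => ⟨h.2.symm, h.1.symm⟩⟩ rfl rfl
    rw [eN, ← transpose_pow, transpose_transpose, eLm, transpose_single, hS] at h
    change Matrix.single 0 (Fin.last m) (1 : F) * Matrix.single (Fin.last m) (Fin.last m) 1 *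
      Matrix.single (Fin.last m) 0 1 = 0 at h
    rw [Matrix.single_mul_single_same, Matrix.single_mul_single_same] at h
    have h00 := congrFun (congrFun h 0) 0
    simp at h00)
  set i1 : Fin (m + 1) := ⟨1, by omega⟩ with hi1
  have h01 : (0 : Fin (m + 1)) ≠ i1 := fun e => by simpa [hi1] using congrArg Fin.val e
  have h0L : (0 : Fin (m + 1)) ≠ Fin.last m := fun e => by
    have := congrArg Fin.val e
    simp only [Fin.val_zero, Fin.val_last] at this
    omega
  have hAT : A.valᵀ = loW m F := by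
    rw [hA, eN, transpose_add, transpose_one, transpose_transpose]; rfl
  have hA0 : A.val *ᵥ ev 0 = ev 0 := by
    rw [hA, add_mulVec, one_mulVec, hNdef, upN_mulVec_zero rfl, add_zero]
  have hA1 : A.val *ᵥ ev i1 = ev i1 + ev 0 := by
    rw [hA, add_mulVec, one_mulVec, hNdef, upN_mulVec_single (i := 0) (j := i1) (by simp [hi1])]
  have hSv : ∀ q : Fin (m + 1) → F,
      (S : Matrix (Fin (m + 1)) (Fin (m + 1)) F) *ᵥ q = q (Fin.last m) • ev (Fin.last m) := by
    intro q
    ext i
    by_cases hi : i = Fin.last m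
    · simp [hS, rootS, ev, mulVec, dotProduct, Matrix.single_apply, hi, eq_comm]
    · simp [hS, rootS, ev, mulVec, dotProduct, Matrix.single_apply, hi, Ne.symm hi]
  have hu_mul : ∀ p q : Fin (m + 1) → F, u.1 *ᵥ Sum.elim p q =
      Sum.elim (A.val *ᵥ p + (S : Matrix (Fin (m + 1)) (Fin (m + 1)) F) *ᵥ
          ((A⁻¹).valᵀ *ᵥ q))
        ((A⁻¹).valᵀ *ᵥ q) := by
    intro p q
    rw [hu, sp_mul_mulVec, levi_mulVec, siegel_mulVec]
  set a : Fin (m + 1) ⊕ Fin (m + 1) → F := Sum.elim (ev 0) 0 with ha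
  have hua : u.1 *ᵥ a = a := by
    rw [ha, hu_mul, mulVec_zero, mulVec_zero, add_zero, hA0]
  -- the fixed points of `u`
  have hfix : ∀ y, u.1 *ᵥ y = y → ∃ c : F, y = c • a := by
    intro y hy
    obtain ⟨p, q, rfl⟩ : ∃ p q, y = Sum.elim p q := ⟨_, _, (Sum.elim_comp_inl_inr y).symm⟩
    rw [hu_mul] at hy
    obtain ⟨hy1, hy2⟩ := Sum.elim_eq_iff.1 hy
    rw [hy2] at hy1
    have hLq : loW m F *ᵥ q = q := by
      conv_lhs => rw [← hy2, mulVec_mulVec, ← hAT, gl_inv_mul_transpose, one_mulVec]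
    have hq : ∀ i : Fin (m + 1), i ≠ Fin.last m → q i = 0 := by
      intro i hi
      have hlt : i.val < m := Fin.lt_last_iff_ne_last.2 hi
      have := congrFun hLq ⟨i.val + 1, by omega⟩
      rw [loW, add_mulVec, one_mulVec, Pi.add_apply,
        loN_mulVec_apply _ q (i := i) (j := ⟨i.val + 1, by omega⟩) rfl, one_mul] at this
      exact add_eq_left.1 this
    rw [hSv, hA, add_mulVec, one_mulVec, add_assoc, add_eq_left] at hy1
    have hqL : q (Fin.last m) = 0 := by
      have := congrFun hy1 (Fin.last m)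
      rwa [Pi.add_apply, Pi.smul_apply, ev, Pi.single_eq_same, smul_eq_mul, mul_one, Pi.zero_apply,
        show (N *ᵥ p) (Fin.last m) = (ev (Fin.last m) ᵥ* N) ⬝ᵥ p by
          rw [← dotProduct_mulVec, ev, single_dotProduct, one_mul],
        hNdef, vecMul_upN_last, zero_dotProduct, zero_add] at this
    rw [hqL, zero_smul, add_zero] at hy1
    have hq0 : q = 0 := funext fun i => by
      rcases eq_or_ne i (Fin.last m) with rfl | hi
      · exact hqL
      · exact hq i hi
    refine ⟨p 0, ?_⟩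
    have hp : p = p 0 • ev 0 := funext fun i => by
      rcases eq_or_ne i 0 with rfl | hi
      · simp [ev]
      · have hpos : 0 < i.val := Nat.pos_of_ne_zero fun e => hi (Fin.ext e)
        have := congrFun hy1 ⟨i.val - 1, by omega⟩
        rw [mulVec, dotProduct, Finset.sum_eq_single i] at this
        · rw [hNdef, upN, of_apply, if_pos (by simp only; omega), one_mul, Pi.zero_apply] at this
          rw [this, Pi.smul_apply, ev, Pi.single_eq_of_ne hi, smul_zero]
        · intro k _ hk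
          rw [hNdef, upN, of_apply, if_neg (fun e => hk (Fin.ext (by simp only at e; omega))), zero_mul]
        · simp
    funext i
    rcases i with i | i
    · simpa [ha] using congrFun hp i
    · simp [ha, hq0]
  -- the first conjugate
  set c : F := -(2 : F)⁻¹ with hc
  set T : symMat F (m + 1) := ⟨c • (vecMulVec (ev 0) (ev i1) + vecMulVec (ev i1) (ev 0)), by
    show (_)ᵀ = _
    rw [transpose_smul, transpose_add, transpose_vecMulVec, transpose_vecMulVec,
      add_comm (vecMulVec (ev i1) (ev 0))]⟩ with hT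
  set g := siegel T
  have hg : g * u * g⁻¹ = trv a 1 * u := by
    have e1 : siegel (rootS (0 : Fin (m + 1)) (1 : F)) = trv a 1 := siegel_eq_trv _ _ _ (by
      ext i j
      simp only [rootS, ev, Matrix.single_apply, vecMulVec_apply, Matrix.smul_apply, Pi.single_apply,
        smul_eq_mul, one_mul]
      by_cases hi : i = 0 <;> by_cases hj : j = 0 <;> simp [hi, hj, Ne.symm, eq_comm])
    rw [← e1, hu, ← siegel_neg, ← mul_assoc, ← siegel_add, mul_assoc (siegel (T + S)), levi_siegel,
      ← mul_assoc, ← siegel_add, ← mul_assoc (siegel (rootS 0 1)), ← siegel_add]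
    congr 2
    refine Subtype.ext ?_
    show (c • (vecMulVec (ev 0) (ev i1) + vecMulVec (ev i1) (ev 0))) + (S : Matrix (Fin (m + 1)) (Fin (m + 1)) F) +
      A.val * -(c • (vecMulVec (ev 0) (ev i1) + vecMulVec (ev i1) (ev 0))) * A.valᵀ =
      Matrix.single 0 0 1 + (S : Matrix (Fin (m + 1)) (Fin (m + 1)) F)
    have e2 : ∀ v w : Fin (m + 1) → F, A.val * vecMulVec v w * A.valᵀ =
        vecMulVec (A.val *ᵥ v) (A.val *ᵥ w) := fun v w => by
      rw [mul_vecMulVec, vecMulVec_mul, vecMul_transpose]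
    simp only [Matrix.mul_neg, Matrix.neg_mul, Matrix.mul_smul, Matrix.smul_mul, Matrix.mul_add, Matrix.add_mul,
      e2, hA0, hA1, add_vecMulVec, vecMulVec_add]
    have e00 : Matrix.single (0 : Fin (m + 1)) (0 : Fin (m + 1)) (1 : F) =
        (-c - c) • vecMulVec (ev (0 : Fin (m + 1))) (ev (0 : Fin (m + 1))) := by
      rw [show -c - c = 1 by rw [hc]; linear_combination mul_inv_cancel₀ h2, one_smul]
      ext i j
      by_cases hi : i = 0 <;> by_cases hj : j = 0 <;>
        simp [ev, vecMulVec_apply, hi, hj, Matrix.single_apply, Ne.symm]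
    rw [e00]
    module
  -- the second conjugate
  let d : Fin (m + 1) → F := fun i => if i = i1 then ρ else 1
  let D : GL (Fin (m + 1)) F := ⟨Matrix.diagonal d, Matrix.diagonal fun i => (d i)⁻¹, by
      rw [diagonal_mul_diagonal, ← diagonal_one]
      congr 1; funext i; simp only [d]; split_ifs <;> simp [hρ0], by
      rw [diagonal_mul_diagonal, ← diagonal_one]
      congr 1; funext i; simp only [d]; split_ifs <;> simp [hρ0]⟩
  set h := levi D * SymplecticGroup.symJ (Fin (m + 1)) F with hh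
  have hmul : ∀ p q : Fin (m + 1) → F, h.1 *ᵥ Sum.elim p q =
      Sum.elim (Matrix.diagonal d *ᵥ -q) (Matrix.diagonal (fun i => (d i)⁻¹) *ᵥ p) := by
    intro p q
    rw [hh, sp_mul_mulVec, symJ_mulVec, levi_mulVec]
    congr 1
    show (Matrix.diagonal fun i => (d i)⁻¹)ᵀ *ᵥ p = _
    rw [diagonal_transpose]
  have hd0 : d 0 = 1 := if_neg h01
  have hd1 : d i1 = ρ := if_pos rfl
  set v := h * u * h⁻¹ with hv
  have hvh : ∀ y, v.1 *ᵥ (h.1 *ᵥ y) = h.1 *ᵥ (u.1 *ᵥ y) := fun y => by
    rw [← sp_mul_mulVec, ← sp_mul_mulVec, hv, inv_mul_cancel_right]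
  set a' : Fin (m + 1) ⊕ Fin (m + 1) → F := Sum.elim 0 (ev 0) with ha'
  have hha : h.1 *ᵥ a = a' := by
    rw [ha, hmul, neg_zero, mulVec_zero, ha']
    congr 1
    funext i
    rw [mulVec_diagonal, ev]
    rcases eq_or_ne i 0 with rfl | hi
    · rw [hd0, inv_one, one_mul]
    · rw [Pi.single_eq_of_ne hi, mul_zero]
  have hva : ∀ y, v.1 *ᵥ y = y → ∃ c : F, y = c • a' := by
    intro y hy
    set y' := (h⁻¹).1 *ᵥ y
    have hy' : h.1 *ᵥ y' = y := by
      simp only [y']; rw [mulVec_mulVec, sp_mul_inv, one_mulVec]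
    have : u.1 *ᵥ y' = y' := by
      have e := hvh y'
      rw [hy', hy, ← hy'] at e
      have := congrArg ((h⁻¹).1 *ᵥ ·) e
      simp only [mulVec_mulVec, ← mul_assoc] at this
      rw [sp_inv_mul, one_mul, one_mulVec] at this
      exact this.symm
    obtain ⟨c, hc⟩ := hfix y' this
    exact ⟨c, by rw [← hy', hc, mulVec_smul, hha]⟩
  set b : Fin (m + 1) ⊕ Fin (m + 1) → F := Sum.elim (ev 0 + ρ • ev i1) 0 with hb
  have hvb : v.1 *ᵥ b = a := by
    have e1 : h.1 *ᵥ Sum.elim 0 (-(ev 0 + ev i1)) = b := by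
      rw [hmul, neg_neg, mulVec_zero, hb]
      congr 1
      funext i
      rw [mulVec_diagonal]
      rcases eq_or_ne i i1 with rfl | hi
      · simp [hd1, ev, h01.symm]
      · have : d i = 1 := if_neg hi
        simp [this, ev, hi]
    have e2 : u.1 *ᵥ Sum.elim 0 (-(ev 0 + ev i1)) =
        Sum.elim (0 : Fin (m + 1) → F) (-ev (0 : Fin (m + 1))) := by
      have e3 : (A⁻¹).valᵀ *ᵥ (ev 0 + ev i1) = ev 0 := by
        rw [hi1, ← loW_mulVec_zero hm, ← hAT, mulVec_mulVec, gl_transpose_mul_inv, one_mulVec]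
      rw [hu_mul, mulVec_zero, mulVec_neg, e3, mulVec_neg, hSv, ev, ev,
        Pi.single_eq_of_ne h0L.symm, zero_smul, neg_zero, add_zero]
    rw [← e1, hvh, e2, hmul, neg_neg, mulVec_zero, ha]
    congr 1
    funext i
    rw [mulVec_diagonal, ev]
    rcases eq_or_ne i 0 with rfl | hi
    · rw [hd0, one_mul]
    · rw [Pi.single_eq_of_ne hi, mul_zero]
  refine ⟨u, g, h, hnil, hreg, ?_⟩
  rw [← hv]
  set H := Subgroup.closure ({u, g * u * g⁻¹, v} : Set (symplecticGroup (Fin (m + 1)) F))
  have huH : u ∈ H := Subgroup.subset_closure (Or.inl rfl)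
  have hgH : g * u * g⁻¹ ∈ H := Subgroup.subset_closure (Or.inr (Or.inl rfl))
  have hvH : v ∈ H := Subgroup.subset_closure (Or.inr (Or.inr rfl))
  have h1H : trv a 1 ∈ H := by
    have := mul_mem hgH (inv_mem huH)
    rwa [hg, mul_inv_cancel_right] at this
  -- all the scalars at `a`
  let X : AddSubgroup F :=
    { carrier := {x | trv a x ∈ H}
      zero_mem' := by show trv a 0 ∈ H; rw [trv_zero]; exact one_mem H
      add_mem' := fun {x y} hx hy => by show trv a (x + y) ∈ H; rw [← trv_mul]; exact mul_mem hx hy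
      neg_mem' := fun {x} hx => by show trv a (-x) ∈ H; rw [trv_neg]; exact inv_mem hx }
  have hub : u.1 *ᵥ b = b + ρ • a := by
    rw [hb, hu_mul, mulVec_zero, mulVec_zero, add_zero, mulVec_add, mulVec_smul, hA0, hA1, ha]
    funext i
    rcases i with i | i <;> simp
    ring
  have hbX : ∀ x ∈ X, trv b x ∈ H := by
    intro x hx
    have e : (v⁻¹).1 *ᵥ a = b := by rw [← hvb, mulVec_mulVec, sp_inv_mul, one_mulVec]
    rw [← e, ← trv_conj]
    exact mul_mem (mul_mem (inv_mem hvH) hx) (inv_mem (inv_mem hvH))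
  have hstep : ∀ x ∈ X, 2 * ρ ^ 2 * x ∈ X := by
    intro x hx
    have h1 : trv (b + ρ • a) (-(2 * x)) ∈ H := by
      rw [← hub, ← trv_conj]
      refine mul_mem (mul_mem huH (hbX _ (neg_mem ?_))) (inv_mem huH)
      rw [two_mul]; exact add_mem hx hx
    have h2' : trv (b + (2 * ρ) • a) x ∈ H := by
      have : u.1 *ᵥ (b + ρ • a) = b + (2 * ρ) • a := by
        rw [mulVec_add, mulVec_smul, hub, hua, add_assoc, ← add_smul, two_mul]
      rw [← this, ← hub, ← trv_conj, ← trv_conj]
      exact mul_mem (mul_mem huH (mul_mem (mul_mem huH (hbX _ hx)) (inv_mem huH))) (inv_mem huH)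
    have e : trv b x * trv (b + ρ • a) (-(2 * x)) * trv (b + (2 * ρ) • a) x = trv a (2 * ρ ^ 2 * x) := by
      refine Subtype.ext (Matrix.ext_of_mulVec_single fun k => ?_)
      have hab : sympBil F (m + 1) a b = 0 := by rw [ha, hb, sympBil_elim]; simp
      have hba : sympBil F (m + 1) b a = 0 := by rw [ha, hb, sympBil_elim]; simp
      rw [sp_mul_mulVec, sp_mul_mulVec]
      simp only [trv_mulVec, map_add, map_smul, LinearMap.add_apply, LinearMap.smul_apply,
        sympBil_isAlt (m + 1) a, sympBil_isAlt (m + 1) b, hab, hba, smul_eq_mul, mul_zero, add_zero]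
      module
    show trv a _ ∈ H
    rw [← e]
    exact mul_mem (mul_mem (hbX _ hx) h1) h2'
  have haP : a ∈ Phi H := by
    intro x
    exact addSubgroup_all X (c := 1) (a := 2) (t := ρ ^ 2) h1H one_ne_zero h2
      (fun y hy => by rw [two_mul]; exact add_mem hy hy) hstep
      (fun S hS => subfield_top_of_pow z hz 2 (Or.inl le_rfl) (by norm_num) S
        (by rw [Units.val_pow_eq_pow_val]; exact hS)) x
  have hspanPhi : Submodule.span F (Phi H) = ⊤ := by
    by_contra hne
    obtain ⟨y, hy0, hy⟩ := exists_perp _ hne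
    obtain ⟨w, hw0, hw, hwv⟩ := exists_fixed v (by
        obtain ⟨k, hk⟩ := hnil
        refine ⟨k, ?_⟩
        have e : v.1 - 1 = h.1 * (u.1 - 1) * (h⁻¹).1 := by
          rw [Matrix.mul_sub, Matrix.sub_mul, Matrix.mul_one, sp_mul_inv]; rfl
        have : ∀ k, (v.1 - 1) ^ k = h.1 * (u.1 - 1) ^ k * (h⁻¹).1 := by
          intro k
          induction k with
          | zero => rw [pow_zero, pow_zero, mul_one, sp_mul_inv]
          | succ k ih =>
            rw [pow_succ, ih, e, pow_succ]
            simp only [mul_assoc]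
            rw [← mul_assoc (h⁻¹).1 h.1, sp_inv_mul, one_mul]
        rw [this, hk, mul_zero, zero_mul])
      _ (fun x hx => span_phi_mulVec (inv_mem hvH) hx) y hy0 hy
    obtain ⟨c, rfl⟩ := hva w hwv
    have := hw a (Submodule.subset_span haP)
    rw [map_smul, ha, ha', sympBil_elim] at this
    simp [ev] at this
    exact hw0 (by rw [this, zero_smul])
  refine eq_top_of_connected hF a haP ?_
  by_contra hne
  obtain ⟨y, hy0, hy⟩ := exists_perp _ hne
  have huia : (u⁻¹).1 *ᵥ a = a := by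
    conv_lhs => rw [← hua, mulVec_mulVec, sp_inv_mul, one_mulVec]
  obtain ⟨w, hw0, hw, hwv⟩ :=
    exists_fixed u hnil _ (fun x hx => component_mulVec (inv_mem huH) huia hx) y hy0 hy
  obtain ⟨c, rfl⟩ := hfix w hwv
  have hc0 : c ≠ 0 := fun e => hw0 (by rw [e, zero_smul])
  obtain ⟨e, he, hae⟩ : ∃ e ∈ Phi H, sympBil F (m + 1) a e ≠ 0 := by
    by_contra hcon
    push Not at hcon
    have : sympBil F (m + 1) a = 0 := LinearMap.ext_on hspanPhi fun e he => by
      rw [hcon e he, LinearMap.zero_apply]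
    have h1 := LinearMap.congr_fun this a'
    rw [ha, ha', sympBil_elim] at h1
    simp [ev] at h1
  have := hw e (Submodule.subset_span (Relation.ReflTransGen.single ⟨haP, he, hae⟩))
  rw [map_smul, smul_eq_mul] at this
  exact bil_swap_ne hae ((mul_eq_zero.1 this).resolve_left hc0)

end CfsgLib.Classical.SpUnipotent
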