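import Cfsg.Agent.Lib.Classical.SpUnipotentTwoBasic
import Cfsg.Agent.Lib.Classical.SubfieldGen

/-!
# Three conjugate regular unipotents of the symplectic group, characteristic two
-/

set_option autoImplicit false
set_option linter.unusedSectionVars false

open Matrix CfsgLib.MinDeg CfsgLib.Classical.UnipotentGen

namespace CfsgLib.Classical.SpUnipotent

variable {F : Type*} [Field F] {m : ℕ}

variable (F m) in
/-- The Levi part of the standard element. -/
noncomputable def lo1 : GL (Fin (m + 1)) F := Matrix.SpecialLinearGroup.toGL (loU m F)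

theorem lo1_coe : (lo1 F m).val = loW m F := rfl

variable (F m) in
/-- The standard regular unipotent in characteristic two. -/
noncomputable def u1 : symplecticGroup (Fin (m + 1)) F := siegel (idS F (m + 1)) * levi (lo1 F m)

theorem loN_pow_single :
    (loN fun _ : Fin (m + 1) => (1 : F)) ^ m =
      Matrix.single (Fin.last m) (0 : Fin (m + 1)) (1 : F) := by
  ext i j
  rw [loN_one_pow_apply, Matrix.single_apply]
  exact if_congr ⟨fun h => ⟨h.2.symm, h.1.symm⟩, fun h => ⟨h.2.symm, h.1.symm⟩⟩ rfl rfl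

theorem reg_u1 :
    IsNilpotent ((u1 F m).1 - 1) ∧ ((u1 F m).1 - 1) ^ (2 * (m + 1) - 1) ≠ 0 := by
  refine reg_siegel_levi _ _ (loN fun _ => 1) lo1_coe loN_one_pow ?_
  intro h
  rw [loN_pow_single, transpose_single] at h
  change Matrix.single (Fin.last m) 0 (1 : F) * (1 : Matrix (Fin (m + 1)) (Fin (m + 1)) F) *
    Matrix.single 0 (Fin.last m) 1 = 0 at h
  rw [Matrix.mul_one, Matrix.single_mul_single_same] at h
  have := congrFun (congrFun h (Fin.last m)) (Fin.last m)
  simp at this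

/-- A power of the standard element lies in the Siegel subgroup. -/
theorem exists_siegel_pow (h20 : (2 : F) = 0) (hm : 1 ≤ m) :
    ∃ (P : ℕ) (T : symMat F (m + 1)), (u1 F m) ^ P = siegel T ∧ T ≠ 0 := by
  set k := Nat.clog 2 (m + 1) with hk
  have hle : m + 1 ≤ 2 ^ k := Nat.le_pow_clog (by norm_num) _
  have hlt : 2 ^ k ≤ 2 * (m + 1) - 1 := by
    have h1 : 2 ^ (k - 1) < m + 1 := Nat.pow_pred_clog_lt_self (by norm_num) (by omega)
    have h2 : 1 ≤ k := Nat.clog_pos (by norm_num) (by omega)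
    have : 2 ^ k = 2 ^ (k - 1) * 2 := by rw [← pow_succ, Nat.sub_add_cancel h2]
    omega
  have hpow : ∀ i : ℕ, ∃ S, (u1 F m) ^ i = siegel S * levi ((lo1 F m) ^ i) := by
    intro i
    induction i with
    | zero => exact ⟨0, by rw [pow_zero, pow_zero, siegel_zero, levi_one, one_mul]⟩
    | succ i ih =>
      obtain ⟨S, hS⟩ := ih
      exact ⟨S + congS ((lo1 F m) ^ i).val (idS F (m + 1)), by rw [pow_succ, hS, u1, par_mul, pow_succ]⟩
  obtain ⟨T, hT⟩ := hpow (2 ^ k)
  have hA : (lo1 F m) ^ 2 ^ k = 1 := Units.ext (by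
    rw [Units.val_pow_eq_pow_val, lo1_coe, loW, add_one_pow_two_pow h20,
      pow_eq_zero_of_le hle loN_one_pow, add_zero, Units.val_one])
  rw [hA, levi_one, mul_one] at hT
  refine ⟨2 ^ k, T, hT, fun h0 => (reg_u1 (F := F) (m := m)).2 (pow_eq_zero_of_le hlt ?_)⟩
  have h1 := add_one_pow_two_pow h20 ((u1 F m).1 - 1) k
  rw [add_sub_cancel, ← SubmonoidClass.coe_pow, hT, h0, siegel_zero] at h1
  exact add_eq_left.1 h1.symm

variable [Fintype F]

theorem symJ_conj_u1 (h20 : (2 : F) = 0) :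
    SymplecticGroup.symJ (Fin (m + 1)) F * u1 F m * (SymplecticGroup.symJ (Fin (m + 1)) F)⁻¹ =
      siegel (idS F (m + 1)) * SymplecticGroup.symJ (Fin (m + 1)) F * siegel (idS F (m + 1)) *
        levi (tInv (lo1 F m)) := by
  rw [← lowS_idS h20, lowS, u1, mul_inv_eq_iff_eq_mul, mul_assoc _ (levi _) (SymplecticGroup.symJ _ _),
    ← symJ_levi]
  group

/-- Two opposite Siegel subgroups generate. -/
theorem eq_top_of_siegel [DecidableEq F] {n : ℕ} (H : Subgroup (symplecticGroup (Fin n) F))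
    (hs : ∀ S, siegel S ∈ H) (hl : ∀ S, lowS S ∈ H) : H = ⊤ := by
  refine eq_top_of_trv H fun w c => ?_
  obtain ⟨a, b, rfl⟩ : ∃ a b, w = Sum.elim a b := ⟨_, _, (Sum.elim_comp_inl_inr w).symm⟩
  have hsq : ∀ v : Fin n → F, c • vecMulVec v v ∈ symMat F n := fun v => by
    show (_)ᵀ = _
    rw [transpose_smul, transpose_vecMulVec]
  by_cases hb : b = 0
  · rw [hb, ← siegel_eq_trv ⟨_, hsq a⟩ a c rfl]
    exact hs _
  obtain ⟨i, hi⟩ : ∃ i, b i ≠ 0 := by
    by_contra h
    push Not at h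
    exact hb (funext h)
  set e : Fin n → F := Pi.single i 1
  let S : symMat F n := ⟨(b i)⁻¹ • (vecMulVec a e + vecMulVec e a) +
      (-((a ⬝ᵥ b) * (b i)⁻¹ * (b i)⁻¹)) • vecMulVec e e, by
    show (_)ᵀ = _
    rw [transpose_add, transpose_smul, transpose_smul, transpose_add, transpose_vecMulVec, transpose_vecMulVec,
      transpose_vecMulVec, add_comm (vecMulVec e a)]⟩
  have hSb : (S : Matrix (Fin n) (Fin n) F) *ᵥ b = a := by
    show ((b i)⁻¹ • (vecMulVec a e + vecMulVec e a) +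
      (-((a ⬝ᵥ b) * (b i)⁻¹ * (b i)⁻¹)) • vecMulVec e e) *ᵥ b = a
    rw [add_mulVec, smul_mulVec, smul_mulVec, add_mulVec, vecMulVec_mulVec, vecMulVec_mulVec, vecMulVec_mulVec,
      op_smul_eq_smul, op_smul_eq_smul, op_smul_eq_smul]
    funext k
    simp only [e, single_dotProduct, one_mul, Pi.add_apply, Pi.smul_apply, smul_eq_mul, Pi.single_apply]
    split_ifs <;> field_simp <;> ring
  have h0 : trv (Sum.elim (0 : Fin n → F) b) c ∈ H := by
    have := hl ⟨_, hsq b⟩
    rwa [lowS, siegel_eq_trv ⟨_, hsq b⟩ b c rfl, trv_conj, symJ_mulVec, neg_zero] at this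
  have := mul_mem (mul_mem (hs S) h0) (inv_mem (hs S))
  rwa [trv_conj, siegel_mulVec, zero_add, hSb] at this

/-- Three conjugates, at least three dimensions. -/
theorem two_big [DecidableEq F] (h20 : (2 : F) = 0) (hm : 2 ≤ m) (G : GL (Fin (m + 1)) F)
    (u : Matrix.SpecialLinearGroup (Fin (m + 1)) F) (hG : G.val * loW m F = u.1 * G.val)
    (hgen : Subgroup.closure ({u, loU m F} : Set (Matrix.SpecialLinearGroup (Fin (m + 1)) F)) = ⊤) :
    Subgroup.closure ({u1 F m, levi G * u1 F m * (levi G)⁻¹,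
      SymplecticGroup.symJ (Fin (m + 1)) F * u1 F m * (SymplecticGroup.symJ (Fin (m + 1)) F)⁻¹} :
        Set (symplecticGroup (Fin (m + 1)) F)) = ⊤ := by
  classical
  set H := Subgroup.closure ({u1 F m, levi G * u1 F m * (levi G)⁻¹,
      SymplecticGroup.symJ (Fin (m + 1)) F * u1 F m * (SymplecticGroup.symJ (Fin (m + 1)) F)⁻¹} :
        Set (symplecticGroup (Fin (m + 1)) F))
  have h1 : u1 F m ∈ H := Subgroup.subset_closure (Or.inl rfl)
  have h2 : levi G * u1 F m * (levi G)⁻¹ ∈ H := Subgroup.subset_closure (Or.inr (Or.inl rfl))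
  have h3 : SymplecticGroup.symJ (Fin (m + 1)) F * u1 F m * (SymplecticGroup.symJ (Fin (m + 1)) F)⁻¹ ∈ H :=
    Subgroup.subset_closure (Or.inr (Or.inr rfl))
  have hGA : G * lo1 F m * G⁻¹ = Matrix.SpecialLinearGroup.toGL u := by
    rw [mul_inv_eq_iff_eq_mul]
    exact Units.ext hG
  have hSL : levGroup H = ⊤ := by
    rw [eq_top_iff, ← hgen, Subgroup.closure_le]
    rintro x (rfl | rfl)
    · refine ⟨congS G.val (idS F (m + 1)), ?_⟩
      rw [← hGA, levi_mul, levi_mul, levi_inv, ← mul_assoc, ← mul_assoc, ← levi_siegel, mul_assoc (levi G)]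
      exact h2
    · exact ⟨idS F (m + 1), h1⟩
  obtain ⟨P, T, hT, hT0⟩ := exists_siegel_pow h20 (by omega : 1 ≤ m) (F := F)
  have hTm : T ∈ siegelGroup H := by
    show siegel T ∈ H
    rw [← hT]; exact pow_mem h1 _
  have hes := es_all (by omega) hSL T hTm hT0
  set q1 := siegel (idS F (m + 1))
  have hq1 : q1⁻¹ = q1 := by
    rw [← siegel_neg]
    exact congrArg siegel (Subtype.ext (neg_eq_of_add_eq_zero_left (add_self_zero h20 _)))
  let H' := H.comap (MulAut.conj q1).toMonoidHom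
  have hmem' : ∀ g, g ∈ H' ↔ q1 * g * q1⁻¹ ∈ H := fun g => Iff.rfl
  have hqq : ∀ S, q1 * siegel S * q1⁻¹ = siegel S := fun S => by
    rw [← siegel_add, add_comm (idS F (m + 1)) S, siegel_add, mul_inv_cancel_right]
  have hs' : ∀ S ∈ siegelGroup H, siegel S ∈ H' := fun S hS => by
    rw [hmem', hqq]; exact hS
  have hl' : ∀ S ∈ siegelGroup H, lowS S ∈ H' := by
    intro S hS
    obtain ⟨S₀, hS₀, hSS⟩ : ∃ S₀ ∈ siegelGroup H, congS (tInv (lo1 F m)).val S₀ = S := by
      let B : Matrix.SpecialLinearGroup (Fin (m + 1)) F :=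
        ⟨(loW m F)ᵀ, by rw [det_transpose]; exact det_loW⟩
      refine ⟨congS B.1 S, siegelGroup_congS (by rw [hSL]; exact Subgroup.mem_top _) hS, Subtype.ext ?_⟩
      show (tInv (lo1 F m)).val * ((loW m F)ᵀ * (S : Matrix (Fin (m + 1)) (Fin (m + 1)) F) * (loW m F)ᵀᵀ) *
        (tInv (lo1 F m)).valᵀ = _
      have e1 : (tInv (lo1 F m)).val * (loW m F)ᵀ = 1 := gl_transpose_mul_inv (lo1 F m)
      have e2 : (loW m F)ᵀᵀ * (tInv (lo1 F m)).valᵀ = 1 := by rw [← transpose_mul, e1, transpose_one]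
      simp only [← mul_assoc, e1, one_mul]
      rw [mul_assoc, e2, mul_one]
    have h := mul_mem (mul_mem h3 (show siegel S₀ ∈ H from hS₀)) (inv_mem h3)
    rw [symJ_conj_u1 h20] at h
    change q1 * SymplecticGroup.symJ (Fin (m + 1)) F * q1 * levi (tInv (lo1 F m)) * siegel S₀ *
      (q1 * SymplecticGroup.symJ (Fin (m + 1)) F * q1 * levi (tInv (lo1 F m)))⁻¹ ∈ H at h
    rw [hmem', lowS]
    convert h using 1
    have eB : levi (tInv (lo1 F m)) * siegel S₀ * (levi (tInv (lo1 F m)))⁻¹ = siegel S := by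
      rw [levi_siegel_conj, hSS]
    calc q1 * (SymplecticGroup.symJ (Fin (m + 1)) F * siegel S *
          (SymplecticGroup.symJ (Fin (m + 1)) F)⁻¹) * q1⁻¹
        = q1 * SymplecticGroup.symJ (Fin (m + 1)) F * (q1 * siegel S * q1⁻¹) *
          (SymplecticGroup.symJ (Fin (m + 1)) F)⁻¹ * q1⁻¹ := by rw [hqq]; group
      _ = _ := by rw [← eB]; group
  -- the Levi subgroup
  have hlev' : ∀ A : Matrix.SpecialLinearGroup (Fin (m + 1)) F,
      levi (Matrix.SpecialLinearGroup.toGL A) ∈ H' := by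
    let L : Subgroup (Matrix.SpecialLinearGroup (Fin (m + 1)) F) :=
      { carrier := {A | levi (Matrix.SpecialLinearGroup.toGL A) ∈ H'}
        one_mem' := by show levi _ ∈ H'; rw [map_one, levi_one]; exact one_mem _
        mul_mem' := fun {A B} hA hB => by
          show levi _ ∈ H'; rw [map_mul, levi_mul]; exact mul_mem hA hB
        inv_mem' := fun {A} hA => by
          show levi _ ∈ H'; rw [map_inv, levi_inv]; exact inv_mem hA }
    have : L = ⊤ := sl_subgroup_eq_top L fun i j hij c => by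
      obtain ⟨k, hki, hkj⟩ := exists_third (by omega : 3 ≤ m + 1) i j
      set X := es i k c
      set Y := es k j (1 : F)
      have hXY := mul_mem (hs' X (hes i k c hki.symm)) (hl' Y (hes k j 1 hkj))
      show levi _ ∈ H'
      convert mul_mem hXY hXY using 1
      refine Subtype.ext ?_
      show fromBlocks _ _ _ _ = ((siegel X).1 * (lowS Y).1) * ((siegel X).1 * (lowS Y).1)
      set E : Matrix (Fin (m + 1)) (Fin (m + 1)) F := Matrix.single i j c with hE
      set E' : Matrix (Fin (m + 1)) (Fin (m + 1)) F := Matrix.single j i c with hE'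
      have hYn : -(Y : Matrix (Fin (m + 1)) (Fin (m + 1)) F) = Y :=
        neg_eq_of_add_eq_zero_left (add_self_zero h20 _)
      set X' : Matrix (Fin (m + 1)) (Fin (m + 1)) F := (X : Matrix (Fin (m + 1)) (Fin (m + 1)) F) with hX'
      set Y' : Matrix (Fin (m + 1)) (Fin (m + 1)) F := (Y : Matrix (Fin (m + 1)) (Fin (m + 1)) F) with hY'
      have eX : X' = Matrix.single i k c + Matrix.single k i c := rfl
      have eY : Y' = Matrix.single k j 1 + Matrix.single j k 1 := rfl
      have e1 : X' * Y' = E := by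
        rw [eX, eY]
        simp [Matrix.add_mul, Matrix.mul_add, hki, hki.symm, hkj, hkj.symm, hij, hij.symm, hE]
      have e2 : Y' * X' = E' := by
        rw [eX, eY]
        simp [Matrix.add_mul, Matrix.mul_add, hki, hki.symm, hkj, hkj.symm, hij, hij.symm, hE']
      have e3 : E * X' = 0 := by
        rw [eX, hE]
        simp [Matrix.mul_add, hki.symm, hkj, hkj.symm, hij, hij.symm]
      have e4 : Y' * E = 0 := by
        rw [eY, hE]
        simp [Matrix.add_mul, hki, hki.symm, hkj.symm, hij.symm]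
      have e5 : E * E = 0 := by
        rw [hE]; simp [hij.symm]
      have hinv : ((Matrix.SpecialLinearGroup.toGL (Matrix.SpecialLinearGroup.transvection hij c))⁻¹).val =
          1 + E := by
        refine Units.inv_eq_of_mul_eq_one_right ?_
        show (1 + E) * (1 + E) = 1
        rw [mul_add, mul_one, add_mul, one_mul, e5, add_zero, add_assoc, add_self_zero h20, add_zero]
      rw [siegel_coe, lowS_coe, ← hY', hYn, ← hX', fromBlocks_multiply, fromBlocks_multiply, hinv, fromBlocks_inj]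
      simp only [Matrix.one_mul, Matrix.mul_one, Matrix.zero_mul, Matrix.mul_zero, zero_add, add_zero]
      rw [e1, e2]
      refine ⟨?_, ?_, ?_, ?_⟩
      · show 1 + E = _
        rw [mul_add, mul_one, add_mul, one_mul, e5, add_zero, add_assoc (1 : Matrix _ _ F) E E,
          add_self_zero h20, add_zero]
      · rw [add_mul, one_mul, e3, add_zero, add_self_zero h20]
      · rw [mul_add, mul_one, e4, add_zero, add_self_zero h20]
      · rw [transpose_add, transpose_one, hE, transpose_single, ← hE']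
        exact add_comm _ _
    exact fun A => (this ▸ Subgroup.mem_top A : A ∈ L)
  -- a Siegel element with non-zero diagonal
  obtain ⟨S, hS, hS00⟩ : ∃ S ∈ siegelGroup H, (S : Matrix (Fin (m + 1)) (Fin (m + 1)) F) 0 0 ≠ 0 := by
    have hA := hlev' (loU m F)
    rw [hmem'] at hA
    refine ⟨congS (loW m F) (idS F (m + 1)), ?_, ?_⟩
    · show siegel _ ∈ H
      have := mul_mem h1 (inv_mem hA)
      convert this using 1
      show siegel _ = q1 * levi (lo1 F m) * (q1 * levi (lo1 F m) * q1⁻¹)⁻¹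
      rw [_root_.mul_inv_rev, _root_.mul_inv_rev, inv_inv]
      have e := levi_siegel_conj (lo1 F m) (idS F (m + 1))
      rw [lo1_coe] at e
      rw [← e, show q1 * levi (lo1 F m) * (q1 * ((levi (lo1 F m))⁻¹ * q1⁻¹)) =
        q1 * (levi (lo1 F m) * q1 * (levi (lo1 F m))⁻¹) * q1⁻¹ by group, levi_siegel_conj, hqq]
    · show (loW m F * (1 : Matrix (Fin (m + 1)) (Fin (m + 1)) F) * (loW m F)ᵀ) 0 0 ≠ 0
      rw [Matrix.mul_one, Matrix.mul_apply, Finset.sum_eq_single 0]
      · simp [loW, loN]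
      · intro b _ hb
        simp [loW, loN, Matrix.one_apply, hb.symm]
      · simp
  have halt := alternating_mem h20 hes
  have hrt : ∀ i j : Fin (m + 1), i ≠ j → ∀ S ∈ siegelGroup H,
      (S : Matrix (Fin (m + 1)) (Fin (m + 1)) F) j j ≠ 0 → ∀ x, rootS i x ∈ siegelGroup H := by
    intro i j hij S hS hSj x
    obtain ⟨c, hc⟩ : IsSquare (x / (S : Matrix (Fin (m + 1)) (Fin (m + 1)) F) j j) :=
      haveI : CharP F 2 := CharTwo.of_one_ne_zero_of_two_eq_zero one_ne_zero h20
      FiniteField.isSquare_of_char_two (ringChar.eq F 2) _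
    set R := congS (Matrix.transvection i j c) S - S with hR
    have hRm : R ∈ siegelGroup H := sub_mem (siegelGroup_congS
      (A := Matrix.SpecialLinearGroup.transvection hij c) (by rw [hSL]; exact Subgroup.mem_top _) hS) hS
    have hd : ∀ a, ((R - rootS i x : symMat F (m + 1)) : Matrix (Fin (m + 1)) (Fin (m + 1)) F) a a = 0 := by
      intro a
      show (R : Matrix (Fin (m + 1)) (Fin (m + 1)) F) a a - Matrix.single i i x a a = 0
      rw [hR, transvection_congS_apply]
      rcases eq_or_ne a i with rfl | ha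
      · rw [if_pos rfl, if_pos rfl, if_pos ⟨rfl, rfl⟩, Matrix.single_apply_same, sym_apply S j a, ← hc,
          div_mul_cancel₀ _ hSj]
        linear_combination (c * (S : Matrix (Fin (m + 1)) (Fin (m + 1)) F) a j) * h20
      · simp [ha, Ne.symm]
    have := sub_mem hRm (halt _ hd)
    rwa [sub_sub_cancel] at this
  have hroot : ∀ i x, rootS i x ∈ siegelGroup H := by
    intro i x
    set i1 : Fin (m + 1) := ⟨1, by omega⟩
    have hi1 : i1 ≠ 0 := fun e => by simpa [i1] using congrArg Fin.val e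
    by_cases hi : i = 0
    · subst hi
      exact hrt 0 i1 hi1.symm _ (hrt i1 0 hi1 S hS hS00 1) (by simp [rootS]) x
    · exact hrt i 0 hi S hS hS00 x
  have hall : ∀ S, siegel S ∈ H := by
    intro S
    set D : symMat F (m + 1) := ∑ i, rootS i ((S : Matrix (Fin (m + 1)) (Fin (m + 1)) F) i i) with hD
    have h := add_mem (halt (S - D) fun a => ?_) (sum_mem fun i _ => hroot i _ : D ∈ siegelGroup H)
    · rw [sub_add_cancel] at h; exact h
    show (S : Matrix (Fin (m + 1)) (Fin (m + 1)) F) a a - (D : Matrix (Fin (m + 1)) (Fin (m + 1)) F) a a = 0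
    rw [hD, AddSubgroup.val_finsetSum, Matrix.sum_apply, Finset.sum_eq_single a]
    · simp [rootS]
    · intro b _ hb; simp [rootS, hb]
    · simp
  refine eq_top_of_siegel H hall fun S => ?_
  have h := mul_mem (mul_mem (inv_mem (hall (idS F (m + 1)))) ((hmem' _).1 (hl' S (hall S)))) (hall (idS F (m + 1)))
  convert h using 1
  show _ = q1⁻¹ * (q1 * lowS S * q1⁻¹) * q1
  group

set_option maxHeartbeats 1000000 in
/-- Three conjugates in dimension four. -/
theorem two_small [DecidableEq F] (h20 : (2 : F) = 0) (h4 : 3 ≤ Fintype.card F) :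
    ∃ G : GL (Fin (1 + 1)) F,
      Subgroup.closure ({u1 F 1, levi G * u1 F 1 * (levi G)⁻¹,
        SymplecticGroup.symJ (Fin (1 + 1)) F * u1 F 1 * (SymplecticGroup.symJ (Fin (1 + 1)) F)⁻¹} :
          Set (symplecticGroup (Fin (1 + 1)) F)) = ⊤ := by
  classical
  obtain ⟨z, hz⟩ := IsCyclic.exists_generator (α := Fˣ)
  set β : F := (z : F) with hβ
  have hβ0 : β ≠ 0 := z.ne_zero
  have hββ : β ^ 2 - 1 ≠ 0 := by
    intro h
    have hz1 : (z : Fˣ) = 1 := Units.ext (by
      have : (β - 1) * (β - 1) = 0 := by linear_combination h + (1 - β) * h20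
      simpa [hβ] using sub_eq_zero.1 (mul_self_eq_zero.1 this))
    have hord : orderOf z = Fintype.card F - 1 := by
      rw [orderOf_eq_card_of_forall_mem_zpowers hz, Nat.card_units, Nat.card_eq_fintype_card]
    rw [hz1, orderOf_one] at hord
    omega
  have hF : ∀ r : F, ∃ ν : F, ν ≠ 0 ∧ ν ≠ r := fun r => by
    obtain ⟨ν, -, hν⟩ := Finset.exists_mem_notMem_of_card_lt_card (s := ({0, r} : Finset F)) (t := Finset.univ)
      (lt_of_le_of_lt Finset.card_le_two (by rw [Finset.card_univ]; omega))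
    simp only [Finset.mem_insert, Finset.mem_singleton, not_or] at hν
    exact ⟨ν, hν.1, hν.2⟩
  let G : GL (Fin (1 + 1)) F := ⟨!![1, β + 1; 0, β], !![1, -(β + 1) / β; 0, β⁻¹], by
      ext i j; fin_cases i <;> fin_cases j <;> simp [Matrix.mul_apply, Fin.sum_univ_two, hβ0] <;> field_simp <;> ring,
    by
      ext i j; fin_cases i <;> fin_cases j <;> simp [Matrix.mul_apply, Fin.sum_univ_two, hβ0] <;> field_simp <;> ring⟩
  refine ⟨G, ?_⟩
  set H := Subgroup.closure ({u1 F 1, levi G * u1 F 1 * (levi G)⁻¹,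
        SymplecticGroup.symJ (Fin (1 + 1)) F * u1 F 1 * (SymplecticGroup.symJ (Fin (1 + 1)) F)⁻¹} :
          Set (symplecticGroup (Fin (1 + 1)) F))
  have h1 : u1 F 1 ∈ H := Subgroup.subset_closure (Or.inl rfl)
  have h2 : levi G * u1 F 1 * (levi G)⁻¹ ∈ H := Subgroup.subset_closure (Or.inr (Or.inl rfl))
  have h3 : SymplecticGroup.symJ (Fin (1 + 1)) F * u1 F 1 * (SymplecticGroup.symJ (Fin (1 + 1)) F)⁻¹ ∈ H :=
    Subgroup.subset_closure (Or.inr (Or.inr rfl))
  set A := lo1 F 1 with hA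
  have eA : A.val = !![1, 0; 1, 1] := by
    rw [hA, lo1_coe]
    ext i j; fin_cases i <;> fin_cases j <;> simp [loW, loN]
  obtain ⟨e0, he0⟩ : ∃ w : Fin (1 + 1) → F, w = ![1, 0] := ⟨_, rfl⟩
  obtain ⟨e1, he1⟩ : ∃ w : Fin (1 + 1) → F, w = ![0, 1] := ⟨_, rfl⟩
  obtain ⟨f, hf⟩ : ∃ w : Fin (1 + 1) → F, w = ![1, 1] := ⟨_, rfl⟩
  set a : Fin (1 + 1) ⊕ Fin (1 + 1) → F := Sum.elim e0 0 with ha
  set af : Fin (1 + 1) ⊕ Fin (1 + 1) → F := Sum.elim f 0 with haf
  -- the squares of the first two generators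
  have hT : u1 F 1 * u1 F 1 = trv af 1 * trv a 1 := by
    have hAA : A * A = 1 := Units.ext (by
      rw [Units.val_mul, eA, Units.val_one]
      ext i j; fin_cases i <;> fin_cases j <;> simp [Matrix.mul_apply, Fin.sum_univ_two]
      linear_combination h20)
    rw [u1, par_mul, ← hA, hAA, levi_one, mul_one]
    let Sf : symMat F (1 + 1) := ⟨(1 : F) • vecMulVec f f, by
      show (_)ᵀ = _; rw [transpose_smul, transpose_vecMulVec]⟩
    let S0 : symMat F (1 + 1) := ⟨(1 : F) • vecMulVec e0 e0, by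
      show (_)ᵀ = _; rw [transpose_smul, transpose_vecMulVec]⟩
    rw [ha, haf, ← siegel_eq_trv Sf f 1 rfl, ← siegel_eq_trv S0 e0 1 rfl, ← siegel_add]
    refine congrArg siegel (Subtype.ext ?_)
    show (1 : Matrix (Fin (1 + 1)) (Fin (1 + 1)) F) + A.val * 1 * A.valᵀ =
      (1 : F) • vecMulVec f f + (1 : F) • vecMulVec e0 e0
    rw [eA, hf, he0]
    ext i j; fin_cases i <;> fin_cases j <;>
      simp [Matrix.vecMul, dotProduct, Fin.sum_univ_two, vecMulVec_apply] <;> linear_combination h20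
  have hGa : (levi G).1 *ᵥ a = a := by
    rw [ha, levi_mulVec, mulVec_zero]
    congr 1
    funext i; fin_cases i <;> simp [G, he0, Matrix.mulVec, dotProduct, Fin.sum_univ_two]
  have hGf : (levi G).1 *ᵥ af = β • af := by
    rw [haf, levi_mulVec, mulVec_zero]
    funext i
    rcases i with i | i <;> fin_cases i <;>
      simp [G, hf, Matrix.mulVec, dotProduct, Fin.sum_univ_two] <;> linear_combination h20
  have hff : trv af (β ^ 2 - 1) ∈ H := by
    have ht := mul_mem h1 h1
    have ht' := mul_mem h2 h2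
    rw [hT] at ht
    rw [show levi G * u1 F 1 * (levi G)⁻¹ * (levi G * u1 F 1 * (levi G)⁻¹) =
        levi G * (u1 F 1 * u1 F 1) * (levi G)⁻¹ by group, hT,
      show levi G * (trv af 1 * trv a 1) * (levi G)⁻¹ =
        levi G * trv af 1 * (levi G)⁻¹ * (levi G * trv a 1 * (levi G)⁻¹) by group,
      trv_conj, trv_conj, hGa, hGf, trv_smul, mul_one, ← pow_two] at ht'
    have := mul_mem ht' (inv_mem ht)
    rwa [_root_.mul_inv_rev, ← mul_assoc, mul_inv_cancel_right, ← trv_neg, trv_mul, ← sub_eq_add_neg] at this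
  -- the torus element
  let ur : Matrix.SpecialLinearGroup (Fin (1 + 1)) F := ⟨!![β, β + β⁻¹; β, β], by
    simp [Matrix.det_fin_two]; field_simp; linear_combination (-1 : F) * h20⟩
  have hur : ur ∈ levGroup H := by
    refine ⟨congS G.val (idS F (1 + 1)), ?_⟩
    have hGA : Matrix.SpecialLinearGroup.toGL ur = G * A * G⁻¹ := by
      rw [eq_mul_inv_iff_mul_eq]
      refine Units.ext ?_
      show !![β, β + β⁻¹; β, β] * !![1, β + 1; 0, β] = !![1, β + 1; 0, β] * A.val
      rw [eA]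
      ext i j; fin_cases i <;> fin_cases j <;> simp [Matrix.mul_apply, Fin.sum_univ_two] <;>
        field_simp <;> grobner
    rw [hGA, levi_mul, levi_mul, levi_inv, ← mul_assoc, ← mul_assoc, ← levi_siegel, mul_assoc (levi G)]
    exact h2
  set zz := (loU 1 F)⁻¹ * ur with hzz
  have hzl : zz ∈ levGroup H :=
    mul_mem (inv_mem ⟨idS F (1 + 1), h1⟩) hur
  have ez : zz.1 = !![β, β + β⁻¹; 0, β⁻¹] := by
    have e : (loU 1 F).1 * !![β, β + β⁻¹; 0, β⁻¹] = (ur.1 : Matrix (Fin (1 + 1)) (Fin (1 + 1)) F) := by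
      show loW 1 F * _ = !![β, β + β⁻¹; β, β]
      rw [show loW 1 F = !![1, 0; 1, 1] from (lo1_coe (F := F) (m := 1)).symm.trans eA]
      ext i j; fin_cases i <;> fin_cases j <;> simp [Matrix.mul_apply, Fin.sum_univ_two]
      linear_combination β⁻¹ * h20
    show ((loU 1 F)⁻¹).1 * ur.1 = _
    rw [← e, ← mul_assoc, show ((loU 1 F)⁻¹).1 * (loU 1 F).1 = 1 from
      congrArg Subtype.val (inv_mul_cancel (loU 1 F)), one_mul]
  obtain ⟨S, hS⟩ := hzl
  set W := siegel S * levi (Matrix.SpecialLinearGroup.toGL zz)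
  have hWmul : ∀ p : Fin (1 + 1) → F, W.1 *ᵥ Sum.elim p 0 = Sum.elim (zz.1 *ᵥ p) 0 := by
    intro p
    show ((siegel S).1 * (levi (Matrix.SpecialLinearGroup.toGL zz)).1) *ᵥ _ = _
    rw [← mulVec_mulVec, levi_mulVec, mulVec_zero, siegel_mulVec, mulVec_zero, add_zero]
    rfl
  have hWa : W.1 *ᵥ a = β • a := by
    rw [ha, hWmul, ez, he0]
    funext i
    rcases i with i | i <;> fin_cases i <;> simp [Matrix.mulVec, dotProduct, Fin.sum_univ_two]
  have hWf : W.1 *ᵥ af = β⁻¹ • af := by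
    rw [haf, hWmul, ez, hf]
    funext i
    rcases i with i | i <;> fin_cases i <;> simp [Matrix.mulVec, dotProduct, Fin.sum_univ_two]
    linear_combination β * h20
  have hscal : ∀ (w : Fin (1 + 1) ⊕ Fin (1 + 1) → F) (c t : F), c ≠ 0 → trv w c ∈ H →
      (∀ S : Subfield F, t * t ∈ S → S = ⊤) → W.1 *ᵥ w = t • w → w ∈ Phi H := by
    intro w c t hc hw ht hWw x
    let X : AddSubgroup F :=
      { carrier := {x | trv w x ∈ H}
        zero_mem' := by show trv w 0 ∈ H; rw [trv_zero]; exact one_mem H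
        add_mem' := fun {x y} hx hy => by show trv w (x + y) ∈ H; rw [← trv_mul]; exact mul_mem hx hy
        neg_mem' := fun {x} hx => by show trv w (-x) ∈ H; rw [trv_neg]; exact inv_mem hx }
    refine addSubgroup_all X (c := c) (a := 1) (t := t * t) hw hc one_ne_zero
      (fun y hy => by rw [one_mul]; exact hy) (fun y hy => ?_) ht x
    show trv w (1 * (t * t) * y) ∈ H
    rw [one_mul, ← trv_smul, ← hWw, ← trv_conj]
    exact mul_mem (mul_mem hS hy) (inv_mem hS)
  have hb2 : ∀ S : Subfield F, β * β ∈ S → S = ⊤ := fun S hS =>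
    subfield_top_of_pow z hz 2 (Or.inl le_rfl) (by norm_num) S
      (by rw [Units.val_pow_eq_pow_val, pow_two]; exact hS)
  have hfP : af ∈ Phi H := hscal af _ β⁻¹ hββ hff (fun S hS => hb2 S (by
    have := inv_mem hS
    rwa [← _root_.mul_inv_rev, inv_inv] at this)) hWf
  have haP : a ∈ Phi H := by
    refine hscal a 1 β one_ne_zero ?_ hb2 hWa
    have := mul_mem (inv_mem (hfP 1)) (mul_mem h1 h1)
    rwa [hT, inv_mul_cancel_left] at this
  -- the conjugate subgroup
  set q1 := siegel (idS F (1 + 1)) with hq1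
  let H' := H.comap (MulAut.conj q1).toMonoidHom
  have hphi : ∀ w, q1.1 *ᵥ w ∈ Phi H → w ∈ Phi H' := fun w hw x => by
    show q1 * trv w x * q1⁻¹ ∈ H
    rw [trv_conj]; exact hw x
  have hqfix : ∀ p : Fin (1 + 1) → F, q1.1 *ᵥ Sum.elim p 0 = Sum.elim p 0 := fun p => by
    rw [hq1, siegel_mulVec, mulVec_zero, add_zero]
  have hq1v : ∀ q : Fin (1 + 1) → F, q1.1 *ᵥ Sum.elim 0 q = Sum.elim q q := fun q => by
    rw [hq1, siegel_mulVec, zero_add, show ((idS F (1 + 1)) : Matrix (Fin (1 + 1)) (Fin (1 + 1)) F) = 1 from rfl,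
      one_mulVec]
  have hJ : ∀ p q : Fin (1 + 1) → F, (lo1 F 1).valᵀ *ᵥ q = p →
      Sum.elim p 0 ∈ Phi H → Sum.elim (0 : Fin (1 + 1) → F) q ∈ Phi H' := by
    intro p q hpq hp
    refine hphi _ ?_
    rw [hq1v]
    have := phi_conj h3 hp
    rwa [symJ_conj_u1 h20, ← hq1, show ∀ V : symplecticGroup (Fin (1 + 1)) F,
        (q1 * SymplecticGroup.symJ (Fin (1 + 1)) F * q1 * V).1 *ᵥ Sum.elim p 0 =
          q1.1 *ᵥ ((SymplecticGroup.symJ (Fin (1 + 1)) F).1 *ᵥ (q1.1 *ᵥ (V.1 *ᵥ Sum.elim p 0))) from fun V => by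
        simp only [mulVec_mulVec, ← mul_assoc]; rfl,
      levi_mulVec, mulVec_zero, hqfix, symJ_mulVec, neg_zero,
      show (tInv (lo1 F 1)).val *ᵥ p = q by
        rw [← hpq, mulVec_mulVec]
        show (((lo1 F 1)⁻¹).valᵀ * (lo1 F 1).valᵀ) *ᵥ q = q
        rw [gl_transpose_mul_inv, one_mulVec], hq1v] at this
  have hv0 : (Sum.elim (0 : Fin (1 + 1) → F) e0) ∈ Phi H' := hJ e0 e0 (by
    rw [← hA, eA, he0]
    funext i; fin_cases i <;> simp [Matrix.mulVec, dotProduct, Fin.sum_univ_two]) (by rw [← ha]; exact haP)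
  have hv1 : (Sum.elim (0 : Fin (1 + 1) → F) e1) ∈ Phi H' := hJ f e1 (by
    rw [← hA, eA, he1, hf]
    funext i; fin_cases i <;> simp [Matrix.mulVec, dotProduct, Fin.sum_univ_two]) (by rw [← haf]; exact hfP)
  have ha' : a ∈ Phi H' := hphi _ (by rw [ha, hqfix, ← ha]; exact haP)
  have hf' : af ∈ Phi H' := hphi _ (by rw [haf, hqfix, ← haf]; exact hfP)
  have r1 : Relation.ReflTransGen (Adj H') a (Sum.elim 0 e0) := Relation.ReflTransGen.single ⟨ha', hv0, by
    rw [ha, sympBil_elim, he0]; simp [dotProduct, Fin.sum_univ_two]⟩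
  have r2 : Relation.ReflTransGen (Adj H') a af := r1.tail ⟨hv0, hf', by
    rw [haf, sympBil_elim, he0, hf]; simp [dotProduct, Fin.sum_univ_two]⟩
  have r3 : Relation.ReflTransGen (Adj H') a (Sum.elim 0 e1) := r2.tail ⟨hf', hv1, by
    rw [haf, sympBil_elim, he1, hf]; simp [dotProduct, Fin.sum_univ_two]⟩
  have htop : H' = ⊤ := by
    refine eq_top_of_connected hF a ha' (eq_top_iff.2 fun y _ => ?_)
    have e : y = (y (.inl 0) - y (.inl 1)) • a + y (.inl 1) • af +
        y (.inr 0) • Sum.elim (0 : Fin (1 + 1) → F) e0 + y (.inr 1) • Sum.elim (0 : Fin (1 + 1) → F) e1 := by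
      rw [ha, haf, he0, he1, hf]
      funext i
      rcases i with i | i <;> fin_cases i <;> simp
    rw [e]
    exact add_mem (add_mem (add_mem (Submodule.smul_mem _ _ (Submodule.subset_span Relation.ReflTransGen.refl))
      (Submodule.smul_mem _ _ (Submodule.subset_span r2)))
      (Submodule.smul_mem _ _ (Submodule.subset_span r1))) (Submodule.smul_mem _ _ (Submodule.subset_span r3))
  refine eq_top_iff.2 fun g _ => ?_
  have hg : (MulAut.conj q1)⁻¹ g ∈ H' := htop ▸ Subgroup.mem_top _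
  simpa [H', Subgroup.mem_comap, mul_assoc] using hg

end CfsgLib.Classical.SpUnipotent
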