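import Cfsg.Agent.Lib.Classical.SpUnipotentBasic
import Cfsg.Agent.Lib.Classical.TwoUnipotent

/-!
# The Siegel parabolic of the symplectic group in characteristic two
-/

set_option autoImplicit false
set_option linter.unusedSectionVars false

open Matrix CfsgLib.MinDeg CfsgLib.Classical.UnipotentGen

namespace CfsgLib.Classical.SpUnipotent

variable {F : Type*} [Field F] {n : ℕ}

section Pow

variable {ι : Type*} [Fintype ι] [DecidableEq ι]

theorem add_self_zero (h20 : (2 : F) = 0) (X : Matrix ι ι F) : X + X = 0 := by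
  rw [← two_smul F, h20, zero_smul]

theorem add_one_pow_two_pow (h20 : (2 : F) = 0) (X : Matrix ι ι F) :
    ∀ k : ℕ, (1 + X) ^ 2 ^ k = 1 + X ^ 2 ^ k := by
  intro k
  induction k with
  | zero => simp
  | succ k ih =>
    rw [pow_succ 2 k, pow_mul, pow_mul, ih, sq, sq, mul_add, mul_one, add_mul, one_mul, add_assoc,
      ← add_assoc (X ^ 2 ^ k), add_self_zero h20, zero_add]

/-- A nilpotent matrix vanishes at the dimension. -/
theorem pow_card_eq_zero {m : ℕ} {N : Matrix (Fin (m + 1)) (Fin (m + 1)) F} (hN : IsNilpotent N) :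
    N ^ (m + 1) = 0 := by
  have h := (Matrix.isNilpotent_charpoly_sub_pow_of_isNilpotent hN).eq_zero
  rw [sub_eq_zero, Fintype.card_fin] at h
  have := Matrix.aeval_self_charpoly N
  rwa [h, map_pow, Polynomial.aeval_X] at this

/-- A regular unipotent is conjugate to the standard one in `GL`. -/
theorem exists_gl_conj {m : ℕ} {u : Matrix.SpecialLinearGroup (Fin (m + 1)) F} (hu : Reg u) :
    ∃ G : GL (Fin (m + 1)) F, G.val * loW m F = u.1 * G.val := by
  obtain ⟨hnil, hm⟩ := hu
  set N := u.1 - 1 with hN
  have h1 := pow_card_eq_zero hnil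
  obtain ⟨x, hx⟩ : ∃ x, N ^ m *ᵥ x ≠ 0 := by
    by_contra h
    push Not at h
    exact hm (Matrix.ext_of_mulVec_single fun j => by rw [h, zero_mulVec])
  have hK : (kry N x).det ≠ 0 := by
    intro hd
    obtain ⟨a, ha, hKa⟩ := Matrix.exists_mulVec_eq_zero_iff.2 hd
    rw [kry_mulVec] at hKa
    refine ha (funext fun j => ?_)
    have key : ∀ k : ℕ, ∀ j : Fin (m + 1), j.val = k → a j = 0 := by
      intro k
      induction k using Nat.strong_induction_on with
      | _ k ih =>
        intro j hj
        have h := congrArg (fun y => N ^ (m - k) *ᵥ y) hKa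
        simp only [mulVec_sum, mulVec_smul, mulVec_mulVec, ← pow_add, mulVec_zero] at h
        rw [Finset.sum_eq_single j] at h
        · rw [hj, Nat.sub_add_cancel (by omega)] at h
          exact (smul_eq_zero.1 h).resolve_right hx
        · intro b _ hb
          rcases Nat.lt_or_gt_of_ne (fun e => hb (Fin.ext e)) with hlt | hgt
          · rw [ih b.val (by omega) b rfl, zero_smul]
          · rw [show m - k + b.val = m + 1 + (b.val - k - 1) by omega, pow_add, h1, zero_mul, zero_mulVec,
              smul_zero]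
        · simp
    exact key j.val j rfl
  obtain ⟨G, hG⟩ : ∃ G : GL (Fin (m + 1)) F, G.val = kry N x :=
    ⟨((Matrix.isUnit_iff_isUnit_det _).2 (isUnit_iff_ne_zero.2 hK)).unit, IsUnit.unit_spec _⟩
  refine ⟨G, ?_⟩
  have e := mul_kry (N := N) (x := x) (by rw [h1, zero_mulVec])
  rw [hG, loW, mul_add, mul_one, ← e, hN, sub_mul, one_mul, add_sub_cancel]

end Pow

variable (F n) in
/-- The identity as a symmetric matrix. -/
def idS : symMat F n := ⟨1, transpose_one⟩

/-- An off-diagonal symmetric unit. -/
def es (i k : Fin n) (c : F) : symMat F n :=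
  ⟨Matrix.single i k c + Matrix.single k i c, by
    show (_)ᵀ = _
    rw [transpose_add, transpose_single, transpose_single, add_comm]⟩

theorem es_comm (i k : Fin n) (c : F) : es i k c = es k i c := Subtype.ext (add_comm _ _)

theorem sym_apply (S : symMat F n) (a b : Fin n) :
    (S : Matrix (Fin n) (Fin n) F) a b = (S : Matrix (Fin n) (Fin n) F) b a :=
  (congrFun (congrFun S.2 b) a : _)

/-- The lower unipotents. -/
def lowS (S : symMat F n) : symplecticGroup (Fin n) F :=
  SymplecticGroup.symJ (Fin n) F * siegel S * (SymplecticGroup.symJ (Fin n) F)⁻¹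

theorem lowS_coe (S : symMat F n) :
    (lowS S).1 = fromBlocks 1 0 (-(S : Matrix (Fin n) (Fin n) F)) 1 := by
  have e : fromBlocks 1 0 (-(S : Matrix (Fin n) (Fin n) F)) 1 * (SymplecticGroup.symJ (Fin n) F).1 =
      (SymplecticGroup.symJ (Fin n) F).1 * (siegel S).1 := by
    rw [SymplecticGroup.coe_J, Matrix.J, siegel_coe, fromBlocks_multiply, fromBlocks_multiply]
    simp
  show (SymplecticGroup.symJ (Fin n) F).1 * (siegel S).1 * ((SymplecticGroup.symJ (Fin n) F)⁻¹).1 = _
  rw [← e, mul_assoc, sp_mul_inv, mul_one]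

/-- The inverse transpose. -/
def tInv (A : GL (Fin n) F) : GL (Fin n) F :=
  ⟨(A⁻¹).valᵀ, A.valᵀ, gl_transpose_mul_inv A, gl_inv_mul_transpose A⟩

theorem symJ_levi (A : GL (Fin n) F) :
    SymplecticGroup.symJ (Fin n) F * levi A = levi (tInv A) * SymplecticGroup.symJ (Fin n) F := by
  refine Subtype.ext ?_
  show (SymplecticGroup.symJ (Fin n) F).1 * (levi A).1 = (levi (tInv A)).1 * (SymplecticGroup.symJ (Fin n) F).1
  rw [SymplecticGroup.coe_J, Matrix.J, levi_coe, levi_coe, fromBlocks_multiply, fromBlocks_multiply]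
  simp [tInv]

theorem lowS_idS (h20 : (2 : F) = 0) :
    lowS (idS F n) = siegel (idS F n) * SymplecticGroup.symJ (Fin n) F * siegel (idS F n) := by
  refine Subtype.ext ?_
  rw [lowS_coe]
  show _ = (siegel (idS F n)).1 * (SymplecticGroup.symJ (Fin n) F).1 * (siegel (idS F n)).1
  rw [siegel_coe, SymplecticGroup.coe_J, Matrix.J, fromBlocks_multiply, fromBlocks_multiply]
  have hneg : -(1 : Matrix (Fin n) (Fin n) F) = 1 := neg_eq_of_add_eq_zero_left (add_self_zero h20 _)
  simp [idS, hneg, add_self_zero h20]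

variable (H : Subgroup (symplecticGroup (Fin n) F))

/-- The Levi parts of the parabolic elements in a subgroup. -/
def levGroup : Subgroup (Matrix.SpecialLinearGroup (Fin n) F) where
  carrier := {A | ∃ S, siegel S * levi (Matrix.SpecialLinearGroup.toGL A) ∈ H}
  one_mem' := ⟨0, by rw [siegel_zero, one_mul, map_one, levi_one]; exact one_mem H⟩
  mul_mem' := fun {A B} ⟨S, hS⟩ ⟨T, hT⟩ =>
    ⟨S + congS (Matrix.SpecialLinearGroup.toGL A).val T, by
      rw [map_mul, ← par_mul]; exact mul_mem hS hT⟩
  inv_mem' := fun {A} ⟨S, hS⟩ => by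
    refine ⟨congS (Matrix.SpecialLinearGroup.toGL A)⁻¹.val (-S), ?_⟩
    have := inv_mem hS
    rwa [_root_.mul_inv_rev, ← siegel_neg, ← levi_inv, levi_siegel, ← map_inv] at this

/-- The Siegel elements in a subgroup. -/
def siegelGroup : AddSubgroup (symMat F n) where
  carrier := {S | siegel S ∈ H}
  zero_mem' := by show siegel 0 ∈ H; rw [siegel_zero]; exact one_mem H
  add_mem' := fun {S T} hS hT => by show siegel (S + T) ∈ H; rw [siegel_add]; exact mul_mem hS hT
  neg_mem' := fun {S} hS => by show siegel (-S) ∈ H; rw [siegel_neg]; exact inv_mem hS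

variable {H}

theorem siegelGroup_congS {A : Matrix.SpecialLinearGroup (Fin n) F} (hA : A ∈ levGroup H) {T : symMat F n}
    (hT : T ∈ siegelGroup H) : congS A.1 T ∈ siegelGroup H := by
  obtain ⟨S, hS⟩ := hA
  have h := mul_mem (mul_mem hS (show siegel T ∈ H from hT)) (inv_mem hS)
  rw [mul_assoc (siegel S), levi_siegel, ← mul_assoc, ← siegel_add, add_comm, siegel_add, mul_assoc (siegel _),
    mul_inv_cancel_right] at h
  exact h

theorem transvection_congS_apply {i j : Fin n} (c : F) (T : symMat F n) (a b : Fin n) :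
    ((congS (Matrix.transvection i j c) T - T : symMat F n) : Matrix (Fin n) (Fin n) F) a b =
      (if a = i then c * (T : Matrix (Fin n) (Fin n) F) j b else 0) +
      (if b = i then c * (T : Matrix (Fin n) (Fin n) F) a j else 0) +
      (if a = i ∧ b = i then c * c * (T : Matrix (Fin n) (Fin n) F) j j else 0) := by
  show (Matrix.transvection i j c * (T : Matrix (Fin n) (Fin n) F) * (Matrix.transvection i j c)ᵀ -
    (T : Matrix (Fin n) (Fin n) F)) a b = _
  simp only [Matrix.transvection, transpose_add, transpose_one, transpose_single, Matrix.add_mul,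
    Matrix.mul_add, Matrix.one_mul, Matrix.mul_one, Matrix.sub_apply, Matrix.add_apply]
  by_cases ha : a = i <;> by_cases hb : b = i <;> simp [ha, hb, Matrix.mul_apply, Matrix.single_apply, Ne.symm] <;>
    ring

variable {m : ℕ}

/-- Two transvections produce a pure off-diagonal element. -/
theorem es_step {H : Subgroup (symplecticGroup (Fin n) F)} (hSL : levGroup H = ⊤) (T : symMat F n)
    (hT : T ∈ siegelGroup H) {i j k l : Fin n}
    (h : (T : Matrix (Fin n) (Fin n) F) j l ≠ 0) (hij : i ≠ j) (hil : i ≠ l) (hki : k ≠ i) (hkl : k ≠ l)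
    (x : F) : es k i x ∈ siegelGroup H := by
  have hD : ∀ (p q : Fin n) (_ : p ≠ q) (c : F) (S : symMat F n), S ∈ siegelGroup H →
      congS (Matrix.transvection p q c) S - S ∈ siegelGroup H := fun p q hpq c S hS =>
    sub_mem (siegelGroup_congS (A := Matrix.SpecialLinearGroup.transvection hpq c)
      (by rw [hSL]; exact Subgroup.mem_top _) hS) hS
  set R := congS (Matrix.transvection i j 1) T - T with hR
  have hRm : R ∈ siegelGroup H := hD i j hij 1 T hT
  convert hD k l hkl (x / (T : Matrix (Fin n) (Fin n) F) j l) R hRm using 1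
  refine Subtype.ext (Matrix.ext fun a b => ?_)
  rw [transvection_congS_apply]
  simp only [hR, transvection_congS_apply, es, Matrix.add_apply, Matrix.single_apply, one_mul]
  rw [sym_apply T l j]
  by_cases ha : a = k <;> by_cases hb : b = k <;> by_cases ha' : a = i <;> by_cases hb' : b = i <;>
    simp_all [Ne.symm]

/-- The Siegel elements with zero diagonal. -/
theorem alternating_mem {H : Subgroup (symplecticGroup (Fin n) F)} (h20 : (2 : F) = 0)
    (hes : ∀ (a b : Fin n) (x : F), a ≠ b → es a b x ∈ siegelGroup H) (S : symMat F n)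
    (hS : ∀ a, (S : Matrix (Fin n) (Fin n) F) a a = 0) : S ∈ siegelGroup H := by
  have key : ∀ U : Matrix (Fin n) (Fin n) F, ∀ R : symMat F n,
      (R : Matrix (Fin n) (Fin n) F) = U + Uᵀ → R ∈ siegelGroup H := by
    intro U
    induction U using Matrix.induction_on' with
    | h_zero =>
      intro R hR
      rw [show R = 0 from Subtype.ext (by rw [hR]; simp)]
      exact zero_mem _
    | h_add p q hp hq =>
      intro R hR
      rw [show R = (⟨p + pᵀ, by show (_)ᵀ = _; rw [transpose_add, transpose_transpose, add_comm]⟩ : symMat F n) +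
        ⟨q + qᵀ, by show (_)ᵀ = _; rw [transpose_add, transpose_transpose, add_comm]⟩ from
        Subtype.ext (by rw [hR, transpose_add, AddSubgroup.coe_add]; exact add_add_add_comm _ _ _ _)]
      exact add_mem (hp _ rfl) (hq _ rfl)
    | h_std_basis i j x =>
      intro R hR
      by_cases hij : i = j
      · subst hij
        rw [show R = 0 from Subtype.ext (by rw [hR, transpose_single, add_self_zero h20]; rfl)]
        exact zero_mem _
      · rw [show R = es i j x from Subtype.ext (by rw [hR, transpose_single]; rfl)]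
        exact hes i j x hij
  refine key (Matrix.of fun a b => if a < b then (S : Matrix (Fin n) (Fin n) F) a b else 0) S
    (Matrix.ext fun a b => ?_)
  rw [Matrix.add_apply, transpose_apply, Matrix.of_apply, Matrix.of_apply]
  rcases lt_trichotomy a b with h | rfl | h
  · rw [if_pos h, if_neg (asymm h), add_zero]
  · simp [hS]
  · rw [if_neg (asymm h), if_pos h, zero_add, sym_apply]

theorem exists_third (hn : 3 ≤ n) (a b : Fin n) : ∃ c : Fin n, c ≠ a ∧ c ≠ b := by
  obtain ⟨c, -, hc⟩ := Finset.exists_mem_notMem_of_card_lt_card (s := ({a, b} : Finset (Fin n)))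
    (t := Finset.univ) (lt_of_le_of_lt Finset.card_le_two (by rw [Finset.card_univ, Fintype.card_fin]; omega))
  simp only [Finset.mem_insert, Finset.mem_singleton, not_or] at hc
  exact ⟨c, hc.1, hc.2⟩

/-- One non-zero Siegel element gives all the off-diagonal units. -/
theorem es_all {H : Subgroup (symplecticGroup (Fin n) F)} (hn : 3 ≤ n) (hSL : levGroup H = ⊤)
    (T : symMat F n) (hT : T ∈ siegelGroup H) (hT0 : T ≠ 0) :
    ∀ (a b : Fin n) (x : F), a ≠ b → es a b x ∈ siegelGroup H := by
  obtain ⟨j, l, hjl⟩ : ∃ j l, (T : Matrix (Fin n) (Fin n) F) j l ≠ 0 := by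
    by_contra h
    push Not at h
    exact hT0 (Subtype.ext (Matrix.ext h))
  obtain ⟨p, hpj, hpl⟩ := exists_third hn j l
  obtain ⟨q, hqp, hql⟩ := exists_third hn p l
  have h0 := es_step hSL T hT hjl hpj hpl hqp hql
  -- from one edge to all the edges which leave it
  have hedge : ∀ p q : Fin n, p ≠ q → es p q 1 ∈ siegelGroup H → ∀ i k : Fin n, i ≠ p → i ≠ q → k ≠ i →
      ∀ x, es k i x ∈ siegelGroup H := by
    intro p q hpq he i k hip hiq hki x
    have e1 : ((es p q (1 : F) : symMat F n) : Matrix (Fin n) (Fin n) F) p q ≠ 0 := by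
      simp [es, Matrix.single_apply, hpq, hpq.symm]
    by_cases hkq : k = q
    · have hkp : k ≠ p := by rw [hkq]; exact hpq.symm
      exact es_step hSL _ he (by rwa [sym_apply]) hiq hip hki hkp x
    · exact es_step hSL _ he e1 hip hiq hki hkq x
  intro a b x hab
  by_cases hb : b ≠ q ∧ b ≠ p
  · exact hedge q p hqp (h0 1) b a hb.1 hb.2 hab x
  by_cases ha : a ≠ q ∧ a ≠ p
  · rw [es_comm]; exact hedge q p hqp (h0 1) a b ha.1 ha.2 hab.symm x
  obtain ⟨c, hca, hcb⟩ := exists_third hn a b
  have hqpab : (a = q ∧ b = p) ∨ (a = p ∧ b = q) := by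
    rcases not_and_or.1 hb with h | h <;> rcases not_and_or.1 ha with h' | h' <;>
      simp only [not_not] at h h'
    · exact absurd (h'.trans h.symm) hab
    · exact Or.inr ⟨h', h⟩
    · exact Or.inl ⟨h', h⟩
    · exact absurd (h'.trans h.symm) hab
  have h1 : es a c 1 ∈ siegelGroup H :=
    hedge q p hqp (h0 1) c a (by rcases hqpab with ⟨r, s⟩ | ⟨r, s⟩ <;> subst r s <;> assumption)
      (by rcases hqpab with ⟨r, s⟩ | ⟨r, s⟩ <;> subst r s <;> assumption) hca.symm 1
  exact hedge a c hca.symm h1 b a hab.symm hcb.symm hab x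

end CfsgLib.Classical.SpUnipotent
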