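import Cfsg.Agent.Lib.Classical.PrimeGraphBC

set_option autoImplicit false
set_option linter.unusedSectionVars false

/-!
Adjacency in the prime graph of `PSp(2n, q)`, any `q`: an element of prime order `r` without fixed vectors on a
space of dimension `d` forces the order of `q` modulo `r` to divide `d`.
-/

namespace CfsgLib.Classical.SympAdjacency

open Module Polynomial CfsgLib.Classical CfsgLib.Classical.SympOrders CfsgLib.KnownC.FormConj
open CfsgLib.Classical.PrimeGraphBC CfsgLib.Classical.PrimeGraphTransfer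

universe u₀

variable {F : Type u₀} [Field F] [Fintype F]

/-- `η(k)`. -/
def IsHalf (k η : ℕ) : Prop := (Odd k ∧ η = k) ∨ (Even k ∧ 2 * η = k)

theorem half_dvd {k η : ℕ} (h : IsHalf k η) : k ∣ 2 * η := by
  rcases h with ⟨-, rfl⟩ | ⟨-, h⟩
  · exact dvd_mul_left _ _
  · rw [h]

theorem half_le {k η i : ℕ} (h : IsHalf k η) (hi : 1 ≤ i) (hk : k ∣ 2 * i) : η ≤ i := by
  rcases h with ⟨ho, rfl⟩ | ⟨-, h⟩
  · exact Nat.le_of_dvd hi ((Nat.coprime_two_right.2 ho).dvd_of_dvd_mul_left hk)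
  · have := Nat.le_of_dvd (by omega) hk
    omega

theorem half_pos {k η : ℕ} (h : IsHalf k η) (hk : 0 < k) : 1 ≤ η := by
  rcases h with ⟨-, rfl⟩ | ⟨-, h⟩ <;> omega

theorem pow_sub_dvd_iff {q r d : ℕ} (hq : 1 ≤ q) : r ∣ q ^ d - 1 ↔ orderOf (q : ZMod r) ∣ d := by
  rw [orderOf_dvd_iff_pow_eq_one, ← Nat.cast_pow, ← ZMod.natCast_eq_zero_iff,
    Nat.cast_sub (Nat.one_le_pow _ _ hq), Nat.cast_one, sub_eq_zero]

theorem prime_ne_cast {p r : ℕ} [Fact p.Prime] [CharP F p] (hr : r.Prime) (hrp : r ≠ p) : (r : F) ≠ 0 := fun h => by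
  rw [CharP.cast_eq_zero_iff F p] at h
  exact hrp ((Nat.prime_dvd_prime_iff_eq Fact.out hr).1 h).symm

theorem orderOf_pos_of_ne {p r : ℕ} [Fact p.Prime] [CharP F p] (hr : r.Prime) (hrp : r ≠ p) :
    0 < orderOf (Fintype.card F : ZMod r) := by
  haveI := Fact.mk hr
  obtain ⟨a, -, ha⟩ := FiniteField.card F p
  rw [orderOf_pos_iff]
  refine IsUnit.isOfFinOrder ?_
  rw [ZMod.isUnit_iff_coprime, ha]
  exact Nat.Coprime.pow_left _ ((Nat.coprime_primes Fact.out hr).2 hrp.symm)

section Free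

variable {X : Type*} [AddCommGroup X] [Module F X] [FiniteDimensional F X]

/-- A fixed-point-free automorphism of prime order. -/
theorem free_dvd {r : ℕ} (hr : r.Prime) (f : X ≃ₗ[F] X) (hf : f ^ r = 1) (hfix : ∀ x, f x = x → x = 0) :
    orderOf (Fintype.card F : ZMod r) ∣ finrank F X := by
  classical
  haveI : Finite X := Module.finite_of_finite F
  letI := Fintype.ofFinite X
  let φ : (X ≃ₗ[F] X) →* Equiv.Perm X :=
    { toFun := fun g => g.toEquiv, map_one' := rfl, map_mul' := fun _ _ => rfl }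
  have hdvd : r ∣ (φ f).support.card := by
    rw [← Equiv.Perm.sum_cycleType]
    refine Multiset.dvd_sum fun k hk => ?_
    have h1 : k ∣ r := (Equiv.Perm.dvd_of_mem_cycleType hk).trans
      (orderOf_dvd_of_pow_eq_one (by rw [← map_pow, hf, map_one]))
    rcases (Nat.dvd_prime hr).1 h1 with rfl | rfl
    · have := Equiv.Perm.two_le_of_mem_cycleType hk; omega
    · exact dvd_rfl
  have hsupp : (φ f).support = Finset.univ.erase 0 := by
    ext v
    rw [Equiv.Perm.mem_support, Finset.mem_erase, and_iff_left (Finset.mem_univ _)]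
    constructor
    · rintro h rfl
      exact h (map_zero f)
    · exact fun h h' => h (hfix _ h')
  rw [hsupp, Finset.card_erase_of_mem (Finset.mem_univ _), Finset.card_univ, Module.card_eq_pow_finrank (K := F)]
    at hdvd
  exact (pow_sub_dvd_iff Fintype.card_pos).1 hdvd

theorem exists_res (g : X ≃ₗ[F] X) (Y : Submodule F X) (h : ∀ x ∈ Y, g x ∈ Y) :
    ∃ f : Y ≃ₗ[F] Y, ∀ (i : ℕ) (y : Y), ((f ^ i) y : X) = (g ^ i) y := by
  refine ⟨LinearEquiv.ofInjectiveEndo ((g : X →ₗ[F] X).restrict h) (fun a b hab =>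
    Subtype.ext (g.injective (congrArg Subtype.val hab))), fun i => ?_⟩
  induction i with
  | zero => intro y; rfl
  | succ i ih =>
    intro y
    rw [pow_succ, pow_succ, LinearEquiv.mul_apply, LinearEquiv.mul_apply, ih]
    rfl

/-- A fixed-point-free automorphism of prime order on an invariant subspace. -/
theorem free_dvd_sub {r : ℕ} (hr : r.Prime) (g : X ≃ₗ[F] X) (hg : g ^ r = 1) (Y : Submodule F X)
    (h : ∀ x ∈ Y, g x ∈ Y) (hfix : ∀ x ∈ Y, g x = x → x = 0) :
    orderOf (Fintype.card F : ZMod r) ∣ finrank F Y := by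
  obtain ⟨f, hf⟩ := exists_res g Y h
  refine free_dvd hr f (LinearEquiv.ext fun y => Subtype.ext (by rw [hf, hg]; rfl)) fun y hy => ?_
  have h1 := hf 1 y
  rw [pow_one, pow_one, hy] at h1
  exact Subtype.ext (hfix _ y.2 h1.symm)

/-- An invariant nondegenerate bilinear form excludes odd irreducible dimension. -/
theorem false_of_form {r k : ℕ} (hr : r.Prime) (hr2 : r ≠ 2) (hk : orderOf (Fintype.card F : ZMod r) = k)
    (hkodd : Odd k) (hX : finrank F X = k) (f : X ≃ₗ[F] X) (hf : f ^ r = 1) (hfix : ∀ x, f x = x → x = 0)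
    (β : X →ₗ[F] X →ₗ[F] F) (hN : β.SeparatingLeft) (hinv : ∀ x y, β (f x) (f y) = β x y) : False := by
  have heven : ∀ γ : X →ₗ[F] X →ₗ[F] F, γ.IsAlt → γ.SeparatingLeft → False := fun γ hA hγ => by
    obtain ⟨m, b, -⟩ := exists_sympBasis hA ⟨hγ, fun x hx => hγ x fun y => hA.isRefl _ _ (hx y)⟩
    have h1 := Module.finrank_eq_card_basis b
    rw [hX] at h1
    obtain ⟨c, hc⟩ := hkodd
    simp at h1
    omega
  set γ : X →ₗ[F] X →ₗ[F] F := β - β.flip with hγ
  have hγA : γ.IsAlt := fun x => by simp [hγ]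
  have hγinv : ∀ x y, γ (f x) (f y) = γ x y := fun x y => by simp [hγ, hinv]
  have hker : ∀ x ∈ LinearMap.ker γ, f x ∈ LinearMap.ker γ := fun x hx => by
    rw [LinearMap.mem_ker] at hx ⊢
    refine LinearMap.ext fun y => ?_
    obtain ⟨y, rfl⟩ := f.surjective y
    rw [hγinv, hx]
    rfl
  have hd := free_dvd_sub hr f hf (LinearMap.ker γ) hker fun x _ hx => hfix x hx
  rw [hk] at hd
  by_cases h0 : LinearMap.ker γ = ⊥
  · refine heven γ hγA fun x hx => ?_
    have : x ∈ LinearMap.ker γ := LinearMap.mem_ker.2 (LinearMap.ext hx)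
    rwa [h0, Submodule.mem_bot] at this
  have htop : LinearMap.ker γ = ⊤ := by
    refine Submodule.eq_top_of_finrank_eq (le_antisymm (Submodule.finrank_le _) ?_)
    rw [hX]
    exact Nat.le_of_dvd (Nat.pos_of_ne_zero fun h => h0 (Submodule.finrank_eq_zero.1 h)) hd
  have hsym : ∀ x y, β x y = β y x := fun x y => by
    have h1 := LinearMap.congr_fun (LinearMap.mem_ker.1 (htop ▸ Submodule.mem_top : x ∈ LinearMap.ker γ)) y
    exact sub_eq_zero.1 h1
  let D : X →ₗ[F] X := (f : X →ₗ[F] X) - (f.symm : X →ₗ[F] X)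
  refine heven (β.comp D) (fun x => ?_) fun x hx => ?_
  · show β (f x - f.symm x) x = 0
    have h1 : β (f.symm x) x = β x (f x) := by
      conv_rhs => rw [← f.apply_symm_apply x]
      rw [hinv, f.apply_symm_apply]
    rw [map_sub, LinearMap.sub_apply, h1, hsym, sub_self]
  · refine hfix x (fix_of_sq f (hr.odd_of_ne_two hr2) hf ?_)
    have h1 : f x = f.symm x := sub_eq_zero.1 (hN (f x - f.symm x) hx)
    rw [h1, f.apply_symm_apply]

end Free

variable {n : ℕ}

theorem isotropic_le (R : Submodule F (Fin n ⊕ Fin n → F))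
    (h : ∀ x ∈ R, ∀ y ∈ R, sympBil F n x y = 0) : finrank F R ≤ n := by
  have hle : R ≤ LinearMap.BilinForm.orthogonal (sympBil F n) R := fun x hx y hy => h y hy x hx
  have h1 := Submodule.finrank_mono hle
  rw [LinearMap.BilinForm.finrank_orthogonal (sympBil_nondegenerate n),
    Module.finrank_fintype_fun_eq_card] at h1
  simp at h1
  omega

/-- The moved part of an isometry of prime order. -/
theorem moved_facts {r : ℕ} (hr : r.Prime) (hrF : (r : F) ≠ 0) (S : isomGroup (sympBil F n)) (hS : S ^ r = 1) :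
    ∃ W K : Submodule F (Fin n ⊕ Fin n → F), IsCompl K W ∧ (∀ x, x ∈ K ↔ S.1 x = x) ∧
      (∀ c : isomGroup (sympBil F n), Commute c S → ∀ x ∈ W, c.1 x ∈ W) ∧
      (∀ x ∈ W, S.1 x = x → x = 0) ∧ (S ≠ 1 → W ≠ ⊥) ∧
      orderOf (Fintype.card F : ZMod r) ∣ finrank F W ∧ Even (finrank F W) := by
  set a := S.1
  have haM : a ^ r = 1 := congrArg Subtype.val hS
  set aE : Module.End F (Fin n ⊕ Fin n → F) := (a : (Fin n ⊕ Fin n → F) →ₗ[F] (Fin n ⊕ Fin n → F))
  have hc := isCompl_ker_range (A := aE) (end_pow a haM) hrF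
  have hiso : ∀ x y, sympBil F n (aE x) (aE y) = sympBil F n x y := S.2
  have hfix : ∀ x ∈ LinearMap.range (aE - 1), a x = x → x = 0 := fun x hx h =>
    Submodule.disjoint_def.1 hc.disjoint x (LinearMap.mem_ker.2 (sub_eq_zero.2 h)) hx
  have hpres : ∀ c : isomGroup (sympBil F n), Commute c S → ∀ x ∈ LinearMap.range (aE - 1),
      c.1 x ∈ LinearMap.range (aE - 1) := fun c hcS x hx =>
    map_mem_range a c.1 (show c.1 * a = a * c.1 from congrArg Subtype.val hcS.eq) hx
  refine ⟨_, _, hc, fun x => ?_, hpres, hfix, fun h h0 => h ?_,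
    free_dvd_sub hr a haM _ (hpres S (Commute.refl S)) hfix, ?_⟩
  · rw [LinearMap.mem_ker, LinearMap.sub_apply, Module.End.one_apply, sub_eq_zero]; rfl
  · refine (eq_one_iff_forall S).2 fun x => sub_eq_zero.1 ?_
    have := LinearMap.mem_range_self (aE - 1) x
    rwa [h0, Submodule.mem_bot] at this
  · obtain ⟨m, b, -⟩ := exists_sympBasis (restrictForm_isAlt (sympBil_isAlt n) (LinearMap.range (aE - 1)))
      (by
        have h : (restrictForm (sympBil F n) (LinearMap.range (aE - 1))).SeparatingLeft := fun x hx => Subtype.ext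
          (nondeg_range (sympBil_nondegenerate n) hiso (end_pow a haM) hrF x.2 fun z hz => hx ⟨z, hz⟩)
        exact ⟨h, fun x hx => h x fun y => (restrictForm_isAlt (sympBil_isAlt n) _).isRefl _ _ (hx y)⟩)
    exact ⟨m, by rw [Module.finrank_eq_card_basis b]; simp⟩

variable {p : ℕ} [Fact p.Prime] [CharP F p]

/-- An odd prime commuting with the characteristic. -/
theorem half_le_pred (hn : 2 ≤ n) {r k η : ℕ} (hr : r.Prime) (hr2 : r ≠ 2) (hrp : r ≠ p)
    (hk : orderOf (Fintype.card F : ZMod r) = k) (hη : IsHalf k η) (S U : isomGroup (sympBil F n))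
    (hS : S ^ r = 1) (hS1 : S ≠ 1) (hU : U ^ p = 1) (hU1 : U ≠ 1) (hc : Commute U S) : η ≤ n - 1 := by
  classical
  have hrF := prime_ne_cast (F := F) (p := p) hr hrp
  have hkpos : 0 < k := hk ▸ orderOf_pos_of_ne (F := F) (p := p) hr hrp
  obtain ⟨W, K, hWK, hK, hpres, hWfix, hW0, hkW, hWe⟩ := moved_facts hr hrF S hS
  rw [hk] at hkW
  have hV : finrank F (Fin n ⊕ Fin n → F) = n + n := by rw [Module.finrank_fintype_fun_eq_card]; simp
  have hsum := Submodule.finrank_add_eq_of_isCompl hWK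
  obtain ⟨j, hj⟩ := hWe
  have hWpos : 0 < finrank F W := Nat.pos_of_ne_zero fun h => hW0 hS1 (Submodule.finrank_eq_zero.1 h)
  by_cases hK0 : ∃ x, x ≠ 0 ∧ S.1 x = x
  · obtain ⟨x, hx0, hx⟩ := hK0
    haveI : Nontrivial K := ⟨⟨x, (hK x).2 hx⟩, 0, fun h => hx0 (congrArg Subtype.val h)⟩
    have hKpos : 0 < finrank F K := Module.finrank_pos
    have := half_le hη (i := j) (by omega) (by rw [two_mul, ← hj]; exact hkW)
    omega
  -- no fixed vectors
  have hfix : ∀ x, S.1 x = x → x = 0 := fun x hx => by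
    by_contra h; exact hK0 ⟨x, h, hx⟩
  set N : Module.End F (Fin n ⊕ Fin n → F) := (U.1 : (Fin n ⊕ Fin n → F) →ₗ[F] (Fin n ⊕ Fin n → F)) - 1 with hN
  haveI : CharP (Module.End F (Fin n ⊕ Fin n → F)) p := by
    haveI : Nonempty (Fin n ⊕ Fin n) := ⟨Sum.inl ⟨0, by omega⟩⟩
    exact charP_of_injective_algebraMap (algebraMap F (Module.End F (Fin n ⊕ Fin n → F))).injective p
  have hNp : N ^ p = 0 := by
    rw [hN, sub_pow_char_of_commute (p := p) (Commute.one_right _), one_pow,
      end_pow U.1 (show U.1 ^ p = 1 from congrArg Subtype.val hU), sub_self]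
  have hNx : ∀ x, N x = U.1 x - x := fun x => rfl
  have hNS : ∀ x, N (S.1 x) = S.1 (N x) := fun x => by
    rw [hNx, hNx, map_sub]
    exact congrArg (· - S.1 x) (LinearEquiv.congr_fun (congrArg Subtype.val hc.eq) x)
  set R := LinearMap.ker N ⊓ LinearMap.range N with hR
  have hRS : ∀ x ∈ R, S.1 x ∈ R := by
    rintro x ⟨hx, z, rfl⟩
    refine ⟨?_, S.1 z, hNS z⟩
    rw [SetLike.mem_coe, LinearMap.mem_ker] at hx ⊢
    rw [hNS, hx, map_zero]
  have hperp : ∀ a y, N y = 0 → sympBil F n (N a) y = 0 := fun a y hy => by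
    have hy' : U.1 y = y := sub_eq_zero.1 ((hNx y).symm.trans hy)
    rw [hNx, map_sub, LinearMap.sub_apply]
    nth_rw 1 [← hy']
    rw [U.2, sub_self]
  have hRiso : ∀ x ∈ R, ∀ y ∈ R, sympBil F n x y = 0 := by
    rintro x ⟨-, a, rfl⟩ y ⟨hy, -⟩
    exact hperp a y hy
  have hRne : R ≠ ⊥ := by
    intro h
    have hstep : ∀ i : ℕ, ∀ x, (N ^ (i + 1)) x = 0 → N x = 0 := by
      intro i
      induction i with
      | zero => intro x hx; simpa using hx
      | succ i ih =>
        intro x hx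
        refine ih x ?_
        have hmem : (N ^ (i + 1)) x ∈ R := by
          refine ⟨?_, (N ^ i) x, ?_⟩
          · rw [SetLike.mem_coe, LinearMap.mem_ker, ← Module.End.mul_apply, ← pow_succ']; exact hx
          · rw [pow_succ', Module.End.mul_apply]
        rwa [h, Submodule.mem_bot] at hmem
    refine hU1 ((eq_one_iff_forall U).2 fun x => sub_eq_zero.1 ?_)
    rw [← hNx]
    have hp1 : p - 1 + 1 = p := Nat.succ_pred_eq_of_pos (Fact.out : p.Prime).pos
    exact hstep (p - 1) x (by rw [hp1, hNp]; rfl)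
  have hkR : k ∣ finrank F R := hk ▸ free_dvd_sub hr S.1 (congrArg Subtype.val hS) R hRS fun x _ hx => hfix x hx
  have hRpos : 0 < finrank F R := Nat.pos_of_ne_zero fun h => hRne (Submodule.finrank_eq_zero.1 h)
  have hRn := isotropic_le R hRiso
  have hkR' := Nat.le_of_dvd hRpos hkR
  rcases hη with ⟨hkodd, rfl⟩ | ⟨-, h2⟩
  swap
  · omega
  by_contra hcon
  have hkn : η = n := by omega
  have hRd : finrank F R = n := by omega
  have hrn := LinearMap.finrank_range_add_finrank_ker N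
  rw [hV] at hrn
  have h1 : finrank F R ≤ finrank F (LinearMap.ker N) := Submodule.finrank_mono inf_le_left
  have h2 : finrank F R ≤ finrank F (LinearMap.range N) := Submodule.finrank_mono inf_le_right
  have hle1 : finrank F (LinearMap.ker N) ≤ finrank F R := by omega
  have hle2 : finrank F (LinearMap.range N) ≤ finrank F R := by omega
  have hkerR : LinearMap.ker N = R := (Submodule.eq_of_le_of_finrank_le (inf_le_left : R ≤ LinearMap.ker N) hle1).symm
  have hranR : LinearMap.range N = R := (Submodule.eq_of_le_of_finrank_le (inf_le_right : R ≤ LinearMap.range N) hle2).symm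
  let M : (Fin n ⊕ Fin n → F) →ₗ[F] R := N.codRestrict R fun x => hranR ▸ LinearMap.mem_range_self N x
  have hM : Function.Surjective M := fun y => by
    obtain ⟨x, hx⟩ := (inf_le_right : R ≤ LinearMap.range N) y.2
    exact ⟨x, Subtype.ext hx⟩
  obtain ⟨ι, hι⟩ := M.exists_rightInverse_of_surjective (LinearMap.range_eq_top.2 hM)
  have hιN : ∀ y : R, N (ι y) = y := fun y => congrArg Subtype.val (LinearMap.congr_fun hι y)
  obtain ⟨f, hf⟩ := exists_res S.1 R hRS
  have hf1 : ∀ y : R, ((f y : R) : Fin n ⊕ Fin n → F) = S.1 y := fun y => by simpa using hf 1 y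
  refine false_of_form hr hr2 hk hkodd (hRd.trans hkn.symm) f
    (LinearEquiv.ext fun y => Subtype.ext (by rw [hf, show S.1 ^ r = 1 from congrArg Subtype.val hS]; rfl))
    (fun y hy => Subtype.ext (hfix _ ((hf1 y).symm.trans (congrArg Subtype.val hy))))
    ((sympBil F n).compl₁₂ R.subtype ι) (fun x hx => Subtype.ext ?_) fun x y => ?_
  · refine (sympBil_nondegenerate n).1 _ fun v => ?_
    have hv : v - ι (M v) ∈ R := by
      refine hkerR.le (LinearMap.mem_ker.2 ?_)
      rw [map_sub, hιN, sub_eq_zero]; rfl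
    rw [← sub_add_cancel v (ι (M v)), map_add, hRiso _ x.2 _ hv, zero_add]
    exact hx (M v)
  · show sympBil F n ((f x : R) : Fin n ⊕ Fin n → F) (ι (f y)) = sympBil F n (x : Fin n ⊕ Fin n → F) (ι y)
    have hv : ι (f y) - S.1 (ι y) ∈ R := by
      refine hkerR.le (LinearMap.mem_ker.2 ?_)
      rw [map_sub, hιN, hNS, hιN, hf1, sub_self]
    rw [hf1, ← sub_add_cancel (ι (f y)) (S.1 (ι y)), map_add, hRiso _ (hRS _ x.2) _ hv, zero_add, S.2]

/-- Two odd primes commuting in the symplectic group. -/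
theorem two_primes {r s k l ηk ηl : ℕ} (hr : r.Prime) (hs : s.Prime) (hr2 : r ≠ 2) (hs2 : s ≠ 2)
    (hrp : r ≠ p) (hsp : s ≠ p) (hk : orderOf (Fintype.card F : ZMod r) = k)
    (hl : orderOf (Fintype.card F : ZMod s) = l) (hηk : IsHalf k ηk) (hηl : IsHalf l ηl) (hkl : ηk ≤ ηl)
    (S T : isomGroup (sympBil F n)) (hS : S ^ r = 1) (hS1 : S ≠ 1) (hT : T ^ s = 1) (hT1 : T ≠ 1)
    (hc : Commute S T) (hrs : r ≠ s) : ηk + ηl ≤ n ∨ ∃ t, Odd t ∧ l = k * t := by
  classical
  have hkpos : 0 < k := hk ▸ orderOf_pos_of_ne (F := F) (p := p) hr hrp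
  have hlpos : 0 < l := hl ▸ orderOf_pos_of_ne (F := F) (p := p) hs hsp
  obtain ⟨W, K, hWK, hK, hpres, hWfix, hW0, hkW, hWe⟩ := moved_facts hr (prime_ne_cast (F := F) (p := p) hr hrp) S hS
  obtain ⟨W', K', hWK', hK', hpres', hWfix', hW0', hlW, hWe'⟩ :=
    moved_facts hs (prime_ne_cast (F := F) (p := p) hs hsp) T hT
  rw [hk] at hkW
  rw [hl] at hlW
  have hV : finrank F (Fin n ⊕ Fin n → F) = n + n := by rw [Module.finrank_fintype_fun_eq_card]; simp
  by_cases hdis : W ⊓ W' = ⊥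
  · left
    have h1 := Submodule.finrank_sup_add_finrank_inf_eq W W'
    rw [hdis, finrank_bot] at h1
    have h2 := Submodule.finrank_le (W ⊔ W')
    obtain ⟨a, ha⟩ := hWe
    obtain ⟨b, hb⟩ := hWe'
    have hWpos : 0 < finrank F W := Nat.pos_of_ne_zero fun h => hW0 hS1 (Submodule.finrank_eq_zero.1 h)
    have hWpos' : 0 < finrank F W' := Nat.pos_of_ne_zero fun h => hW0' hT1 (Submodule.finrank_eq_zero.1 h)
    have := half_le hηk (i := a) (by omega) (by rw [two_mul, ← ha]; exact hkW)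
    have := half_le hηl (i := b) (by omega) (by rw [two_mul, ← hb]; exact hlW)
    omega
  set C := S * T with hC
  have hCS : Commute C S := (Commute.refl S).mul_left hc.symm
  have hCT : Commute C T := hc.mul_left (Commute.refl T)
  -- powers of `C`
  have hco : Nat.Coprime r s := (Nat.coprime_primes hr hs).2 hrs
  obtain ⟨i, hi⟩ : ∃ i, C ^ i = S := by
    refine ⟨Nat.chineseRemainder hco 1 0, ?_⟩
    rw [hC, hc.mul_pow]
    set x := Nat.chineseRemainder hco 1 0 with hx
    have h1 : S ^ (x : ℕ) = S := by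
      rw [pow_eq_pow_mod _ hS, x.2.1, ← pow_eq_pow_mod _ hS, pow_one]
    have h2 : T ^ (x : ℕ) = 1 := by rw [pow_eq_pow_mod _ hT, x.2.2, ← pow_eq_pow_mod _ hT, pow_zero]
    rw [h1, h2, mul_one]
  obtain ⟨i', hi'⟩ : ∃ i, C ^ i = T := by
    refine ⟨Nat.chineseRemainder hco 0 1, ?_⟩
    rw [hC, hc.mul_pow]
    set x := Nat.chineseRemainder hco 0 1 with hx
    have h1 : S ^ (x : ℕ) = 1 := by rw [pow_eq_pow_mod _ hS, x.2.1, ← pow_eq_pow_mod _ hS, pow_zero]
    have h2 : T ^ (x : ℕ) = T := by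
      rw [pow_eq_pow_mod _ hT, x.2.2, ← pow_eq_pow_mod _ hT, pow_one]
    rw [h1, h2, one_mul]
  -- a minimal invariant subspace
  let P : ℕ → Prop := fun d => ∃ Y : Submodule F (Fin n ⊕ Fin n → F),
    Y ≤ W ⊓ W' ∧ Y ≠ ⊥ ∧ (∀ x ∈ Y, C.1 x ∈ Y) ∧ finrank F Y = d
  have hPex : ∃ d, P d := ⟨_, W ⊓ W', le_rfl, hdis, fun x hx => ⟨hpres C hCS x hx.1, hpres' C hCT x hx.2⟩, rfl⟩
  obtain ⟨Y, hYle, hY0, hYC, hYd⟩ := Nat.find_spec hPex
  have hmin : ∀ Z : Submodule F (Fin n ⊕ Fin n → F), Z ≤ Y → (∀ x ∈ Z, C.1 x ∈ Z) → Z = ⊥ ∨ Z = Y := by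
    intro Z hZ hZC
    rcases eq_or_ne Z ⊥ with h | h
    · exact Or.inl h
    · refine Or.inr (Submodule.eq_of_le_of_finrank_le hZ ?_)
      rw [hYd]
      exact Nat.find_min' hPex ⟨Z, hZ.trans hYle, h, hZC, rfl⟩
  have hYpow : ∀ (j : ℕ), ∀ x ∈ Y, (C ^ j).1 x ∈ Y := fun j => by
    induction j with
    | zero => intro x hx; simpa using hx
    | succ j ih =>
      intro x hx
      rw [pow_succ]
      exact ih _ (hYC x hx)
  have hYS : ∀ x ∈ Y, S.1 x ∈ Y := fun x hx => hi ▸ hYpow i x hx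
  have hYT : ∀ x ∈ Y, T.1 x ∈ Y := fun x hx => hi' ▸ hYpow i' x hx
  have hYfS : ∀ x ∈ Y, S.1 x = x → x = 0 := fun x hx => hWfix x (hYle hx).1
  have hYfT : ∀ x ∈ Y, T.1 x = x → x = 0 := fun x hx => hWfix' x (hYle hx).2
  have hkY : k ∣ finrank F Y := hk ▸ free_dvd_sub hr S.1 (congrArg Subtype.val hS) Y hYS hYfS
  have hlY : l ∣ finrank F Y := hl ▸ free_dvd_sub hs T.1 (congrArg Subtype.val hT) Y hYT hYfT
  have hYpos : 0 < finrank F Y := Nat.pos_of_ne_zero fun h => hY0 (Submodule.finrank_eq_zero.1 h)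
  have hradC : ∀ x ∈ Y ⊓ perp (sympBil F n) Y, C.1 x ∈ Y ⊓ perp (sympBil F n) Y := by
    rintro x ⟨hx, hx'⟩
    refine ⟨hYC x hx, ?_⟩
    rw [SetLike.mem_coe, mem_perp] at hx' ⊢
    intro y hy
    -- `C` permutes `Y`
    obtain ⟨f, hf⟩ := exists_res C.1 Y hYC
    have hy' : y = C.1 (f.symm ⟨y, hy⟩ : Y) := by
      have := hf 1 (f.symm ⟨y, hy⟩)
      simpa using this
    rw [hy', C.2]
    exact hx' _ (f.symm ⟨y, hy⟩).2
  rcases hmin _ inf_le_left hradC with hrad | hrad
  swap
  · -- totally isotropic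
    have hiso : ∀ x ∈ Y, ∀ y ∈ Y, sympBil F n x y = 0 := fun x hx y hy => by
      rw [← hrad] at hy
      exact mem_perp.1 hy.2 x hx
    have hm := isotropic_le Y hiso
    set m := finrank F Y
    have hkm := Nat.le_of_dvd hYpos hkY
    have hlm := Nat.le_of_dvd hYpos hlY
    obtain ⟨a, ha⟩ := hkY
    obtain ⟨b, hb⟩ := hlY
    rcases hηk with ⟨hko, rfl⟩ | ⟨hke, hk2⟩ <;> rcases hηl with ⟨hlo, rfl⟩ | ⟨hle, hl2⟩
    · by_cases hdvd : ηk ∣ ηl
      · obtain ⟨t, ht⟩ := hdvd
        exact Or.inr ⟨t, (Nat.odd_mul.1 (ht ▸ hlo)).2, ht⟩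
      · left
        rcases Nat.lt_or_ge b 2 with hb2 | hb2
        · interval_cases b
          · omega
          · rw [mul_one] at hb; exact absurd ⟨a, hb.symm.trans ha⟩ hdvd
        · nlinarith
    · left; omega
    · left
      rcases Nat.lt_or_ge b 2 with hb2 | hb2
      · interval_cases b
        · omega
        · rw [mul_one] at hb
          have : Even ηl := by rw [← hb, ha]; exact hke.mul_right a
          exact absurd this (Nat.not_even_iff_odd.2 hlo)
      · nlinarith
    · left; omega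
  -- nondegenerate
  have hYn : (restrictForm (sympBil F n) Y).Nondegenerate := by
    have h : (restrictForm (sympBil F n) Y).SeparatingLeft := fun x hx => Subtype.ext (by
      have hmem : (x : Fin n ⊕ Fin n → F) ∈ Y ⊓ perp (sympBil F n) Y := ⟨x.2, by
        rw [SetLike.mem_coe, mem_perp]
        exact fun y hy => (sympBil_isAlt n).isRefl _ _ (hx ⟨y, hy⟩)⟩
      rwa [hrad, Submodule.mem_bot] at hmem)
    exact ⟨h, fun x hx => h x fun y => (restrictForm_isAlt (sympBil_isAlt n) Y).isRefl _ _ (hx y)⟩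
  obtain ⟨f, hf⟩ := exists_res C.1 Y hYC
  have hf1 : ∀ y : Y, ((f y : Y) : Fin n ⊕ Fin n → F) = C.1 y := fun y => by simpa using hf 1 y
  set A : Module.End F Y := (f : Y →ₗ[F] Y) with hA
  set Ai : Module.End F Y := (f.symm : Y →ₗ[F] Y) with hAi
  have hAAi : A * Ai = 1 := LinearMap.ext fun y => f.apply_symm_apply y
  haveI : Nontrivial Y := Module.nontrivial_of_finrank_pos hYpos
  obtain ⟨g, -, hg, hgμ⟩ := Polynomial.exists_monic_irreducible_factor (minpoly F A) (minpoly.not_isUnit F A)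
  have hgA : aeval A g = 0 := by
    obtain ⟨c, hcμ⟩ := hgμ
    have hcA : aeval A c ≠ 0 := fun h => by
      have hd := minpoly.dvd F A h
      rw [hcμ] at hd
      have hc0 : c ≠ 0 := fun h0 => minpoly.ne_zero (Algebra.IsIntegral.isIntegral A) (by rw [hcμ, h0, mul_zero])
      have h1 := Polynomial.natDegree_le_of_dvd hd hc0
      rw [Polynomial.natDegree_mul hg.ne_zero hc0] at h1
      have := hg.natDegree_pos
      omega
    set Z := (LinearMap.ker (aeval A g)).map Y.subtype with hZ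
    have hZY : Z ≤ Y := Submodule.map_subtype_le _ _
    have hZC : ∀ x ∈ Z, C.1 x ∈ Z := by
      rintro _ ⟨y, hy, rfl⟩
      refine ⟨f y, ?_, hf1 y⟩
      rw [SetLike.mem_coe, LinearMap.mem_ker] at hy ⊢
      have hcomm : aeval A g (A y) = A (aeval A g y) := by
        have h := congrArg (aeval A) (mul_comm g X)
        rw [map_mul, map_mul, aeval_X] at h
        exact LinearMap.congr_fun h y
      show aeval A g (A y) = 0
      rw [hcomm, hy, map_zero]
    rcases hmin Z hZY hZC with h | h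
    · exfalso
      apply hcA
      refine LinearMap.ext fun y => ?_
      have hy : aeval A c y ∈ LinearMap.ker (aeval A g) := by
        rw [LinearMap.mem_ker, ← Module.End.mul_apply, ← map_mul, ← hcμ]
        exact LinearMap.congr_fun (minpoly.aeval F A) y
      have : ((aeval A c y : Y) : Fin n ⊕ Fin n → F) ∈ Z := ⟨_, hy, rfl⟩
      rw [h, Submodule.mem_bot] at this
      exact Subtype.ext this
    · refine LinearMap.ext fun y => ?_
      have : (y : Fin n ⊕ Fin n → F) ∈ Z := h.symm ▸ y.2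
      obtain ⟨y', hy', hyy⟩ := this
      rw [← Subtype.ext hyy]
      exact hy'
  have hadj : ∀ (P : F[X]) (x y : Y), restrictForm (sympBil F n) Y (aeval A P x) y =
      restrictForm (sympBil F n) Y x (aeval Ai P y) := by
    intro P
    induction P using Polynomial.induction_on with
    | C c => intro x y; simp
    | add P P' hP hP' => intro x y; simp only [map_add, LinearMap.add_apply, hP, hP']
    | monomial j c ih =>
      intro x y
      rw [pow_succ, ← mul_assoc, map_mul (aeval _) _ X, map_mul (aeval _) _ X, aeval_X, aeval_X, Module.End.mul_apply,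
        Module.End.mul_apply, ih]
      have e1 : ∀ u v : Y, restrictForm (sympBil F n) Y (A u) v = restrictForm (sympBil F n) Y u (Ai v) := fun u v => by
        show sympBil F n ((f u : Y) : Fin n ⊕ Fin n → F) v = sympBil F n u ((f.symm v : Y) : Fin n ⊕ Fin n → F)
        conv_lhs => rw [← f.apply_symm_apply v]
        rw [hf1, hf1, C.2]
      rw [e1]
      congr 1
      have key := congrArg (aeval Ai) (mul_comm X (Polynomial.C c * X ^ j))
      rw [map_mul (aeval Ai) X, map_mul (aeval Ai) _ X, aeval_X] at key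
      exact LinearMap.congr_fun key y
  have hgAi : aeval Ai g = 0 := LinearMap.ext fun y => hYn.2 _ fun x => by
    rw [← hadj, hgA, LinearMap.zero_apply, map_zero, LinearMap.zero_apply]
  obtain ⟨hD0, m, hmY, -, -, hdual⟩ := CfsgLib.Classical.SympDichotomy.irreducible_facts A Ai hAAi hg hgA
  have hYn2 : finrank F Y ≤ n + n := hV ▸ Submodule.finrank_le Y
  have hfpow : ∀ (N : ℕ), A ^ N = 1 → r ∣ N ∧ s ∣ N := by
    intro N hN
    have hCN : ∀ x ∈ Y, (C ^ N).1 x = x := fun x hx => by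
      have h1 := hf N ⟨x, hx⟩
      rw [SubmonoidClass.coe_pow, ← h1]
      have h2 : (f ^ N) ⟨x, hx⟩ = (A ^ N) ⟨x, hx⟩ := by
        rw [hA, ← LinearEquiv.automorphismGroup.toLinearMapMonoidHom_apply, ← map_pow]; rfl
      rw [h2, hN]; rfl
    obtain ⟨y, hy, hy0⟩ := (Submodule.ne_bot_iff Y).1 hY0
    constructor
    · by_contra hd
      refine hy0 (hYfS y hy ?_)
      obtain ⟨u, hu⟩ := exists_pow_eq_self_of_coprime (x := S) (n := N)
        (Nat.Coprime.coprime_dvd_right (orderOf_dvd_of_pow_eq_one hS) ((hr.coprime_iff_not_dvd.2 hd).symm))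
      have hfixN : ∀ j : ℕ, ((C ^ N) ^ j).1 y = y := fun j => by
        induction j with
        | zero => rfl
        | succ j ih =>
          rw [pow_succ]
          show ((C ^ N) ^ j).1 ((C ^ N).1 y) = y
          rw [hCN y hy, ih]
      calc S.1 y = ((C ^ N) ^ (i * u)).1 y := by
            rw [← pow_mul, ← mul_assoc, mul_comm N i, mul_assoc, pow_mul, hi, pow_mul, hu]
        _ = y := hfixN _
    · by_contra hd
      refine hy0 (hYfT y hy ?_)
      obtain ⟨u, hu⟩ := exists_pow_eq_self_of_coprime (x := T) (n := N)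
        (Nat.Coprime.coprime_dvd_right (orderOf_dvd_of_pow_eq_one hT) ((hs.coprime_iff_not_dvd.2 hd).symm))
      have hfixN : ∀ j : ℕ, ((C ^ N) ^ j).1 y = y := fun j => by
        induction j with
        | zero => rfl
        | succ j ih =>
          rw [pow_succ]
          show ((C ^ N) ^ j).1 ((C ^ N).1 y) = y
          rw [hCN y hy, ih]
      calc T.1 y = ((C ^ N) ^ (i' * u)).1 y := by
            rw [← pow_mul, ← mul_assoc, mul_comm N i', mul_assoc, pow_mul, hi', pow_mul, hu]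
        _ = y := hfixN _
  rcases hdual hgAi with hA2 | ⟨d, hd, hAd⟩
  · exact absurd ((Nat.prime_dvd_prime_iff_eq hr Nat.prime_two).1 (hfpow 2 hA2).1) hr2
  obtain ⟨hr1, hs1⟩ := hfpow _ hAd
  have key : ∀ (r k : ℕ), r.Prime → r ≠ 2 → orderOf (Fintype.card F : ZMod r) = k → r ∣ Fintype.card F ^ d + 1 →
      ∃ a, Odd a ∧ k * a = 2 * d := by
    intro r k hr hr2 hk hrd
    haveI := Fact.mk hr
    have h1 : (Fintype.card F : ZMod r) ^ d = -1 := by
      rw [← ZMod.natCast_eq_zero_iff] at hrd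
      push_cast at hrd
      linear_combination hrd
    have h2 : k ∣ 2 * d := by
      rw [← hk, orderOf_dvd_iff_pow_eq_one, mul_comm, pow_mul, h1]; ring
    obtain ⟨a, ha⟩ := h2
    refine ⟨a, Nat.not_even_iff_odd.1 fun he => ?_, ha.symm⟩
    obtain ⟨c, rfl⟩ := he
    have hkd : d = k * c := by nlinarith
    rw [hkd, ← hk, pow_mul, pow_orderOf_eq_one, one_pow] at h1
    haveI : Fact (2 < r) := ⟨by have := hr.two_le; omega⟩
    exact ZMod.neg_one_ne_one h1.symm
  obtain ⟨a, hao, ha⟩ := key r k hr hr2 hk hr1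
  obtain ⟨b, hbo, hb⟩ := key s l hs hs2 hl hs1
  have hke : Even k := by
    rcases Nat.even_or_odd k with h | h
    · exact h
    · exact absurd (even_two_mul d) (Nat.not_even_iff_odd.2 (ha ▸ h.mul hao))
  have hle : Even l := by
    rcases Nat.even_or_odd l with h | h
    · exact h
    · exact absurd (even_two_mul d) (Nat.not_even_iff_odd.2 (hb ▸ h.mul hbo))
  have hk2 : 2 * ηk = k := (hηk.resolve_left fun h => Nat.not_even_iff_odd.2 h.1 hke).2
  have hl2 : 2 * ηl = l := (hηl.resolve_left fun h => Nat.not_even_iff_odd.2 h.1 hle).2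
  rcases eq_or_ne b 1 with rfl | hb1
  · exact Or.inr ⟨a, hao, by rw [ha, ← hb, mul_one]⟩
  rcases eq_or_ne a 1 with rfl | ha1
  · refine Or.inr ⟨1, odd_one, ?_⟩
    exfalso
    rw [mul_one] at ha
    have h1 : 2 * 1 ≤ b := by have := hbo.pos; omega
    have h2 := Nat.mul_le_mul (show k ≤ l by omega) h1
    omega
  left
  have hdD : g.natDegree ≤ finrank F Y := by
    rcases Nat.eq_zero_or_pos m with h0 | h0
    · rw [h0, mul_zero] at hmY; omega
    · rw [← hmY]; exact Nat.le_mul_of_pos_right _ h0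
  obtain ⟨a', rfl⟩ := hao
  obtain ⟨b', rfl⟩ := hbo
  have h5 := Nat.mul_le_mul_left k (show 3 ≤ 2 * a' + 1 by omega)
  have h6 := Nat.mul_le_mul_left l (show 3 ≤ 2 * b' + 1 by omega)
  rw [ha] at h5
  rw [hb] at h6
  omega

end CfsgLib.Classical.SympAdjacency
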