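import Cfsg.Agent.Lib.Classical.SympAdjacency

set_option autoImplicit false
set_option linter.unusedSectionVars false

/-! Elements of prescribed prime orders in `PSp(2n, q)`, any `q`. -/

namespace CfsgLib.Classical.SympAdjacency

open Module CfsgLib.Classical CfsgLib.Classical.SympOrders CfsgLib.Classical.PrimeGraphBC
open CfsgLib.Classical.PrimeGraphTransfer

variable {F : Type*} [Field F] [Fintype F] {n : ℕ} (p : ℕ) [Fact p.Prime] [CharP F p]
include p

/-- The torus of order `q ^ m + 1`. -/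
theorem exists_torus_minus' {m : ℕ} (hm : 1 ≤ m) :
    ∃ h : isomGroup (sympBil F m), ∀ i : ℕ, h ^ i = 1 ↔ Fintype.card F ^ m + 1 ∣ i := by
  classical
  haveI : NeZero (2 * m) := ⟨by omega⟩
  let K := FiniteField.Extension F p (2 * m)
  haveI : Fintype K := Fintype.ofFinite K
  have hK : finrank F K = 2 * m := FiniteField.finrank_extension F p (2 * m)
  haveI : FiniteDimensional F K := Module.finite_of_finrank_pos (by omega)
  have hq2 := Fintype.one_lt_card (α := F)
  set q := Fintype.card F with hq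
  have hcardK : Fintype.card K = q ^ (2 * m) := by rw [Module.card_eq_pow_finrank (K := F), hK]
  set Q := q ^ m with hQ
  have hQ2 : 2 ≤ Q := le_trans hq2 (Nat.le_self_pow (by omega) q)
  let σ : K ≃ₐ[F] K := (FiniteField.frobeniusAlgEquivOfAlgebraic F K) ^ m
  have hσ : ∀ x, σ x = x ^ Q := fun x => by
    show ((FiniteField.frobeniusAlgEquivOfAlgebraic F K) ^ m) x = _
    rw [AlgEquiv.coe_pow, FiniteField.coe_frobeniusAlgEquivOfAlgebraic, pow_iterate]
  obtain ⟨γ, hγ⟩ := IsCyclic.exists_ofOrder_eq_natCard (α := Kˣ)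
  have hγord : orderOf γ = (Q - 1) * (Q + 1) := by
    rw [hγ, Nat.card_units, Nat.card_eq_fintype_card, hcardK, two_mul, pow_add, mul_comm (Q - 1),
      ← Nat.mul_self_sub_mul_self_eq, mul_one]
  have hσσ : ∀ x, σ (σ x) = x := fun x => by
    rw [hσ, hσ, ← pow_mul, hQ, ← pow_add, ← two_mul, ← hcardK, FiniteField.pow_card]
  obtain ⟨θ, hθ⟩ : ∃ θ : K, σ θ ≠ θ := by
    refine ⟨(γ : K), fun h => ?_⟩
    rw [hσ, ← Units.val_pow_eq_pow_val] at h
    have h' : γ ^ (Q - 1) = 1 := mul_left_cancel (a := γ) (by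
      rw [← pow_succ', Nat.sub_add_cancel (by omega), mul_one]; exact Units.ext h)
    have := Nat.le_of_dvd (by omega) (orderOf_dvd_of_pow_eq_one h')
    rw [hγord] at this
    have := Nat.mul_le_mul_left (Q - 1) (show 2 ≤ Q + 1 by omega)
    omega
  set β : K := θ - σ θ with hβ
  have hβ0 : β ≠ 0 := sub_ne_zero.2 hθ.symm
  set ζ : K := ((γ ^ (Q - 1) : Kˣ) : K) with hζ
  have hζi : ∀ j : ℕ, ζ ^ j = 1 ↔ Q + 1 ∣ j := fun j => by
    rw [hζ, ← Units.val_pow_eq_pow_val, Units.val_eq_one, ← pow_mul, ← orderOf_dvd_iff_pow_eq_one, hγord]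
    exact Nat.mul_dvd_mul_iff_left (by omega)
  have hζσ : ζ * σ ζ = 1 := by rw [hσ, ← pow_succ', hζi]
  let B : K →ₗ[F] K →ₗ[F] F := (Algebra.traceForm F K).compl₁₂ (LinearMap.mulLeft F β) σ.toLinearMap
  have hb : ∀ x y, B x y = Algebra.trace F K (β * x * σ y) := fun x y => rfl
  have hBa : B.IsAlt := fun v => by
    have h1 : σ (θ * (v * σ v)) = σ θ * (v * σ v) := by rw [map_mul σ, map_mul σ, hσσ, mul_comm (σ v) v]
    rw [hb, show β * v * σ v = θ * (v * σ v) - σ (θ * (v * σ v)) by rw [h1, hβ]; ring, map_sub,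
      Algebra.trace_eq_of_algEquiv σ, sub_self]
  have hBn : B.Nondegenerate := by
    have h : B.SeparatingLeft := fun v hv => by
      have h4 : β * v = 0 := (traceForm_nondegenerate F K).1 _ fun y => by
        have := hv (σ y)
        rw [hb, hσσ] at this
        rw [Algebra.traceForm_apply]; exact this
      exact (mul_eq_zero.1 h4).resolve_left hβ0
    exact ⟨h, fun x hx => h x fun y => hBa.isRefl _ _ (hx y)⟩
  let Z : K ≃ₗ[F] K :=
    { LinearMap.mulLeft F ζ with
      invFun := fun x => ζ⁻¹ * x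
      left_inv := fun x => inv_mul_cancel_left₀ (Units.ne_zero _) x
      right_inv := fun x => mul_inv_cancel_left₀ (Units.ne_zero _) x }
  let g : isomGroup B := ⟨Z, fun x y => by
    show B (ζ * x) (ζ * y) = B x y
    rw [hb, hb, map_mul σ, show β * (ζ * x) * (σ ζ * σ y) = (ζ * σ ζ) * (β * x * σ y) by ring, hζσ, one_mul]⟩
  have hpow : ∀ (j : ℕ) (x : K), (g ^ j).1 x = ζ ^ j * x := by
    intro j x
    induction j with
    | zero => simp
    | succ j ih =>
      rw [pow_succ', pow_succ']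
      show ζ * (g ^ j).1 x = _
      rw [ih, mul_assoc]
  obtain ⟨e, he⟩ := exists_transfer hBa hBn (m := m) (by omega)
  refine ⟨isomGroupCongr e he g, fun j => ?_⟩
  rw [← map_pow, MulEquiv.map_eq_one_iff, ← hζi, eq_one_iff_forall]
  exact ⟨fun h => (mul_one _).symm.trans ((hpow j 1).symm.trans (h 1)), fun h x => by rw [hpow, h, one_mul]⟩

theorem exists_prime_symp {r k : ℕ} (hr : r.Prime) {m : ℕ} (hk : orderOf (Fintype.card F : ZMod r) = k)
    {i : ℕ} (hi : 1 ≤ i) (him : i ≤ m) (hki : k ∣ 2 * i) : ∃ u : isomGroup (sympBil F m), orderOf u = r := by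
  haveI := Fact.mk hr
  haveI : Finite (isomGroup (sympBil F m)) := Finite.of_equiv _ (spEquiv (F := F) m).toEquiv
  refine exists_prime_orderOf_dvd_card' r ?_
  rw [card_isom_alt (sympBil_isAlt m) (sympBil_nondegenerate m) m (by simp; omega)]
  refine dvd_mul_of_dvd_right (dvd_trans ?_ (Finset.dvd_prod_of_mem _ (Finset.mem_range.2 (show i - 1 < m by omega)))) _
  rw [Nat.sub_add_cancel hi]
  exact (pow_sub_dvd_iff Fintype.card_pos).2 (hk ▸ hki)

theorem exists_char_symp {m : ℕ} (hm : 1 ≤ m) : ∃ u : isomGroup (sympBil F m), orderOf u = p := by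
  haveI : Finite (isomGroup (sympBil F m)) := Finite.of_equiv _ (spEquiv (F := F) m).toEquiv
  refine exists_prime_orderOf_dvd_card' p ?_
  rw [card_isom_alt (sympBil_isAlt m) (sympBil_nondegenerate m) m (by simp; omega)]
  obtain ⟨k, -, hk⟩ := FiniteField.card F p
  refine dvd_mul_of_dvd_left ?_ _
  rw [hk, ← pow_mul]
  exact dvd_pow_self p (Nat.mul_pos k.pos (pow_pos (by omega) 2)).ne'

theorem half_le_of_dvd_card {r k η : ℕ} (hr : r.Prime) (hrp : r ≠ p)
    (hk : orderOf (Fintype.card F : ZMod r) = k) (hη : IsHalf k η) (h : r ∣ Nat.card (Cfsg.PSp n F)) : η ≤ n := by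
  have h1 : r ∣ Nat.card (isomGroup (sympBil F n)) := by
    rw [← Nat.card_congr (spEquiv (F := F) n).toEquiv]
    exact h.trans (Subgroup.card_quotient_dvd_card _)
  rw [card_isom_alt (sympBil_isAlt n) (sympBil_nondegenerate n) n (by simp; omega)] at h1
  rcases hr.dvd_mul.1 h1 with h2 | h2
  · obtain ⟨a, hpp, ha⟩ := FiniteField.card F p
    rw [ha, ← pow_mul] at h2
    exact absurd ((Nat.prime_dvd_prime_iff_eq hr hpp).1 (hr.dvd_of_dvd_pow h2)) hrp
  · obtain ⟨i, hi, hd⟩ := (Prime.dvd_finsetProd_iff hr.prime _).1 h2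
    have := half_le hη (i := i + 1) (by omega) (hk ▸ (pow_sub_dvd_iff Fintype.card_pos).1 hd)
    have := Finset.mem_range.1 hi
    omega

/-- An element of `Sp` whose order is a multiple of an odd number. -/
theorem psp_of_isom (h : isomGroup (sympBil F n)) {N : ℕ} (hN : Odd N) (hd : ∀ i, h ^ i = 1 → N ∣ i) :
    N ∈ Set.range (orderOf : Cfsg.PSp n F → ℕ) := by
  obtain ⟨y, hy⟩ := exists_psp h (N := N) fun i hi => by
    have h1 := eq_one_or_neg_sq _ hi
    rw [← pow_add, ← two_mul] at h1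
    exact (Nat.coprime_two_right.2 hN).dvd_of_dvd_mul_left (hd _ h1)
  exact mem_range_of_dvd y hy

/-- The characteristic and an odd prime. -/
theorem adjacent_char_iff (hn : 2 ≤ n) {r k η : ℕ} (hr : r.Prime) (hr2 : r ≠ 2) (hrp : r ≠ p)
    (hk : orderOf (Fintype.card F : ZMod r) = k) (hη : IsHalf k η) :
    r * p ∈ Set.range (orderOf : Cfsg.PSp n F → ℕ) ↔ η ≤ n - 1 := by
  have hp := (Fact.out : p.Prime)
  have hcor : Nat.Coprime r p := (Nat.coprime_primes hr hp).2 hrp
  have hneg : p = 2 → ∀ {m : ℕ} (A : isomGroup (sympBil F m)), (A = 1 ∨ ∀ x, A.1 x = -x) → A = 1 := by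
    rintro rfl m A (h | h)
    · exact h
    · refine (eq_one_iff_forall A).2 fun x => ?_
      rw [h]
      funext j
      exact CharTwo.neg_eq (x j)
  constructor
  · rintro ⟨y, hy⟩
    obtain ⟨A, hA⟩ := psp_lift y
    have hAN : A ^ (r * p * 2) = 1 := hy ▸ order_lift hA
    have hAne : ∀ i, A ^ i = 1 → r * p ∣ i := fun i h => hy ▸ (hA i).2 (Or.inl h)
    have hS1 : A ^ (2 * p) ≠ 1 := fun h => hr2 ((Nat.prime_dvd_prime_iff_eq hr Nat.prime_two).1
      (hcor.dvd_of_dvd_mul_right ((dvd_mul_right r p).trans (hAne _ h))))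
    obtain ⟨U, hU, hU1, hc⟩ : ∃ U, U ^ p = 1 ∧ U ≠ 1 ∧ Commute U (A ^ (2 * p)) := by
      rcases eq_or_ne p 2 with hp2 | hp2
      · refine ⟨A ^ r, hneg hp2 _ ?_, fun h => ?_, (Commute.refl A).pow_pow _ _⟩
        · rw [← pow_mul]; exact (hA _).1 (by rw [hy])
        · have := Nat.le_of_dvd hr.pos (hAne r h)
          have := Nat.mul_le_mul_left r hp.two_le
          have := hr.pos
          omega
      · refine ⟨A ^ (2 * r), ?_, fun h => hp2 ((Nat.prime_dvd_prime_iff_eq hp Nat.prime_two).1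
          (hcor.symm.dvd_of_dvd_mul_right ((dvd_mul_left p r).trans (hAne _ h)))), (Commute.refl A).pow_pow _ _⟩
        rw [← pow_mul, show 2 * r * p = r * p * 2 by ring, hAN]
    exact half_le_pred (p := p) hn hr hr2 hrp hk hη (A ^ (2 * p)) U
      (by rw [← pow_mul, show 2 * p * r = r * p * 2 by ring, hAN]) hS1 hU hU1 hc
  · intro hle
    have hη1 := half_pos hη (hk ▸ orderOf_pos_of_ne (F := F) (p := p) hr hrp)
    obtain ⟨m, rfl⟩ : ∃ m, n = η + m := ⟨n - η, by omega⟩
    obtain ⟨a, ha⟩ := exists_prime_symp p hr (m := η) hk hη1 le_rfl (half_dvd hη)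
    obtain ⟨b, hb⟩ := exists_char_symp (F := F) p (m := m) (by omega)
    obtain ⟨h, hh⟩ := exists_sum a b
    obtain ⟨y, hy⟩ := exists_psp h (N := r * p) fun i hi => by
      have h1 := eq_one_or_neg_sq _ hi
      rw [← pow_add, ← two_mul] at h1
      obtain ⟨ha', hb'⟩ := (hh _).1.1 h1
      refine hcor.mul_dvd_of_dvd_of_dvd
        (((Nat.coprime_primes hr Nat.prime_two).2 hr2).dvd_of_dvd_mul_left (ha ▸ orderOf_dvd_of_pow_eq_one ha')) ?_
      rcases eq_or_ne p 2 with hp2 | hp2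
      · exact hb ▸ orderOf_dvd_of_pow_eq_one ((hh i).1.1 (hneg hp2 _ hi)).2
      · exact ((Nat.coprime_primes hp Nat.prime_two).2 hp2).dvd_of_dvd_mul_left (hb ▸ orderOf_dvd_of_pow_eq_one hb')
    exact mem_range_of_dvd y hy

/-- Two odd primes. -/
theorem adjacent_odd_iff {r s k l ηk ηl : ℕ} (hr : r.Prime) (hs : s.Prime) (hr2 : r ≠ 2) (hs2 : s ≠ 2)
    (hrp : r ≠ p) (hsp : s ≠ p) (hrs : r ≠ s) (hk : orderOf (Fintype.card F : ZMod r) = k)
    (hl : orderOf (Fintype.card F : ZMod s) = l) (hηk : IsHalf k ηk) (hηl : IsHalf l ηl) (hkl : ηk ≤ ηl)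
    (hsG : s ∣ Nat.card (Cfsg.PSp n F)) :
    r * s ∈ Set.range (orderOf : Cfsg.PSp n F → ℕ) ↔ ηk + ηl ≤ n ∨ ∃ t, Odd t ∧ l = k * t := by
  have hco : Nat.Coprime r s := (Nat.coprime_primes hr hs).2 hrs
  have hodd : Odd (r * s) := (hr.odd_of_ne_two hr2).mul (hs.odd_of_ne_two hs2)
  have hk1 := half_pos hηk (hk ▸ orderOf_pos_of_ne (F := F) (p := p) hr hrp)
  have hl1 := half_pos hηl (hl ▸ orderOf_pos_of_ne (F := F) (p := p) hs hsp)
  constructor
  · rintro ⟨y, hy⟩
    obtain ⟨A, hA⟩ := psp_lift y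
    have hAN : A ^ (r * s * 2) = 1 := hy ▸ order_lift hA
    have hAne : ∀ i, A ^ i = 1 → r * s ∣ i := fun i h => hy ▸ (hA i).2 (Or.inl h)
    refine two_primes (p := p) hr hs hr2 hs2 hrp hsp hk hl hηk hηl hkl (A ^ (2 * s)) (A ^ (2 * r)) ?_ ?_ ?_ ?_
      ((Commute.refl A).pow_pow _ _) hrs
    · rw [← pow_mul, show 2 * s * r = r * s * 2 by ring, hAN]
    · exact fun h => hr2 ((Nat.prime_dvd_prime_iff_eq hr Nat.prime_two).1
        (hco.dvd_of_dvd_mul_right ((dvd_mul_right r s).trans (hAne _ h))))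
    · rw [← pow_mul, show 2 * r * s = r * s * 2 by ring, hAN]
    · exact fun h => hs2 ((Nat.prime_dvd_prime_iff_eq hs Nat.prime_two).1
        (hco.symm.dvd_of_dvd_mul_right ((dvd_mul_left s r).trans (hAne _ h))))
  · have hln := half_le_of_dvd_card p hs hsp hl hηl hsG
    rintro (hsum | ⟨t, ht, hlt⟩)
    · obtain ⟨m, rfl⟩ : ∃ m, n = ηk + m := ⟨n - ηk, by omega⟩
      obtain ⟨a, ha⟩ := exists_prime_symp p hr (m := ηk) hk hk1 le_rfl (half_dvd hηk)
      obtain ⟨b, hb⟩ := exists_prime_symp p hs (m := m) hl hl1 (by omega) (half_dvd hηl)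
      obtain ⟨h, hh⟩ := exists_sum a b
      refine psp_of_isom p h hodd fun i hi => ?_
      obtain ⟨ha', hb'⟩ := (hh i).1.1 hi
      exact hco.mul_dvd_of_dvd_of_dvd (ha ▸ orderOf_dvd_of_pow_eq_one ha') (hb ▸ orderOf_dvd_of_pow_eq_one hb')
    · obtain ⟨m, rfl⟩ : ∃ m, n = ηl + m := ⟨n - ηl, by omega⟩
      suffices hT : ∃ (h : isomGroup (sympBil F ηl)) (N : ℕ), (∀ i, h ^ i = 1 ↔ N ∣ i) ∧ r ∣ N ∧ s ∣ N by
        obtain ⟨h, N, hN, hrN, hsN⟩ := hT
        obtain ⟨g, hg⟩ := exists_sum h (1 : isomGroup (sympBil F m))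
        exact psp_of_isom p g hodd fun i hi =>
          (hco.mul_dvd_of_dvd_of_dvd hrN hsN).trans ((hN i).1 ((hg i).1.1 hi).1)
      rcases hηk with ⟨hko, rfl⟩ | ⟨hke, hk2⟩
      · have hl' : ηl = l := (hηl.resolve_right fun h =>
          Nat.not_even_iff_odd.2 (hko.mul ht) (hlt ▸ h.1)).2
        obtain ⟨h, hh⟩ := exists_torus_plus (F := F) p hl1
        exact ⟨h, _, hh, (pow_sub_dvd_iff Fintype.card_pos).2 (hk ▸ hl' ▸ hlt ▸ dvd_mul_right ηk t),
          (pow_sub_dvd_iff Fintype.card_pos).2 (hl ▸ hl' ▸ dvd_rfl)⟩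
      · have hl2 : 2 * ηl = l := (hηl.resolve_left fun h =>
          Nat.not_even_iff_odd.2 h.1 (hlt ▸ hke.mul_right t)).2
        obtain ⟨h, hh⟩ := exists_torus_minus' (F := F) p hl1
        have key : ∀ (u c η' : ℕ), u.Prime → u ≠ 2 → 1 ≤ η' → orderOf (Fintype.card F : ZMod u) = c → 2 * η' = c →
            u ∣ Fintype.card F ^ η' + 1 := by
          intro u c η' hu hu2 hη' hc hc2
          haveI := Fact.mk hu
          rw [← ZMod.natCast_eq_zero_iff]
          push_cast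
          have h1 : ((Fintype.card F : ZMod u) ^ η') ^ 2 = 1 := by
            rw [← pow_mul, mul_comm, hc2, ← hc, pow_orderOf_eq_one]
          rcases sq_eq_one_iff.1 h1 with h3 | h3
          · have := Nat.le_of_dvd hη' (hc ▸ orderOf_dvd_of_pow_eq_one h3)
            omega
          · rw [h3]; ring
        refine ⟨h, _, hh, ?_, key s l ηl hs hs2 hl1 hl hl2⟩
        have h1 := key r k ηk hr hr2 hk1 hk hk2
        refine h1.trans ?_
        have hηl' : ηl = ηk * t := by nlinarith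
        rw [hηl', pow_mul]
        simpa using Odd.nat_add_dvd_pow_add_pow (x := Fintype.card F ^ ηk) (y := 1) ht

end CfsgLib.Classical.SympAdjacency
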