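import Cfsg.Agent.Lib.Classical.SympOrders

set_option autoImplicit false
set_option linter.unusedSectionVars false

/-!
Odd element orders of `PSp(2n, q)`: either twice the order is achieved, or the order divides that of a regular
unipotent element or of one of the two tori of order `(q ^ n ± 1) / 2`.
-/

namespace CfsgLib.Classical.SympDichotomy

open Module Polynomial CfsgLib.Classical CfsgLib.Classical.SympOrders

universe u₀

variable {F : Type u₀} [Field F]

section Irreducible

variable [Fintype F] {W : Type*} [AddCommGroup W] [Module F W] [FiniteDimensional F W]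

/-- An endomorphism with irreducible minimal polynomial of degree `D`. -/
theorem irreducible_facts [Nontrivial W] (A Ai : Module.End F W) (hAi : A * Ai = 1) {f : F[X]} (hf : Irreducible f)
    (hfA : aeval A f = 0) :
    0 < f.natDegree ∧ ∃ l, f.natDegree * l = finrank F W ∧ A ^ (Fintype.card F ^ f.natDegree - 1) = 1 ∧
      (∀ N, Commute N A → IsNilpotent N → N ^ l = 0) ∧
      (aeval Ai f = 0 → A ^ 2 = 1 ∨ ∃ d, f.natDegree = 2 * d ∧ A ^ (Fintype.card F ^ d + 1) = 1) := by
  classical
  haveI : Fact (Irreducible f) := ⟨hf⟩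
  let pb := AdjoinRoot.powerBasis hf.ne_zero
  haveI : Module.Finite F (AdjoinRoot f) := pb.finite
  haveI : Finite (AdjoinRoot f) := Module.finite_of_finite F
  letI : Fintype (AdjoinRoot f) := Fintype.ofFinite _
  have hKd : finrank F (AdjoinRoot f) = f.natDegree := by rw [pb.finrank, AdjoinRoot.powerBasis_dim]
  let Φ : AdjoinRoot f →ₐ[F] Module.End F W :=
    Ideal.Quotient.liftₐ (Ideal.span {f}) (aeval A) fun g hg => by
      obtain ⟨c, rfl⟩ := Ideal.mem_span_singleton.1 hg
      rw [map_mul, hfA, zero_mul]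
  have hΦmk : ∀ g, Φ (AdjoinRoot.mk f g) = aeval A g := fun g => rfl
  have hΦr : Φ (AdjoinRoot.root f) = A := by rw [← AdjoinRoot.mk_X, hΦmk, aeval_X]
  have hinj : Function.Injective Φ := Φ.toRingHom.injective
  have hroot : AdjoinRoot.root f ≠ 0 := fun h => by
    rw [h, map_zero] at hΦr
    rw [← hΦr, zero_mul] at hAi
    exact zero_ne_one hAi
  letI : Module (AdjoinRoot f) W := Module.compHom W Φ.toRingHom
  haveI : IsScalarTower F (AdjoinRoot f) W := ⟨fun c a x => by
    show Φ (c • a) x = c • Φ a x
    rw [map_smul, LinearMap.smul_apply]⟩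
  haveI : Finite W := Module.finite_of_finite F
  haveI : Module.Finite (AdjoinRoot f) W := Module.Finite.of_finite
  refine ⟨hf.natDegree_pos, finrank (AdjoinRoot f) W, ?_, ?_, ?_, ?_⟩
  · rw [← hKd, Module.finrank_mul_finrank]
  · rw [← hΦr, ← map_pow, ← hKd, ← Module.card_eq_pow_finrank, FiniteField.pow_card_sub_one_eq_one _ hroot,
      map_one]
  · intro N hN hnil
    have hcomm : ∀ b, Commute N (Φ b) := fun b => by
      obtain ⟨g, rfl⟩ := AdjoinRoot.mk_surjective b
      rw [hΦmk]
      induction g using Polynomial.induction_on' with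
      | add g g' hg hg' => rw [map_add]; exact hg.add_right hg'
      | monomial i c =>
        rw [aeval_monomial]
        exact (Algebra.commute_algebraMap_right c N).mul_right (hN.pow_right i)
    let N' : Module.End (AdjoinRoot f) W :=
      { toFun := N
        map_add' := N.map_add
        map_smul' := fun b x => LinearMap.congr_fun (hcomm b).eq x }
    have hpow : ∀ (i : ℕ) (x : W), (N' ^ i) x = (N ^ i) x := by
      intro i
      induction i with
      | zero => intro x; rfl
      | succ i ih =>
        intro x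
        rw [pow_succ, pow_succ, Module.End.mul_apply, Module.End.mul_apply]
        exact ih (N x)
    obtain ⟨k, hk⟩ := hnil
    have hnil' : IsNilpotent N' := ⟨k, LinearMap.ext fun x => by rw [hpow, hk]; rfl⟩
    have h := LinearMap.aeval_self_charpoly N'
    rw [IsNilpotent.charpoly_eq_X_pow_finrank hnil', map_pow, aeval_X] at h
    exact LinearMap.ext fun x => by rw [← hpow, h]; rfl
  · intro hfi
    have hΦi : Φ (AdjoinRoot.root f)⁻¹ = Ai := by
      have h : A * Φ (AdjoinRoot.root f)⁻¹ = 1 := by rw [← hΦr, ← map_mul, mul_inv_cancel₀ hroot, map_one]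
      have h' : Φ (AdjoinRoot.root f)⁻¹ * A = 1 := by rw [← hΦr, ← map_mul, inv_mul_cancel₀ hroot, map_one]
      exact (left_inv_eq_right_inv h' hAi)
    have hrootinv : aeval (AdjoinRoot.root f)⁻¹ f = 0 := hinj (by rw [← aeval_algHom_apply, hΦi, hfi, map_zero])
    let ψ : AdjoinRoot f →ₐ[F] AdjoinRoot f :=
      AdjoinRoot.liftAlgHom f (Algebra.ofId F _) (AdjoinRoot.root f)⁻¹ hrootinv
    have hψ : ψ (AdjoinRoot.root f) = (AdjoinRoot.root f)⁻¹ := AdjoinRoot.liftAlgHom_root f _ _ _
    obtain ⟨⟨j, hj⟩, hjψ⟩ := (FiniteField.bijective_frobeniusAlgHom_pow F (AdjoinRoot f)).2 ψ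
    have hroot' : AdjoinRoot.root f ^ (Fintype.card F ^ j) = (AdjoinRoot.root f)⁻¹ := by
      rw [← hψ, ← hjψ, AlgHom.coe_pow, FiniteField.coe_frobeniusAlgHom, pow_iterate]
    rcases Nat.eq_zero_or_pos j with hj0 | hj0
    · left
      rw [hj0, pow_zero, pow_one] at hroot'
      rw [← hΦr, ← map_pow, pow_two]
      nth_rw 2 [hroot']
      rw [mul_inv_cancel₀ hroot, map_one]
    · right
      refine ⟨j, ?_, ?_⟩
      · have h2j : AdjoinRoot.root f ^ (Fintype.card F ^ (2 * j)) = AdjoinRoot.root f := by
          rw [two_mul, pow_add, pow_mul, hroot', inv_pow, hroot', inv_inv]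
        have hone : (FiniteField.frobeniusAlgEquivOfAlgebraic F (AdjoinRoot f)) ^ (2 * j) = 1 := by
          refine AlgEquiv.coe_toAlgHom_injective (pb.algHom_ext ?_)
          simp only [AlgEquiv.coe_toAlgHom, AlgEquiv.coe_pow, AlgEquiv.one_apply,
            FiniteField.coe_frobeniusAlgEquivOfAlgebraic, pow_iterate, pb, AdjoinRoot.powerBasis_gen]
          exact h2j
        have hd := orderOf_dvd_of_pow_eq_one hone
        rw [FiniteField.orderOf_frobeniusAlgEquivOfAlgebraic, hKd] at hd
        rw [hKd] at hj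
        obtain ⟨c, hc⟩ := hd
        rcases Nat.lt_or_ge c 2 with h | h
        · interval_cases c <;> omega
        · nlinarith
      · rw [← hΦr, ← map_pow, pow_succ, hroot', inv_mul_cancel₀ hroot, map_one]

end Irreducible

section Isometry

variable {V : Type*} [AddCommGroup V] [Module F V] [FiniteDimensional F V] {B : V →ₗ[F] V →ₗ[F] F}

/-- An isometry as an endomorphism. -/
def toEnd : isomGroup B →* Module.End F V where
  toFun g := g.1.toLinearMap
  map_one' := rfl
  map_mul' _ _ := rfl

theorem toEnd_injective : Function.Injective (toEnd (B := B)) := fun g h e =>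
  Subtype.ext (LinearEquiv.toLinearMap_injective e)

/-- A self-adjoint idempotent commuting with `g` gives a commuting involution other than `-1`. -/
theorem exists_involution (h2 : (2 : F) ≠ 0) (g : isomGroup B) (c : Module.End F V) (hcc : c * c = c)
    (hadj : ∀ x y, B (c x) y = B x (c y)) (hc : Commute c (toEnd g)) (hc0 : c ≠ 0) (hc1 : c ≠ 1) :
    ∃ t : isomGroup B, t * t = 1 ∧ (¬ ∀ x, t.1 x = x) ∧ (¬ ∀ x, t.1 x = -x) ∧ Commute t g := by
  set T : Module.End F V := c + c - 1 with hT
  have hTx : ∀ x, T x = c x + c x - x := fun x => rfl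
  have hcc' : ∀ x, c (c x) = c x := fun x => LinearMap.congr_fun hcc x
  have hTT : ∀ x, T (T x) = x := fun x => by
    rw [hTx, hTx, map_sub, map_add, hcc']
    abel
  let e : V ≃ₗ[F] V := { T with invFun := T, left_inv := hTT, right_inv := hTT }
  have he : ∀ x y, B (e x) (e y) = B x y := fun x y => by
    show B (T x) (T y) = B x y
    rw [hTx, hTx]
    simp only [map_sub, map_add, LinearMap.sub_apply, LinearMap.add_apply, hadj, hcc']
    abel
  refine ⟨⟨e, he⟩, Subtype.ext (LinearEquiv.ext hTT), fun h => hc1 (LinearMap.ext fun x => ?_),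
    fun h => hc0 (LinearMap.ext fun x => ?_), toEnd_injective ?_⟩
  · have h' : c x + c x - x = x := h x
    rw [sub_eq_iff_eq_add, ← two_smul F, ← two_smul F] at h'
    exact smul_right_injective V h2 h'
  · have h' : c x + c x - x = -x := h x
    rw [sub_eq_iff_eq_add, neg_add_cancel, ← two_smul F] at h'
    exact (smul_eq_zero.1 h').resolve_left h2
  · rw [map_mul, map_mul]
    exact ((hc.add_left hc).sub_left (Commute.one_left _)).eq

theorem pow_nilpotent_bound {p : ℕ} [Fact p.Prime] {R : Type*} [Ring R] [CharP R p] (h : R) {k l : ℕ}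
    (hl : (h - 1) ^ l = 0) (hk : l ≤ p ^ k) : h ^ (p ^ k) = 1 := by
  have h0 := pow_eq_zero_of_le hk hl
  rwa [sub_pow_char_pow_of_commute (p := p) _ (Commute.one_right h), one_pow, sub_eq_zero] at h0

theorem dichotomy_isom [Fintype F] (p : ℕ) [Fact p.Prime] [CharP F p] (h2 : (2 : F) ≠ 0) (hA : B.IsAlt)
    (hN : B.Nondegenerate) {n : ℕ} (hn : 1 ≤ n) (hV : finrank F V = n + n) (g : isomGroup B) {o : ℕ} (hodd : Odd o)
    (hgo : g ^ o = 1) :
    (∃ t : isomGroup B, t * t = 1 ∧ (¬ ∀ x, t.1 x = x) ∧ (¬ ∀ x, t.1 x = -x) ∧ Commute t g) ∨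
      g ^ (p ^ Nat.clog p (2 * n)) = 1 ∨ g ^ (Fintype.card F ^ n + 1) = 1 ∨ g ^ (Fintype.card F ^ n - 1) = 1 ∨
      ∃ d k : ℕ, 1 ≤ d ∧ d < n ∧ k ≤ Nat.clog p (2 * (n - d)) ∧
        (g ^ (p ^ k * (Fintype.card F ^ d + 1)) = 1 ∨ g ^ (p ^ k * (Fintype.card F ^ d - 1)) = 1) := by
  classical
  have hp := (Fact.out : p.Prime)
  haveI : Nontrivial V := Module.nontrivial_of_finrank_pos (R := F) (by omega)
  haveI : CharP (Module.End F V) p :=
    charP_of_injective_algebraMap (algebraMap F (Module.End F V)).injective p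
  obtain ⟨a, o', ho', rfl⟩ := Nat.exists_eq_pow_mul_and_not_dvd hodd.pos.ne' p hp.ne_one
  have hoF : (o' : F) ≠ 0 := fun h => ho' ((CharP.cast_eq_zero_iff F p o').1 h)
  have ho'odd : Odd o' := (Nat.odd_mul.1 hodd).2
  set s := g ^ (p ^ a) with hs
  set h := g ^ o' with hh
  have hso : s ^ o' = 1 := by rw [hs, ← pow_mul, hgo]
  have hha : h ^ (p ^ a) = 1 := by rw [hh, ← pow_mul, mul_comm, hgo]
  have hcomb : ∀ M k, s ^ M = 1 → h ^ (p ^ k) = 1 → g ^ (p ^ k * M) = 1 := by
    intro M k h1 h3
    rw [hs, ← pow_mul, ← orderOf_dvd_iff_pow_eq_one] at h1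
    rw [hh, ← pow_mul, ← orderOf_dvd_iff_pow_eq_one] at h3
    rw [← orderOf_dvd_iff_pow_eq_one]
    obtain ⟨o₁, o₂, hd₁, hd₂, ho⟩ := Nat.dvd_mul.1 (orderOf_dvd_of_pow_eq_one hgo)
    have hco : Nat.Coprime (p ^ a) o' := Nat.Coprime.pow_left _ (hp.coprime_iff_not_dvd.2 ho')
    rw [← ho] at h1 h3 ⊢
    refine mul_dvd_mul ?_ ?_
    · exact Nat.Coprime.dvd_of_dvd_mul_left (Nat.Coprime.coprime_dvd_left hd₁ hco) (dvd_of_mul_right_dvd h3)
    · exact Nat.Coprime.dvd_of_dvd_mul_left ((Nat.Coprime.coprime_dvd_right hd₂ hco).symm) (dvd_of_mul_left_dvd h1)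
  set A : Module.End F V := toEnd s with hAdef
  set Ai : Module.End F V := toEnd s⁻¹ with hAidef
  have hAAi : A * Ai = 1 := by rw [hAdef, hAidef, ← map_mul, mul_inv_cancel, map_one]
  have hAg : Commute A (toEnd g) := ((Commute.refl g).pow_left (p ^ a)).map toEnd
  have hAig : Commute Ai (toEnd g) := ((Commute.refl g).pow_left (p ^ a)).inv_left.map toEnd
  set N : Module.End F V := toEnd h - 1 with hNdef
  have hNnil : IsNilpotent N := ⟨p ^ a, by
    rw [hNdef, sub_pow_char_pow_of_commute (p := p) _ (Commute.one_right _), one_pow, ← map_pow, hha, map_one, sub_self]⟩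
  have hNA : Commute N A :=
    ((((Commute.refl g).pow_pow o' (p ^ a))).map toEnd).sub_left (Commute.one_left _)
  -- small semisimple part
  by_cases hs1 : s = 1
  · right; left
    have h4 : h ^ (p ^ Nat.clog p (2 * n)) = 1 := toEnd_injective (by
      rw [map_pow, map_one]
      refine pow_nilpotent_bound (l := 2 * n) _ ?_ (Nat.le_pow_clog hp.one_lt _)
      have hc := LinearMap.aeval_self_charpoly N
      rwa [IsNilpotent.charpoly_eq_X_pow_finrank hNnil, map_pow, aeval_X, hV, ← two_mul] at hc)
    simpa using hcomb 1 _ (by rw [hs1, one_pow]) h4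
  have hadj : ∀ (P : F[X]) x y, B (aeval A P x) y = B x (aeval Ai P y) := by
    intro P
    induction P using Polynomial.induction_on with
    | C c =>
      intro x y
      simp
    | add P P' hP hP' =>
      intro x y
      simp [hP, hP']
    | monomial i c ih =>
      intro x y
      rw [pow_succ, ← mul_assoc, map_mul (aeval _) _ X, map_mul (aeval _) _ X, aeval_X, aeval_X, Module.End.mul_apply,
        Module.End.mul_apply, ih]
      have e1 : ∀ u v, B (A u) v = B u (Ai v) := fun u v => by
        have h1 := s.2 u ((s⁻¹).1 v)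
        rw [show s.1 ((s⁻¹).1 v) = v from s.1.apply_symm_apply v] at h1
        exact h1
      rw [e1]
      congr 1
      have key := congrArg (aeval Ai) (mul_comm X (C c * X ^ i))
      rw [map_mul (aeval Ai) X, map_mul (aeval Ai) _ X, aeval_X] at key
      exact LinearMap.congr_fun key y
  have hsep : (X ^ o' - C (1 : F)).Separable := separable_X_pow_sub_C 1 hoF one_ne_zero
  set μ := minpoly F A with hμ
  have hint : IsIntegral F A := Algebra.IsIntegral.isIntegral A
  have hμd : μ ∣ X ^ o' - C 1 := minpoly.dvd F A (by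
    rw [map_sub, map_pow, aeval_X, aeval_C, map_one (algebraMap F (Module.End F V)), ← map_pow, hso, map_one toEnd,
      sub_self])
  have hμi : aeval Ai μ = 0 := LinearMap.ext fun y => hN.2 _ fun x => by
    rw [← hadj, hμ, minpoly.aeval, LinearMap.zero_apply, map_zero, LinearMap.zero_apply]
  obtain ⟨f, hfm, hf, hfμ⟩ := Polynomial.exists_monic_irreducible_factor μ (minpoly.not_isUnit F A)
  obtain ⟨r, hr⟩ := hfμ
  by_cases hru : IsUnit r
  · have hfA : aeval A f = 0 := by
      obtain ⟨r', hr'⟩ := hru
      have : aeval A μ = 0 := minpoly.aeval F A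
      rw [hr, ← hr', map_mul] at this
      exact (((r'.isUnit).map (aeval A)).mul_left_eq_zero).1 this
    have hfAi : aeval Ai f = 0 := by
      obtain ⟨r', hr'⟩ := hru
      rw [hr, ← hr', map_mul] at hμi
      exact (((r'.isUnit).map (aeval Ai)).mul_left_eq_zero).1 hμi
    obtain ⟨hD0, l, hl, -, hnl, hdual⟩ := irreducible_facts A Ai hAAi hf hfA
    rcases hdual hfAi with h22 | ⟨d, hd, hAd⟩
    · refine absurd ?_ hs1
      rw [hAdef, ← map_pow] at h22
      have h22' : s ^ 2 = 1 := toEnd_injective (h22.trans (map_one _).symm)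
      have hco : Nat.Coprime 2 o' := ho'odd.coprime_two_left
      simpa [hco.gcd_eq_one] using pow_gcd_eq_one.mpr ⟨h22', hso⟩
    have hsd : s ^ (Fintype.card F ^ d + 1) = 1 := toEnd_injective (by rw [map_pow, map_one]; exact hAd)
    have hhl : ∀ k, l ≤ p ^ k → h ^ (p ^ k) = 1 := fun k hk => toEnd_injective (by
      rw [map_pow, map_one]; exact pow_nilpotent_bound _ (hnl N hNA hNnil) hk)
    rw [hd, hV] at hl
    have hdl : d * l = n := by nlinarith
    rcases Nat.lt_or_ge l 2 with hl2 | hl2
    · obtain rfl : l = 1 := by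
        rcases Nat.eq_zero_or_pos l with h0 | h0
        · rw [h0, mul_zero] at hdl; omega
        · omega
      rw [mul_one] at hdl
      subst hdl
      right; right; left
      simpa using hcomb _ 0 hsd (hhl 0 (by simp))
    · right; right; right; right
      have hd1 : 1 ≤ d := by omega
      have hdn : d < n := by nlinarith
      refine ⟨d, Nat.clog p l, hd1, hdn, Nat.clog_mono_right _ ?_, Or.inl
        (hcomb _ _ hsd (hhl _ (Nat.le_pow_clog hp.one_lt l)))⟩
      have : l + d ≤ n + 1 := by nlinarith
      omega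
  -- two factors
  have hμsf : Squarefree μ := hsep.squarefree.squarefree_of_dvd hμd
  have hcop : IsCoprime f r := by
    refine hf.coprime_iff_not_dvd.2 fun hd => ?_
    exact hf.not_isUnit (hμsf f (by rw [hr]; exact mul_dvd_mul_left f hd))
  obtain ⟨a₁, b₁, hab⟩ := hcop
  set E := b₁ * r with hE
  have hEE : μ ∣ E * E - E := ⟨-(a₁ * b₁), by rw [hE, hr]; linear_combination (b₁ * r) * hab⟩
  have haev : ∀ P : F[X], μ ∣ P → aeval A P = 0 ∧ aeval Ai P = 0 := by
    rintro P ⟨c, rfl⟩
    rw [map_mul, map_mul, hμ, minpoly.aeval, ← hμ, hμi, zero_mul, zero_mul]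
    exact ⟨rfl, rfl⟩
  set e := aeval A E with hedef
  set e' := aeval Ai E with he'def
  have hee : e * e = e := by
    have := (haev _ hEE).1
    rwa [map_sub, map_mul, sub_eq_zero] at this
  have hee' : e' * e' = e' := by
    have := (haev _ hEE).2
    rwa [map_sub, map_mul, sub_eq_zero] at this
  have he0 : e ≠ 0 := fun h0 => by
    have hd := minpoly.dvd F A h0
    rw [← hμ] at hd
    have h1 : f ∣ E := dvd_trans ⟨r, hr⟩ hd
    have h3 : f ∣ (1 : F[X]) := by rw [← hab]; exact dvd_add (dvd_mul_left f a₁) h1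
    exact hf.not_isUnit (isUnit_of_dvd_one h3)
  have he1 : e ≠ 1 := fun h0 => by
    have hd := minpoly.dvd F A (p := E - 1) (by rw [map_sub, map_one, ← hedef, h0, sub_self])
    rw [← hμ] at hd
    have h1 : r ∣ E - 1 := dvd_trans ⟨f, by rw [hr, mul_comm]⟩ hd
    have h3 : r ∣ (1 : F[X]) := by
      have := dvd_sub (dvd_mul_left r b₁) h1
      rwa [← hE, sub_sub_cancel] at this
    exact hru (isUnit_of_dvd_one h3)
  have heg : Commute e (toEnd g) := by
    rw [hedef]
    induction E using Polynomial.induction_on' with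
    | add P P' hP hP' => rw [map_add]; exact hP.add_left hP'
    | monomial i c => rw [aeval_monomial]; exact (Algebra.commute_algebraMap_left c _).mul_left (hAg.pow_left i)
  have he'g : Commute e' (toEnd g) := by
    rw [he'def]
    induction E using Polynomial.induction_on' with
    | add P P' hP hP' => rw [map_add]; exact hP.add_left hP'
    | monomial i c => rw [aeval_monomial]; exact (Algebra.commute_algebraMap_left c _).mul_left (hAig.pow_left i)
  have hcomm : Commute e e' := by
    have hAAi' : Commute A Ai := ((Commute.refl s).inv_right).map toEnd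
    have h1 : Commute e Ai := by
      rw [hedef]
      induction E using Polynomial.induction_on' with
      | add P P' hP hP' => rw [map_add]; exact hP.add_left hP'
      | monomial i c => rw [aeval_monomial]; exact (Algebra.commute_algebraMap_left c _).mul_left (hAAi'.pow_left i)
    rw [he'def]
    induction E using Polynomial.induction_on' with
    | add P P' hP hP' => rw [map_add]; exact hP.add_right hP'
    | monomial i c => rw [aeval_monomial]; exact (Algebra.commute_algebraMap_right c _).mul_right (h1.pow_right i)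
  have hadj1 : ∀ x y, B (e x) y = B x (e' y) := hadj E
  have hadj2 : ∀ x y, B (e' x) y = B x (e y) := fun x y => by
    rw [← hA.neg, ← hadj1, hA.neg]
  by_cases hc1 : e * e' ≠ 0 ∧ e * e' ≠ 1
  · left
    refine exists_involution h2 g (e * e') ?_ (fun x y => ?_) (heg.mul_left he'g) hc1.1 hc1.2
    · rw [hcomm.symm.mul_mul_mul_comm, hee, hee']
    · show B (e (e' x)) y = B x (e (e' y))
      rw [hadj1, hadj2]
  by_cases hc2 : e + e' - e * e' ≠ 0 ∧ e + e' - e * e' ≠ 1
  · left
    refine exists_involution h2 g (e + e' - e * e') ?_ (fun x y => ?_)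
      ((heg.add_left he'g).sub_left (heg.mul_left he'g)) hc2.1 hc2.2
    · have h3 : IsIdempotentElem ((1 - e) * (1 - e')) :=
        (IsIdempotentElem.one_sub hee).mul_of_commute
          (((Commute.one_left _).sub_left ((Commute.one_right e).sub_right hcomm))) (IsIdempotentElem.one_sub hee')
      have h4 : e + e' - e * e' = 1 - (1 - e) * (1 - e') := by
        rw [sub_mul, one_mul, mul_sub, mul_one]; abel
      rw [h4]
      exact h3.one_sub
    · show B (e x + e' x - e (e' x)) y = B x (e y + e' y - e (e' y))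
      simp only [map_sub, map_add, LinearMap.sub_apply, LinearMap.add_apply, hadj1, hadj2]
      rw [show e (e' y) = e' (e y) from LinearMap.congr_fun hcomm.eq y]
      abel
  -- totally isotropic halves
  have hc1' : e * e' = 0 := by
    by_contra h0
    have h1 : e * e' = 1 := by
      by_contra h1; exact hc1 ⟨h0, h1⟩
    apply he1
    calc e = e * (e * e') := by rw [h1, mul_one]
      _ = 1 := by rw [← mul_assoc, hee, h1]
  have hc2' : e + e' = 1 := by
    rw [hc1', sub_zero] at hc2
    by_contra h1
    have h0 : e + e' = 0 := by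
      by_contra h0; exact hc2 ⟨h0, h1⟩
    apply he0
    calc e = e * (e + e') := by rw [mul_add, hee, hc1', add_zero]
      _ = 0 := by rw [h0, mul_zero]
  set W := LinearMap.range e with hW
  set W' := LinearMap.range e' with hW'
  have hiso : ∀ x ∈ W, ∀ y ∈ W, B x y = 0 := by
    rintro _ ⟨x, rfl⟩ _ ⟨y, rfl⟩
    rw [hadj1, ← Module.End.mul_apply, ← hcomm.eq, hc1', LinearMap.zero_apply, map_zero]
  have hiso' : ∀ x ∈ W', ∀ y ∈ W', B x y = 0 := by
    rintro _ ⟨x, rfl⟩ _ ⟨y, rfl⟩
    rw [hadj2, ← Module.End.mul_apply, hc1', LinearMap.zero_apply, map_zero]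
  have hdec : ∀ x, e x + e' x = x := fun x => LinearMap.congr_fun hc2' x
  have hpair : ∀ y ∈ W', (∀ w ∈ W, B w y = 0) → y = 0 := fun y hy hall => hN.2 y fun x => by
    rw [← hdec x, map_add, LinearMap.add_apply, hall _ (LinearMap.mem_range_self e x),
      hiso' _ (LinearMap.mem_range_self e' x) _ hy, add_zero]
  have hpair' : ∀ w ∈ W, (∀ y ∈ W', B w y = 0) → w = 0 := fun w hw hall => hN.1 w fun x => by
    rw [← hdec x, map_add, hiso _ hw _ (LinearMap.mem_range_self e x), hall _ (LinearMap.mem_range_self e' x),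
      add_zero]
  have hWn : finrank F W = n := by
    have hle1 : finrank F W' ≤ finrank F W := by
      rw [← Subspace.dual_finrank_eq (V := W)]
      refine LinearMap.finrank_le_finrank_of_injective (f := (B.compl₁₂ W.subtype W'.subtype).flip) ?_
      rw [injective_iff_map_eq_zero]
      intro y hy
      exact Subtype.ext (hpair y y.2 fun w hw => LinearMap.congr_fun hy ⟨w, hw⟩)
    have hle2 : finrank F W ≤ finrank F W' := by
      rw [← Subspace.dual_finrank_eq (V := W')]
      refine LinearMap.finrank_le_finrank_of_injective (f := B.compl₁₂ W.subtype W'.subtype) ?_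
      rw [injective_iff_map_eq_zero]
      intro w hw
      exact Subtype.ext (hpair' w w.2 fun y hy => LinearMap.congr_fun hw ⟨y, hy⟩)
    have hc : IsCompl W W' := by
      refine IsCompl.of_eq ?_ (eq_top_iff.2 fun x _ => hdec x ▸
        Submodule.add_mem_sup (LinearMap.mem_range_self e x) (LinearMap.mem_range_self e' x))
      rw [Submodule.eq_bot_iff]
      rintro _ ⟨⟨x, rfl⟩, y, hy⟩
      rw [← Module.End.one_apply (R := F) (e x), ← hc2', LinearMap.add_apply, ← Module.End.mul_apply, hee,
        ← Module.End.mul_apply, ← hcomm.eq, hc1', LinearMap.zero_apply, add_zero, ← LinearMap.congr_fun hee x]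
      show e (e x) = 0
      rw [← hy, ← Module.End.mul_apply, hc1', LinearMap.zero_apply]
    have := Submodule.finrank_add_eq_of_isCompl hc
    omega
  have hker : ∀ k : isomGroup B, Commute e' (toEnd k) → (∀ w ∈ W, k.1 w = w) → k = 1 := by
    intro k hk' hfix
    refine (eq_one_iff_forall k).2 fun x => ?_
    rw [← hdec x, map_add, hfix _ (LinearMap.mem_range_self e x)]
    congr 1
    refine sub_eq_zero.1 (hpair _ ?_ fun w hw => ?_)
    · exact Submodule.sub_mem _ ⟨k.1 x, LinearMap.congr_fun hk'.eq x⟩ (LinearMap.mem_range_self e' x)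
    · rw [map_sub]
      nth_rw 1 [← hfix w hw]
      rw [k.2 w (e' x), sub_self]
  have hgW : ∀ i, ∀ w ∈ W, toEnd (g ^ i) w ∈ W := by
    rintro i _ ⟨x, rfl⟩
    rw [map_pow, ← Module.End.mul_apply, ← (heg.pow_right i).eq]
    exact ⟨_, rfl⟩
  haveI : Nontrivial W := Module.nontrivial_of_finrank_pos (R := F) (by omega)
  let res : ∀ i, Module.End F W := fun i => (toEnd (g ^ i)).restrict (hgW i)
  have hres_mul : ∀ i j, res (i + j) = res i * res j := fun i j => LinearMap.ext fun w => Subtype.ext (by
    show toEnd (g ^ (i + j)) w.1 = toEnd (g ^ i) (toEnd (g ^ j) w.1)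
    rw [pow_add, map_mul]; rfl)
  have hres_zero : res 0 = 1 := LinearMap.ext fun w => Subtype.ext (by
    show toEnd (g ^ 0) w.1 = w.1
    rw [pow_zero, map_one]; rfl)
  have hres_pow : ∀ i j, res i ^ j = res (i * j) := by
    intro i j
    induction j with
    | zero => rw [pow_zero, mul_zero, hres_zero]
    | succ j ih => rw [pow_succ, ih, ← hres_mul, mul_add, mul_one]
  have hresfix : ∀ i, res i = 1 → g ^ i = 1 := fun i hi =>
    hker _ (by rw [map_pow]; exact he'g.pow_right i) fun w hw =>
      congrArg Subtype.val (LinearMap.congr_fun hi ⟨w, hw⟩)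
  set AW := res (p ^ a) with hAW
  set AWi := res (p ^ a * (o' - 1)) with hAWi
  have hAWAWi : AW * AWi = 1 := by
    rw [hAW, hAWi, ← hres_mul, show p ^ a + p ^ a * (o' - 1) = p ^ a * o' by
      rw [Nat.mul_sub, mul_one, Nat.add_sub_cancel' (Nat.le_mul_of_pos_right _ ho'odd.pos)]]
    refine LinearMap.ext fun w => Subtype.ext ?_
    show toEnd (g ^ (p ^ a * o')) w.1 = w.1
    rw [hgo, map_one]; rfl
  have hAWf : aeval AW f = 0 := by
    have hint' : ∀ (P : F[X]) (w : W), ((aeval AW P w : W) : V) = aeval A P w.1 := by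
      intro P
      induction P using Polynomial.induction_on with
      | C c => intro w; simp
      | add P P' hP hP' => intro w; simp [hP, hP']
      | monomial i c ih =>
        intro w
        rw [pow_succ, ← mul_assoc, map_mul (aeval _) _ X, map_mul (aeval _) _ X, aeval_X, aeval_X, Module.End.mul_apply,
          Module.End.mul_apply, ih]
        rfl
    refine LinearMap.ext fun w => Subtype.ext ?_
    obtain ⟨x, hx⟩ := w.2
    rw [hint', ← hx, hedef, ← Module.End.mul_apply, ← map_mul,
      (haev (f * E) ⟨b₁, by rw [hE, hr]; ring⟩).1]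
    rfl
  obtain ⟨hD0, l, hl, hAD, hnl, -⟩ := irreducible_facts AW AWi hAWAWi hf hAWf
  set D := f.natDegree
  rw [hWn] at hl
  have hsD : s ^ (Fintype.card F ^ D - 1) = 1 := by
    rw [hs, ← pow_mul]; exact hresfix _ (by rw [← hres_pow, ← hAW, hAD])
  haveI : CharP (Module.End F W) p :=
    charP_of_injective_algebraMap (algebraMap F (Module.End F W)).injective p
  have hhl : ∀ k, l ≤ p ^ k → h ^ (p ^ k) = 1 := fun k hk => by
    rw [hh, ← pow_mul]
    apply hresfix
    rw [← hres_pow]
    refine pow_nilpotent_bound _ (hnl (res o' - 1) ?_ ?_) hk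
    · exact Commute.sub_left (by
        show res o' * res (p ^ a) = res (p ^ a) * res o'
        rw [← hres_mul, ← hres_mul, add_comm]) (Commute.one_left _)
    · refine ⟨p ^ a, ?_⟩
      rw [sub_pow_char_pow_of_commute (p := p) _ (Commute.one_right _), one_pow, hres_pow, sub_eq_zero]
      refine LinearMap.ext fun w => Subtype.ext ?_
      show toEnd (g ^ (o' * p ^ a)) w.1 = w.1
      rw [mul_comm, hgo, map_one]; rfl
  rcases Nat.lt_or_ge l 2 with hl2 | hl2
  · obtain rfl : l = 1 := by
      rcases Nat.eq_zero_or_pos l with h0 | h0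
      · rw [h0, mul_zero] at hl; omega
      · omega
    rw [mul_one] at hl
    rw [hl] at hsD
    right; right; right; left
    simpa using hcomb _ 0 hsD (hhl 0 (by simp))
  · right; right; right; right
    have hdn : D < n := by nlinarith
    refine ⟨D, Nat.clog p l, hD0, hdn, Nat.clog_mono_right _ ?_, Or.inr
      (hcomb _ _ hsD (hhl _ (Nat.le_pow_clog hp.one_lt l)))⟩
    have : l + D ≤ n + 1 := by nlinarith
    omega

end Isometry

end CfsgLib.Classical.SympDichotomy
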