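import Cfsg.Agent.Lib.Classical.SympSimple
import Cfsg.Agent.Lib.Classical.SympMatrix
import Cfsg.Prelude.Def_GeometricClasses

/-!
# Maximality of subspace stabilisers in symplectic groups
-/

set_option autoImplicit false
set_option linter.unusedSectionVars false

open Module

namespace CfsgLib.Classical

variable {F : Type*} [Field F] {V : Type*} [AddCommGroup V] [Module F V] [FiniteDimensional F V]
  {B : V →ₗ[F] V →ₗ[F] F}

/-- `v` is an axis of `M` when `M` contains all transvections along `v`. -/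
def IsAxis (hA : B.IsAlt) (M : Subgroup (isomGroup B)) (v : V) : Prop := ∀ c, tv hA v c ∈ M

theorem IsAxis.map {hA : B.IsAlt} {M : Subgroup (isomGroup B)} {v : V} (h : IsAxis hA M v)
    {g : isomGroup B} (hg : g ∈ M) : IsAxis hA M (g.1 v) := fun c => by
  rw [← conj_tv]
  exact M.mul_mem (M.mul_mem hg (h c)) (M.inv_mem hg)

theorem IsAxis.smul {hA : B.IsAlt} {M : Subgroup (isomGroup B)} {v : V} (h : IsAxis hA M v) (a : F) :
    IsAxis hA M (a • v) := fun c => by rw [tv_smul]; exact h _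

theorem IsAxis.add {hA : B.IsAlt} {M : Subgroup (isomGroup B)} {a b : V} (ha : IsAxis hA M a)
    (hb : IsAxis hA M b) (h : B b a ≠ 0) (t : F) : IsAxis hA M (b + t • a) := by
  have := hb.map (ha (t / B b a))
  rwa [tv_apply, div_mul_cancel₀ _ h] at this

theorem eq_top_of_isAxis (hA : B.IsAlt) (hN : B.Nondegenerate) {M : Subgroup (isomGroup B)}
    (h : ∀ v, IsAxis hA M v) : M = ⊤ := by
  rw [eq_top_iff, ← tvGroup_eq_top hA hN]
  refine (Subgroup.closure_le _).2 ?_
  rintro _ ⟨v, c, rfl⟩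
  exact h v c

theorem isomStab_of_le {W : Submodule F V} {g : isomGroup B} (h : ∀ x ∈ W, g.1 x ∈ W) :
    g ∈ isomStab B W := by
  rw [mem_isomStab]
  exact Submodule.eq_of_le_of_finrank_eq (by rintro _ ⟨x, hx, rfl⟩; exact h x hx)
    (Submodule.equivMapOfInjective _ g.1.injective W).finrank_eq.symm

theorem isAxis_of_mem (hA : B.IsAlt) {W : Submodule F V} {M : Subgroup (isomGroup B)}
    (hM : isomStab B W ≤ M) {v : V} (hv : v ∈ W ∨ v ∈ perp B W) : IsAxis hA M v := fun c =>
  hM (isomStab_of_le fun x hx => by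
    rw [tv_apply]
    rcases hv with hv | hv
    · exact W.add_mem hx (W.smul_mem _ hv)
    · rw [mem_perp.1 hv x hx, mul_zero, zero_smul, add_zero]; exact hx)

theorem top_of_stab_nondeg (hA : B.IsAlt) (hN : B.Nondegenerate) {W : Submodule F V}
    (hW : NondegOn B W) (hdim : 2 * finrank F W < finrank F V) {M : Subgroup (isomGroup B)}
    (hM : isomStab B W ≤ M) {g : isomGroup B} (hg : g ∈ M) (hgW : g ∉ isomStab B W) : M = ⊤ := by
  have hU : NondegOn B (perp B W) := nondegOn_perp hN.2 hW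
  have hc := hW.isCompl
  have hfr := hW.finrank_perp
  obtain ⟨w, u, hw, hu, hwu⟩ : ∃ (w : W) (u : perp B W), w ≠ 0 ∧ u ≠ 0 ∧ IsAxis hA M ((w : V) + u) := by
    by_contra hno
    push Not at hno
    have hsplit : ∀ x, IsAxis hA M x → x ∈ W ∨ x ∈ perp B W := fun x hx => by
      obtain ⟨w, u, rfl⟩ := exists_add_eq hc x
      by_cases hw : w = 0
      · right; simp [hw]
      by_cases hu : u = 0
      · left; simp [hu]
      exact absurd hx (hno w u hw hu)
    have himg : ∀ (X : Submodule F V), (∀ x ∈ X, x ∈ W ∨ x ∈ perp B W) →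
        X.map (g.1 : V →ₗ[F] V) ≤ W ∨ X.map (g.1 : V →ₗ[F] V) ≤ perp B W := by
      intro X hX
      by_contra hcon
      push Not at hcon
      obtain ⟨a, ha, haW⟩ := SetLike.not_le_iff_exists.1 hcon.1
      obtain ⟨b, hb, hbU⟩ := SetLike.not_le_iff_exists.1 hcon.2
      have hmem : ∀ y ∈ X.map (g.1 : V →ₗ[F] V), y ∈ W ∨ y ∈ perp B W := by
        rintro _ ⟨x, hx, rfl⟩
        exact hsplit _ ((isAxis_of_mem hA hM (hX x hx)).map hg)
      have haU := (hmem a ha).resolve_left haW
      have hbW := (hmem b hb).resolve_right hbU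
      rcases hmem (a + b) (add_mem ha hb) with h | h
      · exact haW (by simpa using sub_mem h hbW)
      · exact hbU (by simpa using sub_mem h haU)
    have hWimg := himg W fun x hx => Or.inl hx
    have hUimg := himg (perp B W) fun x hx => Or.inr hx
    have hfinU : finrank F ((perp B W).map (g.1 : V →ₗ[F] V)) = finrank F (perp B W) :=
      (Submodule.equivMapOfInjective _ g.1.injective _).finrank_eq.symm
    rcases hUimg with h | h
    · have := Submodule.finrank_mono h
      omega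
    · have heq := Submodule.eq_of_le_of_finrank_eq h hfinU
      apply hgW
      rw [mem_isomStab]
      have h2 := map_perp g.2 (perp B W)
      rwa [heq, perp_perp_eq hA.isRefl hN.2] at h2
  refine eq_top_of_isAxis hA hN fun x => ?_
  obtain ⟨w', u', rfl⟩ := exists_add_eq hc x
  by_cases hw' : w' = 0
  · exact isAxis_of_mem hA hM (Or.inr (by simp [hw']))
  by_cases hu' : u' = 0
  · exact isAxis_of_mem hA hM (Or.inl (by simp [hu']))
  obtain ⟨a, -, ha⟩ := tv_transitive (restrictForm_isAlt hA W)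
    (restrictForm_nondegenerate hA.isRefl hW).1 hw hw'
  obtain ⟨b, -, hb⟩ := tv_transitive (restrictForm_isAlt hA (perp B W))
    (restrictForm_nondegenerate hA.isRefl hU).1 hu hu'
  let s := isomStabEquiv hA.isRefl hW (a, b)
  have hs : (s.1).1 ((w : V) + u) = (w' : V) + u' := by
    rw [← ha, ← hb]
    exact sumEquiv_apply hc _ _ w u
  rw [← hs]
  exact hwu.map (hM s.2)

theorem top_of_stab_isotropic (hA : B.IsAlt) (hN : B.Nondegenerate) {W : Submodule F V}
    (hW : ∀ a ∈ W, ∀ b ∈ W, B a b = 0) {M : Subgroup (isomGroup B)}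
    (hM : isomStab B W ≤ M) {g : isomGroup B} (hg : g ∈ M) (hgW : g ∉ isomStab B W) : M = ⊤ := by
  have hperp : ∀ v ∈ perp B W, IsAxis hA M v := fun v hv => isAxis_of_mem hA hM (Or.inr hv)
  have hle : W ≤ perp B W := fun x hx => mem_perp.2 fun w hw => hW w hw x hx
  have coset : ∀ u, IsAxis hA M u → u ∉ perp B W → ∀ a ∈ perp B W, IsAxis hA M (u + a) := by
    intro u hu hun a ha
    rw [mem_perp] at hun
    push Not at hun
    obtain ⟨w, hw, hwu⟩ := hun
    have huw : B u w ≠ 0 := fun h => hwu (hA.isRefl _ _ h)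
    have haw : B a w = 0 := hA.isRefl _ _ (mem_perp.1 ha w hw)
    -- shift by a multiple of `w` so that the pairing with `u` does not vanish
    obtain ⟨t, ht⟩ : ∃ t : F, B u (a + t • w) ≠ 0 := by
      by_cases h : B u a = 0
      · exact ⟨1, by simp [h, huw]⟩
      · exact ⟨0, by simp [h]⟩
    have h1 : IsAxis hA M (u + (a + t • w)) := by
      have := (hperp (a + t • w) (add_mem ha ((perp B W).smul_mem _ (hle hw)))).add hu ht 1
      simpa using this
    have h2 : IsAxis hA M (u + (a + t • w) + (-t) • w) := by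
      refine (hperp w (hle hw)).add h1 ?_ _
      simp [huw, haw, hA w]
    rwa [show u + (a + t • w) + (-t) • w = u + a by module] at h2
  obtain ⟨u, hu, hun⟩ : ∃ u, IsAxis hA M u ∧ u ∉ perp B W := by
    by_contra hc
    push Not at hc
    apply hgW
    have h : (perp B W).map (g.1 : V →ₗ[F] V) ≤ perp B W := by
      rintro _ ⟨x, hx, rfl⟩
      exact hc _ ((hperp x hx).map hg)
    have heq := Submodule.eq_of_le_of_finrank_eq h
      (Submodule.equivMapOfInjective _ g.1.injective _).finrank_eq.symm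
    rw [mem_isomStab]
    have h2 := map_perp g.2 (perp B W)
    rwa [heq, perp_perp_eq hA.isRefl hN.2] at h2
  refine eq_top_of_isAxis hA hN fun v => ?_
  by_cases hvp : v ∈ perp B W
  · exact hperp v hvp
  by_cases hsp : ∃ (a : F) (b : V), b ∈ perp B W ∧ v = a • u + b
  · obtain ⟨a, b, hb, rfl⟩ := hsp
    have ha : a ≠ 0 := fun ha => hvp (by simpa [ha] using hb)
    have := (coset u hu hun (a⁻¹ • b) ((perp B W).smul_mem _ hb)).smul a
    rwa [smul_add, smul_smul, mul_inv_cancel₀ ha, one_smul] at this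
  push Not at hsp
  have huX : u ∉ perp B W ⊔ Submodule.span F {v - u} := by
    intro h
    obtain ⟨b, hb, z, hz, hbz⟩ := Submodule.mem_sup.1 h
    obtain ⟨c, rfl⟩ := Submodule.mem_span_singleton.1 hz
    rcases eq_or_ne c 0 with rfl | hc
    · exact hun (by rw [← hbz]; simpa using hb)
    · refine hsp ((1 + c) / c) (-(c⁻¹ • b)) (neg_mem ((perp B W).smul_mem _ hb)) ?_
      have hb' : b = u - c • (v - u) := eq_sub_of_add_eq hbz
      rw [hb']
      match_scalars <;> field_simp <;> ring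
  obtain ⟨z, hz, huz⟩ := exists_perp_not_orth hN.2 huX
  rw [perp_sup, Submodule.mem_inf, perp_perp_eq hA.isRefl hN.2] at hz
  have horth : B z (v - u) = 0 :=
    hA.isRefl _ _ (mem_perp.1 hz.2 _ (Submodule.mem_span_singleton_self _))
  have hs : sv hA z (v - u) (B u z)⁻¹ ∈ M := hM (isomStab_of_le fun y hy => by
    rw [sv_apply hA horth, hW y hy z hz.1, zero_smul, zero_add]
    exact W.add_mem hy (W.smul_mem _ (W.smul_mem _ hz.1)))
  have h1 := hu.map hs
  rw [sv_apply hA horth, smul_add, smul_smul, smul_smul, inv_mul_cancel₀ huz, one_smul] at h1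
  have hbz : (-((B u z)⁻¹ * B u (v - u))) • z ∈ perp B W := (perp B W).smul_mem _ (hle hz.1)
  have h2 := coset _ h1 (fun hh => hvp ?_) _ hbz
  · rwa [show u + ((v - u) + ((B u z)⁻¹ * B u (v - u)) • z) + (-((B u z)⁻¹ * B u (v - u))) • z = v
      by module] at h2
  · have := add_mem hh hbz
    rwa [show u + ((v - u) + ((B u z)⁻¹ * B u (v - u)) • z) + (-((B u z)⁻¹ * B u (v - u))) • z = v
      by module] at this

section Matrix

open Matrix

variable (m : ℕ)

/-- Transfer of maximality from the isometry group to `spGL`. -/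
theorem spGL_isMaximalIn (W : Submodule F (Fin m ⊕ Fin m → F)) (h0 : W ≠ ⊥) (h1 : W ≠ ⊤)
    (hmax : ∀ M : Subgroup (isomGroup (sympBil F m)), isomStab (sympBil F m) W ≤ M →
      ∀ g ∈ M, g ∉ isomStab (sympBil F m) W → M = ⊤) :
    Cfsg.Geo.IsMaximalIn (Cfsg.spGL m F) (Cfsg.Geo.subspaceStabilizer W ⊓ Cfsg.spGL m F) := by
  let ψ : isomGroup (sympBil F m) →* GL (Fin m ⊕ Fin m) F :=
    (Cfsg.spGL m F).subtype.comp ((spEquiv (F := F) m).symm.trans (spGLEquiv m)).toMonoidHom
  have hψ : ∀ g x, (ψ g : Matrix (Fin m ⊕ Fin m) (Fin m ⊕ Fin m) F) *ᵥ x = g.1 x := fun g x => by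
    change ((spEquiv (F := F) m).symm g).1 *ᵥ x = _
    rw [← spEquiv_apply, MulEquiv.apply_symm_apply]
  have hψs : ∀ t ∈ Cfsg.spGL m F, ∃ g, ψ g = t := fun t ht =>
    ⟨((spEquiv (F := F) m).symm.trans (spGLEquiv m)).symm ⟨t, ht⟩, by
      simp only [ψ, MonoidHom.coe_comp, Function.comp_apply, MulEquiv.coe_toMonoidHom,
        MulEquiv.apply_symm_apply, Subgroup.coe_subtype]⟩
  have hstab : ∀ g, ψ g ∈ Cfsg.Geo.subspaceStabilizer W ↔ g ∈ isomStab (sympBil F m) W := by
    intro g
    constructor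
    · exact fun h => isomStab_of_le fun x hx => by rw [← hψ]; exact (h x).1 hx
    · intro h x
      rw [mem_isomStab] at h
      change x ∈ W ↔ (ψ g : Matrix (Fin m ⊕ Fin m) (Fin m ⊕ Fin m) F) *ᵥ x ∈ W
      rw [hψ]
      constructor
      · exact fun hx => h.le ⟨x, hx, rfl⟩
      · intro hx
        obtain ⟨y, hy, e⟩ := h.ge hx
        exact g.1.injective e ▸ hy
  refine ⟨lt_of_le_not_ge inf_le_right fun h => ?_, fun M hM hMS => ?_⟩
  · obtain ⟨w, hw, hw0⟩ := (Submodule.ne_bot_iff W).1 h0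
    obtain ⟨x, -, hx⟩ := SetLike.exists_of_lt h1.lt_top
    obtain ⟨g, -, hg⟩ := tv_transitive (sympBil_isAlt m) (sympBil_nondegenerate m).1 hw0
      (fun hx0 : x = 0 => hx (hx0 ▸ zero_mem W))
    exact hx (hg ▸ ((mem_isomStab.1 ((hstab g).1 (h (Subtype.prop _)).1)).le ⟨w, hw, rfl⟩))
  · by_cases hMW : M ≤ Cfsg.Geo.subspaceStabilizer W
    · exact Or.inl (le_antisymm (le_inf hMW hMS) hM)
    obtain ⟨t, ht, htW⟩ := SetLike.not_le_iff_exists.1 hMW
    obtain ⟨g, rfl⟩ := hψs t (hMS ht)
    have htop := hmax (M.comap ψ) (fun s hs => hM ⟨(hstab s).2 hs, Subtype.prop _⟩) g ht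
      fun h => htW ((hstab g).2 h)
    refine Or.inr (le_antisymm hMS fun s hs => ?_)
    obtain ⟨g', rfl⟩ := hψs s hs
    exact (htop ▸ Subgroup.mem_top g' : g' ∈ M.comap ψ)

end Matrix

end CfsgLib.Classical
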