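import Cfsg.Prelude.Def_Classical
import Cfsg.Agent.Lib.Classical.SympMatrix
import Mathlib

set_option autoImplicit false
set_option linter.unusedSectionVars false

/-!
Symplectic isometries of prescribed order: tori of order `q ^ m ± 1`, regular unipotent elements, orthogonal sums,
and the orders of their images in `PSp`.
-/

namespace CfsgLib.Classical.SympOrders

open Module CfsgLib.Classical

variable {F : Type*} [Field F]

/-- Any alternating space of dimension `2 m` is the standard one. -/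
theorem exists_transfer {V : Type*} [AddCommGroup V] [Module F V] [FiniteDimensional F V]
    {B : V →ₗ[F] V →ₗ[F] F} (hA : B.IsAlt) (hN : B.Nondegenerate) {m : ℕ} (hV : finrank F V = m + m) :
    ∃ e : V ≃ₗ[F] (Fin m ⊕ Fin m → F), ∀ x y, sympBil F m (e x) (e y) = B x y := by
  obtain ⟨m₁, b₁, hb₁⟩ := exists_sympBasis hA hN
  obtain ⟨m₂, b₂, hb₂⟩ := exists_sympBasis (sympBil_isAlt (F := F) m) (sympBil_nondegenerate m)
  have e1 := Module.finrank_eq_card_basis b₁
  have e2 := Module.finrank_eq_card_basis b₂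
  simp [hV] at e1 e2
  obtain rfl : m₁ = m := by omega
  obtain rfl : m₂ = m₁ := by omega
  exact ⟨b₁.equiv b₂ (Equiv.refl _), IsSympFamily.basisEquiv_mem hA (sympBil_isAlt _) b₁ b₂ hb₁ hb₂⟩

theorem pow_apply_of_semiconj {V W : Type*} [AddCommGroup V] [Module F V] [AddCommGroup W] [Module F W]
    {B : V →ₗ[F] V →ₗ[F] F} {C : W →ₗ[F] W →ₗ[F] F} (h : isomGroup B) (k : isomGroup C) (e : V → W)
    (he : ∀ x, k.1 (e x) = e (h.1 x)) : ∀ (i : ℕ) x, (k ^ i).1 (e x) = e ((h ^ i).1 x) := by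
  intro i
  induction i with
  | zero => intro x; simp
  | succ i ih =>
    intro x
    rw [pow_succ, pow_succ]
    show (k ^ i).1 (k.1 (e x)) = e ((h ^ i).1 (h.1 x))
    rw [he, ih]

theorem eq_one_iff_forall {V : Type*} [AddCommGroup V] [Module F V] {B : V →ₗ[F] V →ₗ[F] F} (h : isomGroup B) :
    h = 1 ↔ ∀ x, h.1 x = x :=
  ⟨fun e x => by rw [e]; rfl, fun e => Subtype.ext (LinearEquiv.ext e)⟩

/-- Orthogonal sums. -/
theorem exists_sum {m₁ m₂ : ℕ} (h₁ : isomGroup (sympBil F m₁)) (h₂ : isomGroup (sympBil F m₂)) :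
    ∃ h : isomGroup (sympBil F (m₁ + m₂)), ∀ i : ℕ, (h ^ i = 1 ↔ h₁ ^ i = 1 ∧ h₂ ^ i = 1) ∧
      ((∀ x, (h ^ i).1 x = -x) → (∀ x, (h₁ ^ i).1 x = -x) ∧ ∀ x, (h₂ ^ i).1 x = -x) := by
  let V := (Fin m₁ ⊕ Fin m₁ → F) × (Fin m₂ ⊕ Fin m₂ → F)
  let B : V →ₗ[F] V →ₗ[F] F := (sympBil F m₁).compl₁₂ (LinearMap.fst F _ _) (LinearMap.fst F _ _) +
    (sympBil F m₂).compl₁₂ (LinearMap.snd F _ _) (LinearMap.snd F _ _)
  have hB : ∀ u v : V, B u v = sympBil F m₁ u.1 v.1 + sympBil F m₂ u.2 v.2 := fun u v => rfl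
  have hA : B.IsAlt := fun v => by rw [hB, sympBil_isAlt m₁, sympBil_isAlt m₂, add_zero]
  have hN : B.Nondegenerate := by
    have h : B.SeparatingLeft := fun v hv => Prod.ext
      ((sympBil_nondegenerate m₁).1 _ fun y => by simpa [hB] using hv (y, 0))
      ((sympBil_nondegenerate m₂).1 _ fun y => by simpa [hB] using hv (0, y))
    exact ⟨h, fun x hx => h x fun y => hA.isRefl _ _ (hx y)⟩
  let g : isomGroup B := ⟨h₁.1.prodCongr h₂.1, fun u v => by
    show B (h₁.1 u.1, h₂.1 u.2) (h₁.1 v.1, h₂.1 v.2) = _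
    rw [hB, hB, h₁.2, h₂.2]⟩
  have hg : ∀ (i : ℕ) (v : V), (g ^ i).1 v = ((h₁ ^ i).1 v.1, (h₂ ^ i).1 v.2) := by
    intro i
    induction i with
    | zero => intro v; simp
    | succ i ih =>
      intro v
      rw [pow_succ, pow_succ, pow_succ]
      show (g ^ i).1 (h₁.1 v.1, h₂.1 v.2) = _
      rw [ih]; rfl
  obtain ⟨e, he⟩ := exists_transfer hA hN (m := m₁ + m₂) (by simp [V]; omega)
  let φ := isomGroupCongr e he
  refine ⟨φ g, fun i => ⟨?_, fun h => ?_⟩⟩
  · rw [← map_pow, MulEquiv.map_eq_one_iff, eq_one_iff_forall, eq_one_iff_forall, eq_one_iff_forall]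
    constructor
    · intro h
      exact ⟨fun x => congrArg Prod.fst ((hg i (x, 0)).symm.trans (h (x, 0))),
        fun x => congrArg Prod.snd ((hg i (0, x)).symm.trans (h (0, x)))⟩
    · intro h v
      rw [hg, h.1, h.2]
  · have hv : ∀ v : V, (g ^ i).1 v = -v := fun v => e.injective (by
      rw [← pow_apply_of_semiconj g (φ g) e (fun x => by simp [φ, isomGroupCongr]) i v, h, map_neg])
    exact ⟨fun x => congrArg Prod.fst ((hg i (x, 0)).symm.trans (hv (x, 0))),
      fun x => congrArg Prod.snd ((hg i (0, x)).symm.trans (hv (0, x)))⟩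

/-- Orders in `PSp`. -/
theorem exists_psp {m : ℕ} (h : isomGroup (sympBil F m)) {N : ℕ}
    (hN : ∀ i : ℕ, h ^ i = 1 ∨ (∀ x, (h ^ i).1 x = -x) → N ∣ i) :
    ∃ y : Cfsg.PSp m F, N ∣ orderOf y := by
  refine ⟨QuotientGroup.mk ((spEquiv m).symm h), hN _ ?_⟩
  set i := orderOf (QuotientGroup.mk ((spEquiv m).symm h) : Cfsg.PSp m F)
  have hc : ((spEquiv m).symm h) ^ i ∈ Subgroup.center (Matrix.symplecticGroup (Fin m) F) := by
    rw [← QuotientGroup.eq_one_iff, QuotientGroup.mk_pow]; exact pow_orderOf_eq_one _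
  rcases sp_center_eq m hc with h1 | h1
  · refine Or.inl ((eq_one_iff_forall _).2 fun x => ?_)
    have h3 := spEquiv_apply m (((spEquiv m).symm h) ^ i) x
    rwa [map_pow, MulEquiv.apply_symm_apply, h1, Matrix.one_mulVec] at h3
  · refine Or.inr fun x => ?_
    have h3 := spEquiv_apply m (((spEquiv m).symm h) ^ i) x
    rwa [map_pow, MulEquiv.apply_symm_apply, h1, Matrix.neg_mulVec, Matrix.one_mulVec] at h3

theorem exists_neg (h2 : (2 : F) ≠ 0) {m : ℕ} (hm : 1 ≤ m) :
    ∃ h : isomGroup (sympBil F m), ∀ i : ℕ, h ^ i = 1 ↔ 2 ∣ i := by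
  let h : isomGroup (sympBil F m) := ⟨LinearEquiv.neg F, fun x y => by simp⟩
  refine ⟨h, fun i => ?_⟩
  have hh : h * h = 1 := Subtype.ext (LinearEquiv.ext fun x => neg_neg x)
  have hne : h ≠ 1 := fun e => by
    have := (eq_one_iff_forall h).1 e (Pi.single (Sum.inl ⟨0, hm⟩) 1)
    have := congrFun this (Sum.inl ⟨0, hm⟩)
    simp [h] at this
    exact h2 (by linear_combination -this)
  rw [← orderOf_dvd_iff_pow_eq_one, orderOf_eq_prime (p := 2) (by rw [pow_two, hh]) hne]

variable [Fintype F] (p : ℕ) [Fact p.Prime] [CharP F p]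
include p

theorem odd_card (h2 : (2 : F) ≠ 0) : Odd (Fintype.card F) := by
  obtain ⟨k, hpp, hk⟩ := FiniteField.card F p
  rw [hk]
  refine (hpp.odd_of_ne_two ?_).pow
  rintro rfl
  exact h2 CharTwo.two_eq_zero

/-- The torus of order `q ^ m + 1`. -/
theorem exists_torus_minus (h2 : (2 : F) ≠ 0) {m : ℕ} (hm : 1 ≤ m) :
    ∃ h : isomGroup (sympBil F m), ∀ i : ℕ, h ^ i = 1 ↔ Fintype.card F ^ m + 1 ∣ i := by
  classical
  haveI : NeZero (2 * m) := ⟨by omega⟩
  let K := FiniteField.Extension F p (2 * m)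
  haveI : Fintype K := Fintype.ofFinite K
  have hK : finrank F K = 2 * m := FiniteField.finrank_extension F p (2 * m)
  haveI : FiniteDimensional F K := Module.finite_of_finrank_pos (by omega)
  have hqodd : Odd (Fintype.card F) := odd_card (p := p) h2
  have hq2 := Fintype.one_lt_card (α := F)
  set q := Fintype.card F with hq
  have hcardK : Fintype.card K = q ^ (2 * m) := by rw [Module.card_eq_pow_finrank (K := F), hK]
  set Q := q ^ m with hQ
  have hQ2 : 2 ≤ Q := le_trans hq2 (Nat.le_self_pow (by omega) q)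
  let σ : K ≃ₐ[F] K := (FiniteField.frobeniusAlgEquivOfAlgebraic F K) ^ m
  have hσ : ∀ x, σ x = x ^ Q := fun x => by
    show ((FiniteField.frobeniusAlgEquivOfAlgebraic F K) ^ m) x = _
    rw [AlgEquiv.coe_pow, FiniteField.coe_frobeniusAlgEquivOfAlgebraic, pow_iterate]
  obtain ⟨γ, hγ⟩ := IsCyclic.exists_ofOrder_eq_natCard (α := Kˣ)
  have hγord : orderOf γ = (Q - 1) * (Q + 1) := by
    rw [hγ, Nat.card_units, Nat.card_eq_fintype_card, hcardK, two_mul, pow_add, mul_comm (Q - 1),
      ← Nat.mul_self_sub_mul_self_eq, mul_one]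
  have hσσ : ∀ x, σ (σ x) = x := fun x => by
    rw [hσ, hσ, ← pow_mul, hQ, ← pow_add, ← two_mul, ← hcardK, FiniteField.pow_card]
  obtain ⟨i, hi⟩ : ∃ i, Q + 1 = 2 * i := (hqodd.pow.add_odd odd_one).two_dvd
  set β : K := ((γ ^ i : Kˣ) : K) with hβ
  have hβ0 : β ≠ 0 := Units.ne_zero _
  have hσβ : σ β = -β := by
    have h1 : ((γ ^ (i * (Q - 1)) : Kˣ) : K) ^ 2 = 1 := by
      rw [← Units.val_pow_eq_pow_val, ← pow_mul, show i * (Q - 1) * 2 = (Q - 1) * (Q + 1) by rw [hi]; ring,
        ← hγord, pow_orderOf_eq_one, Units.val_one]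
    have h2' : ((γ ^ (i * (Q - 1)) : Kˣ) : K) ≠ 1 := fun h => by
      have := Nat.le_of_dvd (Nat.mul_pos (by omega) (by omega)) (orderOf_dvd_of_pow_eq_one (Units.ext h))
      rw [hγord, hi] at this
      nlinarith [show 0 < i * (Q - 1) from Nat.mul_pos (by omega) (by omega)]
    have h3 := (sq_eq_one_iff.1 h1).resolve_left h2'
    rw [pow_mul, Units.val_pow_eq_pow_val, ← hβ] at h3
    calc σ β = β ^ (Q - 1 + 1) := by rw [hσ, Nat.sub_add_cancel (by omega)]
      _ = -β := by rw [pow_succ, h3]; ring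
  set ζ : K := ((γ ^ (Q - 1) : Kˣ) : K) with hζ
  have hζi : ∀ j : ℕ, ζ ^ j = 1 ↔ Q + 1 ∣ j := fun j => by
    rw [hζ, ← Units.val_pow_eq_pow_val, Units.val_eq_one, ← pow_mul, ← orderOf_dvd_iff_pow_eq_one, hγord]
    exact Nat.mul_dvd_mul_iff_left (by omega)
  have hζσ : ζ * σ ζ = 1 := by rw [hσ, ← pow_succ', hζi]
  let B : K →ₗ[F] K →ₗ[F] F := (Algebra.traceForm F K).compl₁₂ (LinearMap.mulLeft F β) σ.toLinearMap
  have hb : ∀ x y, B x y = Algebra.trace F K (β * x * σ y) := fun x y => rfl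
  have hBa : B.IsAlt := fun v => by
    have h1 : Algebra.trace F K (σ (β * v * σ v)) = Algebra.trace F K (β * v * σ v) :=
      Algebra.trace_eq_of_algEquiv σ _
    rw [map_mul σ, map_mul σ, hσβ, hσσ, show -β * σ v * v = -(β * v * σ v) by ring, map_neg] at h1
    rw [hb]
    exact (mul_eq_zero.1 (show (2 : F) * Algebra.trace F K (β * v * σ v) = 0 by linear_combination -h1)).resolve_left h2
  have hBn : B.Nondegenerate := by
    have h : B.SeparatingLeft := fun v hv => by
      have h4 : β * v = 0 := (traceForm_nondegenerate F K).1 _ fun y => by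
        have := hv (σ y)
        rw [hb, hσσ] at this
        rw [Algebra.traceForm_apply]; exact this
      exact (mul_eq_zero.1 h4).resolve_left hβ0
    exact ⟨h, fun x hx => h x fun y => hBa.isRefl _ _ (hx y)⟩
  let Z : K ≃ₗ[F] K :=
    { LinearMap.mulLeft F ζ with
      invFun := fun x => ζ⁻¹ * x
      left_inv := fun x => inv_mul_cancel_left₀ (Units.ne_zero _) x
      right_inv := fun x => mul_inv_cancel_left₀ (Units.ne_zero _) x }
  let g : isomGroup B := ⟨Z, fun x y => by
    show B (ζ * x) (ζ * y) = B x y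
    rw [hb, hb, map_mul σ, show β * (ζ * x) * (σ ζ * σ y) = (ζ * σ ζ) * (β * x * σ y) by ring, hζσ, one_mul]⟩
  have hpow : ∀ (j : ℕ) (x : K), (g ^ j).1 x = ζ ^ j * x := by
    intro j x
    induction j with
    | zero => simp
    | succ j ih =>
      rw [pow_succ', pow_succ']
      show ζ * (g ^ j).1 x = _
      rw [ih, mul_assoc]
  obtain ⟨e, he⟩ := exists_transfer hBa hBn (m := m) (by omega)
  refine ⟨isomGroupCongr e he g, fun j => ?_⟩
  rw [← map_pow, MulEquiv.map_eq_one_iff, ← hζi, eq_one_iff_forall]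
  exact ⟨fun h => (mul_one _).symm.trans ((hpow j 1).symm.trans (h 1)), fun h x => by rw [hpow, h, one_mul]⟩

/-- The torus of order `q ^ m - 1`. -/
theorem exists_torus_plus {m : ℕ} (hm : 1 ≤ m) :
    ∃ h : isomGroup (sympBil F m), ∀ i : ℕ, h ^ i = 1 ↔ Fintype.card F ^ m - 1 ∣ i := by
  classical
  haveI : NeZero m := ⟨by omega⟩
  let K := FiniteField.Extension F p m
  haveI : Fintype K := Fintype.ofFinite K
  have hK : finrank F K = m := FiniteField.finrank_extension F p m
  haveI : FiniteDimensional F K := Module.finite_of_finrank_pos (by omega)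
  obtain ⟨γ, hγ⟩ := IsCyclic.exists_ofOrder_eq_natCard (α := Kˣ)
  have hγord : orderOf γ = Fintype.card F ^ m - 1 := by
    rw [hγ, Nat.card_units, Nat.card_eq_fintype_card, Module.card_eq_pow_finrank (K := F), hK]
  let t := Algebra.traceForm F K
  let B : (K × K) →ₗ[F] (K × K) →ₗ[F] F :=
    t.compl₁₂ (LinearMap.fst F K K) (LinearMap.snd F K K) - t.compl₁₂ (LinearMap.snd F K K) (LinearMap.fst F K K)
  have hb : ∀ x y : K × K, B x y = Algebra.trace F K (x.1 * y.2) - Algebra.trace F K (x.2 * y.1) := fun x y => rfl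
  have hBa : B.IsAlt := fun v => by rw [hb, mul_comm, sub_self]
  have hBn : B.Nondegenerate := by
    have h : B.SeparatingLeft := fun v hv => Prod.ext
      ((traceForm_nondegenerate F K).1 _ fun y => by simpa [hb, Algebra.traceForm_apply] using hv (0, y))
      ((traceForm_nondegenerate F K).1 _ fun y => by simpa [hb, Algebra.traceForm_apply] using hv (y, 0))
    exact ⟨h, fun x hx => h x fun y => hBa.isRefl _ _ (hx y)⟩
  let Z : (K × K) ≃ₗ[F] (K × K) :=
    { toFun := fun x => ((γ : K) * x.1, (γ⁻¹ : Kˣ) * x.2)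
      invFun := fun x => ((γ⁻¹ : Kˣ) * x.1, (γ : K) * x.2)
      map_add' := fun x y => by ext <;> simp [mul_add]
      map_smul' := fun c x => by ext <;> simp
      left_inv := fun x => by ext <;> simp
      right_inv := fun x => by ext <;> simp }
  let g : isomGroup B := ⟨Z, fun x y => by
    show B ((γ : K) * x.1, (γ⁻¹ : Kˣ) * x.2) ((γ : K) * y.1, (γ⁻¹ : Kˣ) * y.2) = B x y
    rw [hb, hb]
    congr 2
    · calc (γ : K) * x.1 * ((γ⁻¹ : Kˣ) * y.2) = ((γ : K) * (γ⁻¹ : Kˣ)) * (x.1 * y.2) := by ring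
        _ = _ := by rw [Units.mul_inv, one_mul]
    · calc ((γ⁻¹ : Kˣ) : K) * x.2 * ((γ : K) * y.1) = ((γ : K) * (γ⁻¹ : Kˣ)) * (x.2 * y.1) := by ring
        _ = _ := by rw [Units.mul_inv, one_mul]⟩
  have hpow : ∀ (j : ℕ) (x : K × K), (g ^ j).1 x = (((γ ^ j : Kˣ) : K) * x.1, (((γ⁻¹) ^ j : Kˣ) : K) * x.2) := by
    intro j x
    induction j with
    | zero => simp
    | succ j ih =>
      rw [pow_succ', pow_succ', pow_succ']
      show ((γ : K) * ((g ^ j).1 x).1, (γ⁻¹ : Kˣ) * ((g ^ j).1 x).2) = _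
      rw [ih, Units.val_mul, Units.val_mul, mul_assoc, mul_assoc]
  obtain ⟨e, he⟩ := exists_transfer hBa hBn (m := m) (by simp [hK])
  refine ⟨isomGroupCongr e he g, fun j => ?_⟩
  rw [← map_pow, MulEquiv.map_eq_one_iff, ← hγord, orderOf_dvd_iff_pow_eq_one, eq_one_iff_forall]
  constructor
  · intro h
    have := congrArg Prod.fst (h (1, 0))
    rw [hpow] at this
    exact Units.ext (by simpa using this)
  · intro h x
    rw [hpow, inv_pow, h, inv_one, Units.val_one, one_mul, one_mul]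

open Polynomial in
/-- The regular unipotent element. -/
theorem exists_unipotent (h2 : (2 : F) ≠ 0) {m : ℕ} (hm : 1 ≤ m) :
    ∃ h : isomGroup (sympBil F m), (∀ i : ℕ, h ^ i = 1 ↔ p ^ Nat.clog p (2 * m) ∣ i) ∧
      ∀ i : ℕ, ¬ ∀ x, (h ^ i).1 x = -x := by
  classical
  have hp := (Fact.out : p.Prime)
  let f : F[X] := X ^ (2 * m)
  have hf : f.Monic := monic_X_pow _
  haveI : Module.Finite F (AdjoinRoot f) := hf.finite_adjoinRoot
  haveI : Nontrivial (AdjoinRoot f) := AdjoinRoot.nontrivial f (by simp [f]; omega)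
  haveI : CharP (AdjoinRoot f) p :=
    charP_of_injective_algebraMap (algebraMap F (AdjoinRoot f)).injective p
  set R := AdjoinRoot f
  let x : R := AdjoinRoot.root f
  let pb := AdjoinRoot.powerBasis hf.ne_zero
  have hdim : pb.dim = 2 * m := by simp [pb, f]
  have hx : ∀ k, x ^ k = 0 ↔ 2 * m ≤ k := by
    intro k
    show AdjoinRoot.root f ^ k = 0 ↔ _
    rw [← AdjoinRoot.mk_X, ← map_pow, AdjoinRoot.mk_eq_zero]
    exact pow_dvd_pow_iff X_ne_zero not_isUnit_X
  have hgen : pb.gen = x := AdjoinRoot.powerBasis_gen _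
  let σ : R →ₐ[F] R := AdjoinRoot.liftAlgHom f (Algebra.ofId F R) (-x) (by
    show Polynomial.aeval (-x) f = 0
    simp only [f, map_pow, aeval_X, (even_two_mul m).neg_pow]
    exact (hx _).2 le_rfl)
  have hσx : σ x = -x := AdjoinRoot.liftAlgHom_root f _ _ _
  let top : Fin pb.dim := ⟨2 * m - 1, by omega⟩
  let l : R →ₗ[F] F := pb.basis.coord top
  have hlx : ∀ k, l (x ^ k) = if k = 2 * m - 1 then 1 else 0 := by
    intro k
    rcases Nat.lt_or_ge k (2 * m) with hk | hk
    · rw [← hgen, ← PowerBasis.basis_eq_pow pb ⟨k, by omega⟩]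
      show pb.basis.repr (pb.basis ⟨k, _⟩) top = _
      rw [Module.Basis.repr_self, Finsupp.single_apply]
      simp [top, Fin.ext_iff]
    · rw [(hx k).2 hk, map_zero, if_neg (by omega)]
  have hσσ : ∀ a, σ (σ a) = a := fun a => AlgHom.congr_fun (show σ.comp σ = AlgHom.id F R from
    pb.algHom_ext (by rw [AlgHom.comp_apply, hgen, hσx, map_neg, hσx, neg_neg, AlgHom.id_apply])) a
  have hlσ : ∀ a, l (σ a) = -l a := fun a => by
    have : l.comp σ.toLinearMap = -l := pb.basis.ext fun k => by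
      rw [LinearMap.comp_apply, LinearMap.neg_apply, PowerBasis.basis_eq_pow, AlgHom.toLinearMap_apply, map_pow,
        hgen, hσx, neg_pow]
      rcases Nat.even_or_odd (k : ℕ) with hk | hk
      · rw [hk.neg_one_pow, one_mul, hlx, if_neg (by
          intro h; rw [h] at hk; obtain ⟨c, hc⟩ := hk; omega)]
        simp
      · rw [hk.neg_one_pow, neg_one_mul, map_neg]
    exact LinearMap.congr_fun this a
  let B : R →ₗ[F] R →ₗ[F] F := ((LinearMap.mul F R).compl₂ σ.toLinearMap).compr₂ l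
  have hb : ∀ a c, B a c = l (a * σ c) := fun a c => rfl
  have hBa : B.IsAlt := fun a => by
    have h1 := hlσ (a * σ a)
    rw [map_mul, hσσ, mul_comm] at h1
    rw [hb]
    exact (mul_eq_zero.1 (show (2 : F) * l (a * σ a) = 0 by linear_combination h1)).resolve_left h2
  have hBn : B.Nondegenerate := by
    have h : B.SeparatingLeft := fun a ha => by
      have key : ∀ k, l (a * x ^ k) = 0 := fun k => by
        have := ha (σ (x ^ k))
        rwa [hb, hσσ] at this
      apply pb.basis.repr.injective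
      ext j
      have := key (2 * m - 1 - j)
      have hj := j.2
      rw [← pb.basis.sum_repr a, Finset.sum_mul, map_sum, Finset.sum_eq_single j] at this
      · rw [map_zero, Finsupp.zero_apply]
        rw [smul_mul_assoc, map_smul, PowerBasis.basis_eq_pow, hgen, ← pow_add, hlx, if_pos (by omega),
          smul_eq_mul, mul_one] at this
        exact this
      · intro k _ hk
        rw [smul_mul_assoc, map_smul, PowerBasis.basis_eq_pow, hgen, ← pow_add, hlx, if_neg (by
          have := Fin.val_ne_of_ne hk; omega), smul_zero]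
      · intro h; exact absurd (Finset.mem_univ j) h
    exact ⟨h, fun a ha => h a fun c => hBa.isRefl _ _ (ha c)⟩
  have hxn : IsNilpotent x := ⟨2 * m, (hx _).2 le_rfl⟩
  obtain ⟨u, hu⟩ := hxn.isUnit_one_add
  obtain ⟨v, hv⟩ := hxn.isUnit_one_sub
  set w : Rˣ := u * v⁻¹ with hw
  have hσu : σ (u : R) = v := by rw [hu, hv, map_add, map_one, hσx, sub_eq_add_neg]
  have hσv : σ (v : R) = u := by rw [hu, hv, map_sub, map_one, hσx, sub_neg_eq_add]
  have hσw : σ (w : R) * w = 1 := by
    have hi : σ ((v⁻¹ : Rˣ) : R) * u = 1 := by rw [← hσv, ← map_mul, Units.inv_mul, map_one]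
    rw [hw, Units.val_mul, map_mul, hσu]
    calc (v : R) * σ ((v⁻¹ : Rˣ) : R) * ((u : R) * ((v⁻¹ : Rˣ) : R))
        = (σ ((v⁻¹ : Rˣ) : R) * u) * ((v : R) * ((v⁻¹ : Rˣ) : R)) := by ring
      _ = 1 := by rw [hi, Units.mul_inv, mul_one]
  let Z : R ≃ₗ[F] R :=
    { LinearMap.mulLeft F (w : R) with
      invFun := fun a => ((w⁻¹ : Rˣ) : R) * a
      left_inv := fun a => by simp
      right_inv := fun a => by simp }
  let g : isomGroup B := ⟨Z, fun a c => by
    show B ((w : R) * a) ((w : R) * c) = B a c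
    rw [hb, hb, map_mul σ, show (w : R) * a * (σ (w : R) * σ c) = (σ (w : R) * w) * (a * σ c) by ring, hσw, one_mul]⟩
  have hpow : ∀ (j : ℕ) (a : R), (g ^ j).1 a = ((w ^ j : Rˣ) : R) * a := by
    intro j a
    induction j with
    | zero => simp
    | succ j ih =>
      rw [pow_succ', pow_succ']
      show (w : R) * (g ^ j).1 a = _
      rw [ih, ← mul_assoc, ← Units.val_mul]
  have h2R : (2 : R) = algebraMap F R 2 := (map_ofNat _ _).symm
  have hpk : ∀ k, w ^ (p ^ k) = 1 ↔ 2 * m ≤ p ^ k := by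
    intro k
    rw [hw, mul_pow, inv_pow, mul_inv_eq_one, Units.ext_iff, Units.val_pow_eq_pow_val, Units.val_pow_eq_pow_val,
      hu, hv, add_pow_char_pow, sub_pow_char_pow, one_pow, ← hx]
    constructor
    · intro h
      have h3 : algebraMap F R 2 * x ^ p ^ k = 0 := by rw [← h2R]; linear_combination h
      rw [← Algebra.smul_def] at h3
      exact (smul_eq_zero.1 h3).resolve_left h2
    · intro h; rw [h, add_zero, sub_zero]
  obtain ⟨e', he'⟩ : ∃ e', Nat.clog p (2 * m) = e' + 1 :=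
    ⟨Nat.clog p (2 * m) - 1, by have := Nat.clog_pos hp.one_lt (show 2 ≤ 2 * m by omega); omega⟩
  have hord : orderOf w = p ^ Nat.clog p (2 * m) := by
    rw [he']
    apply orderOf_eq_prime_pow
    · rw [hpk]
      have := Nat.pow_pred_clog_lt_self hp.one_lt (show 1 < 2 * m by omega)
      rw [he'] at this
      simpa using this
    · rw [hpk, ← he']; exact Nat.le_pow_clog hp.one_lt _
  obtain ⟨e, he⟩ := exists_transfer hBa hBn (m := m) (by rw [PowerBasis.finrank pb, hdim]; omega)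
  refine ⟨isomGroupCongr e he g, fun j => ?_, fun j hj => ?_⟩
  · rw [← map_pow, MulEquiv.map_eq_one_iff, ← hord, orderOf_dvd_iff_pow_eq_one, eq_one_iff_forall]
    exact ⟨fun h => Units.ext ((mul_one _).symm.trans ((hpow j 1).symm.trans (h 1))), fun h a => by rw [hpow, h, Units.val_one, one_mul]⟩
  · have hv' : ∀ a : R, (g ^ j).1 a = -a := fun a => e.injective (by
      rw [← pow_apply_of_semiconj g (isomGroupCongr e he g) e (fun z => by simp [isomGroupCongr]) j a, hj, map_neg])
    have h1 : ((w ^ j : Rˣ) : R) = -1 := (mul_one _).symm.trans ((hpow j 1).symm.trans (hv' 1))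
    have h3 : ((w ^ j : Rˣ) : R) ^ (p ^ Nat.clog p (2 * m)) = 1 := by
      rw [← hord, ← Units.val_pow_eq_pow_val, ← pow_mul, mul_comm, pow_mul, pow_orderOf_eq_one, one_pow,
        Units.val_one]
    rw [h1, (hp.odd_of_ne_two (fun h => by subst h; exact h2 CharTwo.two_eq_zero)).pow.neg_one_pow] at h3
    have h5 : algebraMap F R 2 = 0 := by rw [← h2R]; linear_combination -h3
    exact h2 ((map_eq_zero _).1 h5)

end CfsgLib.Classical.SympOrders
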