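import Cfsg.Agent.Lib.Classical.SympMax

/-!
# The orthogonal group is maximal in the symplectic group in characteristic two
-/

set_option autoImplicit false
set_option linter.unusedSectionVars false

open Module

namespace CfsgLib.Classical

variable {F : Type*} [Field F] [CharP F 2] [Finite F] {V : Type*} [AddCommGroup V] [Module F V]
  [FiniteDimensional F V] {B : V →ₗ[F] V →ₗ[F] F}

/-- A quadratic form, as a function, with polar form `B`. -/
structure QuadOf (B : V →ₗ[F] V →ₗ[F] F) (Q : V → F) : Prop where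
  add : ∀ x y, Q (x + y) = Q x + Q y + B x y
  smul : ∀ (c : F) x, Q (c • x) = c ^ 2 * Q x

/-- The isometries of `Q` inside the isometry group of its polar form. -/
def quadStab (B : V →ₗ[F] V →ₗ[F] F) (Q : V → F) : Subgroup (isomGroup B) where
  carrier := {g | ∀ x, Q (g.1 x) = Q x}
  one_mem' _ := rfl
  mul_mem' {a b} ha hb x := by
    rw [Subgroup.coe_mul, LinearEquiv.mul_apply, ha, hb]
  inv_mem' {a} ha x := by
    have := ha ((a⁻¹).1 x)
    rw [← LinearEquiv.mul_apply, ← Subgroup.coe_mul, mul_inv_cancel] at this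
    simpa using this.symm

theorem exists_sq_root (a : F) : ∃ r : F, r ^ 2 = a := by
  have := Fintype.ofFinite F
  obtain ⟨r, hr⟩ := FiniteField.isSquare_of_char_two (ringChar.eq F 2) a
  exact ⟨r, by rw [hr, pow_two]⟩

theorem finrank_perp_eq (hA : B.IsAlt) (hN : B.Nondegenerate) (U : Submodule F V) :
    finrank F (perp B U) = finrank F V - finrank F U := by
  have h : perp B U = LinearMap.BilinForm.orthogonal B U := by
    ext x
    exact mem_perp
  rw [h]
  exact LinearMap.BilinForm.finrank_orthogonal hN U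

/-- In a large perpendicular space every value of `Q` is taken. -/
theorem exists_value {Q : V → F} (hA : B.IsAlt) (hN : B.Nondegenerate) (hQ : QuadOf B Q)
    (hn : 8 ≤ finrank F V) (S : Finset V) (hS : S.card ≤ 3) (μ : F) :
    ∃ z, (∀ s ∈ S, B s z = 0) ∧ Q z = μ := by
  have hk : finrank F (Submodule.span F (S : Set V)) ≤ 3 := (finrank_span_finset_le_card S).trans hS
  have hU := finrank_perp_eq hA hN (Submodule.span F (S : Set V))
  obtain ⟨z₀, hz₀, hQ₀⟩ : ∃ z ∈ perp B (Submodule.span F (S : Set V)), Q z ≠ 0 := by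
    by_contra hc
    push Not at hc
    have hle : perp B (Submodule.span F (S : Set V)) ≤ perp B (perp B (Submodule.span F (S : Set V))) := by
      intro x hx
      refine mem_perp.2 fun w hw => ?_
      have := hQ.add w x
      rwa [hc _ (add_mem hw hx), hc _ hw, hc _ hx, add_zero, zero_add, eq_comm] at this
    rw [perp_perp_eq hA.isRefl hN.2] at hle
    have := Submodule.finrank_mono hle
    omega
  obtain ⟨r, hr⟩ := exists_sq_root (μ / Q z₀)
  refine ⟨r • z₀, fun s hs => ?_, by rw [hQ.smul, hr, div_mul_cancel₀ _ hQ₀]⟩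
  rw [map_smul, mem_perp.1 hz₀ s (Submodule.subset_span hs), smul_zero]

theorem tv_mem_quadStab (hA : B.IsAlt) {Q : V → F} (hQ : QuadOf B Q) {v : V} {c : F}
    (h : c * Q v = 1) : tv hA v c ∈ quadStab B Q := fun x => by
  rw [tv_apply, hQ.add, hQ.smul, map_smul, smul_eq_mul]
  have e : (c * B x v) ^ 2 * Q v + c * B x v * B x v = c * B x v ^ 2 * (c * Q v + 1) := by ring
  rw [add_assoc, e, h, CharTwo.add_self_eq_zero, mul_zero, add_zero]

/-- Isometries of `Q` are transitive on non-zero vectors of equal value. -/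
theorem quadStab_transitive (hA : B.IsAlt) (hN : B.Nondegenerate) {Q : V → F} (hQ : QuadOf B Q)
    (hn : 8 ≤ finrank F V) {a b : V} (ha : a ≠ 0) (hb : b ≠ 0) (h : Q a = Q b) :
    ∃ g ∈ quadStab B Q, g.1 a = b := by
  have key : ∀ x y : V, Q x = Q y → B x y ≠ 0 → ∃ g ∈ quadStab B Q, g.1 x = y := by
    intro x y hxy hB
    refine ⟨tv hA (x + y) (B x y)⁻¹, tv_mem_quadStab hA hQ ?_, ?_⟩
    · rw [hQ.add, hxy, CharTwo.add_self_eq_zero, zero_add, inv_mul_cancel₀ hB]
    · rw [tv_apply, map_add, hA x, zero_add, inv_mul_cancel₀ hB, one_smul, ← add_assoc,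
        show x + x = 0 by rw [← two_smul F x, CharTwo.two_eq_zero, zero_smul], zero_add]
  by_cases hab : B a b = 0
  · obtain ⟨x₀, h1, h2⟩ : ∃ x, B a x ≠ 0 ∧ B b x ≠ 0 := by
      obtain ⟨y₁, h₁⟩ := alt_exists_partner hN.1 ha
      obtain ⟨y₂, h₂⟩ := alt_exists_partner hN.1 hb
      by_cases h₁' : B b y₁ = 0
      · by_cases h₂' : B a y₂ = 0
        · exact ⟨y₁ + y₂, by simp [h₁, h₂'], by simp [h₁', h₂]⟩
        · exact ⟨y₂, h₂', by simp [h₂]⟩
      · exact ⟨y₁, by simp [h₁], h₁'⟩
    classical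
    obtain ⟨z, hz, hQz⟩ := exists_value hA hN hQ hn {a, b, x₀} Finset.card_le_three (Q a + Q x₀)
    have hx : Q (x₀ + z) = Q a := by
      rw [hQ.add, hQz, hz x₀ (by simp), add_zero, add_left_comm, CharTwo.add_self_eq_zero, add_zero]
    obtain ⟨g₁, hg₁, e₁⟩ := key a (x₀ + z) hx.symm (by simp [hz a (by simp), h1])
    obtain ⟨g₂, hg₂, e₂⟩ := key (x₀ + z) b (hx.trans h) (by
      intro h0
      have := hA.isRefl _ _ h0
      simp [hz b (by simp), h2] at this)
    exact ⟨g₂ * g₁, mul_mem hg₂ hg₁, by rw [Subgroup.coe_mul, LinearEquiv.mul_apply, e₁, e₂]⟩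
  · exact key a b h hab

theorem quadStab_maximal (hA : B.IsAlt) (hN : B.Nondegenerate) {Q : V → F} (hQ : QuadOf B Q)
    (hn : 8 ≤ finrank F V) {M : Subgroup (isomGroup B)} (hM : quadStab B Q ≤ M) {g : isomGroup B}
    (hg : g ∈ M) (hgQ : g ∉ quadStab B Q) : M = ⊤ := by
  classical
  have : Finite V := Module.finite_of_finite F
  have hD1 : ∀ w, Q w = 1 → tv hA w 1 ∈ M := fun w hw =>
    hM (tv_mem_quadStab hA hQ (by rw [one_mul, hw]))
  have hmap : ∀ t ∈ M, ∀ w, tv hA w 1 ∈ M → tv hA (t.1 w) 1 ∈ M := fun t ht w hw => by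
    rw [← conj_tv]
    exact M.mul_mem (M.mul_mem ht hw) (M.inv_mem ht)
  obtain ⟨w₀, hw₀, hw₀'⟩ : ∃ w, Q w = 1 ∧ Q (g.1 w) ≠ 1 := by
    by_contra hc
    push Not at hc
    have hne : ∀ v, Q v ≠ 0 → Q (g.1 v) = Q v := by
      intro v hv
      obtain ⟨r, hr⟩ := exists_sq_root (Q v)⁻¹
      have h := hc (r • v) (by rw [hQ.smul, hr, inv_mul_cancel₀ hv])
      rw [map_smul, hQ.smul, hr] at h
      exact (inv_mul_eq_one₀ hv).1 h |>.symm
    refine hgQ fun v => ?_
    by_cases hv : Q v = 0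
    · rw [hv]
      by_contra hgv
      obtain ⟨r, hr⟩ := exists_sq_root (Q (g.1 v))⁻¹
      let f : {w : V // Q w = 1} → {w : V // Q w = 1} := fun w => ⟨g.1 w.1, hc w.1 w.2⟩
      have hf : Function.Surjective f := Finite.surjective_of_injective fun x y hxy =>
        Subtype.ext (g.1.injective (congrArg Subtype.val hxy))
      obtain ⟨⟨w, hw⟩, hwe⟩ := hf ⟨r • g.1 v, by rw [hQ.smul, hr, inv_mul_cancel₀ hgv]⟩
      have : g.1 w = g.1 (r • v) := by rw [map_smul]; exact congrArg Subtype.val hwe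
      rw [g.1.injective this, hQ.smul, hv, mul_zero] at hw
      exact zero_ne_one hw
    · exact hne v hv
  set a := g.1 w₀ with ha_def
  have ha : a ≠ 0 := by
    rw [ha_def, Ne, map_eq_zero_iff _ g.1.injective]
    rintro rfl
    have h0 := hQ.smul 0 (0 : V)
    rw [zero_smul, hw₀] at h0
    simp at h0
  have hDa : tv hA a 1 ∈ M := hmap g hg w₀ (hD1 w₀ hw₀)
  have hall : ∀ v, v ≠ 0 → tv hA v 1 ∈ M := by
    intro v hv
    by_cases hv1 : Q v = 1
    · exact hD1 v hv1
    have hne : Q a + 1 ≠ 0 := fun h => hw₀' (by rw [eq_neg_of_add_eq_zero_left h, CharTwo.neg_eq])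
    obtain ⟨β, hβ⟩ := exists_sq_root ((Q v + 1) / (Q a + 1))
    have hβ0 : β ≠ 0 := by
      rintro rfl
      rw [zero_pow two_ne_zero, eq_comm, div_eq_zero_iff] at hβ
      rcases hβ with h | h
      · exact hv1 (by rw [eq_neg_of_add_eq_zero_left h, CharTwo.neg_eq])
      · exact hne h
    obtain ⟨y, hy⟩ := alt_exists_partner hN.1 ha
    obtain ⟨z, hz, hQz⟩ := exists_value hA hN hQ hn {a, β • y} (Finset.card_le_two.trans (by norm_num))
      (1 + Q (β • y))
    set b := β • y + z with hb_def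
    have hQb : Q b = 1 := by
      rw [hb_def, hQ.add, hQz, hz (β • y) (by simp), add_zero, add_left_comm, CharTwo.add_self_eq_zero,
        add_zero]
    have hBba : B b a = β := by
      have : B a b = β := by simp [hb_def, hy, hz a (by simp)]
      rw [alt_swap hA, this, CharTwo.neg_eq]
    have hDc : tv hA ((tv hA a 1).1 b) 1 ∈ M := hmap _ hDa b (hD1 b hQb)
    set c := (tv hA a 1).1 b with hc_def
    have hc : c = b + β • a := by rw [hc_def, tv_apply, hBba, one_mul]
    have hQc : Q c = Q v := by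
      rw [hc, hQ.add, hQb, hQ.smul, map_smul, smul_eq_mul, hBba]
      have h2 : β ^ 2 * (Q a + 1) = Q v + 1 := by rw [hβ, div_mul_cancel₀ _ hne]
      rw [show 1 + β ^ 2 * Q a + β * β = 1 + β ^ 2 * (Q a + 1) by ring, h2, add_left_comm,
        CharTwo.add_self_eq_zero, add_zero]
    have hc0 : c ≠ 0 := fun h => hβ0 (by
      rw [hc] at h
      rw [← hBba, eq_neg_of_add_eq_zero_left h]
      simp [hA a])
    obtain ⟨t, ht, htc⟩ := quadStab_transitive hA hN hQ hn hc0 hv hQc
    rw [← htc]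
    exact hmap t (hM ht) c hDc
  refine eq_top_of_isAxis hA hN fun v c => ?_
  obtain ⟨r, hr⟩ := exists_sq_root c
  have e : tv hA v c = tv hA (r • v) 1 := by rw [tv_smul, mul_one, ← pow_two, hr]
  rw [e]
  by_cases h0 : r • v = 0
  · rw [h0, show tv hA (0 : V) (1 : F) = 1 from Subtype.ext (LinearEquiv.ext fun x => by simp)]
    exact M.one_mem
  · exact hall _ h0

theorem exists_not_mem_quadStab (hA : B.IsAlt) (hN : B.Nondegenerate) {Q : V → F} (hQ : QuadOf B Q)
    (hn : 8 ≤ finrank F V) : ∃ g : isomGroup B, g ∉ quadStab B Q := by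
  classical
  have : Nontrivial V := Module.finrank_pos_iff.1 (by omega : 0 < finrank F V)
  obtain ⟨u, hu⟩ := exists_ne (0 : V)
  obtain ⟨x, hx⟩ := alt_exists_partner hN.1 hu
  obtain ⟨z, hz, hQz⟩ := exists_value hA hN hQ hn {u, x} (Finset.card_le_two.trans (by norm_num)) (Q u)
  have ha : Q (u + z) = 0 := by
    rw [hQ.add, hQz, hz u (by simp), add_zero, CharTwo.add_self_eq_zero]
  have hB : B x (u + z) = 1 := by
    rw [map_add, hz x (by simp), add_zero, alt_swap hA, hx, CharTwo.neg_eq]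
  refine ⟨tv hA (u + z) 1, fun h => ?_⟩
  have := h x
  rw [tv_apply, hB, mul_one, one_smul, hQ.add, hB, ha, add_zero] at this
  exact one_ne_zero (add_eq_left.1 this)

end CfsgLib.Classical
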