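import Cfsg.Prelude.Def_Classical
import Cfsg.Agent.Lib.Classical.SympMatrix
import Mathlib

set_option autoImplicit false
set_option linter.unusedSectionVars false

/-!
`PSp(2m+2, q)`, `q` odd, has an element of order `p * (q ^ m + 1)`: a transvection on a plane times a generator
of the norm-one torus of `GF(q ^ 2m)` on its orthogonal complement.
-/

namespace CfsgLib.Classical.SympSinger

open Module CfsgLib.Classical

theorem exists_element {F : Type*} [Field F] [Fintype F] {p : ℕ} [Fact p.Prime] [CharP F p] (h2 : (2 : F) ≠ 0)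
    {m : ℕ} (hm : 1 ≤ m) : ∃ g : Cfsg.PSp (m + 1) F, orderOf g = p * (Fintype.card F ^ m + 1) := by
  classical
  haveI : NeZero (2 * m) := ⟨by omega⟩
  let K := FiniteField.Extension F p (2 * m)
  haveI : Fintype K := Fintype.ofFinite K
  have hK : finrank F K = 2 * m := FiniteField.finrank_extension F p (2 * m)
  haveI : FiniteDimensional F K := Module.finite_of_finrank_pos (by omega)
  obtain ⟨k, hpp, hk⟩ := FiniteField.card F p
  have hqodd : Odd (Fintype.card F) := by
    rw [hk]
    refine (hpp.odd_of_ne_two ?_).pow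
    rintro rfl
    exact h2 CharTwo.two_eq_zero
  have hq2 := Fintype.one_lt_card (α := F)
  set q := Fintype.card F with hq
  have hcardK : Fintype.card K = q ^ (2 * m) := by
    rw [Module.card_eq_pow_finrank (K := F), hK]
  set Q := q ^ m with hQ
  have hQodd : Odd Q := hqodd.pow
  have hQ2 : 2 ≤ Q := le_trans hq2 (Nat.le_self_pow (by omega) q)
  -- the involution
  let σ : K ≃ₐ[F] K := (FiniteField.frobeniusAlgEquivOfAlgebraic F K) ^ m
  have hσ : ∀ x, σ x = x ^ Q := fun x => by
    show ((FiniteField.frobeniusAlgEquivOfAlgebraic F K) ^ m) x = _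
    rw [AlgEquiv.coe_pow, FiniteField.coe_frobeniusAlgEquivOfAlgebraic, pow_iterate]
  obtain ⟨γ, hγ⟩ := IsCyclic.exists_ofOrder_eq_natCard (α := Kˣ)
  have hγord : orderOf γ = (Q - 1) * (Q + 1) := by
    rw [hγ, Nat.card_units, Nat.card_eq_fintype_card, hcardK, two_mul, pow_add, mul_comm (Q - 1),
      ← Nat.mul_self_sub_mul_self_eq, mul_one]
  have hQQ : ∀ x : K, x ^ (Q * Q) = x := fun x => by
    rw [hQ, ← pow_add, ← two_mul, ← hcardK, FiniteField.pow_card]
  have hσσ : ∀ x, σ (σ x) = x := fun x => by rw [hσ, hσ, ← pow_mul, hQQ]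
  obtain ⟨i, hi⟩ : ∃ i, Q + 1 = 2 * i := (hQodd.add_odd odd_one).two_dvd
  set β : K := ((γ ^ i : Kˣ) : K) with hβ
  have h2K : (2 : K) ≠ 0 := by rw [← map_ofNat (algebraMap F K) 2]; exact (map_ne_zero _).2 h2
  have hβ0 : β ≠ 0 := Units.ne_zero _
  have hσβ : σ β = -β := by
    have h1 : ((γ ^ (i * (Q - 1)) : Kˣ) : K) ^ 2 = 1 := by
      rw [← Units.val_pow_eq_pow_val, ← pow_mul, show i * (Q - 1) * 2 = (Q - 1) * (Q + 1) by rw [hi]; ring,
        ← hγord, pow_orderOf_eq_one, Units.val_one]
    have h2' : ((γ ^ (i * (Q - 1)) : Kˣ) : K) ≠ 1 := fun h => by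
      have := Nat.le_of_dvd (Nat.mul_pos (by omega) (by omega)) (orderOf_dvd_of_pow_eq_one (Units.ext h))
      rw [hγord, hi] at this
      nlinarith [show 0 < i * (Q - 1) from Nat.mul_pos (by omega) (by omega)]
    have h3 := (sq_eq_one_iff.1 h1).resolve_left h2'
    rw [pow_mul, Units.val_pow_eq_pow_val, ← hβ] at h3
    calc σ β = β ^ (Q - 1 + 1) := by rw [hσ, Nat.sub_add_cancel (by omega)]
      _ = -β := by rw [pow_succ, h3]; ring
  set ζ : K := ((γ ^ (Q - 1) : Kˣ) : K) with hζ
  have hζi : ∀ j : ℕ, ζ ^ j = 1 ↔ Q + 1 ∣ j := fun j => by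
    rw [hζ, ← Units.val_pow_eq_pow_val, Units.val_eq_one, ← pow_mul, ← orderOf_dvd_iff_pow_eq_one, hγord]
    exact Nat.mul_dvd_mul_iff_left (by omega)
  have hζσ : ζ * σ ζ = 1 := by rw [hσ, ← pow_succ', hζi]
  -- the form
  let b : K →ₗ[F] K →ₗ[F] F := (Algebra.traceForm F K).compl₁₂ (LinearMap.mulLeft F β) σ.toLinearMap
  have hb : ∀ x y, b x y = Algebra.trace F K (β * x * σ y) := fun x y => rfl
  let B : (F × F) × K →ₗ[F] (F × F) × K →ₗ[F] F :=
    LinearMap.mk₂ F (fun v w => v.1.1 * w.1.2 - v.1.2 * w.1.1 + b v.2 w.2)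
      (fun x y z => by simp only [Prod.fst_add, Prod.snd_add, map_add, LinearMap.add_apply]; ring)
      (fun c x z => by simp only [Prod.smul_fst, Prod.smul_snd, map_smul, LinearMap.smul_apply, smul_eq_mul]; ring)
      (fun x y z => by simp only [Prod.fst_add, Prod.snd_add, map_add]; ring)
      (fun c x z => by simp only [Prod.smul_fst, Prod.smul_snd, map_smul, smul_eq_mul]; ring)
  have hBa : B.IsAlt := fun v => by
    show v.1.1 * v.1.2 - v.1.2 * v.1.1 + b v.2 v.2 = 0
    have h1 : Algebra.trace F K (σ (β * v.2 * σ v.2)) = Algebra.trace F K (β * v.2 * σ v.2) :=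
      Algebra.trace_eq_of_algEquiv σ _
    rw [map_mul σ, map_mul σ, hσβ, hσσ, show -β * σ v.2 * v.2 = -(β * v.2 * σ v.2) by ring, map_neg] at h1
    rw [hb]
    have h3 : (2 : F) * Algebra.trace F K (β * v.2 * σ v.2) = 0 := by linear_combination -h1
    rw [(mul_eq_zero.1 h3).resolve_left h2]
    ring
  have hBn : B.Nondegenerate := by
    have h : B.SeparatingLeft := by
      intro v hv
      have h1 := hv ((0, 1), 0)
      have h3 := hv ((1, 0), 0)
      simp [B] at h1 h3
      have h4 : β * v.2 = 0 := (traceForm_nondegenerate F K).1 _ fun y => by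
        have := hv (0, σ y)
        simp [B, hb, hσσ] at this
        rw [Algebra.traceForm_apply]
        exact this
      exact Prod.ext (Prod.ext h1 h3) ((mul_eq_zero.1 h4).resolve_left hβ0)
    exact ⟨h, fun x hx => h x fun y => hBa.isRefl _ _ (hx y)⟩
  -- the element
  let Z : K ≃ₗ[F] K :=
    { LinearMap.mulLeft F ζ with
      invFun := fun x => ζ⁻¹ * x
      left_inv := fun x => inv_mul_cancel_left₀ (Units.ne_zero _) x
      right_inv := fun x => mul_inv_cancel_left₀ (Units.ne_zero _) x }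
  let T : (F × F) ≃ₗ[F] (F × F) :=
    { toFun := fun v => (v.1 + v.2, v.2)
      invFun := fun v => (v.1 - v.2, v.2)
      map_add' := fun x y => by ext <;> simp [add_add_add_comm]
      map_smul' := fun c x => by ext <;> simp [mul_add]
      left_inv := fun v => by simp
      right_inv := fun v => by simp }
  let h : isomGroup B := ⟨T.prodCongr Z, fun x y => by
    show (x.1.1 + x.1.2) * y.1.2 - x.1.2 * (y.1.1 + y.1.2) + b (ζ * x.2) (ζ * y.2) =
      x.1.1 * y.1.2 - x.1.2 * y.1.1 + b x.2 y.2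
    rw [hb, hb, map_mul σ]
    rw [show β * (ζ * x.2) * (σ ζ * σ y.2) = (ζ * σ ζ) * (β * x.2 * σ y.2) by ring, hζσ, one_mul]
    ring⟩
  have hpow : ∀ (j : ℕ) (v : (F × F) × K), (h ^ j).1 v = ((v.1.1 + j * v.1.2, v.1.2), ζ ^ j * v.2) := by
    intro j v
    induction j with
    | zero => simp
    | succ j ih =>
      rw [pow_succ']
      show h.1 ((h ^ j).1 v) = _
      rw [ih]
      show ((v.1.1 + j * v.1.2 + v.1.2, v.1.2), ζ * (ζ ^ j * v.2)) = _
      rw [pow_succ']; push_cast; ext <;> ring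
  -- to the matrices
  obtain ⟨m₁, b₁, hb₁⟩ := exists_sympBasis hBa hBn
  obtain ⟨m₂, b₂, hb₂⟩ := exists_sympBasis (sympBil_isAlt (F := F) (m + 1)) (sympBil_nondegenerate (m + 1))
  have e1 := Module.finrank_eq_card_basis b₁
  have e2 := Module.finrank_eq_card_basis b₂
  simp [hK] at e1 e2
  obtain rfl : m₁ = m + 1 := by omega
  obtain rfl : m₂ = m + 1 := by omega
  let φ : Matrix.symplecticGroup (Fin (m + 1)) F ≃* isomGroup B :=
    (spEquiv (m + 1)).trans (isomGroupCongr (b₂.equiv b₁ (Equiv.refl _))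
      (IsSympFamily.basisEquiv_mem (sympBil_isAlt _) hBa b₂ b₁ hb₂ hb₁))
  refine ⟨QuotientGroup.mk (φ.symm h), ?_⟩
  have hiff : ∀ j : ℕ, (QuotientGroup.mk (φ.symm h) : Cfsg.PSp (m + 1) F) ^ j = 1 ↔ p * (Q + 1) ∣ j := by
    intro j
    have hcop : p.Coprime (Q + 1) := (Fact.out : p.Prime).coprime_iff_not_dvd.2 fun hd => by
      have h1 : p ∣ Q := by rw [hQ, hk, ← pow_mul]; exact dvd_pow_self p (Nat.mul_pos k.pos (by omega)).ne'
      exact (Fact.out : p.Prime).not_dvd_one ((Nat.dvd_add_right h1).1 hd)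
    rw [← QuotientGroup.mk_pow, QuotientGroup.eq_one_iff, ← map_pow]
    constructor
    · intro hc
      have hc' : h ^ j ∈ Subgroup.center (isomGroup B) := Subgroup.mem_center_iff.2 fun g => φ.symm.injective (by
        rw [map_mul, map_mul]; exact Subgroup.mem_center_iff.1 hc _)
      rcases center_isom_apply hBa hBn.1 hc' with h1 | h1
      · refine hcop.mul_dvd_of_dvd_of_dvd ?_ ?_
        · have := h1 ((0, 1), 0)
          rw [hpow] at this
          simp at this
          exact (CharP.cast_eq_zero_iff F p j).1 this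
        · have := h1 ((0, 0), 1)
          rw [hpow] at this
          simp at this
          exact (hζi j).1 this
      · exfalso
        have := congrArg (fun x : (F × F) × K => x.1.2) (h1 ((0, 1), 0))
        rw [hpow] at this
        simp at this
        exact h2 (by linear_combination this)
    · intro hd
      have : h ^ j = 1 := Subtype.ext (LinearEquiv.ext fun v => by
        rw [hpow, (CharP.cast_eq_zero_iff F p j).2 (dvd_of_mul_right_dvd hd), (hζi j).2 (dvd_of_mul_left_dvd hd)]
        simp)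
      rw [this, map_one]
      exact one_mem _
  exact Nat.dvd_antisymm (orderOf_dvd_of_pow_eq_one ((hiff _).2 dvd_rfl)) ((hiff _).1 (pow_orderOf_eq_one _))

end CfsgLib.Classical.SympSinger
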