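import Cfsg.Agent.Lib.Classical.SympDichotomy

set_option autoImplicit false
set_option linter.unusedSectionVars false

/-! Odd element orders of `PSp(2n, q)` that cannot be doubled. -/

namespace CfsgLib.Classical.SympSpectrum

open Module CfsgLib.Classical CfsgLib.Classical.SympOrders CfsgLib.Classical.SympDichotomy

variable {F : Type*} [Field F] [Fintype F] (p : ℕ) [Fact p.Prime] [CharP F p]
include p

/-- Half of a torus order. -/
theorem exists_half (h2 : (2 : F) ≠ 0) {n : ℕ} (hn : 1 ≤ n) :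
    (∃ y : Cfsg.PSp n F, (Fintype.card F ^ n + 1) / 2 ∣ orderOf y) ∧
      ∃ y : Cfsg.PSp n F, (Fintype.card F ^ n - 1) / 2 ∣ orderOf y := by
  have key : ∀ (h : isomGroup (sympBil F n)) (N : ℕ), (∀ i, h ^ i = 1 ↔ N ∣ i) → Even N →
      ∃ y : Cfsg.PSp n F, N / 2 ∣ orderOf y := by
    intro h N hN he
    refine exists_psp h fun i hi => ?_
    have h2i : N ∣ i * 2 := by
      rw [← hN, pow_mul, pow_two]
      rcases hi with hi | hi
      · rw [hi, one_mul]
      · exact Subtype.ext (LinearEquiv.ext fun x => by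
          show (h ^ i).1 ((h ^ i).1 x) = x
          rw [hi, hi, neg_neg])
    obtain ⟨c, rfl⟩ := he
    rw [← two_mul, Nat.mul_div_cancel_left _ two_pos]
    rw [← two_mul, mul_comm i 2] at h2i
    exact Nat.dvd_of_mul_dvd_mul_left two_pos h2i
  have hq := (odd_card (F := F) p h2).pow (n := n)
  obtain ⟨h₁, hh₁⟩ := exists_torus_minus p h2 hn
  obtain ⟨h₃, hh₃⟩ := exists_torus_plus (F := F) p hn
  exact ⟨key h₁ _ hh₁ (hq.add_odd odd_one), key h₃ _ hh₃ (Nat.Odd.sub_odd hq odd_one)⟩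

/-- A regular unipotent element. -/
theorem exists_unip (h2 : (2 : F) ≠ 0) {n : ℕ} (hn : 1 ≤ n) :
    ∃ y : Cfsg.PSp n F, p ^ Nat.clog p (2 * n) ∣ orderOf y := by
  obtain ⟨h, hh, hneg⟩ := exists_unipotent p h2 hn
  exact exists_psp h fun i hi => (hh i).1 (hi.resolve_right (hneg i))

/-- A torus element times a regular unipotent element on the complement. -/
theorem exists_mixed (h2 : (2 : F) ≠ 0) {d m : ℕ} (hd : 1 ≤ d) (hm : 1 ≤ m) :
    (∃ y : Cfsg.PSp (d + m) F, (Fintype.card F ^ d + 1) * p ^ Nat.clog p (2 * m) ∣ orderOf y) ∧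
      ∃ y : Cfsg.PSp (d + m) F, (Fintype.card F ^ d - 1) * p ^ Nat.clog p (2 * m) ∣ orderOf y := by
  obtain ⟨k, hpp, hk⟩ := FiniteField.card F p
  obtain ⟨u, hu, hneg⟩ := exists_unipotent p h2 hm
  have key : ∀ (h : isomGroup (sympBil F d)) (N : ℕ), (∀ i, h ^ i = 1 ↔ N ∣ i) → N.Coprime p →
      ∃ y : Cfsg.PSp (d + m) F, N * p ^ Nat.clog p (2 * m) ∣ orderOf y := by
    intro h N hN hco
    obtain ⟨g, hg⟩ := exists_sum h u
    refine exists_psp g fun i hi => ?_
    rcases hi with hi | hi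
    · obtain ⟨a, b⟩ := (hg i).1.1 hi
      exact (hco.pow_right _).mul_dvd_of_dvd_of_dvd ((hN i).1 a) ((hu i).1 b)
    · exact absurd ((hg i).2 hi).2 (hneg i)
  obtain ⟨h₁, hh₁⟩ := exists_torus_minus p h2 hd
  obtain ⟨h₃, hh₃⟩ := exists_torus_plus (F := F) p hd
  have hpd : p ∣ Fintype.card F ^ d := by
    rw [hk, ← pow_mul]; exact dvd_pow_self p (Nat.mul_pos k.pos hd).ne'
  have hco1 : (Fintype.card F ^ d + 1).Coprime p := ((hpp.coprime_iff_not_dvd).2 fun h =>
    hpp.not_dvd_one ((Nat.dvd_add_right hpd).1 h)).symm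
  have hco3 : (Fintype.card F ^ d - 1).Coprime p := ((hpp.coprime_iff_not_dvd).2 fun h => by
    have := Nat.dvd_sub hpd h
    rw [Nat.sub_sub_self (Nat.one_le_pow _ _ Fintype.card_pos)] at this
    exact hpp.not_dvd_one this).symm
  exact ⟨key h₁ _ hh₁ hco1, key h₃ _ hh₃ hco3⟩

/-- The dichotomy. -/
theorem dichotomy (h2 : (2 : F) ≠ 0) {n : ℕ} (hn : 2 ≤ n) (x : Cfsg.PSp n F) (hx : ¬ 2 ∣ orderOf x) :
    (∃ y : Cfsg.PSp n F, 2 * orderOf x ∣ orderOf y) ∨ orderOf x ∣ p ^ Nat.clog p (2 * n) ∨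
      orderOf x ∣ (Fintype.card F ^ n + 1) / 2 ∨ orderOf x ∣ (Fintype.card F ^ n - 1) / 2 := by
  classical
  obtain ⟨g₀, rfl⟩ := QuotientGroup.mk_surjective x
  set o := orderOf (QuotientGroup.mk g₀ : Cfsg.PSp n F) with ho
  have hodd : Odd o := Nat.not_even_iff_odd.1 fun h => hx h.two_dvd
  have hcoe : ∀ (A : Matrix.symplecticGroup (Fin n) F) (v : Fin n ⊕ Fin n → F),
      (spEquiv n A).1 v = A.1.mulVec v := fun A v => spEquiv_apply n A v
  have hne : ∀ A : Matrix.symplecticGroup (Fin n) F,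
      (∀ v, (spEquiv n A).1 v = v) ∨ (∀ v, (spEquiv n A).1 v = -v) ↔
        A ∈ Subgroup.center (Matrix.symplecticGroup (Fin n) F) := by
    intro A
    constructor
    · intro h
      refine Subgroup.mem_center_iff.2 fun C => (spEquiv n).injective ?_
      rw [map_mul, map_mul]
      refine Subtype.ext (LinearEquiv.ext fun v => ?_)
      show (spEquiv n C).1 ((spEquiv n A).1 v) = (spEquiv n A).1 ((spEquiv n C).1 v)
      rcases h with h | h
      · rw [h, h]
      · rw [h, h, map_neg]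
    · intro h
      rcases sp_center_eq n h with h1 | h1
      · exact Or.inl fun v => by rw [hcoe, h1, Matrix.one_mulVec]
      · exact Or.inr fun v => by rw [hcoe, h1, Matrix.neg_mulVec, Matrix.one_mulVec]
  let negI : isomGroup (sympBil F n) := ⟨LinearEquiv.neg F, fun u v => by simp⟩
  -- a lift of odd order
  obtain ⟨A, hA, hAo⟩ : ∃ A : Matrix.symplecticGroup (Fin n) F,
      (QuotientGroup.mk A : Cfsg.PSp n F) = QuotientGroup.mk g₀ ∧ A ^ o = 1 := by
    have hc : g₀ ^ o ∈ Subgroup.center (Matrix.symplecticGroup (Fin n) F) := by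
      rw [← QuotientGroup.eq_one_iff, QuotientGroup.mk_pow]; exact pow_orderOf_eq_one _
    rcases (hne _).2 hc with h | h
    · exact ⟨g₀, rfl, (spEquiv n).injective (by rw [map_one]; exact (eq_one_iff_forall _).2 h)⟩
    · set Z := (spEquiv n).symm negI with hZ
      have hZc : Z ∈ Subgroup.center (Matrix.symplecticGroup (Fin n) F) :=
        (hne Z).1 (Or.inr fun v => by rw [hZ, MulEquiv.apply_symm_apply]; rfl)
      refine ⟨g₀ * Z, ?_, ?_⟩
      · rw [QuotientGroup.mk_mul, (QuotientGroup.eq_one_iff Z).2 hZc, mul_one]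
      · rw [Commute.mul_pow (Subgroup.mem_center_iff.1 hZc g₀)]
        refine (spEquiv n).injective (Subtype.ext (LinearEquiv.ext fun v => ?_))
        rw [map_mul, map_one]
        show (spEquiv n (g₀ ^ o)).1 ((spEquiv n (Z ^ o)).1 v) = v
        rw [h, map_pow, hZ, MulEquiv.apply_symm_apply]
        have hsq : negI * negI = 1 := Subtype.ext (LinearEquiv.ext fun w => neg_neg w)
        obtain ⟨c, hc⟩ := hodd
        rw [hc, pow_succ, pow_mul, pow_two, hsq, one_pow, one_mul]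
        exact neg_neg v
  have hord : ∀ M : ℕ, spEquiv n A ^ M = 1 → o ∣ M := fun M hM => by
    rw [ho, ← hA]
    refine orderOf_dvd_of_pow_eq_one ?_
    rw [← QuotientGroup.mk_pow, QuotientGroup.eq_one_iff]
    rw [← map_pow, MulEquiv.map_eq_one_iff] at hM
    rw [hM]; exact one_mem _
  have hco2 : o.Coprime 2 := Nat.coprime_two_right.2 hodd
  have hhalf : ∀ M : ℕ, Even M → o ∣ M → o ∣ M / 2 := fun M hM h => by
    obtain ⟨c, rfl⟩ := hM
    rw [← two_mul] at h ⊢
    rw [Nat.mul_div_cancel_left _ two_pos]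
    exact hco2.dvd_of_dvd_mul_left h
  have hqo := (odd_card (F := F) p h2)
  rcases dichotomy_isom p h2 (sympBil_isAlt n) (sympBil_nondegenerate n) (n := n) (by omega) (by simp)
    (spEquiv n A) hodd (by rw [← map_pow, hAo, map_one]) with ⟨t, ht, ht1, ht2, htc⟩ | h | h | h | ⟨d, k, hd, hdn, hk, h⟩
  · left
    set T := (spEquiv n).symm t with hT
    have hTc : Commute T A := (spEquiv n).injective (by
      rw [map_mul, map_mul, hT, MulEquiv.apply_symm_apply]; exact htc.eq)
    have hT2 : orderOf (QuotientGroup.mk T : Cfsg.PSp n F) = 2 := by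
      refine orderOf_eq_prime ?_ fun h1 => ?_
      · rw [pow_two, ← QuotientGroup.mk_mul, hT, ← map_mul, ht, map_one, QuotientGroup.mk_one]
      · rcases (hne T).2 ((QuotientGroup.eq_one_iff T).1 h1) with h3 | h3
        · exact ht1 fun v => by have := h3 v; rwa [hT, MulEquiv.apply_symm_apply] at this
        · exact ht2 fun v => by have := h3 v; rwa [hT, MulEquiv.apply_symm_apply] at this
    refine ⟨QuotientGroup.mk T * QuotientGroup.mk A, ?_⟩
    show _ ∣ orderOf (QuotientGroup.mk' (Subgroup.center (Matrix.symplecticGroup (Fin n) F)) T *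
      QuotientGroup.mk' _ A)
    rw [(hTc.map (QuotientGroup.mk' _)).orderOf_mul_eq_mul_orderOf_of_coprime]
    · show 2 * o ∣ orderOf (QuotientGroup.mk T : Cfsg.PSp n F) * orderOf (QuotientGroup.mk A : Cfsg.PSp n F)
      rw [hT2, hA]
    · show (orderOf (QuotientGroup.mk T : Cfsg.PSp n F)).Coprime (orderOf (QuotientGroup.mk A : Cfsg.PSp n F))
      rw [hT2, hA]; exact hco2.symm
  · exact Or.inr (Or.inl (hord _ h))
  · exact Or.inr (Or.inr (Or.inl (hhalf _ (hqo.pow.add_odd odd_one) (hord _ h))))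
  · exact Or.inr (Or.inr (Or.inr (hhalf _ (Nat.Odd.sub_odd hqo.pow odd_one) (hord _ h))))
  · left
    obtain ⟨m, rfl⟩ : ∃ m, n = d + m := ⟨n - d, by omega⟩
    rw [Nat.add_sub_cancel_left] at hk
    obtain ⟨⟨y₁, hy₁⟩, y₃, hy₃⟩ := exists_mixed (F := F) p h2 hd (show 1 ≤ m by omega)
    have key : ∀ (y : Cfsg.PSp (d + m) F) (N : ℕ), Even N → N * p ^ Nat.clog p (2 * m) ∣ orderOf y →
        spEquiv (d + m) A ^ (p ^ k * N) = 1 → 2 * o ∣ orderOf y := by
      intro y N hN hy hA'
      refine dvd_trans ?_ hy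
      refine hco2.symm.mul_dvd_of_dvd_of_dvd (hN.two_dvd.mul_right _) ((hord _ hA').trans ?_)
      rw [mul_comm N]
      exact mul_dvd_mul_right (pow_dvd_pow p hk) N
    rcases h with h | h
    · exact ⟨y₁, key _ _ (hqo.pow.add_odd odd_one) hy₁ h⟩
    · exact ⟨y₃, key _ _ (Nat.Odd.sub_odd hqo.pow odd_one) hy₃ h⟩

end CfsgLib.Classical.SympSpectrum
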