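import Cfsg.Agent.Lib.Classical.TensorCore
import Cfsg.Agent.Lib.Classical.SympMatrix

/-!
# Tensor stabilisers in `Sp(2m, 3)`
-/

set_option autoImplicit false
set_option linter.unusedSectionVars false
set_option backward.isDefEq.respectTransparency false

open Module Matrix

namespace CfsgLib.Classical.TensorNonMax

variable {F : Type*} [Field F] [Fintype F]

theorem symp_tensor_nonmax (m : ℕ) (hm : 7 ≤ m) (hq : Fintype.card F = 3) (n₁ : ℕ)
    (e : (Fin m ⊕ Fin m) ≃ Fin n₁ × Fin 3) (P : GL (Fin m ⊕ Fin m) F)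
    {f₁ : (Fin n₁ → F) → (Fin n₁ → F) → F} {f₂ : (Fin 3 → F) → (Fin 3 → F) → F}
    (hf₁ : Cfsg.Geo.IsSymplecticForm f₁) (hf₂ : Cfsg.Geo.IsSymmetricForm f₂)
    (hT : Cfsg.Geo.IsTensorFormStructure id (Cfsg.sympForm m F) f₁ f₂ e P) :
    ∃ K : Subgroup (GL (Fin m ⊕ Fin m) F), Cfsg.Geo.tensorProductSubgroup n₁ 3 e P ⊓ Cfsg.spGL m F < K ∧
      K < Cfsg.spGL m F := by
  classical
  obtain ⟨c, hc, hf⟩ := tmap_form e P (σ := id) (fun _ _ => rfl) hT
  obtain ⟨v, D, hD, hv⟩ := exists_orth3 hq hf₂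
  have hgr₁ := gram_expand (g := f₁) (τ := id) hf₁.bilinear.add_left hf₁.bilinear.smul_left hf₁.bilinear.add_right
    hf₁.bilinear.smul_right
  have hgr₂ := gram_expand (g := f₂) (τ := id) hf₂.bilinear.add_left hf₂.bilinear.smul_left hf₂.bilinear.add_right
    hf₂.bilinear.smul_right
  have hli := orth_li (τ := id) hf₂.bilinear.add_left hf₂.bilinear.smul_left hD hv
  let L := tmap (e.trans (Equiv.prodComm _ _)) P
  have hd : IsData L (Cfsg.sympForm m F) f₂ f₁ v c D := ⟨hc, hD, fun u u' w w' => by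
    rw [tmap_swap, tmap_swap, hf, hgr₁, hgr₂]; ring, hv, fun w h => tmap_indep _ P hli h, hli⟩
  have hn₁ : 4 ≤ n₁ := by
    have := Fintype.card_congr e
    simp at this
    omega
  set a : Fin n₁ → F := Pi.single ⟨0, by omega⟩ 1 with hadef
  have ha : a ≠ 0 := by simp [hadef]
  have haa : f₁ a a = 0 := hf₁.alternating a
  obtain ⟨x, hax⟩ := (hf₁.nondegenerate a ha).1
  have hxa : x ∉ F ∙ a := fun hx => by
    obtain ⟨t, rfl⟩ := Submodule.mem_span_singleton.1 hx
    exact hax (by rw [hf₁.bilinear.smul_left, haa, mul_zero])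
  have hA := sympBil_isAlt (F := F) m
  have hoff : ∀ i j, i ≠ j → ∀ w w', sympBil F m (L (v i) w) (L (v j) w') = 0 := fun i j h w w' => by
    rw [sympBil_apply, hd.off h]
  have hon : ∀ i w w', sympBil F m (L (v i) w) (L (v i) w') = c * D * f₁ w w' := fun i w w' => by
    rw [sympBil_apply, hd.on]
  set s₁ := tv hA (L (v 0) a) 1
  set s₂ := tv hA (L (v 0) a + L (v 1) a) 1
  let toGL : isomGroup (sympBil F m) → GL (Fin m ⊕ Fin m) F := fun g => (spGLEquiv m ((spEquiv m).symm g)).1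
  have hmv : ∀ g y, (toGL g : Matrix _ _ F) *ᵥ y = g.1 y := fun g y => by
    rw [spGLEquiv_coe, ← spEquiv_apply, MulEquiv.apply_symm_apply]
  have hmem : ∀ g, toGL g ∈ Cfsg.spGL m F := fun g => SetLike.coe_mem _
  have hG : ∀ h ∈ Cfsg.spGL m F, ∀ y z,
      Cfsg.sympForm m F ((h : Matrix _ _ F) *ᵥ y) ((h : Matrix _ _ F) *ᵥ z) = Cfsg.sympForm m F y z :=
    fun h hh y z => hh y z
  refine hd.exists_between ⟨x, a, hax⟩ hG (fun h hh => ?_) (fun A μ hμ hA => mono3 hq hf₂ hD hv hμ hA)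
    (hmem s₁) (i₀ := 0) (i₁ := 1) (by decide) ?_ ?_ ?_ ?_ (hmem s₂) ?_
  · obtain ⟨a', b', hab⟩ := tmap_mul e P hh
    exact ⟨b', a', fun u w => by rw [tmap_swap, tmap_swap, hab]⟩
  · intro i hi w
    rw [hmv, tv_apply, hoff i 0 hi]
    simp
  · intro w
    exact ⟨w + (1 * sympBil F m (L (v 0) w) (L (v 0) a)) • a, by
      rw [hmv, tv_apply]; simp only [map_add, map_smul]⟩
  · refine ⟨x, fun h => ?_⟩
    rw [hmv, tv_apply, hon, add_eq_left, one_mul, ← map_smul] at h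
    have := hd.injective 0 (h.trans (map_zero _).symm)
    exact ha ((smul_eq_zero.1 this).resolve_left (mul_ne_zero (mul_ne_zero hc hD) hax))
  · refine ⟨a, ha, ?_⟩
    rw [hmv, tv_apply, hon, haa]
    simp
  · refine ⟨x, (c * D * f₁ x a) • a, x + (c * D * f₁ x a) • a,
      smul_ne_zero (mul_ne_zero (mul_ne_zero hc hD) hax) ha, fun h => hxa ?_, ?_⟩
    · exact Submodule.mem_span_singleton.2 ⟨-(c * D * f₁ x a), by rw [neg_smul, ← eq_neg_of_add_eq_zero_left h]⟩
    rw [hmv, tv_apply, map_add (sympBil F m (L (v 1) x)), hoff 1 0 (by decide), hon, zero_add, one_mul]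
    simp only [map_add, map_smul]
    module

end CfsgLib.Classical.TensorNonMax
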