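import Cfsg.Agent.Lib.Classical.TensorCore
import Cfsg.Agent.Lib.Classical.HermMatrix
import Cfsg.Agent.Lib.Classical.HermTransv

/-!
# Tensor stabilisers in `SU(n, 2)`
-/

set_option autoImplicit false
set_option linter.unusedSectionVars false
set_option backward.isDefEq.respectTransparency false

open Module Matrix

namespace CfsgLib.Classical.TensorNonMax

variable {F : Type*} [Field F] [Fintype F]

theorem unitary_tensor_nonmax (n : ℕ) (hF : Fintype.card F = 4) (hn : 13 ≤ n) (n₂ : ℕ)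
    (e : Fin n ≃ Fin 2 × Fin n₂) (P : GL (Fin n) F)
    {f₁ : (Fin 2 → F) → (Fin 2 → F) → F} {f₂ : (Fin n₂ → F) → (Fin n₂ → F) → F}
    (hf₁ : Cfsg.Geo.IsUnitaryFormPow 2 f₁) (hf₂ : Cfsg.Geo.IsUnitaryFormPow 2 f₂)
    (hT : Cfsg.Geo.IsTensorFormStructure (fun x : F => x ^ 2) (Cfsg.hermForm n F 2) f₁ f₂ e P) :
    ∃ K : Subgroup (GL (Fin n) F),
      Cfsg.Geo.tensorProductSubgroup 2 n₂ e P ⊓ (Cfsg.GU n F 2 ⊓ Cfsg.Geo.specialLinear (Fin n) F) < K ∧
      K < (Cfsg.GU n F 2 ⊓ Cfsg.Geo.specialLinear (Fin n) F) := by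
  classical
  obtain ⟨σ, hσ, hc⟩ := CfsgLib.Classical.exists_frob (q := 2) (by rw [hF]; rfl : Fintype.card F = 2 ^ 2)
  have htwo : (2 : F) = 0 := by
    have h4 : (4 : F) = 0 := by
      have := Nat.cast_card_eq_zero F
      rwa [hF] at this
    exact mul_self_eq_zero.1 (show (2 : F) * 2 = 0 by linear_combination h4)
  obtain ⟨c, hc0, hf⟩ := tmap_form e P (σ := fun x : F => x ^ 2) (fun a b => mul_pow a b 2) hT
  obtain ⟨hN, haddr₁, hsmulr₁, v, hv⟩ := exists_orth2 hF hf₁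
  have haddr₂ : ∀ x u w, f₂ x (u + w) = f₂ x u + f₂ x w := fun x u w => by
    rw [hf₂.herm x (u + w), hf₂.add_left, ← hσ, map_add, hσ, hσ, ← hf₂.herm, ← hf₂.herm]
  have hsmulr₂ : ∀ (t : F) u x, f₂ u (t • x) = t ^ 2 * f₂ u x := fun t u x => by
    rw [hf₂.herm u (t • x), hf₂.smul_left, mul_pow, ← hf₂.herm]
  have hgr₁ := gram_expand (g := f₁) (τ := fun x : F => x ^ 2) hf₁.add_left hf₁.smul_left haddr₁ hsmulr₁
  have hgr₂ := gram_expand (g := f₂) (τ := fun x : F => x ^ 2) hf₂.add_left hf₂.smul_left haddr₂ hsmulr₂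
  have hli := orth_li (τ := id) hf₁.add_left hf₁.smul_left one_ne_zero hv
  have hd : IsData (tmap e P) (Cfsg.hermForm n F 2) f₁ f₂ v c 1 := ⟨hc0, one_ne_zero, fun u u' w w' => by
    rw [hf, hgr₁, hgr₂], hv, fun w h => tmap_indep e P hli h, hli⟩
  have hn₂ : 7 ≤ n₂ := by
    have := Fintype.card_congr e
    simp at this
    omega
  -- an isotropic vector of the second factor
  obtain ⟨a, ha, haa⟩ : ∃ a, a ≠ 0 ∧ f₂ a a = 0 := by
    by_contra hall
    push Not at hall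
    have hfix : ∀ w, w ≠ 0 → f₂ w w = 1 := fun w hw => by
      have h := hf₂.herm w w
      have : f₂ w w * (f₂ w w - 1) = 0 := by linear_combination -h
      exact sub_eq_zero.1 ((mul_eq_zero.1 this).resolve_left (hall w hw))
    set x : Fin n₂ → F := Pi.single ⟨0, by omega⟩ 1 with hx
    have hx0 : x ≠ 0 := by simp [hx]
    obtain ⟨y, hy⟩ : ∃ y, y ∉ F ∙ x := by
      by_contra hc'
      push Not at hc'
      have h1 : finrank F (⊤ : Submodule F (Fin n₂ → F)) ≤ finrank F (F ∙ x) :=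
        Submodule.finrank_mono fun w _ => hc' w
      rw [finrank_top, Module.finrank_fin_fun, finrank_span_singleton hx0] at h1
      omega
    obtain ⟨z, hz⟩ : ∃ z, z = y + (-(f₂ y x)) • x := ⟨_, rfl⟩
    have hzs : z ∉ F ∙ x := fun h => hy (by
      have := Submodule.add_mem _ h (Submodule.smul_mem _ (f₂ y x) (Submodule.mem_span_singleton_self x))
      rwa [hz, neg_smul, neg_add_cancel_right] at this)
    have hz0 : z ≠ 0 := fun h => hzs (h ▸ Submodule.zero_mem _)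
    have hzx : f₂ z x = 0 := by rw [hz, hf₂.add_left, hf₂.smul_left, hfix x hx0]; ring
    refine hall (x + z) (fun h => hzs (Submodule.mem_span_singleton.2 ⟨-1, by
      rw [neg_one_smul, ← eq_neg_of_add_eq_zero_right h]⟩)) ?_
    rw [hf₂.add_left, haddr₂, haddr₂, hfix x hx0, hfix z hz0, hzx, hf₂.herm x z, hzx]
    linear_combination htwo
  obtain ⟨x, hax⟩ := (hf₂.nondegenerate a ha).1
  have hxa : x ∉ F ∙ a := fun hx => by
    obtain ⟨t, rfl⟩ := Submodule.mem_span_singleton.1 hx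
    exact hax (by rw [hf₂.smul_left, haa, mul_zero])
  let B := stdHerm σ n
  have hB : ∀ y z, B y z = Cfsg.hermForm n F 2 z y := fun y z => (hermForm_eq_stdHerm hσ z y).symm
  have hherm := stdHerm_isHermitian hc n
  have hN' := stdHerm_sepRight (σ := σ) n
  have hoff : ∀ i j, i ≠ j → ∀ w w', B (tmap e P (v i) w) (tmap e P (v j) w') = 0 := fun i j h w w' => by
    rw [hB, hd.off (Ne.symm h)]
  have hon : ∀ i w w', B (tmap e P (v i) w) (tmap e P (v i) w') = c * f₂ w' w := fun i w w' => by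
    rw [hB, hd.on, mul_one]
  have haa' : ∀ i, B (tmap e P (v i) a) (tmap e P (v i) a) = 0 := fun i => by rw [hon, haa, mul_zero]
  have h11 : (1 : F) + σ 1 = 0 := by rw [map_one]; linear_combination htwo
  obtain ⟨s₁, hs₁⟩ := hherm.exists_uTv hN' (v := tmap e P (v 0) a) (c := 1) (haa' 0) h11
  obtain ⟨s₂, hs₂⟩ := hherm.exists_uTv hN' (v := tmap e P (v 0) a + tmap e P (v 1) a) (c := 1) (by
    simp only [map_add, LinearMap.add_apply]
    rw [haa', haa', hoff 0 1 (by decide), hoff 1 0 (by decide)]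
    simp) h11
  have hmem : ∀ {g : isomGroup B} {d : Fin n → F}, IsUTv g d 1 →
      linToGL g.1 ∈ Cfsg.GU n F 2 ⊓ Cfsg.Geo.specialLinear (Fin n) F := fun {g d} hg => by
    refine ⟨(mem_GU_iff hσ).2 fun y z => ?_, ?_⟩
    · rw [linToGL_mulVec, linToGL_mulVec]; exact g.2 y z
    · refine MonoidHom.mem_ker.2 (Units.ext ?_)
      have := hherm.idet_uTv hg
      change LinearMap.det (g.1 : (Fin n → F) →ₗ[F] (Fin n → F)) = 1 at this
      rw [← LinearMap.det_toMatrix'] at this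
      exact this
  have hG : ∀ h ∈ Cfsg.GU n F 2 ⊓ Cfsg.Geo.specialLinear (Fin n) F, ∀ y z,
      Cfsg.hermForm n F 2 ((h : Matrix (Fin n) (Fin n) F) *ᵥ y) ((h : Matrix (Fin n) (Fin n) F) *ᵥ z) =
        Cfsg.hermForm n F 2 y z := fun h hh y z => hh.1 y z
  refine hd.exists_between ⟨x, a, hax⟩ hG (fun h hh => tmap_mul e P hh)
    (fun A μ hμ hA => mono2 hf₁.add_left hf₁.smul_left haddr₁ hsmulr₁ hN htwo hv hμ hA) (hmem hs₁)
    (i₀ := 0) (i₁ := 1) (by decide) ?_ ?_ ?_ ?_ (hmem hs₂) ?_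
  · intro i hi w
    rw [linToGL_mulVec, hs₁.2.2, hoff 0 i (Ne.symm hi)]
    simp
  · intro w
    exact ⟨w + (1 * B (tmap e P (v 0) a) (tmap e P (v 0) w)) • a, by
      rw [linToGL_mulVec, hs₁.2.2]; simp only [map_add, map_smul, B]⟩
  · refine ⟨x, fun h => ?_⟩
    rw [linToGL_mulVec, hs₁.2.2, hon, add_eq_left, one_mul, ← map_smul] at h
    have := hd.injective 0 (h.trans (map_zero _).symm)
    exact ha ((smul_eq_zero.1 this).resolve_left (mul_ne_zero hc0 hax))
  · refine ⟨a, ha, ?_⟩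
    rw [linToGL_mulVec, hs₁.2.2, hon, haa]
    simp
  · refine ⟨x, (c * f₂ x a) • a, x + (c * f₂ x a) • a, smul_ne_zero (mul_ne_zero hc0 hax) ha, fun h => hxa ?_, ?_⟩
    · exact Submodule.mem_span_singleton.2 ⟨-(c * f₂ x a), by rw [neg_smul, ← eq_neg_of_add_eq_zero_left h]⟩
    rw [linToGL_mulVec, hs₂.2.2, map_add B, LinearMap.add_apply, hoff 0 1 (by decide), hon, zero_add, one_mul]
    simp only [map_add, map_smul]
    module

end CfsgLib.Classical.TensorNonMax
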