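import Mathlib.LinearAlgebra.Matrix.SpecialLinearGroup
import Mathlib.LinearAlgebra.Matrix.Transvection
import Mathlib.GroupTheory.FixedPointFree
import Cfsg.Prelude.Def_Solvable
import Cfsg.Prelude.Def_Transfer
import Cfsg.Prelude.Def_MonsterType
import Cfsg.Agent.Lib.LocalEven.Residual
import Cfsg.Agent.Lib.PGroup.Frattini
import Cfsg.Agent.Lib.Solvable.Cores
import Cfsg.Agent.Lib.ThreeTransp.Simplicity

/-!
# The centralizer of a transvection in `SL` over the field with two elements

For `t = 1 + E_ij` the centralizer is the split extension of an extraspecial group `ker` by `SL`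
on the coordinates other than `i`, `j`; this extraspecial group is a large subgroup.
-/

set_option autoImplicit false
set_option linter.unusedSectionVars false

namespace CfsgLib.Classical.TransvectionTwo

open Matrix
open scoped commutatorElement

variable {ι : Type} [Fintype ι] [DecidableEq ι] {F : Type*} [Field F]

/-- The field has two elements. -/
def HasTwo (F : Type*) [Field F] : Prop := ∀ x : F, x = 0 ∨ x = 1

theorem HasTwo.eq_one (h : HasTwo F) {x : F} (hx : x ≠ 0) : x = 1 := (h x).resolve_left hx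

theorem HasTwo.two (h : HasTwo F) : (1 : F) + 1 = 0 :=
  (h _).resolve_right fun he => one_ne_zero (add_eq_left.1 he)

theorem HasTwo.add_self (h : HasTwo F) (x : F) : x + x = 0 := by
  rw [← mul_one x, ← mul_add, h.two, mul_zero]

theorem hasTwo_of_card [Fintype F] (h : Fintype.card F = 2) : HasTwo F := by
  classical
  intro x
  by_contra hx
  push Not at hx
  have h3 : ({0, 1, x} : Finset F).card = 3 := by
    simp [hx.1.symm, hx.2.symm]
  have := Finset.card_le_univ ({0, 1, x} : Finset F)
  omega

/-! ### Normal 2-subgroups of `SL` over the field with two elements -/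

theorem pCore_specialLinear_eq_bot [Finite F] (hF : HasTwo F) (κ : Type) [Fintype κ]
    [DecidableEq κ] : Cfsg.pCore 2 (SpecialLinearGroup κ F) = ⊥ := by
  classical
  haveI : Fact (Nat.Prime 2) := ⟨Nat.prime_two⟩
  haveI : Finite (SpecialLinearGroup κ F) := inferInstance
  set P := Cfsg.pCore 2 (SpecialLinearGroup κ F) with hP
  haveI : P.Normal := by rw [hP]; infer_instance
  rw [Subgroup.eq_bot_iff_forall]
  intro p hp
  rcases isEmpty_or_nonempty κ with hκ | hκ
  · exact Subtype.ext (Matrix.ext fun a => isEmptyElim a)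
  letI : Fintype F := Fintype.ofFinite F
  let act : MulAction P (κ → F) :=
    { smul := fun g v => g.1.1 *ᵥ v
      one_smul := fun v => Matrix.one_mulVec v
      mul_smul := fun g h v => (Matrix.mulVec_mulVec v g.1.1 h.1.1).symm }
  have hev : 2 ∣ Nat.card (κ → F) := by
    have hc : Fintype.card F = 2 := by
      rw [Fintype.card_eq_nat_card, Nat.card_eq_two_iff' (0 : F)]
      exact ⟨1, one_ne_zero, fun y hy => hF.eq_one hy⟩
    rw [Nat.card_fun, Nat.card_eq_fintype_card (α := F), hc]
    exact dvd_pow_self 2 (Nat.card_pos.ne')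
  obtain ⟨w, hw, hw0⟩ := (Solvable.Cores.isPGroup_pCore (G := SpecialLinearGroup κ F) 2)
    |>.exists_fixed_point_of_prime_dvd_card_of_fixed_point (κ → F) hev
      (a := 0) (fun g => Matrix.mulVec_zero _)
  have hfix : ∀ (g : SpecialLinearGroup κ F), ∀ q : P, q.1.1 *ᵥ (g.1 *ᵥ w) = g.1 *ᵥ w := by
    intro g q
    have h1 : (⟨g⁻¹ * q.1 * g⁻¹⁻¹, ‹P.Normal›.conj_mem _ q.2 g⁻¹⟩ : P).1.1 *ᵥ w = w :=
      hw ⟨g⁻¹ * q.1 * g⁻¹⁻¹, ‹P.Normal›.conj_mem _ q.2 g⁻¹⟩
    simp only [inv_inv] at h1
    calc q.1.1 *ᵥ (g.1 *ᵥ w) = (g * (g⁻¹ * q.1 * g)).1 *ᵥ w := by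
          rw [Matrix.mulVec_mulVec, ← mul_assoc, ← mul_assoc, mul_inv_cancel, one_mul]; rfl
      _ = g.1 *ᵥ w := by
          rw [show (g * (g⁻¹ * q.1 * g)).1 = g.1 * (g⁻¹ * q.1 * g).1 from rfl,
            ← Matrix.mulVec_mulVec, h1]
  obtain ⟨a, ha⟩ := Function.ne_iff.1 hw0.symm
  have ha1 : w a = 1 := hF.eq_one ha
  have hdet : ∀ u : κ → F, u a = 0 → (1 + vecMulVec u (Pi.single a 1)).det = 1 := by
    intro u hu
    refine hF.eq_one ?_
    refine (Matrix.isUnit_det_of_right_inverse (B := 1 - vecMulVec u (Pi.single a 1)) ?_).ne_zero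
    rw [add_mul, one_mul, mul_sub, mul_one, Matrix.vecMulVec_mul_vecMulVec]
    simp [hu]
  have hfa : p.1 *ᵥ Pi.single a 1 = Pi.single a 1 := by
    have h1 := hfix ⟨_, hdet (Pi.single a 1 - w) (by simp [ha1])⟩ ⟨p, hp⟩
    have h2 : (1 + vecMulVec (Pi.single a 1 - w) (Pi.single a 1)) *ᵥ w = Pi.single a 1 := by
      rw [Matrix.add_mulVec, Matrix.one_mulVec, Matrix.vecMulVec_mulVec]
      simp [ha1]
    simp only at h1
    rwa [h2] at h1
  have hfb : ∀ b, p.1 *ᵥ Pi.single b 1 = Pi.single b 1 := by
    intro b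
    rcases eq_or_ne b a with rfl | hb
    · exact hfa
    have h1 := hfix ⟨_, hdet (Pi.single a 1 + Pi.single b 1 - w)
      (by simp [ha1, hb.symm])⟩ ⟨p, hp⟩
    have h2 : (1 + vecMulVec (Pi.single a 1 + Pi.single b 1 - w) (Pi.single a 1)) *ᵥ w =
        Pi.single a 1 + Pi.single b 1 := by
      rw [Matrix.add_mulVec, Matrix.one_mulVec, Matrix.vecMulVec_mulVec]
      simp [ha1]
    simp only at h1
    rw [h2, Matrix.mulVec_add, hfa] at h1
    exact add_left_cancel h1
  refine Subtype.ext (Matrix.ext_of_mulVec_single fun b => ?_)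
  rw [hfb b]
  exact (Matrix.one_mulVec _).symm

/-! ### The block structure -/

/-- The coordinates other than `i` and `j`. -/
abbrev Rest (i j : ι) := {a : ι // a ≠ i ∧ a ≠ j}

theorem sum_split {i j : ι} (hij : i ≠ j) (f : ι → F) :
    ∑ a, f a = f i + f j + ∑ k : Rest i j, f k.1 := by
  classical
  rw [← Finset.sum_filter_add_sum_filter_not Finset.univ (fun a => a ≠ i ∧ a ≠ j) f, add_comm]
  congr 1
  · rw [show Finset.univ.filter (fun a => ¬(a ≠ i ∧ a ≠ j)) = {i, j} from by
      ext a; simp; tauto, Finset.sum_pair hij]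
  · exact Finset.sum_subtype _ (fun a => by simp) f

variable {i j : ι} {t : SpecialLinearGroup ι F}

theorem mem_centralizer_iff (hF : HasTwo F) (hij : i ≠ j) (ht : t.1 = transvection i j 1)
    {M : SpecialLinearGroup ι F} :
    M ∈ Subgroup.centralizer {t} ↔ (∀ a, a ≠ i → M.1 a i = 0) ∧ ∀ b, b ≠ j → M.1 j b = 0 := by
  rw [Subgroup.mem_centralizer_singleton_iff]
  constructor
  · intro h
    replace h : M.1 * transvection i j 1 = transvection i j 1 * M.1 := by
      rw [← ht]; exact congrArg Subtype.val h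
    refine ⟨fun a ha => ?_, fun b hb => ?_⟩
    · have h1 := congrFun (congrFun h a) j
      rw [mul_transvection_apply_same, transvection_mul_apply_of_ne _ _ _ _ ha, one_mul] at h1
      exact add_eq_left.1 h1
    · have h1 := congrFun (congrFun h i) b
      rw [mul_transvection_apply_of_ne _ _ _ _ hb, transvection_mul_apply_same, one_mul] at h1
      exact add_eq_left.1 h1.symm
  · rintro ⟨hi, hj⟩
    have hii : M.1 i i = 1 := hF.eq_one fun h0 => by
      have := M.2
      rw [Matrix.det_eq_zero_of_column_eq_zero i (fun a => (eq_or_ne a i).elim (fun e => e ▸ h0) (hi a))]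
        at this
      exact zero_ne_one this
    have hjj : M.1 j j = 1 := hF.eq_one fun h0 => by
      have := M.2
      rw [Matrix.det_eq_zero_of_row_eq_zero j (fun b => (eq_or_ne b j).elim (fun e => e ▸ h0) (hj b))]
        at this
      exact zero_ne_one this
    apply Subtype.ext
    change M.1 * t.1 = t.1 * M.1
    rw [ht]
    ext a b
    rcases eq_or_ne b j with rfl | hb <;> rcases eq_or_ne a i with rfl | ha
    · rw [mul_transvection_apply_same, transvection_mul_apply_same, hii, hjj]
    · rw [mul_transvection_apply_same, transvection_mul_apply_of_ne _ _ _ _ ha, hi a ha]; simp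
    · rw [mul_transvection_apply_of_ne _ _ _ _ hb, transvection_mul_apply_same, hj b hb]; simp
    · rw [mul_transvection_apply_of_ne _ _ _ _ hb, transvection_mul_apply_of_ne _ _ _ _ ha]

/-- Centralizers of a transvection, as a subgroup. -/
abbrev Cen (t : SpecialLinearGroup ι F) : Subgroup (SpecialLinearGroup ι F) :=
  Subgroup.centralizer {t}

variable (hF : HasTwo F) (hij : i ≠ j) (ht : t.1 = transvection i j 1)
include hF hij ht

theorem col_eq (M : Cen t) (a : ι) : M.1.1 a i = if a = i then 1 else 0 := by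
  obtain ⟨hi, -⟩ := (mem_centralizer_iff hF hij ht).1 M.2
  split_ifs with ha
  · subst ha
    refine hF.eq_one fun h0 => ?_
    have := M.1.2
    rw [Matrix.det_eq_zero_of_column_eq_zero a (fun b => (eq_or_ne b a).elim (fun e => e ▸ h0) (hi b))]
      at this
    exact zero_ne_one this
  · exact hi a ha

theorem row_eq (M : Cen t) (b : ι) : M.1.1 j b = if b = j then 1 else 0 := by
  obtain ⟨-, hj⟩ := (mem_centralizer_iff hF hij ht).1 M.2
  split_ifs with hb
  · subst hb
    refine hF.eq_one fun h0 => ?_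
    have := M.1.2
    rw [Matrix.det_eq_zero_of_row_eq_zero b (fun a => (eq_or_ne a b).elim (fun e => e ▸ h0) (hj a))]
      at this
    exact zero_ne_one this
  · exact hj b hb

theorem mul_block (M N : Cen t) (k l : Rest i j) :
    (M * N).1.1 k.1 l.1 = ∑ a : Rest i j, M.1.1 k.1 a.1 * N.1.1 a.1 l.1 := by
  change (M.1.1 * N.1.1) k.1 l.1 = _
  rw [Matrix.mul_apply, sum_split hij, col_eq hF hij ht M k.1, if_neg k.2.1,
    row_eq hF hij ht N l.1, if_neg l.2.2, zero_mul, mul_zero, add_zero, zero_add]

omit hF hij ht in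
theorem block_one (k l : Rest i j) : ((1 : Cen t).1.1) k.1 l.1 = (1 : Matrix (Rest i j) (Rest i j) F) k l := by
  change (1 : Matrix ι ι F) k.1 l.1 = _
  simp [Matrix.one_apply, Subtype.ext_iff]

/-- The block of an element of the centralizer. -/
def block : Cen t →* SpecialLinearGroup (Rest i j) F where
  toFun M := ⟨M.1.1.submatrix Subtype.val Subtype.val, by
    refine hF.eq_one (Matrix.isUnit_det_of_right_inverse
      (B := (M⁻¹).1.1.submatrix Subtype.val Subtype.val) ?_).ne_zero
    ext k l
    rw [← block_one (t := t), ← mul_inv_cancel M, mul_block hF hij ht]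
    rfl⟩
  map_one' := Subtype.ext (Matrix.ext fun k l => block_one (t := t) k l)
  map_mul' M N := Subtype.ext (Matrix.ext fun k l => mul_block hF hij ht M N k l)

theorem block_apply (M : Cen t) (k l : Rest i j) : (block hF hij ht M).1 k l = M.1.1 k.1 l.1 := rfl

omit hF hij ht in
/-- The extension of a block by the identity. -/
def ext (A : Matrix (Rest i j) (Rest i j) F) : Matrix ι ι F :=
  Matrix.of fun a b => if ha : a ≠ i ∧ a ≠ j then (if hb : b ≠ i ∧ b ≠ j then A ⟨a, ha⟩ ⟨b, hb⟩ else 0)
    else if a = b then 1 else 0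

omit hF ht in
theorem ext_mul (A B : Matrix (Rest i j) (Rest i j) F) :
    ext (i := i) (j := j) (A * B) = ext A * ext B := by
  ext a b
  rw [Matrix.mul_apply]
  by_cases ha : a ≠ i ∧ a ≠ j
  · rw [sum_split hij]
    by_cases hb : b ≠ i ∧ b ≠ j
    · simp [ext, ha, hb, Matrix.mul_apply, fun k : Rest i j => k.2.1, fun k : Rest i j => k.2.2]
    · simp [ext, ha, hb, fun k : Rest i j => k.2.1, fun k : Rest i j => k.2.2]
  · rw [Finset.sum_eq_single a]
    · simp [ext, ha]
    · intro c _ hc
      simp [ext, ha, hc.symm]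
    · simp

omit hF hij ht in
theorem ext_one : ext (i := i) (j := j) (1 : Matrix (Rest i j) (Rest i j) F) = 1 := by
  ext a b
  simp only [ext, Matrix.of_apply, Matrix.one_apply, Subtype.mk.injEq]
  by_cases ha : a ≠ i ∧ a ≠ j
  · rw [dif_pos ha]
    by_cases hb : b ≠ i ∧ b ≠ j
    · rw [dif_pos hb]
    · rw [dif_neg hb, if_neg fun h : a = b => hb (h ▸ ha)]
  · rw [dif_neg ha]

/-- The complement. -/
def section' : SpecialLinearGroup (Rest i j) F →* Cen t :=
  let f : SpecialLinearGroup (Rest i j) F →* SpecialLinearGroup ι F :=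
    { toFun := fun A => ⟨ext A.1, hF.eq_one (Matrix.isUnit_det_of_right_inverse (B := ext (A⁻¹).1)
        (by rw [← ext_mul hij, show A.1 * (A⁻¹).1 = 1 from congrArg Subtype.val (mul_inv_cancel A),
          ext_one])).ne_zero⟩
      map_one' := Subtype.ext ext_one
      map_mul' := fun A B => Subtype.ext (ext_mul hij A.1 B.1) }
  f.codRestrict _ fun A => (mem_centralizer_iff hF hij ht).2
    ⟨fun a ha => by
      change ext A.1 a i = 0
      by_cases h : a ≠ i ∧ a ≠ j <;> simp [ext, h, ha],
     fun b hb => by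
      change ext A.1 j b = 0
      simp [ext, hb.symm]⟩

theorem block_section (A : SpecialLinearGroup (Rest i j) F) :
    block hF hij ht (section' hF hij ht A) = A := by
  ext k l
  show ext A.1 k.1 l.1 = A.1 k l
  simp [ext, k.2, l.2]

/-- The kernel of `block`. -/
abbrev core : Subgroup (Cen t) := (block hF hij ht).ker

theorem core_entry (q : core hF hij ht) (k l : Rest i j) :
    q.1.1.1 k.1 l.1 = if k = l then 1 else 0 := by
  have h := congrFun (congrFun (congrArg (fun A : SpecialLinearGroup (Rest i j) F => A.1)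
    (MonoidHom.mem_ker.1 q.2)) k) l
  change q.1.1.1 k.1 l.1 = (1 : Matrix (Rest i j) (Rest i j) F) k l at h
  exact h.trans Matrix.one_apply

/-- The row of an element of the core. -/
def rowHom : core hF hij ht →* Multiplicative (Rest i j → F) where
  toFun q := Multiplicative.ofAdd fun k => q.1.1.1 i k.1
  map_one' := congrArg Multiplicative.ofAdd (funext fun k => Matrix.one_apply_ne k.2.1.symm)
  map_mul' p q := congrArg Multiplicative.ofAdd (funext fun l => by
    change (p.1.1.1 * q.1.1.1) i l.1 = p.1.1.1 i l.1 + q.1.1.1 i l.1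
    rw [Matrix.mul_apply, sum_split hij, col_eq hF hij ht p.1, if_pos rfl,
      row_eq hF hij ht q.1, if_neg l.2.2]
    simp [core_entry hF hij ht q, add_comm])

/-- The column of an element of the core. -/
def colHom : core hF hij ht →* Multiplicative (Rest i j → F) where
  toFun q := Multiplicative.ofAdd fun k => q.1.1.1 k.1 j
  map_one' := congrArg Multiplicative.ofAdd (funext fun k => Matrix.one_apply_ne k.2.2)
  map_mul' p q := congrArg Multiplicative.ofAdd (funext fun k => by
    change (p.1.1.1 * q.1.1.1) k.1 j = p.1.1.1 k.1 j + q.1.1.1 k.1 j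
    rw [Matrix.mul_apply, sum_split hij, col_eq hF hij ht p.1, if_neg k.2.1,
      row_eq hF hij ht q.1, if_pos rfl]
    simp [core_entry hF hij ht p])

theorem corner_mul (p q : core hF hij ht) : (p * q).1.1.1 i j =
    p.1.1.1 i j + q.1.1.1 i j + ∑ k : Rest i j, p.1.1.1 i k.1 * q.1.1.1 k.1 j := by
  change (p.1.1.1 * q.1.1.1) i j = _
  rw [Matrix.mul_apply, sum_split hij, col_eq hF hij ht p.1, if_pos rfl, row_eq hF hij ht q.1,
    if_pos rfl]
  ring

theorem core_ext {p q : core hF hij ht} (hr : ∀ k : Rest i j, p.1.1.1 i k.1 = q.1.1.1 i k.1)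
    (hc : ∀ k : Rest i j, p.1.1.1 k.1 j = q.1.1.1 k.1 j) (hs : p.1.1.1 i j = q.1.1.1 i j) :
    p = q := by
  refine Subtype.ext (Subtype.ext (Subtype.ext (Matrix.ext fun a b => ?_)))
  rcases eq_or_ne b i with rfl | hbi
  · rw [col_eq hF hij ht p.1, col_eq hF hij ht q.1]
  rcases eq_or_ne a j with rfl | haj
  · rw [row_eq hF hij ht p.1, row_eq hF hij ht q.1]
  rcases eq_or_ne a i with rfl | hai
  · rcases eq_or_ne b j with rfl | hbj
    · exact hs
    · exact hr ⟨b, hbi, hbj⟩
  · rcases eq_or_ne b j with rfl | hbj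
    · exact hc ⟨a, hai, haj⟩
    · exact (core_entry hF hij ht p ⟨a, hai, haj⟩ ⟨b, hbi, hbj⟩).trans
        (core_entry hF hij ht q ⟨a, hai, haj⟩ ⟨b, hbi, hbj⟩).symm

omit hF hij ht in
/-- The matrix of an element of the core. -/
def coreMat (r c : Rest i j → F) (s : F) : Matrix ι ι F :=
  Matrix.of fun a b => if a = b then 1
    else if a = i then (if b = j then s else if hb : b ≠ i ∧ b ≠ j then r ⟨b, hb⟩ else 0)
    else if b = j then (if ha : a ≠ i ∧ a ≠ j then c ⟨a, ha⟩ else 0) else 0

omit ht in
theorem coreMat_det (r c : Rest i j → F) (s : F) : (coreMat r c s).det = 1 := by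
  refine hF.eq_one fun h0 => ?_
  obtain ⟨v, hv, hMv⟩ := Matrix.exists_mulVec_eq_zero_iff.2 h0
  have e : ∀ a, ∑ b, coreMat r c s a b * v b = 0 := congrFun hMv
  have hj : v j = 0 := by
    have := e j
    rw [Finset.sum_eq_single j (fun b _ hb => by simp [coreMat, hb, hb.symm, hij.symm]) (by simp)]
      at this
    simpa [coreMat] using this
  have hk : ∀ a, a ≠ i → v a = 0 := by
    intro a ha
    have := e a
    rw [Finset.sum_eq_single a (fun b _ hb => by
      by_cases hbj : b = j
      · rw [hbj, hj, mul_zero]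
      · simp [coreMat, hb.symm, ha, hbj]) (by simp)] at this
    simpa [coreMat] using this
  refine hv (funext fun a => ?_)
  by_cases ha : a = i
  · subst ha
    have := e a
    rw [Finset.sum_eq_single a (fun b _ hb => by rw [hk b hb, mul_zero]) (by simp)] at this
    simpa [coreMat] using this
  · exact hk a ha

/-- The element of the core with given parameters. -/
def coreEl (r c : Rest i j → F) (s : F) : core hF hij ht :=
  ⟨⟨⟨coreMat r c s, coreMat_det hF hij r c s⟩,
    (mem_centralizer_iff hF hij ht).2 ⟨fun a ha => by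
      change coreMat r c s a i = 0
      simp [coreMat, ha, hij],
    fun b hb => by
      change coreMat r c s j b = 0
      simp [coreMat, hb.symm, hb, hij.symm]⟩⟩, by
    rw [MonoidHom.mem_ker]
    refine Subtype.ext (Matrix.ext fun k l => ?_)
    change coreMat r c s k.1 l.1 = (1 : Matrix (Rest i j) (Rest i j) F) k l
    simp [coreMat, k.2.1, l.2.2, Matrix.one_apply, Subtype.ext_iff]⟩

theorem coreEl_row (r c : Rest i j → F) (s : F) (k : Rest i j) :
    (coreEl hF hij ht r c s).1.1.1 i k.1 = r k := by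
  change coreMat r c s i k.1 = _
  simp [coreMat, k.2.1.symm, k.2.2, k.2.1]

theorem coreEl_col (r c : Rest i j → F) (s : F) (k : Rest i j) :
    (coreEl hF hij ht r c s).1.1.1 k.1 j = c k := by
  change coreMat r c s k.1 j = _
  simp [coreMat, k.2.1, k.2.2]

theorem coreEl_corner (r c : Rest i j → F) (s : F) : (coreEl hF hij ht r c s).1.1.1 i j = s := by
  change coreMat r c s i j = _
  simp [coreMat, hij]

/-- The parametrisation of the core. -/
def coreEquiv : core hF hij ht ≃ ((Rest i j → F) × (Rest i j → F)) × F where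
  toFun q := ((fun k => q.1.1.1 i k.1, fun k => q.1.1.1 k.1 j), q.1.1.1 i j)
  invFun x := coreEl hF hij ht x.1.1 x.1.2 x.2
  left_inv q := core_ext hF hij ht (fun k => coreEl_row hF hij ht _ _ _ k)
    (fun k => coreEl_col hF hij ht _ _ _ k) (coreEl_corner hF hij ht _ _ _)
  right_inv x := Prod.ext (Prod.ext (funext fun k => coreEl_row hF hij ht _ _ _ k)
    (funext fun k => coreEl_col hF hij ht _ _ _ k)) (coreEl_corner hF hij ht _ _ _)

theorem card_core [Finite F] :
    Nat.card (core hF hij ht) = 2 ^ (2 * Fintype.card (Rest i j) + 1) := by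
  have hc : Nat.card F = 2 := by
    rw [Nat.card_eq_two_iff' (0 : F)]
    exact ⟨1, one_ne_zero, fun y hy => hF.eq_one hy⟩
  rw [Nat.card_congr (coreEquiv hF hij ht), Nat.card_prod, Nat.card_prod, Nat.card_fun, hc,
    Nat.card_eq_fintype_card, ← pow_add, ← pow_succ, two_mul]

theorem tMem : t ∈ Cen t := Subgroup.mem_centralizer_singleton_iff.2 rfl

/-- The transvection in the core. -/
def coreT : core hF hij ht := coreEl hF hij ht 0 0 1

theorem coe_coreT : (coreT hF hij ht).1.1 = t := by
  refine Subtype.ext ?_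
  change coreMat 0 0 1 = t.1
  rw [ht]
  ext a b
  rcases eq_or_ne a b with rfl | hab
  · simp [coreMat, Matrix.transvection, Matrix.single]
    rintro rfl
    exact fun h => hij h.symm
  · rcases eq_or_ne a i with rfl | hai
    · by_cases hb : b = j
      · subst hb; simp [coreMat, Matrix.transvection, hab]
      · simp [coreMat, Matrix.transvection, hab, hb, Ne.symm hb]
    · simp [coreMat, Matrix.transvection, hab, hai, Ne.symm hai]

theorem mem_center_core_iff (q : core hF hij ht) :
    q ∈ Subgroup.center (core hF hij ht) ↔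
      (∀ k : Rest i j, q.1.1.1 i k.1 = 0) ∧ ∀ k : Rest i j, q.1.1.1 k.1 j = 0 := by
  classical
  rw [Subgroup.mem_center_iff]
  constructor
  · intro h
    refine ⟨fun k => ?_, fun k => ?_⟩
    · have h1 := congrArg (fun x : core hF hij ht => x.1.1.1 i j) (h (coreEl hF hij ht 0 (Pi.single k 1) 0))
      rw [corner_mul, corner_mul] at h1
      simpa [coreEl_row, coreEl_col, coreEl_corner, Pi.single_apply, add_comm] using h1.symm
    · have h1 := congrArg (fun x : core hF hij ht => x.1.1.1 i j) (h (coreEl hF hij ht (Pi.single k 1) 0 0))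
      rw [corner_mul, corner_mul] at h1
      simpa [coreEl_row, coreEl_col, coreEl_corner, Pi.single_apply, add_comm] using h1
  · rintro ⟨hr, hc⟩ p
    refine core_ext hF hij ht (fun k => ?_) (fun k => ?_) ?_
    · exact congrFun (congrArg Multiplicative.toAdd
        ((map_mul (rowHom hF hij ht) p q).trans ((mul_comm _ _).trans (map_mul _ q p).symm))) k
    · exact congrFun (congrArg Multiplicative.toAdd
        ((map_mul (colHom hF hij ht) p q).trans ((mul_comm _ _).trans (map_mul _ q p).symm))) k
    · rw [corner_mul, corner_mul]; simp [hr, hc, add_comm]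

theorem center_core_cases {q : core hF hij ht} (hq : q ∈ Subgroup.center (core hF hij ht)) :
    q = 1 ∨ q = coreT hF hij ht := by
  obtain ⟨hr, hc⟩ := (mem_center_core_iff hF hij ht q).1 hq
  rcases hF (q.1.1.1 i j) with h | h
  · left
    exact core_ext hF hij ht (fun k => (hr k).trans (Matrix.one_apply_ne k.2.1.symm).symm)
      (fun k => (hc k).trans (Matrix.one_apply_ne k.2.2).symm) (h.trans (Matrix.one_apply_ne hij).symm)
  · right
    exact core_ext hF hij ht (fun k => (hr k).trans (coreEl_row hF hij ht 0 0 1 k).symm)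
      (fun k => (hc k).trans (coreEl_col hF hij ht 0 0 1 k).symm)
      (h.trans (coreEl_corner hF hij ht 0 0 1).symm)

theorem coreT_mem_center : coreT hF hij ht ∈ Subgroup.center (core hF hij ht) :=
  (mem_center_core_iff hF hij ht _).2 ⟨coreEl_row hF hij ht 0 0 1, coreEl_col hF hij ht 0 0 1⟩

theorem coreT_ne_one : coreT hF hij ht ≠ 1 := fun h =>
  zero_ne_one ((Matrix.one_apply_ne hij).symm.trans
    ((congrArg (fun x => x.1.1.1 i j) h).symm.trans (coreEl_corner hF hij ht 0 0 1)))

theorem core_isExtraspecial [Finite F] [Nonempty (Rest i j)] :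
    Cfsg.IsExtraspecial 2 (core hF hij ht) := by
  classical
  haveI : Fact (Nat.Prime 2) := ⟨Nat.prime_two⟩
  have hP : IsPGroup 2 (core hF hij ht) := IsPGroup.of_card (card_core hF hij ht)
  have hZ : ∀ a, a ∈ Subgroup.center (core hF hij ht) ↔ a = 1 ∨ a = coreT hF hij ht := fun a =>
    ⟨center_core_cases hF hij ht, fun h => h.elim (fun e => e ▸ one_mem _)
      (fun e => e ▸ coreT_mem_center hF hij ht)⟩
  obtain ⟨k₀⟩ := ‹Nonempty (Rest i j)›
  let x := coreEl hF hij ht (Pi.single k₀ 1) 0 0
  let y := coreEl hF hij ht 0 (Pi.single k₀ 1) 0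
  have hker : ∀ a b : core hF hij ht, ⁅a, b⁆ ∈ Subgroup.center (core hF hij ht) := by
    intro a b
    rw [mem_center_core_iff]
    refine ⟨fun k => ?_, fun k => ?_⟩
    · exact congrFun (congrArg Multiplicative.toAdd (show rowHom hF hij ht ⁅a, b⁆ = 1 by
        rw [map_commutatorElement, commutatorElement_eq_one_iff_commute]; exact Commute.all _ _)) k
    · exact congrFun (congrArg Multiplicative.toAdd (show colHom hF hij ht ⁅a, b⁆ = 1 by
        rw [map_commutatorElement, commutatorElement_eq_one_iff_commute]; exact Commute.all _ _)) k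
  have hxy : ⁅x, y⁆ = coreT hF hij ht := by
    refine (center_core_cases hF hij ht (hker x y)).resolve_left fun h => ?_
    have h1 := congrArg (fun u : core hF hij ht => u.1.1.1 i j)
      (commutatorElement_eq_one_iff_mul_comm.1 h)
    rw [corner_mul, corner_mul] at h1
    simp [x, y, coreEl_row, coreEl_col, coreEl_corner, Pi.single_apply] at h1
  have hcomm : commutator (core hF hij ht) = Subgroup.center (core hF hij ht) := by
    refine le_antisymm ?_ ?_
    · rw [commutator_def, Subgroup.commutator_le]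
      exact fun a _ b _ => hker a b
    · intro a ha
      rcases (hZ a).1 ha with rfl | rfl
      · exact one_mem _
      · rw [← hxy]
        exact Subgroup.commutator_mem_commutator (Subgroup.mem_top _) (Subgroup.mem_top _)
  refine ⟨⟨hP, le_antisymm ?_ ?_, hcomm⟩, ?_⟩
  · refine LocalEven.Residual.frattini_le (p := 2) hker fun a => ?_
    rw [pow_two, mem_center_core_iff]
    refine ⟨fun k => ?_, fun k => ?_⟩
    · exact (congrFun (congrArg Multiplicative.toAdd (map_mul (rowHom hF hij ht) a a)) k).trans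
        (hF.add_self _)
    · exact (congrFun (congrArg Multiplicative.toAdd (map_mul (colHom hF hij ht) a a)) k).trans
        (hF.add_self _)
  · intro a ha
    rcases (hZ a).1 ha with rfl | rfl
    · exact one_mem _
    · rw [← hxy]
      exact CfsgLib.PGroup.Frattini.commutatorElement_mem_frattini hP x y
  · have h2 : (Subgroup.center (core hF hij ht) : Set (core hF hij ht)) = {1, coreT hF hij ht} :=
      Set.ext fun a => by simpa using hZ a
    rw [← SetLike.coe_sort_coe, h2, Nat.card_coe_set_eq,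
      Set.ncard_pair (coreT_ne_one hF hij ht).symm]

theorem pCore_cen [Finite F] : Cfsg.pCore 2 (Cen t) = core hF hij ht := by
  haveI : Fact (Nat.Prime 2) := ⟨Nat.prime_two⟩
  refine le_antisymm ?_ (Solvable.Cores.le_pCore (IsPGroup.of_card (card_core hF hij ht)))
  intro x hx
  rw [MonoidHom.mem_ker, ← Subgroup.mem_bot, ← pCore_specialLinear_eq_bot hF (Rest i j)]
  haveI : ((Cfsg.pCore 2 (Cen t)).map (block hF hij ht)).Normal :=
    (inferInstance : (Cfsg.pCore 2 (Cen t)).Normal).map _
      fun A => ⟨section' hF hij ht A, block_section hF hij ht A⟩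
  exact Solvable.Cores.le_pCore ((Solvable.Cores.isPGroup_pCore 2).map (block hF hij ht))
    ⟨x, hx, rfl⟩

/-- The row element of the core at the coordinate `k`. -/
def rowEl (k : Rest i j) : core hF hij ht := coreEl hF hij ht (Pi.single k 1) 0 0

theorem coe_rowEl (k : Rest i j) : (rowEl hF hij ht k).1.1.1 = transvection i k.1 1 := by
  change coreMat (Pi.single k 1) 0 0 = _
  ext a b
  rcases eq_or_ne a b with rfl | hab
  · simp [coreMat, Matrix.transvection, Matrix.single]
    rintro rfl
    exact k.2.1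
  rcases eq_or_ne a i with rfl | hai
  · rcases eq_or_ne b j with rfl | hbj
    · simp [coreMat, Matrix.transvection, hab, k.2.2]
    · simp [coreMat, Matrix.transvection, hab, hbj, Ne.symm hbj, Ne.symm hab, Pi.single_apply, Subtype.ext_iff,
        Matrix.single, eq_comm]
  · simp [coreMat, Matrix.transvection, hab, hai, Ne.symm hai]

theorem mem_core_of_commute {M : Cen t} (h : ∀ q ∈ core hF hij ht, q * M = M * q) :
    M ∈ core hF hij ht := by
  rw [MonoidHom.mem_ker]
  refine Subtype.ext (Matrix.ext fun k l => ?_)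
  change M.1.1 k.1 l.1 = (1 : Matrix (Rest i j) (Rest i j) F) k l
  have h1 := congrFun (congrFun (congrArg (fun x : Cen t => x.1.1) (h _ (rowEl hF hij ht k).2)) i) l.1
  change ((rowEl hF hij ht k).1.1.1 * M.1.1) i l.1 = (M.1.1 * (rowEl hF hij ht k).1.1.1) i l.1 at h1
  rw [coe_rowEl, transvection_mul_apply_same, one_mul] at h1
  rcases eq_or_ne k l with rfl | hkl
  · rw [mul_transvection_apply_same, col_eq hF hij ht M, if_pos rfl, one_mul] at h1
    rw [Matrix.one_apply_eq]
    exact add_left_cancel h1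
  · rw [mul_transvection_apply_of_ne _ _ _ _ (fun he => hkl (Subtype.ext he.symm))] at h1
    rw [Matrix.one_apply_ne hkl]
    exact add_eq_left.1 h1

theorem fixes_of_commute {k : SpecialLinearGroup ι F} {e : SpecialLinearGroup ι F} {l : Rest i j}
    (he : e.1 = transvection i l.1 1 ∨ e.1 = transvection i j 1 * transvection i l.1 1)
    (h : k * e = e * k) (a : ι) : k.1 a i = if a = i then 1 else 0 := by
  have h0 : ∀ a, a ≠ i → k.1 a i = 0 := by
    intro a ha
    have h1 := congrFun (congrFun (congrArg Subtype.val h) a) l.1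
    change (k.1 * e.1) a l.1 = (e.1 * k.1) a l.1 at h1
    rcases he with he | he <;> rw [he] at h1
    · rw [mul_transvection_apply_same, transvection_mul_apply_of_ne _ _ _ _ ha, one_mul] at h1
      exact add_eq_left.1 h1
    · rw [← Matrix.mul_assoc, mul_transvection_apply_same, mul_transvection_apply_of_ne _ _ _ _ l.2.2,
        mul_transvection_apply_of_ne _ _ _ _ hij, Matrix.mul_assoc,
        transvection_mul_apply_of_ne _ _ _ _ ha, transvection_mul_apply_of_ne _ _ _ _ ha, one_mul] at h1
      exact add_eq_left.1 h1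
  split_ifs with ha
  · subst ha
    refine hF.eq_one fun h0' => ?_
    have := k.2
    rw [Matrix.det_eq_zero_of_column_eq_zero a (fun b => (eq_or_ne b a).elim (fun e => e ▸ h0') (h0 b))]
      at this
    exact zero_ne_one this
  · exact h0 a ha

theorem odd_normalized_eq_bot [Finite F] [Nonempty (Rest i j)]
    (K : Subgroup (SpecialLinearGroup ι F)) (hK : Odd (Nat.card K))
    (hn : ∀ q ∈ core hF hij ht, ∀ k ∈ K, q.1 * k * q.1⁻¹ ∈ K) : K = ⊥ := by
  classical
  haveI : Fact (Nat.Prime 2) := ⟨Nat.prime_two⟩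
  have hone : ∀ x : SpecialLinearGroup ι F, x ∈ K → ∀ m : ℕ, x ^ 2 ^ m = 1 → x = 1 := by
    intro x hx m hm
    have h1 : orderOf x ∣ 2 ^ m := orderOf_dvd_of_pow_eq_one hm
    have h2 : orderOf x ∣ Nat.card K := Subgroup.orderOf_dvd_natCard K hx
    have h3 : Nat.Coprime (2 ^ m) (Nat.card K) :=
      Nat.Coprime.pow_left m (
        (Nat.Prime.coprime_iff_not_dvd Nat.prime_two).2 fun h => Nat.not_even_iff_odd.2 hK (even_iff_two_dvd.2 h))
    exact orderOf_eq_one_iff.1 (Nat.eq_one_of_dvd_coprimes h3 h1 h2)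
  have hfree : ∀ k ∈ K, k ∈ Cen t → k = 1 := by
    intro k hk hkC
    have hc : (⟨k, hkC⟩ : Cen t) ∈ core hF hij ht := by
      refine mem_core_of_commute hF hij ht fun q hq => Subtype.ext ?_
      have hmemK : q.1 * k * q.1⁻¹ * k⁻¹ ∈ K := mul_mem (hn q hq k hk) (inv_mem hk)
      have hmemQ : q * ⟨k, hkC⟩ * q⁻¹ * (⟨k, hkC⟩ : Cen t)⁻¹ ∈ core hF hij ht := by
        rw [mul_assoc, mul_assoc]
        exact mul_mem hq (by
          rw [← mul_assoc]
          exact (inferInstance : (core hF hij ht).Normal).conj_mem _ (inv_mem hq) ⟨k, hkC⟩)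
      obtain ⟨m, hm⟩ := IsPGroup.of_card (card_core hF hij ht) ⟨_, hmemQ⟩
      have h1 := hone _ hmemK m (by simpa using congrArg (fun u => (u.1.1 : SpecialLinearGroup ι F)) hm)
      exact commutatorElement_eq_one_iff_mul_comm.1 h1
    obtain ⟨m, hm⟩ := IsPGroup.of_card (card_core hF hij ht) ⟨_, hc⟩
    exact hone k hk m (by simpa using congrArg (fun u => (u.1.1 : SpecialLinearGroup ι F)) hm)
  have htt : t * t = 1 := by
    apply Subtype.ext
    change t.1 * t.1 = 1
    rw [ht, transvection_mul_transvection_same _ _ hij, hF.two, transvection_zero]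
  have htK : ∀ k ∈ K, t * k * t⁻¹ ∈ K := fun k hk => by
    have h1 := hn _ (coreT hF hij ht).2 k hk
    rwa [coe_coreT] at h1
  let φ : K →* K :=
    { toFun := fun k => ⟨t * k * t⁻¹, htK k k.2⟩
      map_one' := Subtype.ext (by simp)
      map_mul' := fun a b => Subtype.ext (by simp [mul_assoc]) }
  have hφ : MonoidHom.FixedPointFree φ := fun g hg => Subtype.ext (hfree _ g.2
    (Subgroup.mem_centralizer_singleton_iff.2
      (mul_inv_eq_iff_eq_mul.1 (congrArg Subtype.val hg)).symm))
  have hinv : ∀ k ∈ K, t * k * t⁻¹ = k⁻¹ := fun k hk =>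
    congrArg Subtype.val (congrFun (MonoidHom.FixedPointFree.coe_eq_inv_of_involutive hφ (fun x =>
      Subtype.ext (by
        show t * (t * x.1 * t⁻¹) * t⁻¹ = x.1
        rw [inv_eq_of_mul_eq_one_right htt, mul_assoc t, mul_assoc (t * x.1), htt, mul_one,
          ← mul_assoc, htt, one_mul]))) ⟨k, hk⟩)
  rw [Subgroup.eq_bot_iff_forall]
  intro k₀ hk₀
  by_contra hne
  obtain ⟨l⟩ := ‹Nonempty (Rest i j)›
  set e := (rowEl hF hij ht l).1.1 with he
  have hee : e * e = 1 := by
    apply Subtype.ext
    change e.1 * e.1 = 1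
    rw [he, coe_rowEl, transvection_mul_transvection_same _ _ l.2.1.symm, hF.two, transvection_zero]
  have hte : t * e = e * t := (Subgroup.mem_centralizer_singleton_iff.1 (rowEl hF hij ht l).1.2).symm
  have heK : ∀ k ∈ K, e * k * e⁻¹ ∈ K := fun k hk => hn _ (rowEl hF hij ht l).2 k hk
  obtain ⟨k, hk, hk1, u, hu, hcu⟩ : ∃ k ∈ K, k ≠ 1 ∧ ∃ u : SpecialLinearGroup ι F,
      (u.1 = transvection i l.1 1 ∨ u.1 = transvection i j 1 * transvection i l.1 1) ∧ k * u = u * k := by
    by_cases hcase : k₀ * e = e * k₀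
    · exact ⟨k₀, hk₀, hne, e, Or.inl (coe_rowEl hF hij ht l), hcase⟩
    refine ⟨e * k₀ * e⁻¹ * k₀⁻¹, mul_mem (heK _ hk₀) (inv_mem hk₀), fun h => hcase
      (commutatorElement_eq_one_iff_mul_comm.1 h).symm, t * e,
      Or.inr (show (t * e).1 = _ from by rw [Matrix.SpecialLinearGroup.coe_mul, ht, he, coe_rowEl]), ?_⟩
    set x := e * k₀ * e⁻¹ * k₀⁻¹ with hx
    have hxK : x ∈ K := mul_mem (heK _ hk₀) (inv_mem hk₀)
    have hcomm : ∀ a ∈ K, ∀ b ∈ K, a * b = b * a := fun a ha b hb => congrArg Subtype.val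
      ((MonoidHom.FixedPointFree.commute_all_of_involutive hφ (fun x =>
      Subtype.ext (by
        show t * (t * x.1 * t⁻¹) * t⁻¹ = x.1
        rw [inv_eq_of_mul_eq_one_right htt, mul_assoc t, mul_assoc (t * x.1), htt, mul_one,
          ← mul_assoc, htt, one_mul])) ⟨a, ha⟩ ⟨b, hb⟩).eq)
    have h1 : e * x * e⁻¹ = x⁻¹ := by
      have : e * x * e⁻¹ = k₀ * (e * k₀ * e⁻¹)⁻¹ := by
        rw [hx, inv_eq_of_mul_eq_one_right hee]
        simp only [_root_.mul_inv_rev, inv_eq_of_mul_eq_one_right hee, mul_assoc]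
        rw [← mul_assoc e e, hee, one_mul]
      rw [this, hx]
      group
    have h2 : (t * e) * x * (t * e)⁻¹ = x := by
      rw [_root_.mul_inv_rev, show t * e * x * (e⁻¹ * t⁻¹) = t * (e * x * e⁻¹) * t⁻¹ from by group, h1,
        hinv _ (inv_mem hxK), inv_inv]
    exact (mul_inv_eq_iff_eq_mul.1 h2).symm
  have hcol := fixes_of_commute hF hij ht hu hcu
  have hcol' := fixes_of_commute hF hij ht hu (show k⁻¹ * u = u * k⁻¹ from
    (Commute.inv_left (show Commute k u from hcu)).eq)
  have hT : k * t * k⁻¹ ∈ Cen t := by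
    have hent : ∀ a b, (k * t * k⁻¹).1 a b =
        (1 : Matrix ι ι F) a b + k.1 a i * (k⁻¹).1 j b := by
      intro a b
      change (k.1 * t.1 * (k⁻¹).1) a b = _
      rw [ht, Matrix.mul_assoc, Matrix.transvection, Matrix.add_mul, Matrix.one_mul, Matrix.mul_add,
        Matrix.add_apply, show k.1 * (k⁻¹).1 = 1 from congrArg Subtype.val (mul_inv_cancel k)]
      congr 1
      rw [← Matrix.mul_assoc, Matrix.mul_apply, Finset.sum_eq_single j
        (fun c _ hc => by rw [Matrix.mul_single_apply_of_ne _ _ _ _ _ hc, zero_mul]) (by simp),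
        Matrix.mul_single_apply_same, mul_one]
    refine (mem_centralizer_iff hF hij ht).2 ⟨fun a ha => ?_, fun b hb => ?_⟩
    · rw [hent, hcol a, if_neg ha, zero_mul, add_zero, Matrix.one_apply_ne ha]
    · rw [hent, hcol j, if_neg hij.symm, zero_mul, add_zero, Matrix.one_apply_ne hb.symm]
  refine hk1 ?_
  have hkt : t * k = k⁻¹ * t := by rw [← hinv k hk, inv_mul_cancel_right]
  have hkt' : t * k⁻¹ = k * t := by
    have := hinv _ (inv_mem hk)
    rw [inv_inv] at this
    exact mul_inv_eq_iff_eq_mul.1 this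
  have h1 : k * k ∈ Cen t := by
    have h2 : k * t * k⁻¹ = k * k * t := by rw [mul_assoc, hkt', ← mul_assoc]
    rw [h2] at hT
    simpa [mul_assoc, htt] using mul_mem hT (Subgroup.mem_centralizer_singleton_iff.2 rfl : t ∈ Cen t)
  exact hone k hk 1 (by rw [pow_one, pow_two]; exact hfree _ (mul_mem hk hk) h1)

/-! ### Transport along an embedding -/

theorem structure_theorem [Finite F] [Nonempty (Rest i j)] {G : Type*} [Group G] [Finite G]
    (ψ : G →* SpecialLinearGroup ι F) (hψ : Function.Injective ψ) (hrange : Cen t ≤ ψ.range)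
    (z : G) (hz : ψ z = t) (Q : Subgroup G)
    (hQ : Q = (Cfsg.pCore 2 ↥(Subgroup.centralizer ({z} : Set G))).map
      (Subgroup.centralizer ({z} : Set G)).subtype) :
    Cfsg.IsExtraspecial 2 ↥Q ∧ Nat.card ↥Q = 2 ^ (2 * Fintype.card (Rest i j) + 1) ∧
      (∃ E : Subgroup G, E ≤ Q ∧ Cfsg.IsElementaryAbelian 2 E ∧
        Nat.card ↥E = 2 ^ (Fintype.card (Rest i j) + 1)) ∧
      Cfsg.IsLargeExtraspecial Q ∧
      ∃ K : Subgroup G, K ≤ Subgroup.centralizer ({z} : Set G) ∧ Q ⊓ K = ⊥ ∧
        Q ⊔ K = Subgroup.centralizer ({z} : Set G) ∧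
        Nonempty (↥K ≃* SpecialLinearGroup (Rest i j) F) := by
  classical
  set C := Subgroup.centralizer ({z} : Set G) with hC
  have hmem : ∀ x : G, x ∈ C ↔ ψ x ∈ Cen t := fun x => by
    rw [hC, Subgroup.mem_centralizer_singleton_iff, Subgroup.mem_centralizer_singleton_iff, ← hz,
      ← map_mul, ← map_mul, hψ.eq_iff]
  let η : C ≃* Cen t := MulEquiv.ofBijective ((ψ.comp C.subtype).codRestrict _ fun x => (hmem x.1).1 x.2)
    ⟨fun a b h => Subtype.ext (hψ (congrArg Subtype.val h)), fun y => by
      obtain ⟨x, hx⟩ := hrange y.2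
      exact ⟨⟨x, (hmem x).2 (hx ▸ y.2)⟩, Subtype.ext hx⟩⟩
  let emb : Cen t →* G := C.subtype.comp η.symm.toMonoidHom
  have hemb : Function.Injective emb := C.subtype_injective.comp η.symm.injective
  have hψemb : ∀ y, ψ (emb y) = y.1 := fun y => congrArg Subtype.val (η.apply_symm_apply y)
  have hQ' : Q = (core hF hij ht).map emb := by
    rw [hQ, ← pCore_cen hF hij ht, ← Subgroup.map_map, Solvable.Cores.map_pCore η.symm 2]
  let eQ : core hF hij ht ≃* Q := ((core hF hij ht).equivMapOfInjective emb hemb).trans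
    (MulEquiv.subgroupCongr hQ'.symm)
  have hext : Cfsg.IsExtraspecial 2 Q :=
    ThreeTransp.Simplicity.isExtraspecial_of_equiv eQ (core_isExtraspecial hF hij ht)
  have hzC : z ∈ C := Subgroup.mem_centralizer_singleton_iff.2 rfl
  have hembz : emb (coreT hF hij ht).1 = z := hψ (by rw [hψemb, coe_coreT, hz])
  have hcenter : (Subgroup.center Q).map Q.subtype = Subgroup.zpowers z := by
    refine le_antisymm ?_ ?_
    · rintro _ ⟨w, hw, rfl⟩
      obtain ⟨q, rfl⟩ := eQ.surjective w
      have hq : q ∈ Subgroup.center (core hF hij ht) := Subgroup.mem_center_iff.2 fun p =>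
        eQ.injective (by rw [map_mul, map_mul]; exact Subgroup.mem_center_iff.1 hw (eQ p))
      rcases center_core_cases hF hij ht hq with rfl | rfl
      · rw [map_one, map_one]; exact one_mem _
      · exact Subgroup.mem_zpowers_iff.2 ⟨1, by rw [zpow_one]; exact hembz.symm⟩
    · rw [Subgroup.zpowers_le]
      exact ⟨eQ (coreT hF hij ht), Subgroup.mem_center_iff.2 fun p => by
        obtain ⟨p', rfl⟩ := eQ.surjective p
        rw [← map_mul, ← map_mul, Subgroup.mem_center_iff.1 (coreT_mem_center hF hij ht) p'], hembz⟩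
  refine ⟨hext, (Nat.card_congr eQ.toEquiv).symm.trans (card_core hF hij ht), ?_, ⟨hext, ?_, ?_, ?_⟩, ?_⟩
  · refine ⟨(colHom hF hij ht).ker.map (Q.subtype.comp eQ.toMonoidHom), ?_, ?_, ?_⟩
    · rintro _ ⟨q, -, rfl⟩; exact (eQ q).2
    · refine ⟨⟨⟨?_⟩⟩, ?_⟩
      · rintro ⟨_, a, ha, rfl⟩ ⟨_, b, hb, rfl⟩
        refine Subtype.ext ?_
        change (Q.subtype.comp eQ.toMonoidHom) a * (Q.subtype.comp eQ.toMonoidHom) b =
          (Q.subtype.comp eQ.toMonoidHom) b * (Q.subtype.comp eQ.toMonoidHom) a
        rw [← map_mul, ← map_mul]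
        refine congrArg _ (core_ext hF hij ht (fun k => ?_) (fun k => ?_) ?_)
        · exact congrFun (congrArg Multiplicative.toAdd
            ((map_mul (rowHom hF hij ht) a b).trans ((mul_comm _ _).trans (map_mul _ b a).symm))) k
        · exact congrFun (congrArg Multiplicative.toAdd
            ((map_mul (colHom hF hij ht) a b).trans ((mul_comm _ _).trans (map_mul _ b a).symm))) k
        · have ha' : ∀ k : Rest i j, a.1.1.1 k.1 j = 0 := fun k =>
            congrFun (congrArg Multiplicative.toAdd (MonoidHom.mem_ker.1 ha)) k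
          have hb' : ∀ k : Rest i j, b.1.1.1 k.1 j = 0 := fun k =>
            congrFun (congrArg Multiplicative.toAdd (MonoidHom.mem_ker.1 hb)) k
          rw [corner_mul, corner_mul]; simp [ha', hb', add_comm]
      · rintro _ ⟨a, ha, rfl⟩
        rw [← map_pow, pow_two]
        have ha' : ∀ k : Rest i j, a.1.1.1 k.1 j = 0 := fun k =>
          congrFun (congrArg Multiplicative.toAdd (MonoidHom.mem_ker.1 ha)) k
        rw [show a * a = 1 from core_ext hF hij ht
          (fun k => (congrFun (congrArg Multiplicative.toAdd (map_mul (rowHom hF hij ht) a a)) k).trans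
            ((hF.add_self _).trans (Matrix.one_apply_ne k.2.1.symm).symm))
          (fun k => (congrFun (congrArg Multiplicative.toAdd (map_mul (colHom hF hij ht) a a)) k).trans
            ((hF.add_self _).trans (Matrix.one_apply_ne k.2.2).symm))
          (by
            rw [corner_mul]
            simp only [ha', mul_zero, Finset.sum_const_zero, add_zero]
            exact (hF.add_self _).trans (Matrix.one_apply_ne hij).symm), map_one]
    · rw [Subgroup.card_map_of_injective (f := Q.subtype.comp eQ.toMonoidHom) (Q.subtype_injective.comp eQ.injective)]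
      have hc : Nat.card F = 2 := by
        rw [Nat.card_eq_two_iff' (0 : F)]
        exact ⟨1, one_ne_zero, fun y hy => hF.eq_one hy⟩
      let e : (colHom hF hij ht).ker ≃ (Rest i j → F) × F :=
        { toFun := fun q => (fun k => q.1.1.1.1 i k.1, q.1.1.1.1 i j)
          invFun := fun x => ⟨coreEl hF hij ht x.1 0 x.2,
            congrArg Multiplicative.ofAdd (funext fun k => coreEl_col hF hij ht _ _ _ k)⟩
          left_inv := fun q => Subtype.ext (core_ext hF hij ht (fun k => coreEl_row hF hij ht _ _ _ k)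
            (fun k => (coreEl_col hF hij ht _ _ _ k).trans
              (congrFun (congrArg Multiplicative.toAdd (MonoidHom.mem_ker.1 q.2)) k).symm)
            (coreEl_corner hF hij ht _ _ _))
          right_inv := fun x => Prod.ext (funext fun k => coreEl_row hF hij ht _ _ _ k)
            (coreEl_corner hF hij ht _ _ _) }
      rw [Nat.card_congr e, Nat.card_prod, Nat.card_fun, hc, Nat.card_eq_fintype_card, pow_succ]
  · rw [hcenter]
    refine le_antisymm (fun x hx => ?_) ?_
    · have hxz : x ∈ C := by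
        rw [hC, Subgroup.mem_centralizer_singleton_iff]
        exact (Subgroup.mem_centralizer_iff.1 hx z (hembz ▸ (eQ (coreT hF hij ht)).2)).symm
      have hcore : η ⟨x, hxz⟩ ∈ core hF hij ht := by
        refine mem_core_of_commute hF hij ht fun q hq => Subtype.ext ?_
        change q.1 * ψ x = ψ x * q.1
        rw [← hψemb q, ← map_mul, ← map_mul,
          Subgroup.mem_centralizer_iff.1 hx (emb q) (hQ' ▸ Subgroup.mem_map_of_mem emb hq)]
      have hxQ : x ∈ Q := by
        rw [hQ']
        exact ⟨_, hcore, congrArg Subtype.val (η.symm_apply_apply ⟨x, hxz⟩)⟩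
      rw [← hcenter]
      exact ⟨⟨x, hxQ⟩, Subgroup.mem_center_iff.2 fun p =>
        Subtype.ext (Subgroup.mem_centralizer_iff.1 hx p.1 p.2), rfl⟩
    · rw [← hcenter]
      rintro _ ⟨w, hw, rfl⟩
      exact Subgroup.mem_centralizer_iff.2 fun p hp =>
        congrArg Subtype.val (Subgroup.mem_center_iff.1 hw ⟨p, hp⟩)
  · rw [hcenter]
    intro x hx'
    have hx : x ∈ C := Subgroup.mem_centralizer_singleton_iff.2
      (Subgroup.mem_centralizer_iff.1 hx' z (Subgroup.mem_zpowers z)).symm
    rw [Subgroup.mem_normalizer_iff_map_conj_eq]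
    refine Subgroup.eq_of_le_of_card_ge ?_
      (Subgroup.card_map_of_injective (MulEquiv.injective _)).ge
    rintro _ ⟨w, hw, rfl⟩
    rw [hQ] at hw ⊢
    obtain ⟨q, hq, rfl⟩ := hw
    exact ⟨⟨x, hx⟩ * q * (⟨x, hx⟩ : C)⁻¹,
      (inferInstance : (Cfsg.pCore 2 C).Normal).conj_mem q hq _, rfl⟩
  · intro K hK hQK
    have h1 : (K.map ψ) = ⊥ := by
      refine odd_normalized_eq_bot hF hij ht _ (by rwa [Subgroup.card_map_of_injective hψ]) ?_
      rintro q hq _ ⟨k, hk, rfl⟩
      have hqQ : emb q ∈ Q := hQ' ▸ Subgroup.mem_map_of_mem emb hq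
      exact ⟨emb q * k * (emb q)⁻¹, (Subgroup.mem_normalizer_iff.1 (hQK hqQ) k).1 hk,
        by rw [map_mul, map_mul, map_inv, hψemb]⟩
    exact (Subgroup.map_eq_bot_iff_of_injective _ hψ).1 h1
  · refine ⟨(section' hF hij ht).range.map emb, ?_, ?_, ?_, ?_⟩
    · rintro _ ⟨y, -, rfl⟩; exact (η.symm y).2
    · rw [Subgroup.eq_bot_iff_forall]
      rintro x ⟨hx, hxK⟩
      rw [hQ'] at hx
      obtain ⟨q, hq, rfl⟩ := hx
      obtain ⟨_, ⟨A, rfl⟩, hA⟩ := hxK
      obtain rfl := hemb hA
      rw [SetLike.mem_coe, MonoidHom.mem_ker, block_section] at hq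
      rw [hq, map_one, map_one]
    · refine le_antisymm (sup_le ?_ ?_) fun x hx => ?_
      · rw [hQ]; rintro _ ⟨y, -, rfl⟩; exact y.2
      · rintro _ ⟨y, -, rfl⟩; exact (η.symm y).2
      · set y := η ⟨x, hx⟩ with hy
        have hxy : x = emb (y * (section' hF hij ht (block hF hij ht y))⁻¹) *
            emb (section' hF hij ht (block hF hij ht y)) := by
          rw [← map_mul, inv_mul_cancel_right]
          exact (congrArg Subtype.val (η.symm_apply_apply ⟨x, hx⟩)).symm
        rw [hxy]
        refine Subgroup.mul_mem_sup ?_ (Subgroup.mem_map_of_mem emb ⟨_, rfl⟩)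
        rw [hQ']
        exact Subgroup.mem_map_of_mem emb (by
          rw [MonoidHom.mem_ker, map_mul, map_inv, block_section, mul_inv_cancel])
    · exact ⟨((MonoidHom.ofInjective
        (Function.LeftInverse.injective (block_section hF hij ht))).trans
        ((section' hF hij ht).range.equivMapOfInjective emb hemb)).symm⟩

end CfsgLib.Classical.TransvectionTwo
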