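import Mathlib
import Cfsg.Agent.Lib.Classical.TwoUnipotent
import Cfsg.Agent.Lib.Classical.SubfieldGen

/-!
# The quotients used over the fields with two and three elements
-/

set_option autoImplicit false
set_option linter.unusedSectionVars false
set_option backward.isDefEq.respectTransparency false

open Matrix

namespace CfsgLib.Classical.UnipotentGen

variable {F : Type*} [Field F] {m : ℕ}

/-- A point of `Fin (m + 1)`. -/
def pt (m i : ℕ) : Fin (m + 1) := ⟨min i m, by omega⟩

theorem pt_val {i : ℕ} (h : i ≤ m) : (pt m i).val = i := Nat.min_eq_left h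

theorem pt_zero : pt m 0 = 0 := Fin.ext (pt_val (Nat.zero_le m))

theorem pt_last : pt m m = Fin.last m := Fin.ext (pt_val le_rfl)

theorem pt_self (i : Fin (m + 1)) : pt m i.val = i := Fin.ext (pt_val (by omega))

theorem pt_inj {i j : ℕ} (hi : i ≤ m) (hj : j ≤ m) (h : pt m i = pt m j) : i = j := by
  have := congrArg Fin.val h
  rwa [pt_val hi, pt_val hj] at this

theorem loW_mulVec_pt {i : ℕ} (h : i < m) :
    loW m F *ᵥ ev (pt m i) = ev (pt m i) + ev (pt m (i + 1)) := by
  rw [loW, add_mulVec, one_mulVec, loN_mulVec_single _ (i := pt m i) (j := pt m (i + 1))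
    (by rw [pt_val h.le, pt_val (by omega : i + 1 ≤ m)]), one_smul]

theorem loW_mulVec_pt_last : loW m F *ᵥ ev (pt m m) = ev (pt m m) := by
  rw [pt_last, loW_mulVec_last]

/-- The operator given by its columns. -/
def ofCols (c : ℕ → Fin (m + 1) → F) : Matrix (Fin (m + 1)) (Fin (m + 1)) F :=
  Matrix.of fun i j => c j.val i

theorem ofCols_mulVec (c : ℕ → Fin (m + 1) → F) {i : ℕ} (h : i ≤ m) :
    ofCols c *ᵥ ev (pt m i) = c i := by
  ext k
  rw [ev, mulVec_single_one]
  simp [ofCols, pt_val h]

theorem prod_prefix (g : ℕ → F) :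
    ∀ m : ℕ, ∏ j : Fin (m + 1), ∏ l : Fin j.val, g l.val = ∏ l ∈ Finset.range (m + 1), g l ^ (m - l) := by
  intro m
  rw [Fin.prod_univ_eq_prod_range (fun j => ∏ l : Fin j, g l.val)]
  simp only [Fin.prod_univ_eq_prod_range]
  induction m with
  | zero => simp
  | succ m ih =>
    rw [Finset.prod_range_succ, ih, ← Finset.prod_mul_distrib, Finset.prod_range_succ _ (m + 1),
      Nat.sub_self, pow_zero, mul_one]
    refine Finset.prod_congr rfl fun l hl => ?_
    rw [Finset.mem_range] at hl
    rw [show m + 1 - l = m - l + 1 by omega, pow_succ]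

theorem prod_range_sparse (g : ℕ → F) (s : Finset ℕ) (hs : ∀ l ∈ s, l < m + 1)
    (hg : ∀ l, l < m + 1 → l ∉ s → g l = 1) :
    ∏ l ∈ Finset.range (m + 1), g l = ∏ l ∈ s, g l :=
  (Finset.prod_subset (fun l hl => Finset.mem_range.2 (hs l hl))
    fun l hl hls => hg l (Finset.mem_range.1 hl) hls).symm

/-- A vector all of whose iterates span. -/
theorem det_kry_ne_zero {A : Matrix (Fin (m + 1)) (Fin (m + 1)) F} {x : Fin (m + 1) → F}
    (h : ∀ r : Fin (m + 1) → F, (∀ i : ℕ, r ⬝ᵥ (A ^ i *ᵥ x) = 0) → r = 0) : (kry A x).det ≠ 0 := by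
  intro hd
  obtain ⟨r, hr, hrK⟩ := Matrix.exists_vecMul_eq_zero_iff.2 hd
  refine hr (h r fun i => ?_)
  have hcol : ∀ j : Fin (m + 1), r ⬝ᵥ (A ^ j.val *ᵥ x) = 0 := fun j => congrFun hrK j
  have hdeg : (Polynomial.X ^ i %ₘ A.charpoly).natDegree < m + 1 := by
    have := Polynomial.natDegree_modByMonic_lt (Polynomial.X ^ i : Polynomial F) A.charpoly_monic
      (fun e => by
        have h1 := A.charpoly_natDegree_eq_dim
        rw [e, Polynomial.natDegree_one, Fintype.card_fin] at h1; omega)
    rwa [A.charpoly_natDegree_eq_dim, Fintype.card_fin] at this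
  rw [A.pow_eq_aeval_mod_charpoly, Polynomial.aeval_eq_sum_range' hdeg, sum_mulVec, dotProduct_sum]
  refine Finset.sum_eq_zero fun j hj => ?_
  rw [Finset.mem_range] at hj
  rw [smul_mulVec, dotProduct_smul, hcol ⟨j, hj⟩, smul_zero]

/-- The block over the field with three elements. -/
theorem exists_three [Fintype F] (h3 : Fintype.card F = 3) (hm : 3 ≤ m) (hodd : Odd m) :
    ∃ g : Matrix.SpecialLinearGroup (Fin (m + 1)) F,
      Subgroup.closure ({loU m F, g * loU m F * g⁻¹} : Set (Matrix.SpecialLinearGroup (Fin (m + 1)) F)) = ⊤ := by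
  classical
  have h30 : (3 : F) = 0 := by
    have := FiniteField.cast_card_eq_zero F
    rw [h3] at this; exact_mod_cast this
  have hne : (-1 : F) ≠ 1 := fun e => one_ne_zero (α := F) (by linear_combination e + h30)
  obtain ⟨P, hP⟩ : ∃ P, m = P + 2 := ⟨m - 2, by omega⟩
  let c : ℕ → Fin (m + 1) → F := fun j =>
    if j = P then -ev (pt m P) - ev (pt m (P + 1))
    else if j = P + 1 then -ev (pt m P) + ev (pt m (P + 1))
    else if j = 0 ∨ j = m then -ev (pt m j) else ev (pt m j)
  set D := ofCols c with hD
  have hDP : D *ᵥ ev (pt m P) = -ev (pt m P) - ev (pt m (P + 1)) := by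
    rw [hD, ofCols_mulVec _ (by omega)]; exact if_pos rfl
  have hDQ : D *ᵥ ev (pt m (P + 1)) = -ev (pt m P) + ev (pt m (P + 1)) := by
    rw [hD, ofCols_mulVec _ (by omega)]; simp [c]
  have hDe : ∀ j, j ≤ m → (j = 0 ∨ j = m) → D *ᵥ ev (pt m j) = -ev (pt m j) := fun j hj h => by
    rw [hD, ofCols_mulVec _ hj]; simp only [c]
    rw [if_neg (by omega), if_neg (by omega), if_pos h]
  have hDj : ∀ j, 1 ≤ j → j < P → D *ᵥ ev (pt m j) = ev (pt m j) := fun j h1 h2 => by
    rw [hD, ofCols_mulVec _ (by omega)]; simp only [c]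
    rw [if_neg (by omega), if_neg (by omega), if_neg (by omega)]
  have hcases : ∀ j : Fin (m + 1), (∃ i, j = pt m i ∧ (i = 0 ∨ i = m)) ∨ (∃ i, j = pt m i ∧ 1 ≤ i ∧ i < P) ∨
      j = pt m P ∨ j = pt m (P + 1) := fun j => by
    have hj := j.isLt
    rcases (by omega : (j.val = 0 ∨ j.val = m) ∨ (1 ≤ j.val ∧ j.val < P) ∨ j.val = P ∨ j.val = P + 1)
      with h | h | h | h
    · exact Or.inl ⟨j.val, (pt_self j).symm, h⟩
    · exact Or.inr (Or.inl ⟨j.val, (pt_self j).symm, h⟩)
    · exact Or.inr (Or.inr (Or.inl (by rw [← h, pt_self])))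
    · exact Or.inr (Or.inr (Or.inr (by rw [← h, pt_self])))
  have hD4 : D ^ 4 = 1 := ext_ev fun j => by
    rw [one_mulVec, show D ^ 4 = D * D * (D * D) by rw [← pow_two, ← pow_two, ← pow_mul]]
    simp only [← mulVec_mulVec]
    rcases hcases j with ⟨i, rfl, hi⟩ | ⟨i, rfl, hi⟩ | rfl | rfl
    · simp only [hDe i (by omega) hi, mulVec_neg, neg_neg]
    · simp only [hDj i hi.1 hi.2]
    · simp only [hDP, hDQ, mulVec_sub, mulVec_add, mulVec_neg]
      funext k; simp only [Pi.add_apply, Pi.sub_apply, Pi.neg_apply]
      linear_combination ev (pt m P) k * h30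
    · simp only [hDP, hDQ, mulVec_sub, mulVec_add, mulVec_neg]
      funext k; simp only [Pi.add_apply, Pi.sub_apply, Pi.neg_apply]
      linear_combination ev (pt m (P + 1)) k * h30
  have hdet : D.det = 1 := by
    have hPQ : pt m (P + 1) ≠ pt m P := fun e => by have := pt_inj (by omega) (by omega) e; omega
    let U : Matrix (Fin (m + 1)) (Fin (m + 1)) F := ofCols fun j =>
      if j = P + 1 then -ev (pt m P) - ev (pt m (P + 1))
      else if j = 0 ∨ j = m ∨ j = P then -ev (pt m j) else ev (pt m j)
    have hU : ∀ j, j ≤ m → U *ᵥ ev (pt m j) = if j = P + 1 then -ev (pt m P) - ev (pt m (P + 1))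
      else if j = 0 ∨ j = m ∨ j = P then -ev (pt m j) else ev (pt m j) := fun j hj => ofCols_mulVec _ hj
    have hT : ∀ y, Matrix.transvection (pt m (P + 1)) (pt m P) (1 : F) *ᵥ y =
        y + (y (pt m P)) • ev (pt m (P + 1)) := fun y => by
      rw [Matrix.transvection, add_mulVec, one_mulVec, single_mulVec_eq, one_mul, ev, ← Pi.single_smul,
        smul_eq_mul, mul_one]
    have hev : ∀ i j, i ≤ m → j ≤ m → i ≠ j → (ev (pt m i) : Fin (m + 1) → F) (pt m j) = 0 :=
      fun i j hi hj hij => Pi.single_eq_of_ne (fun e => hij (pt_inj hi hj e.symm)) _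
    have hself : ∀ i, (ev (pt m i) : Fin (m + 1) → F) (pt m i) = 1 := fun i => Pi.single_eq_same _ _
    have he : D = Matrix.transvection (pt m (P + 1)) (pt m P) (1 : F) * U := ext_ev fun j => by
      rw [← mulVec_mulVec, hT]
      rcases hcases j with ⟨i, rfl, hi⟩ | ⟨i, rfl, hi⟩ | rfl | rfl
      · rw [hDe i (by omega) hi, hU i (by omega), if_neg (by omega), if_pos (by omega), Pi.neg_apply,
          hev i P (by omega) (by omega) (by omega), neg_zero, zero_smul, add_zero]
      · rw [hDj i hi.1 hi.2, hU i (by omega), if_neg (by omega), if_neg (by omega),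
          hev i P (by omega) (by omega) (by omega), zero_smul, add_zero]
      · rw [hDP, hU P (by omega), if_neg (by omega), if_pos (by omega), Pi.neg_apply, hself, neg_one_smul,
          sub_eq_add_neg]
      · rw [hDQ, hU (P + 1) (by omega), if_pos rfl, Pi.sub_apply, Pi.neg_apply, hself,
          hev (P + 1) P (by omega) (by omega) (by omega), sub_zero, neg_one_smul]
        funext k; simp only [Pi.add_apply, Pi.sub_apply, Pi.neg_apply]
        linear_combination ev (pt m (P + 1)) k * h30
    rw [he, det_mul, det_transvection_of_ne _ _ hPQ, one_mul, det_of_upperTriangular]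
    · have hdiag : ∀ i : Fin (m + 1), U i i = if i.val = 0 ∨ i.val = m ∨ i.val = P ∨ i.val = P + 1 then -1 else 1 := by
        intro i
        have hcol : U i i = (U *ᵥ ev (pt m i.val)) i := by rw [pt_self, ev, mulVec_single_one]; rfl
        rw [hcol, hU _ (by omega)]
        by_cases h : i.val = P + 1
        · rw [if_pos h, if_pos (by omega), Pi.sub_apply, Pi.neg_apply]
          have e : pt m (P + 1) = i := by rw [← h, pt_self]
          rw [← e, hev P (P + 1) (by omega) (by omega) (by omega), hself, neg_zero, zero_sub]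
        · rw [if_neg h]
          by_cases h' : i.val = 0 ∨ i.val = m ∨ i.val = P
          · rw [if_pos h', if_pos (by omega), pt_self, Pi.neg_apply, ev, Pi.single_eq_same]
          · rw [if_neg h', if_neg (by omega), pt_self, ev, Pi.single_eq_same]
      simp only [hdiag]
      rw [Fin.prod_univ_eq_prod_range (fun i => if i = 0 ∨ i = m ∨ i = P ∨ i = P + 1 then (-1 : F) else 1),
        prod_range_sparse _ ({0, m, P, P + 1} : Finset ℕ) (fun l hl => by simp at hl; omega)
          (fun l _ hls => if_neg (by simpa using hls)),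
        Finset.prod_insert (by simp; omega), Finset.prod_insert (by simp; omega),
        Finset.prod_pair (by omega)]
      simp
    · intro i j hij
      have hij' : j.val < i.val := hij
      show (if j.val = P + 1 then -ev (pt m P) - ev (pt m (P + 1))
        else if j.val = 0 ∨ j.val = m ∨ j.val = P then -ev (pt m j.val) else ev (pt m j.val)) i = (0 : F)
      have hne : ∀ k, k ≤ j.val → (ev (pt m k) : Fin (m + 1) → F) i = 0 := fun k hk =>
        Pi.single_eq_of_ne (fun e => by rw [e, pt_val (by omega)] at hij'; omega) _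
      split_ifs with h1 h2
      · simp [hne P (by omega), hne (P + 1) (by omega)]
      · simp [hne j.val le_rfl]
      · exact hne j.val le_rfl
  have hleft : ∀ r : Fin (m + 1) → F, r ᵥ* D = (-1 : F) • r → r 0 = 0 → ∀ i, i ≠ Fin.last m → r i = 0 := by
    intro r hr hr0 i hi
    have hd : ∀ j, r ⬝ᵥ (D *ᵥ ev j) = -r j := fun j => by
      rw [dotProduct_mulVec, hr, smul_dotProduct, ev, dotProduct_single, mul_one, smul_eq_mul, neg_one_mul]
    have hr' : ∀ j, r ⬝ᵥ ev j = r j := fun j => by rw [ev, dotProduct_single, mul_one]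
    rcases hcases i with ⟨j, rfl, hj⟩ | ⟨j, rfl, hj⟩ | rfl | rfl
    · rcases hj with rfl | rfl
      · rw [pt_zero]; exact hr0
      · exact absurd pt_last hi
    · have := hd (pt m j)
      rw [hDj j hj.1 hj.2, hr'] at this
      linear_combination r (pt m j) * h30 - this
    · have := hd (pt m (P + 1))
      rw [hDQ, dotProduct_add, dotProduct_neg, hr', hr'] at this
      have h' := hd (pt m P)
      rw [hDP, dotProduct_sub, dotProduct_neg, hr', hr'] at h'
      linear_combination -this - 2 * h'
    · have := hd (pt m P)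
      rw [hDP, dotProduct_sub, dotProduct_neg, hr', hr'] at this
      linear_combination -this
  -- the cyclic vector
  set B := loW m F * D with hB
  let S : Matrix (Fin (m + 1)) (Fin (m + 1)) F := Matrix.transvection (Fin.last m) (pt m (P + 1)) (-1)
  let S' : Matrix (Fin (m + 1)) (Fin (m + 1)) F := Matrix.transvection (Fin.last m) (pt m (P + 1)) 1
  have hLQ : Fin.last m ≠ pt m (P + 1) := fun e => by
    rw [← pt_last] at e; have := pt_inj le_rfl (by omega) e; omega
  have hSS : S * S' = 1 := by
    rw [Matrix.transvection_mul_transvection_same _ _ hLQ, neg_add_cancel, Matrix.transvection_zero]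
  have hS'S : S' * S = 1 := by
    rw [Matrix.transvection_mul_transvection_same _ _ hLQ, add_neg_cancel, Matrix.transvection_zero]
  have hSv : ∀ (c : F) i, i ≤ m → Matrix.transvection (Fin.last m) (pt m (P + 1)) c *ᵥ ev (pt m i) =
      ev (pt m i) + (if i = P + 1 then c else 0) • ev (pt m m) := fun c i hi => by
    rw [Matrix.transvection, add_mulVec, one_mulVec, single_mulVec_eq, pt_last]
    congr 1
    have e : (ev (pt m i) : Fin (m + 1) → F) (pt m (P + 1)) = if i = P + 1 then 1 else 0 := by
      rw [ev, Pi.single_apply]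
      exact if_congr ⟨fun e => (pt_inj (by omega) hi e).symm, fun e => by rw [e]⟩ rfl rfl
    rw [e]
    split_ifs <;> simp [ev, ← Pi.single_smul]
  let B' := S' * B * S
  have hk : (kry B (ev 0)).det = (kry B' (ev 0)).det := by
    have hdS : S.det = 1 := det_transvection_of_ne _ _ hLQ _
    have e : kry B (ev 0) = S * kry B' (ev 0) := ext_ev fun j => by
      rw [← mulVec_mulVec, kry_mulVec_ev, kry_mulVec_ev]
      have hp : ∀ k : ℕ, S * B' ^ k = B ^ k * S := by
        intro k
        induction k with
        | zero => rw [pow_zero, pow_zero, mul_one, one_mul]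
        | succ k ih =>
          rw [pow_succ, ← mul_assoc, ih, pow_succ, mul_assoc, mul_assoc]
          congr 1
          show S * (S' * B * S) = B * S
          rw [← mul_assoc, ← mul_assoc, hSS, one_mul]
      rw [mulVec_mulVec, hp, ← mulVec_mulVec]
      congr 1
      rw [← pt_zero, hSv _ 0 (by omega), if_neg (by omega), zero_smul, add_zero]
    rw [e, det_mul, hdS, one_mul]
  have hB'e : ∀ i, i ≤ m → B' *ᵥ ev (pt m i) = S' *ᵥ (loW m F *ᵥ (D *ᵥ (S *ᵥ ev (pt m i)))) := fun i _ => by
    simp only [B', hB, ← mulVec_mulVec]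
  have hcols : ∀ i, i ≤ m → B' *ᵥ ev (pt m i) =
      if i = P then -ev (pt m P) + ev (pt m (P + 1)) else if i = P + 1 then -ev (pt m P) - ev (pt m m)
      else if i = m then -ev (pt m m) else if i = 0 then -ev (pt m 0) - ev (pt m 1)
      else ev (pt m i) + ev (pt m (i + 1)) := by
    intro i hi
    rw [hB'e i hi, show S = Matrix.transvection (Fin.last m) (pt m (P + 1)) (-1) from rfl,
      show S' = Matrix.transvection (Fin.last m) (pt m (P + 1)) 1 from rfl, hSv _ i hi]
    have hm' : P + 1 + 1 = m := by omega
    rcases (by omega : i = P ∨ i = P + 1 ∨ i = m ∨ i = 0 ∨ (1 ≤ i ∧ i < P))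
      with h1 | h2 | h3 | h4 | h5
    · subst i
      rw [if_neg (by omega), if_pos rfl, zero_smul, add_zero, hDP, mulVec_sub, mulVec_neg, loW_mulVec_pt (by omega),
        loW_mulVec_pt (by omega), hm', mulVec_sub, mulVec_neg, mulVec_add, mulVec_add, hSv _ P (by omega),
        hSv _ (P + 1) (by omega), hSv _ m le_rfl, if_neg (by omega), if_pos rfl, if_neg (by omega)]
      simp only [zero_smul, one_smul, add_zero]
      funext k; simp only [Pi.add_apply, Pi.sub_apply, Pi.neg_apply]
      linear_combination (-(ev (pt m (P + 1)) k) - ev (pt m m) k) * h30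
    · subst i
      rw [if_pos rfl, if_neg (by omega), if_pos rfl, neg_one_smul, mulVec_add, mulVec_neg, hDQ, hDe m le_rfl (Or.inr rfl), neg_neg]
      simp only [mulVec_add, mulVec_neg]
      rw [loW_mulVec_pt (by omega), loW_mulVec_pt (by omega), hm', loW_mulVec_pt_last]
      simp only [mulVec_add, mulVec_neg]
      rw [hSv _ P (by omega), hSv _ (P + 1) (by omega), hSv _ m le_rfl, if_neg (by omega), if_pos rfl,
        if_neg (by omega)]
      simp only [zero_smul, one_smul, add_zero]
      funext k; simp only [Pi.add_apply, Pi.sub_apply, Pi.neg_apply]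
      linear_combination (ev (pt m m) k) * h30
    · subst i
      rw [if_neg (by omega), if_neg (by omega), if_neg (by omega), if_pos rfl, zero_smul, add_zero, hDe m le_rfl (Or.inr rfl), mulVec_neg, loW_mulVec_pt_last, mulVec_neg,
        hSv _ m le_rfl, if_neg (by omega), zero_smul, add_zero]
    · subst i
      rw [if_neg (by omega), if_neg (by omega), if_neg (by omega), if_neg (by omega), if_pos rfl, zero_smul, add_zero, hDe 0 (by omega) (Or.inl rfl), mulVec_neg, loW_mulVec_pt (by omega), mulVec_neg,
        mulVec_add, hSv _ 0 (by omega), hSv _ 1 (by omega), if_neg (by omega), if_neg (by omega), zero_smul,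
        add_zero, add_zero, neg_add, sub_eq_add_neg]
    · rw [if_neg (by omega), if_neg (by omega), if_neg (by omega), if_neg (by omega), if_neg (by omega),
        zero_smul, add_zero, hDj i (by omega) (by omega), loW_mulVec_pt (by omega), mulVec_add,
        hSv _ i hi, hSv _ (i + 1) (by omega), if_neg (by omega), if_neg (by omega), zero_smul, add_zero,
        add_zero]
  have hentry : ∀ i j : Fin (m + 1), B' i j = (B' *ᵥ ev (pt m j.val)) i := fun i j => by
    rw [pt_self, ev, mulVec_single_one]; rfl
  have hev : ∀ (i : Fin (m + 1)) k, k ≤ m → (ev (pt m k) : Fin (m + 1) → F) i = if i.val = k then 1 else 0 := by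
    intro i k hk
    rw [ev, Pi.single_apply]
    exact if_congr ⟨fun e => by rw [e, pt_val hk], fun e => by rw [← e, pt_self]⟩ rfl rfl
  have hkval : (kry B' (ev 0)).det = 1 := by
    rw [kry_hessenberg B' fun i j hij => by
      rw [hentry, hcols _ (by omega)]
      have := i.isLt
      split_ifs with h1 h2 h3 h4 <;>
        simp only [Pi.add_apply, Pi.sub_apply, Pi.neg_apply] <;>
        (first
          | rw [hev i _ (by omega), hev i _ (by omega), if_neg (by omega), if_neg (by omega)]
          | rw [hev i _ (by omega), if_neg (by omega)]) <;>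
        simp]
    rw [Finset.prod_congr rfl (fun j _ => Finset.prod_congr rfl fun l _ => show
      B' ⟨l.val + 1, by omega⟩ ⟨l.val, by omega⟩ =
        (fun l : ℕ => if l = 0 ∨ l = P + 1 then (-1 : F) else 1) l.val by
        have hl : l.val < m := by omega
        rw [hentry, hcols _ (by simp only; omega)]
        simp only
        rcases (by omega : l.val = P ∨ l.val = P + 1 ∨ l.val = 0 ∨ (1 ≤ l.val ∧ l.val < P))
          with h | h | h | h
        · rw [if_pos h, if_neg (show ¬ (l.val = 0 ∨ l.val = P + 1) by omega), Pi.add_apply, Pi.neg_apply,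
            hev _ P (by omega), hev _ (P + 1) (by omega), if_neg (by simp only; omega),
            if_pos (by simp only; omega), neg_zero, zero_add]
        · rw [if_neg (show ¬ l.val = P by omega), if_pos h, if_pos (Or.inr h), Pi.sub_apply, Pi.neg_apply,
            hev _ P (by omega), hev _ m le_rfl, if_neg (by simp only; omega), if_pos (by simp only; omega),
            neg_zero, zero_sub]
        · rw [if_neg (show ¬ l.val = P by omega), if_neg (show ¬ l.val = P + 1 by omega),
            if_neg (show ¬ l.val = m by omega), if_pos h, if_pos (Or.inl h), Pi.sub_apply, Pi.neg_apply,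
            hev _ 0 (by omega), hev _ 1 (by omega), if_neg (by simp only; omega),
            if_pos (by simp only; omega), neg_zero, zero_sub]
        · rw [if_neg (show ¬ l.val = P by omega), if_neg (show ¬ l.val = P + 1 by omega),
            if_neg (show ¬ l.val = m by omega), if_neg (show ¬ l.val = 0 by omega),
            if_neg (show ¬ (l.val = 0 ∨ l.val = P + 1) by omega), Pi.add_apply,
            hev _ l.val (by omega), hev _ (l.val + 1) (by omega), if_neg (by simp only; omega),
            if_pos (by simp only), zero_add]),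
      prod_prefix (fun l : ℕ => if l = 0 ∨ l = P + 1 then (-1 : F) else 1) m,
      prod_range_sparse _ ({0, P + 1} : Finset ℕ) (fun l hl => by simp at hl; omega)
        (fun l _ hls => by rw [if_neg (by simpa using hls), one_pow]),
      Finset.prod_pair (by omega), if_pos (Or.inl rfl), if_pos (Or.inr rfl), ← pow_add]
    refine Even.neg_one_pow ?_
    obtain ⟨t, ht⟩ := hodd
    exact ⟨t + 1, by omega⟩
  obtain ⟨u, -, hconj, e, he0, he⟩ := exists_of_cyclic (by omega : 2 ≤ m) D (-1) 4 hdet
    (by rw [← pt_zero, hDe 0 (by omega) (Or.inl rfl), neg_one_smul])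
    (by rw [← pt_last, hDe m le_rfl (Or.inr rfl), neg_one_smul]) hD4 (by norm_num) (by norm_num)
    (fun h => one_ne_zero (α := F) (by
      have h' : (4 : F) = 0 := by exact_mod_cast h
      linear_combination h' - h30))
    hne hleft (by rw [← hB, hk, hkval]; exact one_ne_zero)
  obtain ⟨g, rfl⟩ := hconj 1 one_ne_zero (by rw [← hB, hk, hkval, one_pow])
  refine ⟨g, ?_⟩
  rw [Set.pair_comm]
  exact eq_top_of_two (by omega) ⟨loU m F, Subgroup.subset_closure (by simp), rfl⟩ he0 he he
    fun S _ => subfield_top_of_prime (h3 ▸ Nat.prime_three) S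

/-- The block over the field with two elements. -/
theorem exists_two [Fintype F] (h2c : Fintype.card F = 2) (hm : 3 ≤ m) :
    ∃ g : Matrix.SpecialLinearGroup (Fin (m + 1)) F,
      Subgroup.closure ({loU m F, g * loU m F * g⁻¹} : Set (Matrix.SpecialLinearGroup (Fin (m + 1)) F)) = ⊤ := by
  classical
  have h2 : (2 : F) = 0 := by
    have := FiniteField.cast_card_eq_zero F
    rw [h2c] at this; exact_mod_cast this
  have hall : ∀ a : F, a ≠ 0 → a = 1 := fun a ha => by
    have := FiniteField.pow_card_sub_one_eq_one a ha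
    rwa [h2c, show 2 - 1 = 1 from rfl, pow_one] at this
  have hadd : ∀ y : Fin (m + 1) → F, y + y = 0 := fun y => by
    funext k; simp only [Pi.add_apply, Pi.zero_apply]; linear_combination y k * h2
  let f : ℕ → F := fun i => if m % 2 = 1 ∨ i ≤ 1 then 1 else 0
  let c : ℕ → Fin (m + 1) → F := fun j =>
    if j = 0 ∨ j = m then ev (pt m j) else if j = 1 then ev (pt m (m - 1))
    else ev (pt m (j - 1)) + f (j - 1) • ev (pt m (m - 1))
  set D := ofCols c with hD
  have hDe : ∀ j, j ≤ m → (j = 0 ∨ j = m) → D *ᵥ ev (pt m j) = ev (pt m j) := fun j hj h => by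
    rw [hD, ofCols_mulVec _ hj]; exact if_pos h
  have hD1 : D *ᵥ ev (pt m 1) = ev (pt m (m - 1)) := by
    rw [hD, ofCols_mulVec _ (by omega)]; simp only [c]
    rw [if_neg (by omega), if_pos trivial]
  have hDj : ∀ j, 2 ≤ j → j < m →
      D *ᵥ ev (pt m j) = ev (pt m (j - 1)) + f (j - 1) • ev (pt m (m - 1)) := fun j h1 hj => by
    rw [hD, ofCols_mulVec _ (by omega)]; simp only [c]
    rw [if_neg (by omega), if_neg (by omega)]
  set g : Fin (m + 1) → F := ev (pt m (m - 1)) with hg
  -- `g` generates the middle part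
  have hgen : ∀ Q : Matrix (Fin (m + 1)) (Fin (m + 1)) F, Commute Q D → Q *ᵥ g = 0 →
      ∀ j, 1 ≤ j → j < m → Q *ᵥ ev (pt m j) = 0 := by
    intro Q hQ hQg
    have hcomm : ∀ y, Q *ᵥ (D *ᵥ y) = D *ᵥ (Q *ᵥ y) := fun y => by
      rw [mulVec_mulVec, mulVec_mulVec, hQ.eq]
    have : ∀ d j, j + d = m - 1 → 1 ≤ j → Q *ᵥ ev (pt m j) = 0 := by
      intro d
      induction d with
      | zero => intro j hj _; rwa [show j = m - 1 by omega]
      | succ d ih =>
        intro j hj h1
        have h := hcomm (ev (pt m (j + 1)))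
        rw [hDj _ (by omega) (by omega), mulVec_add, mulVec_smul, hQg, smul_zero, add_zero,
          ih (j + 1) (by omega) (by omega), mulVec_zero] at h
        exact h
    exact fun j h1 hj => this (m - 1 - j) j (by omega) h1
  obtain ⟨N, hN0, hNodd, hDN⟩ : ∃ N : ℕ, 1 ≤ N ∧ (N : F) ≠ 0 ∧ D ^ N = 1 := by
    have hodd : ∀ N : ℕ, Odd N → 1 ≤ N ∧ (N : F) ≠ 0 := by
      intro N hN
      obtain ⟨t, ht⟩ := hN
      refine ⟨by omega, ?_⟩
      rw [ht]; push_cast; rw [h2, zero_mul, zero_add]; exact one_ne_zero
    by_cases hpar : m % 2 = 1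
    · refine ⟨m, (hodd m (Nat.odd_iff.2 hpar)).1, (hodd m (Nat.odd_iff.2 hpar)).2, ?_⟩
      have hf : ∀ i, f i = 1 := fun i => if_pos (Or.inl hpar)
      have hit : ∀ i, i + 2 ≤ m → 1 ≤ i → D ^ i *ᵥ g = ev (pt m (m - 1 - i)) + ev (pt m (m - i)) := by
        intro i
        induction i with
        | zero => intro _ h; omega
        | succ i ih =>
          intro hi _
          rw [pow_succ', ← mulVec_mulVec]
          rcases Nat.eq_zero_or_pos i with rfl | hpos
          · rw [pow_zero, one_mulVec, hg, hDj _ (by omega) (by omega), hf, one_smul,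
              show m - (0 + 1) = m - 1 by omega, show m - 1 - (0 + 1) = m - 1 - 1 by omega]
          · rw [ih (by omega) hpos, mulVec_add, hDj _ (by omega) (by omega), hDj _ (by omega) (by omega), hf,
              hf, one_smul, show m - 1 - i - 1 = m - 1 - (i + 1) by omega,
              show m - i - 1 = m - (i + 1) by omega, add_add_add_comm, hadd, add_zero]
      have e : D ^ m *ᵥ g = g := by
        have h1 := hit (m - 2) (by omega) (by omega)
        rw [show m - 1 - (m - 2) = 1 by omega, show m - (m - 2) = 2 by omega] at h1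
        rw [show D ^ m = D * (D * D ^ (m - 2)) by rw [← pow_succ', ← pow_succ']; congr 1; omega,
          ← mulVec_mulVec, ← mulVec_mulVec, h1, mulVec_add, hD1, hDj 2 le_rfl (by omega), hf, one_smul,
          add_comm (ev (pt m (2 - 1))), ← add_assoc, hadd, zero_add, hD1]
      refine ext_ev fun j => ?_
      rw [one_mulVec]
      rcases (by omega : (j.val = 0 ∨ j.val = m) ∨ (1 ≤ j.val ∧ j.val < m)) with hj | hj
      · rw [← pt_self j]
        have : ∀ k : ℕ, D ^ k *ᵥ ev (pt m j.val) = ev (pt m j.val) := by
          intro k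
          induction k with
          | zero => rw [pow_zero, one_mulVec]
          | succ k ih => rw [pow_succ, ← mulVec_mulVec, hDe _ (by omega) hj, ih]
        exact this m
      · have h := hgen (D ^ m - 1) (((Commute.refl D).pow_left m).sub_left (Commute.one_left D))
          (by rw [sub_mulVec, one_mulVec, e, sub_self]) j.val hj.1 hj.2
        rw [pt_self, sub_mulVec, one_mulVec, sub_eq_zero] at h
        exact h
    · have hf1 : f 1 = 1 := if_pos (Or.inr le_rfl)
      have hf : ∀ i, 2 ≤ i → f i = 0 := fun i hi => if_neg (by omega)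
      have hit : ∀ i, i + 3 ≤ m → D ^ i *ᵥ g = ev (pt m (m - 1 - i)) := by
        intro i
        induction i with
        | zero => intro _; rw [pow_zero, one_mulVec, hg, Nat.sub_zero]
        | succ i ih =>
          intro hi
          rw [pow_succ', ← mulVec_mulVec, ih (by omega), hDj _ (by omega) (by omega), hf _ (by omega),
            zero_smul, add_zero, show m - 1 - i - 1 = m - 1 - (i + 1) by omega]
      obtain ⟨k, hk⟩ : ∃ k, m = k + 3 := ⟨m - 3, by omega⟩
      have e : D ^ (k + 2) *ᵥ g = D *ᵥ g + g := by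
        rw [pow_succ', pow_succ', ← mulVec_mulVec, ← mulVec_mulVec, hit k (by omega),
          show m - 1 - k = 2 by omega, hDj 2 le_rfl (by omega), hf1, one_smul, mulVec_add, hD1]
        exact add_comm _ _
      let P : Polynomial F := (Polynomial.X + 1) * (Polynomial.X ^ (k + 2) + Polynomial.X + 1)
      have hp0 : Polynomial.aeval D P = 0 := by
        simp only [P, map_mul, map_add, Polynomial.aeval_X, Polynomial.aeval_one, map_pow]
        refine ext_ev fun j => ?_
        rw [zero_mulVec, ← pt_self j]
        rcases (by omega : (j.val = 0 ∨ j.val = m) ∨ (1 ≤ j.val ∧ j.val < m)) with hj | hj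
        · have hc : Commute (D + 1) (D ^ (k + 2) + D + 1) :=
            (((Commute.refl D).pow_right (k + 2)).add_right (Commute.refl D)).add_right (Commute.one_right D)
              |>.add_left (((Commute.one_left (D ^ (k + 2))).add_right (Commute.one_left D)).add_right
                (Commute.one_right 1))
          rw [hc.eq, ← mulVec_mulVec, show (D + 1) *ᵥ ev (pt m j.val) = 0 by
            rw [add_mulVec, one_mulVec, hDe _ (by omega) hj, hadd], mulVec_zero]
        · refine hgen _ ?_ ?_ j.val hj.1 hj.2
          · refine Commute.mul_left ?_ ?_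
            · exact (Commute.refl D).add_left (Commute.one_left D)
            · exact (((Commute.refl D).pow_left (k + 2)).add_left (Commute.refl D)).add_left (Commute.one_left D)
          · rw [← mulVec_mulVec, add_mulVec (D ^ (k + 2) + D), add_mulVec (D ^ (k + 2)), one_mulVec, e,
              add_assoc, hadd, mulVec_zero]
      haveI : CharP F 2 := CharTwo.of_one_ne_zero_of_two_eq_zero one_ne_zero h2
      have hkodd : ((k + 2 : ℕ) : F) = 1 := by
        obtain ⟨t, ht⟩ : ∃ t, k + 2 = 2 * t + 1 := ⟨(k + 1) / 2, by omega⟩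
        rw [ht]; push_cast; rw [h2, zero_mul, zero_add]
      have hsep : P.Separable := by
        have h2P : (2 : Polynomial F) = 0 := by
          rw [← Polynomial.C_ofNat, h2, map_zero]
        refine Polynomial.Separable.mul ?_ ?_ ?_
        · refine ⟨0, 1, ?_⟩
          simp
        · refine ⟨1, Polynomial.X, ?_⟩
          rw [Polynomial.derivative_add, Polynomial.derivative_add, Polynomial.derivative_X_pow, hkodd,
            map_one, Polynomial.derivative_X, Polynomial.derivative_one, show k + 2 - 1 = k + 1 from rfl]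
          linear_combination (Polynomial.X ^ (k + 2) + Polynomial.X) * h2P
        · refine ⟨(Polynomial.X + 1) ^ 0 * (∑ i ∈ Finset.range (k + 2), Polynomial.X ^ i) + 1, 1, ?_⟩
          have hgeom := mul_geom_sum (Polynomial.X : Polynomial F) (k + 2)
          have hsum : (Polynomial.X + 1 : Polynomial F) * (∑ i ∈ Finset.range (k + 2), Polynomial.X ^ i) =
              Polynomial.X ^ (k + 2) + 1 := by
            linear_combination hgeom + ((∑ i ∈ Finset.range (k + 2), Polynomial.X ^ i) - 1) * h2P
          linear_combination hsum + (Polynomial.X ^ (k + 2) + Polynomial.X + 1) * h2P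
      have hu : IsUnit D := by
        refine IsUnit.of_mul_eq_one (D ^ (k + 2) + D ^ (k + 1) + D) ?_
        have h2P : (2 : Polynomial F) = 0 := by rw [← Polynomial.C_ofNat, h2, map_zero]
        have hXQ : Polynomial.X * (Polynomial.X ^ (k + 2) + Polynomial.X ^ (k + 1) + Polynomial.X) = P + 1 := by
          simp only [P]
          linear_combination -(Polynomial.X + 1) * h2P
        have := congrArg (Polynomial.aeval D) hXQ
        simp only [map_mul, map_add, Polynomial.aeval_X, map_pow, Polynomial.aeval_one, hp0, zero_add] at this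
        exact this
      obtain ⟨a, N, hN, hord⟩ := Nat.exists_eq_two_pow_mul_odd (n := orderOf hu.unit) (orderOf_pos _).ne'
      refine ⟨N, (hodd N hN).1, (hodd N hN).2, ?_⟩
      have hDo : D ^ (2 ^ a * N) = 1 := by
        have := congrArg Units.val (pow_orderOf_eq_one hu.unit)
        rwa [Units.val_pow_eq_pow_val, hord, IsUnit.unit_spec] at this
      have hμ : minpoly F D ∣ (Polynomial.X ^ N - 1) ^ (2 ^ a) := by
        refine minpoly.dvd F D ?_
        rw [sub_pow_char_pow_of_commute _ _ (Commute.one_right _), one_pow, ← pow_mul, map_sub, map_pow,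
          Polynomial.aeval_X, map_one, mul_comm, hDo, sub_self]
      have hrad : IsRadical (minpoly F D) :=
        ((hsep.of_dvd (minpoly.dvd F D hp0)).squarefree).isRadical
      obtain ⟨q, hq⟩ := hrad _ _ hμ
      have := congrArg (Polynomial.aeval D) hq
      rw [map_mul, minpoly.aeval, zero_mul, map_sub, map_pow, Polynomial.aeval_X, map_one, sub_eq_zero] at this
      exact this
  have hdet : D.det = 1 := by
    refine hall _ fun h => ?_
    have := congrArg Matrix.det hDN
    rw [det_pow, h, det_one, zero_pow (by omega)] at this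
    exact zero_ne_one this
  have hleft : ∀ r : Fin (m + 1) → F, r ᵥ* D = (1 : F) • r → r 0 = 0 → ∀ i, i ≠ Fin.last m → r i = 0 := by
    intro r hr hr0 i hi
    have hd : ∀ j, r ⬝ᵥ (D *ᵥ ev j) = r j := fun j => by
      rw [dotProduct_mulVec, hr, one_smul, ev, dotProduct_single, mul_one]
    have hr' : ∀ j, r ⬝ᵥ ev j = r j := fun j => by rw [ev, dotProduct_single, mul_one]
    set q := r (pt m (m - 1)) with hq
    have h1 : r (pt m 1) = q := by rw [← hd, hD1, hr']
    have hstep : ∀ j, 2 ≤ j → j < m → r (pt m j) = r (pt m (j - 1)) + f (j - 1) * q := fun j hj hjm => by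
      rw [← hd, hDj j hj hjm, dotProduct_add, dotProduct_smul, hr', hr', smul_eq_mul]
    have hq0 : q = 0 := by
      by_cases hpar : m % 2 = 1
      · have : ∀ j, 1 ≤ j → j < m → r (pt m j) = (j : F) * q := by
          intro j
          induction j with
          | zero => intro h; omega
          | succ j ih =>
            intro _ hjm
            rcases Nat.eq_zero_or_pos j with rfl | hpos
            · rw [h1]; simp
            · rw [hstep _ (by omega) hjm, Nat.add_sub_cancel, ih hpos (by omega),
                show f j = 1 from if_pos (Or.inl hpar)]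
              push_cast; ring
        have h := this (m - 1) (by omega) (by omega)
        rw [← hq] at h
        obtain ⟨t, ht⟩ : ∃ t, m - 1 = 2 * t := ⟨(m - 1) / 2, by omega⟩
        rw [ht] at h
        push_cast at h
        linear_combination h + (t : F) * q * h2
      · have : ∀ j, 2 ≤ j → j < m → r (pt m j) = 0 := by
          intro j
          induction j with
          | zero => intro h; omega
          | succ j ih =>
            intro hj2 hjm
            rcases Nat.lt_or_ge j 2 with h | h
            · obtain rfl : j = 1 := by omega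
              rw [hstep _ le_rfl hjm, h1, show f 1 = 1 from if_pos (Or.inr le_rfl)]
              linear_combination q * h2
            · rw [hstep _ hj2 hjm, Nat.add_sub_cancel, ih h (by omega), show f j = 0 from if_neg (by omega)]
              ring
        exact this (m - 1) (by omega) (by omega)
    have : ∀ j, 1 ≤ j → j < m → r (pt m j) = 0 := by
      intro j
      induction j with
      | zero => intro h; omega
      | succ j ih =>
        intro _ hjm
        rcases Nat.eq_zero_or_pos j with rfl | hpos
        · rw [h1, hq0]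
        · rw [hstep _ (by omega) hjm, Nat.add_sub_cancel, ih hpos (by omega), hq0, mul_zero, add_zero]
    rcases Nat.eq_zero_or_pos i.val with h | h
    · rw [show i = 0 from Fin.ext h]; exact hr0
    · rw [← pt_self i]
      refine this _ h ?_
      have : i.val ≠ m := fun e => hi (Fin.ext (by rw [Fin.val_last]; exact e))
      omega
  -- the operator to be completed
  set A := loW m F * (D + vecMulVec (ev 0) (ev (Fin.last m))) - 1 with hA
  have hAev : ∀ j, j ≤ m → A *ᵥ ev (pt m j) =
      loW m F *ᵥ (D *ᵥ ev (pt m j) + (if j = m then (1 : F) else 0) • ev (pt m 0)) + ev (pt m j) := by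
    intro j hj
    rw [hA, sub_mulVec, one_mulVec, ← mulVec_mulVec, add_mulVec, vecMulVec_mulVec, op_smul_eq_smul, pt_zero,
      show ev (F := F) (Fin.last m) ⬝ᵥ ev (pt m j) = if j = m then 1 else 0 by
        rw [ev, ev, single_dotProduct, one_mul, Pi.single_apply, ← pt_last]
        exact if_congr ⟨fun e => (pt_inj le_rfl hj e).symm, fun e => by rw [e]⟩ rfl rfl,
      sub_eq_add_neg]
    congr 1
    rw [neg_eq_iff_add_eq_zero, hadd]
  set w : Fin (m + 1) → F := ev (pt m (m - 1)) + ev (pt m m) with hw
  have hWg : loW m F *ᵥ ev (pt m (m - 1)) = w := by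
    rw [loW_mulVec_pt (by omega), show m - 1 + 1 = m by omega]
  have hA0 : A *ᵥ ev (pt m 0) = ev (pt m 1) := by
    rw [hAev 0 (by omega), hDe 0 (by omega) (Or.inl rfl), if_neg (by omega), zero_smul, add_zero,
      loW_mulVec_pt (by omega), add_comm (ev (pt m 0)), add_assoc, hadd, add_zero]
  have hAL : A *ᵥ ev (pt m m) = ev (pt m 0) + ev (pt m 1) := by
    rw [hAev m le_rfl, hDe m le_rfl (Or.inr rfl), if_pos rfl, one_smul, mulVec_add, loW_mulVec_pt_last,
      loW_mulVec_pt (by omega), add_comm (ev (pt m m)), add_assoc, hadd, add_zero]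
  have hA1 : A *ᵥ ev (pt m 1) = ev (pt m 1) + w := by
    rw [hAev 1 (by omega), hD1, if_neg (by omega), zero_smul, add_zero, hWg]
    exact add_comm _ _
  have hAj : ∀ j, 2 ≤ j → j < m → A *ᵥ ev (pt m j) = ev (pt m (j - 1)) + f (j - 1) • w := by
    intro j hj hjm
    rw [hAev j hjm.le, hDj j hj hjm, if_neg (by omega), zero_smul, add_zero, mulVec_add, mulVec_smul, hWg,
      loW_mulVec_pt (by omega), show j - 1 + 1 = j by omega, add_assoc, add_assoc, add_comm (ev (pt m j)),
      add_assoc, hadd, add_zero]
  have hdetA : A.det = 0 := by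
    refine Matrix.exists_mulVec_eq_zero_iff.1 ⟨ev (pt m 1) + ev (pt m 2), fun h => ?_, ?_⟩
    · have := congrFun h (pt m 1)
      rw [Pi.add_apply, ev, ev, Pi.single_eq_same, Pi.single_eq_of_ne
        (fun e => by have := pt_inj (by omega) (by omega) e; omega), add_zero] at this
      exact one_ne_zero this
    · rw [mulVec_add, hA1, hAj 2 le_rfl (by omega), show f (2 - 1) = 1 from if_pos (Or.inr le_rfl), one_smul,
        hadd]
  set x : Fin (m + 1) → F := ev (pt m m) with hx
  have hK : (kry A x).det ≠ 0 := by
    refine det_kry_ne_zero fun r hr => ?_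
    let V : Submodule F (Fin (m + 1) → F) :=
      { carrier := {y | ∀ i : ℕ, r ⬝ᵥ (A ^ i *ᵥ y) = 0}
        add_mem' := fun {a b} ha hb i => by rw [mulVec_add, dotProduct_add, ha, hb, add_zero]
        zero_mem' := fun i => by rw [mulVec_zero, dotProduct_zero]
        smul_mem' := fun t a ha i => by rw [mulVec_smul, dotProduct_smul, ha, smul_zero] }
    have hVA : ∀ y ∈ V, A *ᵥ y ∈ V := fun y hy i => by
      rw [mulVec_mulVec, ← pow_succ]; exact hy (i + 1)
    have hxV : x ∈ V := hr
    have h01 : ev (pt m 0) + ev (pt m 1) ∈ V := hAL ▸ hVA _ hxV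
    have hwV : w ∈ V := by
      have := hVA _ h01
      rwa [mulVec_add, hA0, hA1, ← add_assoc, hadd, zero_add] at this
    have hdown : ∀ d j, j + d = m - 1 → 1 ≤ j → ev (pt m j) ∈ V := by
      intro d
      induction d with
      | zero =>
        intro j hj _
        rw [show j = m - 1 by omega, show ev (pt m (m - 1)) = w + x by rw [hw, hx, add_assoc, hadd, add_zero]]
        exact add_mem hwV hxV
      | succ d ih =>
        intro j hj h1
        have := hVA _ (ih (j + 1) (by omega) (by omega))
        rw [hAj _ (by omega) (by omega), Nat.add_sub_cancel] at this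
        exact (Submodule.add_mem_iff_left _ (V.smul_mem _ hwV)).1 this
    have hev : ∀ j : Fin (m + 1), ev j ∈ V := fun j => by
      rw [← pt_self j]
      rcases (by omega : j.val = 0 ∨ j.val = m ∨ (1 ≤ j.val ∧ j.val < m)) with h | h | h
      · rw [h, show ev (pt m 0) = (ev (pt m 0) + ev (pt m 1)) + ev (pt m 1) by rw [add_assoc, hadd, add_zero]]
        exact add_mem h01 (hdown (m - 2) 1 (by omega) le_rfl)
      · rw [h]; exact hxV
      · exact hdown (m - 1 - j.val) _ (by omega) h.1
    funext j
    have := hev j 0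
    rwa [pow_zero, one_mulVec, ev, dotProduct_single, mul_one] at this
  obtain ⟨ρ, hρn, hρd, hρx⟩ := exists_completion (A := A) (x := x) 1 hK (fun a ha j hj => by
    obtain rfl : j = 0 := Fin.ext (by simpa using Nat.lt_one_iff.1 hj)
    by_contra h0
    rw [kry_mulVec, Fin.sum_univ_succ, Fin.val_zero, pow_zero, one_mulVec] at ha
    let y : Fin (m + 1) → F := (a 0)⁻¹ • (A ^ m *ᵥ x - ∑ i : Fin m, a i.succ • (A ^ i.val *ᵥ x))
    have hy : A *ᵥ y = x := by
      simp only [y]
      rw [mulVec_smul, mulVec_sub, mulVec_sum, mulVec_mulVec, ← pow_succ']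
      simp only [mulVec_smul, mulVec_mulVec, ← pow_succ', ← ha, Fin.val_succ, add_sub_cancel_right, smul_smul]
      rw [inv_mul_cancel₀ h0, one_smul]
    apply hK
    rw [← hy, kry_mul_left, det_mul, hdetA, zero_mul]) le_rfl
  rw [pow_one, hAL] at hρn hρd
  have hρL : ρ (Fin.last m) = 0 := by
    have := hρx one_pos
    rwa [hx, pt_last, ev, dotProduct_single, mul_one] at this
  have hy0 : loW m F *ᵥ ev 0 = ev (pt m 0) + ev (pt m 1) := by rw [← pt_zero, loW_mulVec_pt (by omega)]
  have hD0' : D *ᵥ ev 0 = ev 0 := by rw [← pt_zero, hDe 0 (by omega) (Or.inl rfl)]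
  have eN : loW m F * (D * (1 + vecMulVec (ev 0) (ρ + ev (Fin.last m)))) - 1 =
      A + vecMulVec (ev (pt m 0) + ev (pt m 1)) ρ := by
    rw [hA, ← hy0, mul_add D, mul_one, mul_vecMulVec, hD0', vecMulVec_add, mul_add, mul_add, mul_add,
      mul_vecMulVec, mul_vecMulVec]
    abel
  obtain ⟨-, u, -, hconj, -, e, he0, he⟩ := core (by omega : 2 ≤ m) D 1 (ρ + ev (Fin.last m)) x N hdet
    (by rw [one_smul, hD0']) (by rw [one_smul, ← pt_last, hDe m le_rfl (Or.inr rfl)]) hDN (one_pow N) hN0
    hNodd hleft (by rw [Pi.add_apply, hρL, zero_add, ev, Pi.single_eq_same]; exact one_ne_zero)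
    (by rw [eN]; exact hρn) (by rw [eN, hρd]; exact hK)
  obtain ⟨g', rfl⟩ := hconj 1 one_ne_zero (by rw [eN, hρd, one_pow]; exact hall _ hK)
  refine ⟨g', ?_⟩
  rw [Set.pair_comm]
  exact eq_top_of_two (by omega) ⟨loU m F, Subgroup.subset_closure (by simp), rfl⟩ he0 he he
    fun S _ => subfield_top_of_prime (h2c ▸ Nat.prime_two) S

end CfsgLib.Classical.UnipotentGen
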