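import Cfsg.Agent.Lib.Classical.UnitarySubOrth
import Cfsg.Agent.Lib.Classical.QuadExtension

/-!
# Quadratic subfields of similarities in orthogonal groups
-/

set_option autoImplicit false
set_option linter.unusedSectionVars false
set_option backward.isDefEq.respectTransparency false

open Matrix Module QuadraticMap CfsgLib.Orth

namespace CfsgLib.Classical.QuadExtension

variable {F : Type*} [Field F] {ι : Type} [Fintype ι] [DecidableEq ι] [Nonempty ι]
  {K : Subalgebra F (Matrix ι ι F)}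

/-- Membership in the normaliser through one generator with a quadratic equation. -/
theorem mem_normalizer_iff_trace (hK : Cfsg.Geo.IsFieldSubalgebra 2 K) {J : Matrix ι ι F} (hJ : J ∈ K)
    (hJs : ∀ c : F, J ≠ c • (1 : Matrix ι ι F)) {t c : F} (hJJ : J * J = t • J - c • (1 : Matrix ι ι F))
    (g : GL ι F) :
    g ∈ Cfsg.Geo.subalgebraNormalizer K ↔
      (g : Matrix ι ι F) * J = J * (g : Matrix ι ι F) ∨
        (g : Matrix ι ι F) * J = t • (g : Matrix ι ι F) - J * (g : Matrix ι ι F) := by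
  have conj_J : ∀ (h : GL ι F), ((h : Matrix ι ι F) * J * ((h⁻¹ : GL ι F) : Matrix ι ι F) ∈ K) →
      (h : Matrix ι ι F) * J * ((h⁻¹ : GL ι F) : Matrix ι ι F) = J ∨
        (h : Matrix ι ι F) * J * ((h⁻¹ : GL ι F) : Matrix ι ι F) = t • (1 : Matrix ι ι F) - J := by
    intro h hA
    set A := (h : Matrix ι ι F) * J * ((h⁻¹ : GL ι F) : Matrix ι ι F) with hAdef
    have hh : ((h⁻¹ : GL ι F) : Matrix ι ι F) * (h : Matrix ι ι F) = 1 := by
      rw [← Units.val_mul, inv_mul_cancel, Units.val_one]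
    have hh' : (h : Matrix ι ι F) * ((h⁻¹ : GL ι F) : Matrix ι ι F) = 1 := by
      rw [← Units.val_mul, mul_inv_cancel, Units.val_one]
    have hAA : A * A = t • A - c • (1 : Matrix ι ι F) := by
      rw [hAdef, show ∀ G G' : Matrix ι ι F, G * J * G' * (G * J * G') = G * J * (G' * G) * J * G' from
        fun G G' => by noncomm_ring, hh, mul_one, mul_assoc _ J J, hJJ]
      simp only [mul_sub, sub_mul, Matrix.mul_smul, Matrix.smul_mul, mul_one, hh']
    have hc := hK.comm A hA J hJ
    have hz : (A - J) * (A - (t • (1 : Matrix ι ι F) - J)) = 0 := by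
      simp only [sub_mul, mul_sub, Matrix.mul_smul, mul_one, hAA, hJJ, hc]
      module
    by_cases he : A - J = 0
    · exact Or.inl (sub_eq_zero.1 he)
    obtain ⟨y, hy, hy'⟩ := hK.inv _ (K.sub_mem hA hJ) he
    right
    have := congrArg (y * ·) hz
    rw [← mul_assoc, hK.comm y hy _ (K.sub_mem hA hJ), hy', one_mul, mul_zero] at this
    exact sub_eq_zero.1 this
  constructor
  · intro hg
    rcases conj_J g ((hg J).1 hJ) with h | h
    · left
      have := congrArg (· * (g : Matrix ι ι F)) h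
      rwa [mul_assoc, ← Units.val_mul, inv_mul_cancel, Units.val_one, mul_one] at this
    · right
      have := congrArg (· * (g : Matrix ι ι F)) h
      rwa [mul_assoc, ← Units.val_mul, inv_mul_cancel, Units.val_one, mul_one, sub_mul, Matrix.smul_mul,
        one_mul] at this
  · intro hg
    have key : ∀ (h : GL ι F), (h : Matrix ι ι F) * J * ((h⁻¹ : GL ι F) : Matrix ι ι F) ∈ K → ∀ k ∈ K,
        (h : Matrix ι ι F) * k * ((h⁻¹ : GL ι F) : Matrix ι ι F) ∈ K := by
      intro h hh k hk
      obtain ⟨a, b, rfl⟩ := exists_repr hK hJ hJs hk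
      rw [mul_add, add_mul, Matrix.mul_smul, Matrix.mul_smul, Matrix.smul_mul, Matrix.smul_mul, mul_one,
        ← Units.val_mul, mul_inv_cancel, Units.val_one]
      exact K.add_mem (K.smul_mem (K.one_mem) a) (K.smul_mem hh b)
    set G := (g : Matrix ι ι F)
    set G' := ((g⁻¹ : GL ι F) : Matrix ι ι F)
    have hGG : G' * G = 1 := by rw [← Units.val_mul, inv_mul_cancel, Units.val_one]
    have hGG' : G * G' = 1 := by rw [← Units.val_mul, mul_inv_cancel, Units.val_one]
    have h1 : G * J * G' ∈ K ∧ G' * J * G ∈ K := by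
      rcases hg with h | h
      · refine ⟨?_, ?_⟩
        · rw [h, mul_assoc, hGG', mul_one]; exact hJ
        · rw [mul_assoc, ← h, ← mul_assoc, hGG, one_mul]; exact hJ
      · have h' : J * G = t • G - G * J := by rw [h]; abel
        refine ⟨?_, ?_⟩
        · rw [h, sub_mul, Matrix.smul_mul, mul_assoc J, hGG', mul_one]
          exact K.sub_mem (K.smul_mem K.one_mem t) hJ
        · rw [mul_assoc, h', mul_sub, Matrix.mul_smul, ← mul_assoc, hGG, one_mul]
          exact K.sub_mem (K.smul_mem K.one_mem t) hJ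
    intro k
    refine ⟨key g h1.1 k, fun hk => ?_⟩
    have := key g⁻¹ (by rw [inv_inv]; exact h1.2) _ hk
    simpa [mul_assoc, ← Units.val_mul, ← mul_assoc] using this

end CfsgLib.Classical.QuadExtension

namespace CfsgLib.Classical.UnitarySubOrth

variable {F : Type*} [Field F] [Fintype F]

theorem omegaGL_isMaximal {n : ℕ} (hn : 9 ≤ n) (heven : Even n) (Qf : (Fin n → F) → F)
    (hQf : Cfsg.Geo.IsNondegenerateQuadraticForm Qf) (K : Subalgebra F (Matrix (Fin n) (Fin n) F))
    (hK : Cfsg.Geo.IsFieldSubalgebra 2 K) (hac : Cfsg.Geo.IsAdjointClosedFor (QuadraticMap.polar Qf) K)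
    (hnsa : ¬ Cfsg.Geo.IsSelfAdjointFor (QuadraticMap.polar Qf) K)
    (hsc : ∀ k ∈ K, ∃ c : F, ∀ v : (Fin n → F), Qf (Matrix.mulVec k v) = c * Qf v) :
    Cfsg.Geo.IsMaximalIn (Cfsg.Geo.omegaGL Qf) (Cfsg.Geo.subalgebraNormalizer K ⊓ Cfsg.Geo.omegaGL Qf) := by
  classical
  haveI : Nonempty (Fin n) := ⟨⟨0, by omega⟩⟩
  obtain ⟨Q, hQ, hnd⟩ := exists_quadOf hQf
  obtain rfl : Qf = ⇑Q := funext hQ
  obtain ⟨k, hk, hns⟩ : ∃ k ∈ K, ∃ u v, polar Q (k *ᵥ u) v ≠ polar Q u (k *ᵥ v) := by
    by_contra hall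
    push Not at hall
    exact hnsa fun k hk u v => hall k hk u v
  obtain ⟨k', hk', hadj⟩ := hac k hk
  have hext : ∀ x y : Fin n → F, (∀ w, polar Q w x = polar Q w y) → x = y := fun x y h =>
    sub_eq_zero.1 (hnd.2 _ fun w => by
      rw [QuadraticMap.polarBilin_apply_apply, polar_sub_right, h, sub_self])
  have hadj' : ∀ u v, polar Q (k' *ᵥ u) v = polar Q u (k *ᵥ v) := fun u v => by
    rw [polar_comm, ← hadj, polar_comm]
  have hJs : ∀ r : F, k ≠ r • (1 : Matrix _ _ F) := by
    intro r hr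
    obtain ⟨u, v, huv⟩ := hns
    apply huv
    rw [hr, Matrix.smul_mulVec, Matrix.smul_mulVec, Matrix.one_mulVec, Matrix.one_mulVec, polar_smul_l',
      polar_smul_r']
  obtain ⟨t, b, hb⟩ := QuadExtension.exists_repr hK hk hJs (K.add_mem hk hk')
  obtain rfl : b = 0 := by
    have h1 : ∀ u v, b * polar Q (k *ᵥ u) v = b * polar Q u (k *ᵥ v) := by
      intro u v
      have h : polar Q ((k + k') *ᵥ u) v = polar Q u ((k + k') *ᵥ v) := by
        rw [Matrix.add_mulVec, Matrix.add_mulVec, polar_add_left, polar_add_right, hadj, hadj']; ring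
      rw [hb, Matrix.add_mulVec, Matrix.add_mulVec, Matrix.smul_mulVec, Matrix.smul_mulVec, Matrix.smul_mulVec,
        Matrix.smul_mulVec, Matrix.one_mulVec, Matrix.one_mulVec, polar_add_left, polar_add_right, polar_smul_l',
        polar_smul_l', polar_smul_r', polar_smul_r'] at h
      linear_combination h
    obtain ⟨u, v, huv⟩ := hns
    exact by_contra fun hb0 => huv (mul_left_cancel₀ hb0 (h1 u v))
  have hk'eq : ∀ x, k' *ᵥ x = t • x - k *ᵥ x := fun x => by
    have := congrArg (· *ᵥ x) hb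
    simp only [zero_smul, add_zero, Matrix.add_mulVec, Matrix.smul_mulVec, Matrix.one_mulVec] at this
    rw [← this]; abel
  obtain ⟨c, hc⟩ := hsc k hk
  have hpolJ : ∀ u v, polar Q (k *ᵥ u) (k *ᵥ v) = c * polar Q u v := fun u v => by
    rw [QuadraticMap.polar, ← Matrix.mulVec_add, hc, hc, hc, QuadraticMap.polar]; ring
  have hkk : ∀ x, k *ᵥ (k *ᵥ x) = t • (k *ᵥ x) - c • x := fun x => hext _ _ fun w => by
    have h : polar Q w (k' *ᵥ (k *ᵥ x)) = c * polar Q w x := by rw [← hadj, hpolJ]
    rw [hk'eq, polar_sub_right] at h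
    rw [polar_sub_right, polar_smul_r' Q _ w x]
    linear_combination -h
  have hJJ : k * k = t • k - c • (1 : Matrix _ _ F) := Matrix.ext_of_mulVec_single fun i => by
    rw [← Matrix.mulVec_mulVec, hkk, Matrix.sub_mulVec, Matrix.smul_mulVec, Matrix.smul_mulVec, Matrix.one_mulVec]
  have hirr : ∀ r : F, r * r - t * r + c ≠ 0 := by
    intro r hr
    have hz : (k - r • (1 : Matrix _ _ F)) * (k - (t - r) • (1 : Matrix _ _ F)) = 0 := by
      simp only [sub_mul, mul_sub, Matrix.smul_mul, Matrix.mul_smul, one_mul, mul_one, hJJ]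
      linear_combination (norm := module) -hr • (1 : Matrix (Fin n) (Fin n) F)
    obtain ⟨y, hy, hy'⟩ := hK.inv _ (K.sub_mem hk (K.smul_mem K.one_mem r)) (fun h => hJs r (sub_eq_zero.1 h))
    have := congrArg (y * ·) hz
    rw [← mul_assoc, hK.comm y hy _ (K.sub_mem hk (K.smul_mem K.one_mem r)), hy', one_mul, mul_zero] at this
    exact hJs _ (sub_eq_zero.1 this)
  have hsep : (2 : F) ≠ 0 ∨ t ≠ 0 := by
    by_contra hcon
    push Not at hcon
    obtain ⟨u, v, huv⟩ := hns
    apply huv
    rw [hadj, hk'eq, hcon.2, zero_smul, zero_sub, polar_neg_right]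
    linear_combination -(polar Q u (k *ᵥ v)) * hcon.1
  have hpol : ∀ v, polar Q v (k *ᵥ v) = t * Q v := by
    obtain ⟨e, he⟩ := hsc (1 + k) (K.add_mem K.one_mem hk)
    set s := e - 1 - c with hs
    have h1 : ∀ v, polar Q v (k *ᵥ v) = s * Q v := fun v => by
      have := he v
      rw [Matrix.add_mulVec, Matrix.one_mulVec, quad_add', hc] at this
      rw [hs]; linear_combination this
    obtain ⟨u, v, huv⟩ : ∃ u v : Fin n → F, polar Q u v ≠ 0 := by
      by_contra hall
      push Not at hall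
      have h0 := hext (Pi.single ⟨0, by omega⟩ 1) 0 fun w => by rw [hall, polar_zero_right]
      simpa using congrFun h0 ⟨0, by omega⟩
    have h := h1 (u + v)
    rw [Matrix.mulVec_add, polar_add_left, polar_add_right, polar_add_right, h1, h1, quad_add',
      polar_comm _ v (k *ᵥ u), hadj, hk'eq, polar_sub_right, polar_smul_r' Q _ u v] at h
    have e : s = t := mul_right_cancel₀ huv (by linear_combination -h)
    intro w
    rw [h1, e]
  have hD : Data Q (Matrix.toLin' k) t c :=
    ⟨hnd, fun v => by rw [Matrix.toLin'_apply]; exact hc v,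
      fun v => by rw [Matrix.toLin'_apply]; exact hpol v,
      fun v => by rw [Matrix.toLin'_apply, Matrix.toLin'_apply]; exact hkk v, hirr, hsep, by
        rw [Module.finrank_fintype_fun_eq_card, Fintype.card_fin]
        rcases heven with ⟨m, rfl⟩
        omega⟩
  have h4 : Good F (Fin n → F) := good_of (Or.inr (by
    rw [Module.finrank_fintype_fun_eq_card, Fintype.card_fin]; omega))
  obtain ⟨hp⟩ := exists_hypPairs hnd (show 5 ≤ finrank F (Fin n → F) by
    rw [Module.finrank_fintype_fun_eq_card, Fintype.card_fin]; omega)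
  have hmv : ∀ (g : orthGroup Q) x,
      (orthToGL Q (fun _ => rfl) g : Matrix (Fin n) (Fin n) F) *ᵥ x = g.1 x := fun g x => by
    have := LinearMap.congr_fun (toLin'_orthToGL Q (fun _ => rfl) g) x
    rwa [Matrix.toLin'_apply] at this
  have hN : ∀ g, orthToGL Q (fun _ => rfl) g ∈ Cfsg.Geo.subalgebraNormalizer K ↔
      Nrm (Matrix.toLin' k) t g := by
    intro g
    rw [QuadExtension.mem_normalizer_iff_trace hK hk hJs hJJ]
    refine or_congr ⟨fun h x => ?_, fun h => ?_⟩ ⟨fun h x => ?_, fun h => ?_⟩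
    · rw [Matrix.toLin'_apply, Matrix.toLin'_apply, ← hmv, ← hmv, Matrix.mulVec_mulVec, h, Matrix.mulVec_mulVec]
    · refine Matrix.ext_of_mulVec_single fun i => ?_
      have := h (Pi.single i 1)
      rw [Matrix.toLin'_apply, Matrix.toLin'_apply, ← hmv, ← hmv] at this
      rwa [← Matrix.mulVec_mulVec, ← Matrix.mulVec_mulVec]
    · rw [Matrix.toLin'_apply, Matrix.toLin'_apply, ← hmv, ← hmv, Matrix.mulVec_mulVec, h, Matrix.sub_mulVec,
        Matrix.smul_mulVec, Matrix.mulVec_mulVec]
    · refine Matrix.ext_of_mulVec_single fun i => ?_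
      have := h (Pi.single i 1)
      rw [Matrix.toLin'_apply, Matrix.toLin'_apply, ← hmv, ← hmv] at this
      rwa [← Matrix.mulVec_mulVec, Matrix.sub_mulVec, Matrix.smul_mulVec, ← Matrix.mulVec_mulVec]
  obtain ⟨g₀, hg₀, hg₀N⟩ := exists_not_nrm hD hp h4
  exact omega_isMaximalIn_inf Q (fun _ => rfl) _ ⟨g₀, hg₀, fun h => hg₀N ((hN g₀).1 h)⟩
    fun M hM g hg _ hgN => le_of_not_nrm hD h4 (fun y hy hyN => hM y hy ((hN y).2 hyN)) hg
      fun h => hgN ((hN g).2 h)

end CfsgLib.Classical.UnitarySubOrth
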