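import Cfsg.Agent.Lib.Classical.SympBasic
import Cfsg.Agent.Lib.Orth.Stab
import Cfsg.Agent.Lib.Orth.Classify

/-!
# `GU(m, q).2` is maximal in `Sp(2m, q)`
-/

set_option autoImplicit false
set_option linter.unusedSectionVars false
set_option backward.isDefEq.respectTransparency false

open Module

namespace CfsgLib.Classical.UnitarySubSymp

variable {F : Type*} [Field F] [Fintype F] {V : Type*} [AddCommGroup V] [Module F V] [FiniteDimensional F V]
  {B : V →ₗ[F] V →ₗ[F] F} {J : V →ₗ[F] V} {δ : F}

/-- A skew operator whose square is a non-square scalar. -/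
structure Data (B : V →ₗ[F] V →ₗ[F] F) (J : V →ₗ[F] V) (δ : F) : Prop where
  alt : B.IsAlt
  nondeg : B.Nondegenerate
  two : (2 : F) ≠ 0
  sq : ∀ x, J (J x) = δ • x
  skew : ∀ x y, B (J x) y = -B x (J y)
  nsq : ¬ IsSquare δ
  dim : 6 ≤ finrank F V

variable (hD : Data B J δ)
include hD

theorem delta_ne : δ ≠ 0 := fun h => hD.nsq (h ▸ IsSquare.zero)

theorem norm_ne (a : F) {b : F} (hb : b ≠ 0) : a * a - b * b * δ ≠ 0 := fun h =>
  hD.nsq ⟨a / b, by field_simp; linear_combination -h⟩

theorem coeff_zero {v : V} {S : Submodule F V} (hS : ∀ x ∈ S, J x ∈ S) (hv : v ∉ S) {a b : F}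
    (h : a • v + b • J v ∈ S) : a = 0 ∧ b = 0 := by
  by_cases hb : b = 0
  · subst hb
    rw [zero_smul, add_zero] at h
    refine ⟨by_contra fun ha => hv ?_, rfl⟩
    simpa [smul_smul, inv_mul_cancel₀ ha] using S.smul_mem a⁻¹ h
  exfalso
  have h1 := hS _ h
  rw [map_add, map_smul, map_smul, hD.sq] at h1
  have h2 := S.sub_mem (S.smul_mem a h) (S.smul_mem b h1)
  have e : a • (a • v + b • J v) - b • (a • J v + b • δ • v) = (a * a - b * b * δ) • v := by module
  rw [e] at h2
  apply hv
  simpa [smul_smul, inv_mul_cancel₀ (norm_ne hD a hb)] using S.smul_mem (a * a - b * b * δ)⁻¹ h2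

omit [Fintype F] in
theorem span_inv (u : V) : ∀ x ∈ Submodule.span F {u, J u}, J x ∈ Submodule.span F {u, J u} := by
  intro x hx
  obtain ⟨a, b, rfl⟩ := Submodule.mem_span_pair.1 hx
  exact Submodule.mem_span_pair.2 ⟨b * δ, a, by rw [map_add, map_smul, map_smul, hD.sq, smul_smul, add_comm]⟩

theorem exists_dual {S : Submodule F V} {v : V} (hv : v ∉ S) :
    ∃ z, (∀ s ∈ S, B s z = 0) ∧ B v z = 1 := by
  obtain ⟨φ, hφv, hφS⟩ := Submodule.exists_dual_map_eq_bot_of_notMem hv inferInstance
  have hN : LinearMap.BilinForm.Nondegenerate B := hD.nondeg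
  obtain ⟨z, hz⟩ : ∃ z, ∀ s, B z s = φ s := ⟨(LinearMap.BilinForm.toDual B hN).symm φ, fun s =>
    LinearMap.BilinForm.apply_toDual_symm_apply φ s⟩
  refine ⟨(-(φ v)⁻¹) • z, fun s hs => ?_, ?_⟩
  · have : φ s ∈ S.map φ := ⟨s, hs, rfl⟩
    rw [hφS, Submodule.mem_bot] at this
    rw [map_smul, alt_swap hD.alt, hz, this, neg_zero, smul_zero]
  · rw [map_smul, alt_swap hD.alt, hz, smul_eq_mul]
    field_simp

/-- Vectors with prescribed pairings on one line over the quadratic extension. -/
theorem exists_two {S : Submodule F V} (hS : ∀ x ∈ S, J x ∈ S) {v : V} (hv : v ∉ S) (a b : F) :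
    ∃ z, (∀ s ∈ S, B s z = 0) ∧ B v z = a ∧ B (J v) z = b := by
  have h1 : v ∉ S ⊔ (F ∙ J v) := fun h => by
    obtain ⟨s, hs, x, hx, e⟩ := Submodule.mem_sup.1 h
    obtain ⟨c, rfl⟩ := Submodule.mem_span_singleton.1 hx
    have := coeff_zero hD hS hv (a := 1) (b := -c) (by
      rw [show (1 : F) • v + (-c) • J v = s by linear_combination (norm := module) -e]; exact hs)
    exact one_ne_zero this.1
  have h2 : J v ∉ S ⊔ (F ∙ v) := fun h => by
    obtain ⟨s, hs, x, hx, e⟩ := Submodule.mem_sup.1 h
    obtain ⟨c, rfl⟩ := Submodule.mem_span_singleton.1 hx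
    have := coeff_zero hD hS hv (a := -c) (b := 1) (by
      rw [show (-c) • v + (1 : F) • J v = s by linear_combination (norm := module) -e]; exact hs)
    exact one_ne_zero this.2
  obtain ⟨z₁, hz₁, hv₁⟩ := exists_dual hD h1
  obtain ⟨z₂, hz₂, hv₂⟩ := exists_dual hD h2
  refine ⟨a • z₁ + b • z₂, fun s hs => ?_, ?_, ?_⟩
  · simp [hz₁ s (Submodule.mem_sup_left hs), hz₂ s (Submodule.mem_sup_left hs)]
  · simp [hv₁, hz₂ v (Submodule.mem_sup_right (Submodule.mem_span_singleton_self v))]
  · simp [hv₂, hz₁ (J v) (Submodule.mem_sup_right (Submodule.mem_span_singleton_self _))]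

/-- Vectors with prescribed pairings on two lines over the quadratic extension. -/
theorem exists_four {u v : V} (hu : u ≠ 0) (hv : v ∉ Submodule.span F {u, J u}) (a b c d : F) :
    ∃ z, B u z = a ∧ B (J u) z = b ∧ B v z = c ∧ B (J v) z = d := by
  obtain ⟨z₁, -, h1, h1'⟩ := exists_two hD (S := ⊥) (by simp) (v := u) (by simpa using hu) a b
  obtain ⟨z₂, h2, h2v, h2v'⟩ := exists_two hD (span_inv hD u) hv (c - B v z₁) (d - B (J v) z₁)
  refine ⟨z₁ + z₂, ?_, ?_, ?_, ?_⟩
  · rw [map_add, h1, h2 u (Submodule.subset_span (by simp)), add_zero]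
  · rw [map_add, h1', h2 (J u) (Submodule.subset_span (by simp)), add_zero]
  · rw [map_add, h2v]; ring
  · rw [map_add, h2v']; ring

theorem span_four_inv (u v : V) :
    ∀ x ∈ Submodule.span F {u, J u} ⊔ Submodule.span F {v, J v},
      J x ∈ Submodule.span F {u, J u} ⊔ Submodule.span F {v, J v} := by
  intro x hx
  obtain ⟨a, ha, b, hb, rfl⟩ := Submodule.mem_sup.1 hx
  rw [map_add]
  exact Submodule.add_mem_sup (span_inv hD u a ha) (span_inv hD v b hb)

omit hD in
theorem finrank_four (u v : V) :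
    finrank F ↥(Submodule.span F {u, J u} ⊔ Submodule.span F {v, J v}) ≤ 4 := by
  classical
  have hp : ∀ w : V, finrank F (Submodule.span F {w, J w}) ≤ 2 := fun w => by
    have h5 := finrank_span_finset_le_card (R := F) ({w, J w} : Finset V)
    have h6 := Finset.card_le_two (a := w) (b := J w)
    rw [Finset.coe_pair, Set.finrank] at h5
    omega
  have := Submodule.finrank_sup_add_finrank_inf_eq (Submodule.span F {u, J u}) (Submodule.span F {v, J v})
  have := hp u
  have := hp v
  omega

/-- The norm of the quadratic extension is surjective. -/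
theorem exists_norm (c : F) : ∃ p r : F, p * p - δ * (r * r) = c := by
  obtain ⟨a, b, h⟩ := FiniteField.exists_root_sum_quadratic (f := Polynomial.X ^ 2 - Polynomial.C c)
    (g := Polynomial.C (-δ) * Polynomial.X ^ 2) (Polynomial.degree_X_pow_sub_C (by norm_num) c)
    (Polynomial.degree_C_mul_X_pow 2 (neg_ne_zero.2 (delta_ne hD)))
    (FiniteField.odd_card_of_char_ne_two fun h => hD.two (by
      haveI := ringChar.of_eq h
      exact CharTwo.two_eq_zero))
  exact ⟨a, b, by simp at h; linear_combination h⟩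

theorem jpol_symm (x y : V) : B x (J y) = B y (J x) := by
  rw [alt_swap hD.alt, hD.skew, neg_neg]

/-- An isotropic vector in `y₀ + S^⊥`, unless `S^⊥` is totally isotropic and orthogonal to `y₀`. -/
theorem exists_iso {S : Submodule F V} (hS : ∀ x ∈ S, J x ∈ S) (y₀ : V)
    (h : LinearMap.BilinForm.orthogonal B S ≤ S → y₀ ∈ S → False) :
    ∃ y, B y (J y) = 0 ∧ ∀ s ∈ S, B s y = B s y₀ := by
  have hN : LinearMap.BilinForm.Nondegenerate B := hD.nondeg
  have hrefl : LinearMap.BilinForm.IsRefl B := fun x y h => by rw [alt_swap hD.alt, h, neg_zero]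
  set Z := LinearMap.BilinForm.orthogonal B S
  have hZJ : ∀ z ∈ Z, J z ∈ Z := fun z hz s hs => by
    show B s (J z) = 0
    have h := hz (J s) (hS s hs)
    change B (J s) z = 0 at h
    rw [hD.skew, neg_eq_zero] at h
    exact h
  have h2 := hD.two
  have hδ := delta_ne hD
  by_cases hall : ∀ n ∈ Z, B n (J n) = 0 ∧ B y₀ (J n) = 0 ∧ B y₀ n = 0
  · refine absurd ?_ (fun hy => h ?_ hy)
    · rw [← LinearMap.BilinForm.orthogonal_orthogonal hN hrefl S]
      intro n hn
      show B n y₀ = 0
      rw [alt_swap hD.alt, (hall n hn).2.2, neg_zero]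
    · have hpol : ∀ n ∈ Z, ∀ m ∈ Z, B n (J m) = 0 := fun n hn m hm => by
        have e := (hall (n + m) (add_mem hn hm)).1
        simp only [map_add, LinearMap.add_apply, (hall n hn).1, (hall m hm).1, zero_add, add_zero,
          jpol_symm hD m n] at e
        exact (mul_eq_zero.1 (show (2 : F) * B n (J m) = 0 by linear_combination e)).resolve_left h2
      intro m hm
      rw [← LinearMap.BilinForm.orthogonal_orthogonal hN hrefl S]
      intro n hn
      show B n m = 0
      have e := hpol n hn (J m) (hZJ m hm)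
      rw [hD.sq, map_smul, smul_eq_mul] at e
      exact (mul_eq_zero.1 e).resolve_left hδ
  · push Not at hall
    obtain ⟨n, hn, hne⟩ := hall
    have hQ : ∀ p r : F, B (y₀ + p • n + r • J n) (J (y₀ + p • n + r • J n)) =
        B y₀ (J y₀) + 2 * p * B y₀ (J n) + 2 * r * δ * B y₀ n + (p * p - δ * (r * r)) * B n (J n) := by
      intro p r
      have e1 : B n (J y₀) = B y₀ (J n) := jpol_symm hD n y₀
      have e2 : B (J n) (J y₀) = δ * B y₀ n := by
        rw [hD.skew, hD.sq, map_smul, smul_eq_mul, alt_swap hD.alt n y₀]; ring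
      have e3 : B (J n) n = -B n (J n) := hD.skew n n
      simp only [map_add, map_smul, LinearMap.add_apply, LinearMap.smul_apply, smul_eq_mul, hD.sq, e1, e2, e3,
        hD.alt n, hD.alt (J n), mul_zero, add_zero]
      ring
    obtain ⟨p, r, hpr⟩ : ∃ p r : F, B (y₀ + p • n + r • J n) (J (y₀ + p • n + r • J n)) = 0 := by
      simp only [hQ]
      by_cases hN0 : B n (J n) = 0
      · simp only [hN0, mul_zero, add_zero]
        by_cases ha : B y₀ (J n) = 0
        · have hb := hne hN0 ha
          exact ⟨0, -B y₀ (J y₀) / (2 * δ * B y₀ n), by field_simp; ring⟩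
        · exact ⟨-B y₀ (J y₀) / (2 * B y₀ (J n)), 0, by field_simp; ring⟩
      · obtain ⟨p, r, h⟩ := exists_norm hD (((B y₀ (J n)) ^ 2 - δ * (B y₀ n) ^ 2) / (B n (J n)) ^ 2
          - B y₀ (J y₀) / B n (J n))
        refine ⟨p - B y₀ (J n) / B n (J n), r + B y₀ n / B n (J n), ?_⟩
        field_simp at h ⊢
        linear_combination h
    refine ⟨_, hpr, fun s hs => ?_⟩
    rw [map_add, map_add, map_smul, map_smul, show B s n = 0 from hn s hs,
      show B s (J n) = 0 from hZJ n hn s hs, smul_zero, smul_zero, add_zero, add_zero]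

theorem orth_ne_bot {S : Submodule F V} (hS : finrank F S ≤ 4) :
    LinearMap.BilinForm.orthogonal B S ≠ ⊥ := fun h => by
  have e := LinearMap.BilinForm.finrank_orthogonal (B := B) hD.nondeg S
  rw [h, finrank_bot] at e
  have := hD.dim
  omega

/-- Isotropic vectors with prescribed pairings on one line over the quadratic extension. -/
theorem exists_iso_two {u : V} (hu : u ≠ 0) (a b : F) :
    ∃ z, B z (J z) = 0 ∧ B u z = a ∧ B (J u) z = b := by
  classical
  obtain ⟨y₀, -, h1, h2⟩ := exists_two hD (S := ⊥) (by simp) (v := u) (by simpa using hu) a b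
  obtain ⟨y, hy, hval⟩ := exists_iso hD (span_inv hD u) y₀ (fun hle _ => by
    have h3 := Submodule.finrank_mono hle
    have h5 := finrank_span_finset_le_card (R := F) ({u, J u} : Finset V)
    have h6 := Finset.card_le_two (a := u) (b := J u)
    rw [Finset.coe_pair, Set.finrank] at h5
    have e := LinearMap.BilinForm.finrank_orthogonal (B := B) hD.nondeg (Submodule.span F {u, J u})
    have := hD.dim
    omega)
  exact ⟨y, hy, by rw [hval u (Submodule.subset_span (by simp))]; exact h1,
    by rw [hval (J u) (Submodule.subset_span (by simp))]; exact h2⟩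

omit [Fintype F] [FiniteDimensional F V] hD in
theorem mem_four_cases {u v : V} {f : V →ₗ[F] F} (h1 : f u = 0) (h2 : f (J u) = 0) (h3 : f v = 0)
    (h4 : f (J v) = 0) {y : V} (hy : y ∈ Submodule.span F {u, J u} ⊔ Submodule.span F {v, J v}) : f y = 0 := by
  obtain ⟨a, ha, b, hb, rfl⟩ := Submodule.mem_sup.1 hy
  obtain ⟨p, r, rfl⟩ := Submodule.mem_span_pair.1 ha
  obtain ⟨p', r', rfl⟩ := Submodule.mem_span_pair.1 hb
  simp [h1, h2, h3, h4]

omit [Fintype F] in
theorem iso_not_mem {u y : V} (hu : B u (J u) = 0) (h : B u y ≠ 0) : y ∉ Submodule.span F {u, J u} := fun hm => by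
  obtain ⟨p, r, rfl⟩ := Submodule.mem_span_pair.1 hm
  exact h (by simp [hD.alt u, hu])

/-- Isotropic vectors with prescribed pairings on two isotropic lines. -/
theorem exists_iso_pair {u v : V} (hui : B u (J u) = 0) (hvi : B v (J v) = 0) (hu : u ≠ 0)
    (hv : v ∉ Submodule.span F {u, J u}) {a : F} (ha : a ≠ 0) (b c d : F) :
    ∃ z, B z (J z) = 0 ∧ B u z = a ∧ B (J u) z = b ∧ B v z = c ∧ B (J v) z = d := by
  obtain ⟨y₀, h1, h2, h3, h4⟩ := exists_four hD hu hv a b c d
  set S := Submodule.span F {u, J u} ⊔ Submodule.span F {v, J v}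
  have hmu : u ∈ S := Submodule.mem_sup_left (Submodule.subset_span (by simp))
  have hmJu : J u ∈ S := Submodule.mem_sup_left (Submodule.subset_span (by simp))
  have hmv : v ∈ S := Submodule.mem_sup_right (Submodule.subset_span (by simp))
  have hmJv : J v ∈ S := Submodule.mem_sup_right (Submodule.subset_span (by simp))
  obtain ⟨y, hy, hval⟩ := exists_iso hD (span_four_inv hD u v) y₀ (fun hle hy0 => by
    by_cases huv : B u v = 0 ∧ B u (J v) = 0
    · exact ha (h1 ▸ mem_four_cases (f := B u) (hD.alt u) hui huv.1 huv.2 hy0)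
    obtain ⟨z, hz, hz0⟩ := Submodule.exists_mem_ne_zero_of_ne_bot (orth_ne_bot hD (finrank_four u v))
    obtain ⟨x₁, hx₁, x₂, hx₂, rfl⟩ := Submodule.mem_sup.1 (hle hz)
    obtain ⟨p, r, rfl⟩ := Submodule.mem_span_pair.1 hx₁
    obtain ⟨p', r', rfl⟩ := Submodule.mem_span_pair.1 hx₂
    have hvu : B v (J u) = B u (J v) := jpol_symm hD v u
    have e1 : B u _ = 0 := hz u hmu
    have e2 : B (J u) _ = 0 := hz (J u) hmJu
    have e3 : B v _ = 0 := hz v hmv
    have e4 : B (J v) _ = 0 := hz (J v) hmJv
    simp only [map_add, map_smul, smul_eq_mul, hD.alt u, hD.alt v, hui, hvi, hD.skew, hD.sq, mul_zero, add_zero,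
      zero_add, neg_zero, hvu, alt_swap hD.alt u v] at e1 e2 e3 e4
    set β := B v u with hβ
    set γ := B u (J v)
    have hdet : γ * γ - δ * (β * β) ≠ 0 := fun h => by
      by_cases hb0 : β = 0
      · exact huv ⟨by rw [alt_swap hD.alt, ← hβ, hb0, neg_zero], by rw [hb0] at h; simpa using h⟩
      · exact norm_ne hD γ hb0 (by linear_combination h)
    have k1 : r' = 0 := (mul_eq_zero.1 (show (γ * γ - δ * (β * β)) * r' = 0 by
      linear_combination γ * e1 - β * e2)).resolve_left hdet
    have k2 : p' = 0 := (mul_eq_zero.1 (show (γ * γ - δ * (β * β)) * p' = 0 by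
      linear_combination δ * β * e1 - γ * e2)).resolve_left hdet
    have k3 : r = 0 := (mul_eq_zero.1 (show (γ * γ - δ * (β * β)) * r = 0 by
      linear_combination γ * e3 + β * e4)).resolve_left hdet
    have k4 : p = 0 := (mul_eq_zero.1 (show (γ * γ - δ * (β * β)) * p = 0 by
      linear_combination -γ * e4 - δ * β * e3)).resolve_left hdet
    exact hz0 (by simp [k1, k2, k3, k4]))
  exact ⟨y, hy, (hval u hmu).trans h1, (hval _ hmJu).trans h2, (hval v hmv).trans h3, (hval _ hmJv).trans h4⟩

/-- An isotropic vector orthogonal to the line of `w` with prescribed pairing with `v`. -/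
theorem exists_iso_root {w v : V} (hw : w ≠ 0) (hv : v ∉ Submodule.span F {w, J w})
    (hcase : B w (J w) ≠ 0 ∨ B v (J v) = 0 ∧ B w (J v) = 0 ∧ B w (J w) = 0) (hwv : B w v = 0) :
    ∃ x, B x (J x) = 0 ∧ B w x = 0 ∧ B (J w) x = 0 ∧ B v x = -1 ∧ B (J v) x = 0 ∧
      x ∉ Submodule.span F {w, J w} := by
  obtain ⟨y₀, h1, h2, h3, h4⟩ := exists_four hD hw hv 0 0 (-1) 0
  set S := Submodule.span F {w, J w} ⊔ Submodule.span F {v, J v}
  have hmv : v ∈ S := Submodule.mem_sup_right (Submodule.subset_span (by simp))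
  have hmw : w ∈ S := Submodule.mem_sup_left (Submodule.subset_span (by simp))
  have hmJw : J w ∈ S := Submodule.mem_sup_left (Submodule.subset_span (by simp))
  -- a vector of `span {w, J w}` orthogonal to that line vanishes on `v`
  have hW : ∀ y ∈ Submodule.span F {w, J w}, B w y = 0 → B (J w) y = 0 → B v y = 0 := by
    intro y hy e1 e2
    obtain ⟨p, r, rfl⟩ := Submodule.mem_span_pair.1 hy
    rcases hcase with hn | ⟨-, hwJv, -⟩
    · simp only [map_add, map_smul, smul_eq_mul, hD.alt w, hD.skew, hD.sq, mul_zero, add_zero, zero_add,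
        neg_zero, mul_neg, neg_eq_zero, mul_eq_zero, hn, or_false] at e1 e2
      simp [e1, e2]
    · have : B v (J w) = 0 := (jpol_symm hD v w).trans hwJv
      simp [this, show B v w = 0 by rw [alt_swap hD.alt, hwv, neg_zero]]
  obtain ⟨x, hx, hval⟩ := exists_iso hD (span_four_inv hD w v) y₀ (fun hle hy0 => by
    refine one_ne_zero (neg_eq_zero.1 (h3.symm.trans ?_))
    rcases hcase with hn | ⟨hvi, hwJv, -⟩
    · obtain ⟨z, hz, hz0⟩ := Submodule.exists_mem_ne_zero_of_ne_bot (orth_ne_bot hD (finrank_four w v))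
      obtain ⟨x₁, hx₁, x₂, hx₂, e⟩ := Submodule.mem_sup.1 (hle hz)
      obtain ⟨p, r, rfl⟩ := Submodule.mem_span_pair.1 hx₂
      have hpr : ¬ (p = 0 ∧ r = 0) := by
        rintro ⟨rfl, rfl⟩
        simp only [zero_smul, add_zero] at e
        subst e
        obtain ⟨s, t, rfl⟩ := Submodule.mem_span_pair.1 hx₁
        have e1 : B w _ = 0 := hz w hmw
        have e2 : B (J w) _ = 0 := hz (J w) hmJw
        simp only [map_add, map_smul, smul_eq_mul, hD.alt w, hD.skew, hD.sq, mul_zero, add_zero, zero_add,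
          neg_zero, mul_neg, neg_eq_zero, mul_eq_zero, hn, or_false] at e1 e2
        simp [e1, e2] at hz0
      set Z := LinearMap.BilinForm.orthogonal B S
      have hJz : J z ∈ Z := fun s hs => by
        show B s (J z) = 0
        have h : B (J s) z = 0 := hz (J s) (span_four_inv hD w v s hs)
        rwa [hD.skew, neg_eq_zero] at h
      have hd : p * p - r * r * δ ≠ 0 := fun h => by
        by_cases hr0 : r = 0
        · exact hpr ⟨by rw [hr0] at h; simpa using h, hr0⟩
        · exact norm_ne hD p hr0 h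
      have hS' : S ≤ Submodule.span F {w, J w} ⊔ Z := by
        have h' : ∀ t, t = v ∨ t = J v → t ∈ Submodule.span F {w, J w} ⊔ Z := by
          have hv' : v ∈ Submodule.span F {w, J w} ⊔ Z := by
            have e' : (p * p - r * r * δ) • v = (p • z - r • J z) - (p • x₁ - r • J x₁) := by
              rw [← e, map_add, map_add, map_smul, map_smul, hD.sq]; module
            rw [← Submodule.smul_mem_iff _ hd, e']
            exact sub_mem (Submodule.mem_sup_right (sub_mem (Z.smul_mem _ hz) (Z.smul_mem _ hJz)))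
              (Submodule.mem_sup_left (sub_mem (Submodule.smul_mem _ _ hx₁)
                (Submodule.smul_mem _ _ (span_inv hD w x₁ hx₁))))
          rintro t (rfl | rfl)
          · exact hv'
          obtain ⟨a, ha, b, hb, e''⟩ := Submodule.mem_sup.1 hv'
          rw [← e'', map_add]
          refine Submodule.add_mem_sup (span_inv hD w a ha) fun s hs => ?_
          show B s (J b) = 0
          have h : B (J s) b = 0 := hb (J s) (span_four_inv hD w v s hs)
          rwa [hD.skew, neg_eq_zero] at h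
        refine sup_le le_sup_left (Submodule.span_le.2 ?_)
        rintro t (rfl | rfl)
        exacts [h' _ (Or.inl rfl), h' _ (Or.inr rfl)]
      obtain ⟨a, ha, b, hb, rfl⟩ := Submodule.mem_sup.1 (hS' hy0)
      have hbw : B w b = 0 := hb w hmw
      have hbJw : B (J w) b = 0 := hb _ hmJw
      have hbv : B v b = 0 := hb v hmv
      rw [map_add, hbv, add_zero]
      exact hW a ha (by simpa [hbw] using h1) (by simpa [hbJw] using h2)
    · exact mem_four_cases (f := B v) (by rw [alt_swap hD.alt, hwv, neg_zero]) ((jpol_symm hD v w).trans hwJv)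
        (hD.alt v) hvi hy0)
  have hmJv : J v ∈ S := Submodule.mem_sup_right (Submodule.subset_span (by simp))
  have e1 := (hval w hmw).trans h1
  have e2 := (hval _ hmJw).trans h2
  have e3 := (hval v hmv).trans h3
  exact ⟨x, hx, e1, e2, e3, (hval _ hmJv).trans h4,
    fun hm => one_ne_zero (neg_eq_zero.1 (e3.symm.trans (hW x hm e1 e2)))⟩

/-- Every vector is isotropic or the sum of two non-orthogonal isotropic vectors. -/
theorem iso_or_sum (v : V) :
    B v (J v) = 0 ∨ ∃ u, B u (J u) = 0 ∧ B (v - u) (J (v - u)) = 0 ∧ B (v - u) u ≠ 0 := by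
  by_cases h : B v (J v) = 0
  · exact Or.inl h
  right
  have hv : v ≠ 0 := fun e => h (by rw [e]; simp)
  obtain ⟨u, hu, h1, h2⟩ := exists_iso_two hD hv 1 (-(B v (J v)) / 2)
  refine ⟨u, hu, ?_, ?_⟩
  · have hvu : B v (J u) = B v (J v) / 2 := by
      have := hD.skew v u
      rw [h2] at this
      linear_combination this
    have huv : B u (J v) = B v (J u) := by rw [alt_swap hD.alt, hD.skew, neg_neg]
    simp only [map_sub, LinearMap.sub_apply, hu, huv, hvu]
    field_simp [hD.two]
    ring
  · rw [map_sub, LinearMap.sub_apply, hD.alt u, sub_zero, h1]; exact one_ne_zero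

/-! ### Normalising elements -/

omit hD in
/-- Commuting or anticommuting with the operator. -/
def Nrm (J : V →ₗ[F] V) (g : isomGroup B) : Prop :=
  (∀ x, g.1 (J x) = J (g.1 x)) ∨ ∀ x, g.1 (J x) = -J (g.1 x)

/-- The product of transvections along an isotropic line. -/
def lineTv (v : V) (b : F) : isomGroup B := tv hD.alt v (-δ * b) * tv hD.alt (J v) b

theorem lineTv_apply {v : V} (hv : B v (J v) = 0) (b : F) (x : V) :
    (lineTv hD v b).1 x = x + (-δ * b * B x v) • v + (b * B x (J v)) • J v := by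
  have h : B (J v) v = 0 := by rw [alt_swap hD.alt, hv, neg_zero]
  show (tv hD.alt v (-δ * b)).1 ((tv hD.alt (J v) b).1 x) = _
  simp only [tv_apply, map_add, map_smul, LinearMap.add_apply, LinearMap.smul_apply, h, smul_eq_mul, mul_zero,
    add_zero, zero_smul]

theorem lineTv_nrm {v : V} (hv : B v (J v) = 0) (b : F) : Nrm J (lineTv hD v b) := by
  left
  intro x
  rw [lineTv_apply hD hv, lineTv_apply hD hv, map_add, map_add, map_smul, map_smul, hD.sq]
  have h1 : B (J x) v = -B x (J v) := hD.skew x v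
  have h2 : B (J x) (J v) = -(δ * B x v) := by rw [hD.skew, hD.sq, map_smul, smul_eq_mul]
  rw [h1, h2]
  module

variable {M : Subgroup (isomGroup B)}

/-- Non-orthogonality-free witnesses. -/
theorem exists_moved {g : isomGroup B} (hg : ¬ Nrm J g) :
    ∃ v, B v (J v) = 0 ∧ g.1 (J v) ∉ Submodule.span F {g.1 v, J (g.1 v)} := by
  by_contra hall
  push Not at hall
  apply hg
  let A : V →ₗ[F] V := (g.1.symm : V →ₗ[F] V) ∘ₗ J ∘ₗ (g.1 : V →ₗ[F] V)
  have hA : ∀ x, A x = g.1.symm (J (g.1 x)) := fun x => rfl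
  have hline : ∀ v, B v (J v) = 0 → v ≠ 0 → ∃ α β : F, A v = α • v + β • J v := by
    intro v hv hv0
    obtain ⟨a, b, hab⟩ := Submodule.mem_span_pair.1 (hall v hv)
    have hb : b ≠ 0 := by
      rintro rfl
      rw [zero_smul, add_zero, ← map_smul] at hab
      have h0 := g.1.injective hab
      have := coeff_zero hD (S := ⊥) (by simp) (v := v) (by simpa using hv0) (a := a) (b := -1)
        (by rw [Submodule.mem_bot, h0]; module)
      exact one_ne_zero (neg_eq_zero.1 this.2)
    refine ⟨-(a / b), b⁻¹, ?_⟩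
    rw [hA]
    apply g.1.injective
    rw [LinearEquiv.apply_symm_apply, map_add, map_smul, map_smul, ← hab, smul_add, smul_smul,
      inv_smul_smul₀ hb, ← add_assoc, ← add_smul]
    rw [show -(a / b) + b⁻¹ * a = 0 by ring, zero_smul, zero_add]
  choose α β hαβ using hline
  have hdot : ∀ u v (hu : B u (J u) = 0) (hv : B v (J v) = 0) (hu0 : u ≠ 0) (hv0 : v ≠ 0),
      v ∉ Submodule.span F {u, J u} → B u (J v) = 0 → α u hu hu0 = α v hv hv0 ∧ β u hu hu0 = β v hv hv0 := by
    intro u v hu hv hu0 hv0 hind huv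
    have hvu : B v (J u) = 0 := by rw [alt_swap hD.alt, hD.skew, neg_neg]; exact huv
    have hw : B (u + v) (J (u + v)) = 0 := by
      simp only [map_add, LinearMap.add_apply, hu, hv, huv, hvu]; ring
    have hw0 : u + v ≠ 0 := fun h => hind (by
      rw [eq_neg_of_add_eq_zero_right h]
      exact Submodule.neg_mem _ (Submodule.subset_span (by simp)))
    have h := hαβ (u + v) hw hw0
    rw [map_add, hαβ u hu hu0, hαβ v hv hv0, map_add, smul_add, smul_add] at h
    set γ := α (u + v) hw hw0
    set ε := β (u + v) hw hw0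
    have h' : (α v hv hv0 - γ) • v + (β v hv hv0 - ε) • J v ∈ Submodule.span F {u, J u} :=
      Submodule.mem_span_pair.2 ⟨γ - α u hu hu0, ε - β u hu hu0, by linear_combination (norm := module) -h⟩
    obtain ⟨e1, e2⟩ := coeff_zero hD (span_inv hD u) hind h'
    have h'' : (α u hu hu0 - γ) • u + (β u hu hu0 - ε) • J u ∈ (⊥ : Submodule F V) := by
      rw [Submodule.mem_bot]
      rw [sub_eq_zero.1 e1, sub_eq_zero.1 e2] at h
      linear_combination (norm := module) h
    obtain ⟨e3, e4⟩ := coeff_zero hD (by simp) (by simpa using hu0) h''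
    exact ⟨(sub_eq_zero.1 e3).trans (sub_eq_zero.1 e1).symm, (sub_eq_zero.1 e4).trans (sub_eq_zero.1 e2).symm⟩
  obtain ⟨e₀, he₀0⟩ : ∃ e : V, e ≠ 0 := by
    by_contra hc
    push Not at hc
    have : finrank F (⊤ : Submodule F V) ≤ 0 := by
      rw [show (⊤ : Submodule F V) = ⊥ from eq_bot_iff.2 fun x _ => (Submodule.mem_bot F).2 (hc x), finrank_bot]
    rw [finrank_top] at this
    have := hD.dim
    omega
  obtain ⟨e, he, hee, -⟩ := exists_iso_two hD he₀0 1 0
  have he0 : e ≠ 0 := fun h => by rw [h, map_zero] at hee; exact zero_ne_one hee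
  have hall' : ∀ v (hv : B v (J v) = 0) (hv0 : v ≠ 0), α v hv hv0 = α e he he0 ∧ β v hv hv0 = β e he he0 := by
    have hconn : ∀ u w (hu : B u (J u) = 0) (hw : B w (J w) = 0) (hu0 : u ≠ 0) (hw0 : w ≠ 0),
        w ∉ Submodule.span F {u, J u} → α w hw hw0 = α u hu hu0 ∧ β w hw hw0 = β u hu hu0 := by
      intro u w hu hw hu0 hw0 hind
      obtain ⟨y, hy, h1, h2, h3, h4⟩ := exists_iso_pair hD hu hw hu0 hind one_ne_zero 0 1 0
      have hy0 : y ≠ 0 := fun h => by rw [h, map_zero] at h1; exact zero_ne_one h1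
      rw [hD.skew, neg_eq_zero] at h2 h4
      obtain ⟨a1, b1⟩ := hdot u y hu hy hu0 hy0 (iso_not_mem hD hu (by rw [h1]; exact one_ne_zero)) h2
      obtain ⟨a2, b2⟩ := hdot w y hw hy hw0 hy0 (iso_not_mem hD hw (by rw [h3]; exact one_ne_zero)) h4
      exact ⟨a2.trans a1.symm, b2.trans b1.symm⟩
    intro v hv hv0
    by_cases hind : v ∈ Submodule.span F {e, J e}
    · obtain ⟨y, hy, h1, -⟩ := exists_iso_two hD he0 1 0
      have hye := iso_not_mem hD he (by rw [h1]; exact one_ne_zero)
      have hy0 : y ≠ 0 := fun h => hye (h ▸ Submodule.zero_mem _)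
      obtain ⟨a1, b1⟩ := hconn e y he hy he0 hy0 hye
      obtain ⟨a2, b2⟩ := hconn y v hy hv hy0 hv0 fun h => by
        obtain ⟨p, r, hpr⟩ := Submodule.mem_span_pair.1 h
        have := coeff_zero hD (span_inv hD e) hye (a := p) (b := r) (hpr ▸ hind)
        rw [this.1, this.2, zero_smul, zero_smul, add_zero] at hpr
        exact hv0 hpr.symm
      exact ⟨a2.trans a1, b2.trans b1⟩
    · exact hconn e v he hv he0 hv0 hind
  set a := α e he he0
  set b := β e he he0
  have hiso : ∀ v, B v (J v) = 0 → A v = a • v + b • J v := by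
    intro v hv
    by_cases hv0 : v = 0
    · simp [hv0]
    rw [hαβ v hv hv0, (hall' v hv hv0).1, (hall' v hv hv0).2]
  have hAll : ∀ x, A x = a • x + b • J x := by
    intro x
    rcases iso_or_sum hD x with h | ⟨u, hu, hxu, -⟩
    · exact hiso x h
    · have := congrArg₂ (· + ·) (hiso _ hxu) (hiso u hu)
      simp only [← map_add, sub_add_cancel] at this
      rw [this, map_sub]
      module
  have hsq : A (A e) = δ • e := by
    simp only [hA, LinearEquiv.apply_symm_apply, hD.sq, map_smul, LinearEquiv.symm_apply_apply]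
  rw [hAll, hAll, map_add, map_smul, map_smul, hD.sq] at hsq
  obtain ⟨h1, h2⟩ := coeff_zero hD (S := ⊥) (by simp) (v := e) (by simpa using he0)
    (a := a * a + b * b * δ - δ) (b := 2 * a * b) (by
      rw [Submodule.mem_bot]; linear_combination (norm := module) hsq)
  have hb : b ≠ 0 := fun h => hD.nsq ⟨a, by rw [h] at h1; linear_combination -h1⟩
  have ha : a = 0 := by
    rw [mul_assoc, mul_eq_zero] at h2
    exact (mul_eq_zero.1 (h2.resolve_left hD.two)).resolve_right hb
  have hb1 : b * b = 1 := by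
    rw [ha] at h1
    exact mul_right_cancel₀ (delta_ne hD) (by linear_combination h1)
  have hgJ : ∀ x, J (g.1 x) = b • g.1 (J x) := fun x => by
    have := congrArg g.1 (hAll x)
    rw [hA, LinearEquiv.apply_symm_apply, ha, zero_smul, zero_add, map_smul] at this
    exact this
  rcases mul_self_eq_one_iff.1 hb1 with h | h
  · left; intro x; rw [hgJ, h, one_smul]
  · right; intro x; rw [hgJ, h, neg_one_smul, neg_neg]

/-- Full root groups. -/
def Root (M : Subgroup (isomGroup B)) (v : V) : Prop := ∀ c, tv hD.alt v c ∈ M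

theorem root_smul {v : V} (h : Root hD M v) (a : F) : Root hD M (a • v) := fun c => by
  rw [tv_smul]; exact h _

theorem root_line {u v : V} (hu : Root hD M u) (hv : Root hD M v) (huv : B v u ≠ 0) (t : F) :
    Root hD M (v + t • u) := fun c => by
  have h := M.mul_mem (M.mul_mem (hu (t / B v u)) (hv c)) (M.inv_mem (hu (t / B v u)))
  rwa [conj_tv, tv_apply, div_mul_cancel₀ _ huv] at h

variable (hM : ∀ g, Nrm J g → g ∈ M)
include hM

theorem root_move {q y : V} (hq : Root hD M q) (hy : B y (J y) = 0) (h1 : B q (J y) = 0) (h2 : B q y ≠ 0) :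
    Root hD M y := by
  have hline : ∀ t, Root hD M (q + t • y) := fun t c => by
    have hT := hM _ (lineTv_nrm hD hy (-(t / (δ * B q y))))
    have h := M.mul_mem (M.mul_mem hT (hq c)) (M.inv_mem hT)
    rw [conj_tv, lineTv_apply hD hy, h1, mul_zero, zero_smul, add_zero] at h
    rwa [show -δ * -(t / (δ * B q y)) * B q y = t by field_simp [delta_ne hD]] at h
  have h := root_line hD (u := q) (v := q + (1 : F) • y) hq (hline 1) (by
    rw [map_add, LinearMap.add_apply, hD.alt q, zero_add, one_smul, alt_swap hD.alt]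
    exact neg_ne_zero.2 h2) (-1)
  rwa [show q + (1 : F) • y + (-1 : F) • q = y by module] at h

theorem root_all {a : V} (ha0 : a ≠ 0) (ha : Root hD M a) : ∀ v, Root hD M v := by
  obtain ⟨e, he, hae, hJae⟩ := exists_iso_two hD ha0 1 0
  have heJ : B a (J e) = 0 := by
    have := hD.skew a e
    rw [hJae] at this
    exact neg_eq_zero.1 this.symm
  have heR := root_move hD hM ha he heJ (by rw [hae]; exact one_ne_zero)
  have he0 : e ≠ 0 := fun h => by rw [h, map_zero] at hae; exact zero_ne_one hae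
  have step : ∀ u v, B u (J u) = 0 → Root hD M u → B v (J v) = 0 → u ≠ 0 → v ∉ Submodule.span F {u, J u} →
      Root hD M v := by
    intro u v hu hur hv hu0 hind
    obtain ⟨z, hz, h1, h2, h3, h4⟩ := exists_iso_pair hD hu hv hu0 hind one_ne_zero 0 1 0
    have huz : B u (J z) = 0 := by
      have := hD.skew u z
      rw [h2] at this
      exact neg_eq_zero.1 this.symm
    have hzR := root_move hD hM hur hz huz (by rw [h1]; exact one_ne_zero)
    refine root_move hD hM hzR hv (by rw [alt_swap hD.alt, h4, neg_zero]) ?_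
    rw [alt_swap hD.alt, h3]
    exact neg_ne_zero.2 one_ne_zero
  have hiso : ∀ v, B v (J v) = 0 → Root hD M v := by
    intro v hv
    by_cases hv0 : v = 0
    · intro c
      rw [hv0, ← zero_smul F e]
      exact root_smul hD heR 0 c
    by_cases hind : v ∈ Submodule.span F {e, J e}
    · obtain ⟨y, hy, hey, -⟩ := exists_iso_two hD he0 1 0
      have hyS := iso_not_mem hD he (by rw [hey]; exact one_ne_zero)
      have hy0 : y ≠ 0 := fun h => hyS (h ▸ Submodule.zero_mem _)
      refine step y v hy (step e y he heR hy he0 hyS) hv hy0 fun h => ?_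
      -- the lines would coincide
      obtain ⟨p, r, hpr⟩ := Submodule.mem_span_pair.1 h
      have := coeff_zero hD (span_inv hD e) hyS (a := p) (b := r) (hpr ▸ hind)
      rw [this.1, this.2, zero_smul, zero_smul, add_zero] at hpr
      exact hv0 hpr.symm
    · exact step e v he heR hv he0 hind
  intro v
  rcases iso_or_sum hD v with h | ⟨u, hu, hvu, hne⟩
  · exact hiso v h
  · have := root_line hD (hiso u hu) (hiso _ hvu) hne 1
    rwa [one_smul, sub_add_cancel] at this

/-- A transvection group from an element outside the normaliser. -/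
theorem exists_root {g : isomGroup B} (hg : g ∈ M) (hgn : ¬ Nrm J g) : ∃ a : V, a ≠ 0 ∧ Root hD M a := by
  obtain ⟨v, hv, hout, hcase⟩ : ∃ v, B v (J v) = 0 ∧ g.1 (J v) ∉ Submodule.span F {g.1 v, J (g.1 v)} ∧
      (B (g.1 v) (J (g.1 v)) ≠ 0 ∨ B (g.1 (J v)) (J (g.1 (J v))) = 0 ∧ B (g.1 v) (J (g.1 (J v))) = 0 ∧
        B (g.1 v) (J (g.1 v)) = 0) := by
    obtain ⟨v, hv, hout⟩ := exists_moved hD hgn
    have hw0 : g.1 v ≠ 0 := fun h => by
      have hv0 : v = 0 := g.1.map_eq_zero_iff.1 h
      exact hout (by simp [hv0])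
    by_cases q1 : B (g.1 v) (J (g.1 v)) = 0
    swap
    · exact ⟨v, hv, hout, Or.inl q1⟩
    by_cases q2 : B (g.1 (J v)) (J (g.1 (J v))) = 0
    swap
    · refine ⟨J v, by simp [hD.skew, hD.sq, hv], fun h => ?_, Or.inl q2⟩
      rw [hD.sq, map_smul, Submodule.smul_mem_iff _ (delta_ne hD)] at h
      obtain ⟨p, r, hpr⟩ := Submodule.mem_span_pair.1 h
      have := coeff_zero hD (span_inv hD (g.1 v)) hout (a := p) (b := r) (hpr ▸ Submodule.subset_span (by simp))
      rw [this.1, this.2, zero_smul, zero_smul, add_zero] at hpr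
      exact hw0 hpr.symm
    by_cases q3 : B (g.1 v) (J (g.1 (J v))) = 0
    · exact ⟨v, hv, hout, Or.inr ⟨q2, q3, q1⟩⟩
    have e1 : g.1 (J (v + J v)) = g.1 (J v) + δ • g.1 v := by
      simp only [map_add, hD.sq, map_smul]
    refine ⟨v + J v, ?_, fun h => ?_, Or.inl ?_⟩
    · have e2 : B (J v) v = 0 := by rw [alt_swap hD.alt, hv, neg_zero]
      simp [hD.sq, hv, hD.alt v, hD.alt (J v), e2]
    · rw [e1] at h
      obtain ⟨p, r, hpr⟩ := Submodule.mem_span_pair.1 h
      have hmem : (p - 1) • g.1 (J v) + r • J (g.1 (J v)) ∈ Submodule.span F {g.1 v, J (g.1 v)} :=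
        Submodule.mem_span_pair.2 ⟨δ - p, -r, by
          simp only [map_add] at hpr
          linear_combination (norm := module) -hpr⟩
      obtain ⟨h1, h2⟩ := coeff_zero hD (span_inv hD (g.1 v)) hout hmem
      rw [h2, sub_eq_zero.1 h1] at hpr
      simp only [map_add, one_smul, zero_smul, add_zero] at hpr
      have : (δ - 1) • g.1 v = 0 := by linear_combination (norm := module) -hpr
      rw [smul_eq_zero] at this
      exact hD.nsq (sub_eq_zero.1 (this.resolve_right hw0) ▸ IsSquare.one)
    · simp only [map_add, LinearMap.add_apply, q1, q2, zero_add, add_zero, jpol_symm hD (g.1 (J v)) (g.1 v)]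
      exact fun h => q3 ((mul_eq_zero.1 (show (2 : F) * _ = 0 by linear_combination h)).resolve_left hD.two)
  set w := g.1 v with hw
  set w' := g.1 (J v) with hw'
  have hww : B w w' = 0 := by rw [hw, hw', g.2, hv]
  have hw'w : B w' w = 0 := by rw [alt_swap hD.alt, hww, neg_zero]
  have hw0 : w ≠ 0 := fun h => by
    have hv0 : v = 0 := g.1.map_eq_zero_iff.1 h
    exact hout (by rw [hw', hv0, map_zero, map_zero]; exact Submodule.zero_mem _)
  obtain ⟨x, hx, hwx, hJwx, hw'x, hJw'x, hxW⟩ := exists_iso_root hD hw0 hout hcase hww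
  -- pairings
  have Bxw : B x w = 0 := by rw [alt_swap hD.alt, hwx, neg_zero]
  have Bxw' : B x w' = 1 := by rw [alt_swap hD.alt, hw'x, neg_neg]
  have BwJx : B w (J x) = 0 := by
    have := hD.skew w x
    rw [hJwx] at this
    exact neg_eq_zero.1 this.symm
  have BJxw : B (J x) w = 0 := by rw [alt_swap hD.alt, BwJx, neg_zero]
  have Bw'Jx : B w' (J x) = 0 := by
    have := hD.skew w' x
    rw [hJw'x] at this
    exact neg_eq_zero.1 this.symm
  have BJxw' : B (J x) w' = 0 := by rw [alt_swap hD.alt, Bw'Jx, neg_zero]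
  have BJxx : B (J x) x = 0 := by rw [alt_swap hD.alt, hx, neg_zero]
  have hδ := delta_ne hD
  have hT' : ∀ d, tv hD.alt w (-δ * d) * tv hD.alt w' d ∈ M := fun d => by
    have h := M.mul_mem (M.mul_mem hg (hM _ (lineTv_nrm hD hv d))) (M.inv_mem hg)
    have e : g * (tv hD.alt v (-δ * d) * tv hD.alt (J v) d) * g⁻¹ =
        (g * tv hD.alt v (-δ * d) * g⁻¹) * (g * tv hD.alt (J v) d * g⁻¹) := by group
    rw [lineTv, e, conj_tv, conj_tv] at h
    exact h
  -- the Weyl element squared does not depend on the parameter in the first plane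
  have hW : ∀ b : F, b ≠ 0 → ∃ n ∈ M, ∀ z, n.1 z = z + (-2 * B z w') • x + (2 * B z x) • w' +
      (4 * b * B z (J x)) • J x + (2 / b * B z w) • w := by
    intro b hb
    set n := lineTv hD x b * (tv hD.alt w (-δ * (-1 / (δ * b))) * tv hD.alt w' (-1 / (δ * b))) * lineTv hD x b
    have hn : n ∈ M := M.mul_mem (M.mul_mem (hM _ (lineTv_nrm hD hx b)) (hT' _)) (hM _ (lineTv_nrm hD hx b))
    have hnz : ∀ z, n.1 z = z + (-B z w' + -δ * b * B z x) • x + (-1 / (δ * b) * B z w' + B z x) • w' +
        (2 * b * B z (J x)) • J x + (b⁻¹ * B z w) • w := by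
      intro z
      show (lineTv hD x b).1 ((tv hD.alt w _).1 ((tv hD.alt w' _).1 ((lineTv hD x b).1 z))) = _
      simp only [lineTv_apply hD hx, tv_apply, map_add, map_smul, LinearMap.add_apply, LinearMap.smul_apply,
        smul_eq_mul, hD.alt x, hD.alt (J x), hD.alt w, hD.alt w', hx, BJxx, Bxw, Bxw', hw'x, hwx, BwJx, BJxw,
        Bw'Jx, BJxw', hww, hw'w, mul_zero, add_zero, zero_add]
      match_scalars <;> field_simp <;> ring
    refine ⟨n * n, M.mul_mem hn hn, fun z => ?_⟩
    show n.1 (n.1 z) = _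
    rw [hnz (n.1 z), hnz z]
    simp only [map_add, map_smul, LinearMap.add_apply, LinearMap.smul_apply, smul_eq_mul, hD.alt x, hD.alt (J x),
      hD.alt w, hD.alt w', hx, BJxx, Bxw, Bxw', hw'x, hwx, BwJx, BJxw, Bw'Jx, BJxw', hww, hw'w, mul_zero, add_zero,
      zero_add]
    match_scalars <;> field_simp <;> ring
  obtain ⟨n₁, hn₁, hn₁z⟩ := hW 1 one_ne_zero
  obtain ⟨n₂, hn₂, hn₂z⟩ := hW 2 hD.two
  set S := tv hD.alt (J x) (-4) * tv hD.alt w 1 with hSdef
  have hS : S ∈ M := by
    have e : S * n₂ = n₁ := by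
      refine Subtype.ext (LinearEquiv.ext fun z => ?_)
      show (tv hD.alt (J x) (-4)).1 ((tv hD.alt w 1).1 (n₂.1 z)) = n₁.1 z
      rw [hn₁z, hn₂z]
      simp only [tv_apply, map_add, map_smul, LinearMap.add_apply, LinearMap.smul_apply, smul_eq_mul,
        hD.alt (J x), hD.alt w, hx, Bxw, Bw'Jx, hw'w, BwJx, BJxw, mul_zero, add_zero, zero_add]
      have := hD.two
      match_scalars <;> field_simp <;> ring
    rw [eq_mul_inv_of_mul_eq e]
    exact M.mul_mem hn₁ (M.inv_mem hn₂)
  -- a vector moved along a singular direction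
  have hxJ : x ∉ Submodule.span F {w, J w} := hxW
  obtain ⟨y₀, g1, g2, g3, g4⟩ := exists_four hD hw0 hxJ (-2) 0 0 (-1)
  obtain ⟨y, hy, hval⟩ := exists_iso hD (span_four_inv hD w x) y₀ (fun _ hy0 =>
    one_ne_zero (neg_eq_zero.1 (g4.symm.trans (mem_four_cases (f := B (J x)) BJxw
      (by rw [hD.skew, hD.sq, map_smul, Bxw, smul_zero, neg_zero]) BJxx (hD.alt (J x)) hy0))))
  have hwy : B w y = -2 := (hval w (Submodule.mem_sup_left (Submodule.subset_span (by simp)))).trans g1
  have hJwy : B (J w) y = 0 := (hval _ (Submodule.mem_sup_left (Submodule.subset_span (by simp)))).trans g2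
  have hxy : B x y = 0 := (hval x (Submodule.mem_sup_right (Submodule.subset_span (by simp)))).trans g3
  have hJxy : B (J x) y = -1 := (hval _ (Submodule.mem_sup_right (Submodule.subset_span (by simp)))).trans g4
  have ByJx : B y (J x) = 1 := by rw [alt_swap hD.alt, hJxy, neg_neg]
  have Byw : B y w = 2 := by rw [alt_swap hD.alt, hwy, neg_neg]
  have BJyJx : B (J y) (J x) = 0 := by rw [hD.skew, hD.sq, map_smul, alt_swap hD.alt, hxy, neg_zero, smul_zero, neg_zero]
  have BJyw : B (J y) w = 0 := by rw [hD.skew, alt_swap hD.alt, hJwy]; simp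
  set a : V := (-4 : F) • J x + (2 : F) • w with ha
  have hSy : S.1 y = y + a := by
    show (tv hD.alt (J x) (-4)).1 ((tv hD.alt w 1).1 y) = _
    simp only [tv_apply, map_add, map_smul, LinearMap.add_apply, LinearMap.smul_apply, smul_eq_mul, BwJx, ByJx,
      Byw, one_mul, mul_one, mul_zero, add_zero, zero_smul, ha]
    abel
  have hSJy : S.1 (J y) = J y := by
    show (tv hD.alt (J x) (-4)).1 ((tv hD.alt w 1).1 (J y)) = _
    simp [tv_apply, BJyw, BJyJx]
  have hSa : S.1 a = a := by
    show (tv hD.alt (J x) (-4)).1 ((tv hD.alt w 1).1 a) = _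
    simp [tv_apply, ha, hD.alt (J x), hD.alt w, BwJx, BJxw]
  have hya : B y a = 0 := by
    rw [ha, map_add, map_smul, map_smul, ByJx, Byw, smul_eq_mul, smul_eq_mul]; ring
  have hay : B a y = 0 := by rw [alt_swap hD.alt, hya, neg_zero]
  refine ⟨a, fun h => ?_, fun k => ?_⟩
  · have h' : B (J x) y = -1 := hJxy
    have e := congrArg (fun t => B t w') h
    simp only [ha, map_add, map_smul, LinearMap.add_apply, LinearMap.smul_apply, BJxw', map_zero,
      LinearMap.zero_apply] at e
    have e' := congrArg (fun t => B t x) h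
    simp only [ha, map_add, map_smul, LinearMap.add_apply, LinearMap.smul_apply, BJxx, hwx, map_zero] at e'
    refine hxJ ?_
    have hJ : (4 : F) • J x = (2 : F) • w := by rw [ha] at h; linear_combination (norm := module) -h
    have h4 : (4 : F) ≠ 0 := by
      rw [show (4 : F) = 2 * 2 by norm_num]; exact mul_ne_zero hD.two hD.two
    have hmem : J x ∈ Submodule.span F {w, J w} := by
      have := Submodule.smul_mem (Submodule.span F {w, J w}) (4 : F)⁻¹
        (show (4 : F) • J x ∈ Submodule.span F {w, J w} by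
          rw [hJ]; exact Submodule.smul_mem _ _ (Submodule.subset_span (by simp)))
      rwa [inv_smul_smul₀ h4] at this
    have h2' := span_inv hD w _ hmem
    rw [hD.sq] at h2'
    exact (Submodule.smul_mem_iff _ hδ).1 h2'
  · -- second commutator
    set c := -k / 2
    set b := -c / δ
    have hcb : -δ * b = c := by simp only [b]; field_simp
    have hT := hM _ (lineTv_nrm hD hy b)
    set C := lineTv hD y b * (S * lineTv hD y b * S⁻¹)⁻¹ with hCdef
    have hC : C ∈ M := M.mul_mem hT (M.inv_mem (M.mul_mem (M.mul_mem hS hT) (M.inv_mem hS)))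
    have hC' : C = tv hD.alt y c * tv hD.alt (y + a) (-c) := by
      have e1 : S * lineTv hD y b * S⁻¹ = tv hD.alt (y + a) c * tv hD.alt (J y) b := by
        rw [lineTv, hcb, show S * (tv hD.alt y c * tv hD.alt (J y) b) * S⁻¹ =
          (S * tv hD.alt y c * S⁻¹) * (S * tv hD.alt (J y) b * S⁻¹) by group, conj_tv, conj_tv, hSy, hSJy]
      have e2 : (tv hD.alt (y + a) c)⁻¹ = tv hD.alt (y + a) (-c) :=
        inv_eq_of_mul_eq_one_right (by rw [tv_mul, add_neg_cancel, tv_zero])
      rw [hCdef, e1, mul_inv_rev, lineTv, hcb, mul_assoc, mul_inv_cancel_left, e2]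
    have hCS := M.mul_mem (M.mul_mem (M.mul_mem hS hC) (M.inv_mem hS)) (M.inv_mem hC)
    have e : S * C * S⁻¹ * C⁻¹ = tv hD.alt a k := by
      rw [hC', show S * (tv hD.alt y c * tv hD.alt (y + a) (-c)) * S⁻¹ =
        (S * tv hD.alt y c * S⁻¹) * (S * tv hD.alt (y + a) (-c) * S⁻¹) by group, conj_tv, conj_tv, map_add, hSy, hSa,
        mul_inv_rev, inv_eq_of_mul_eq_one_right (show tv hD.alt (y + a) (-c) * tv hD.alt (y + a) c = 1 by
          rw [tv_mul, neg_add_cancel, tv_zero]),
        inv_eq_of_mul_eq_one_right (show tv hD.alt y c * tv hD.alt y (-c) = 1 by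
          rw [tv_mul, add_neg_cancel, tv_zero])]
      refine Subtype.ext (LinearEquiv.ext fun z => ?_)
      show (tv hD.alt (y + a) c).1 ((tv hD.alt (y + a + a) (-c)).1 ((tv hD.alt (y + a) c).1 ((tv hD.alt y (-c)).1 z))) = _
      simp only [tv_apply, map_add, map_smul, LinearMap.add_apply, LinearMap.smul_apply, smul_eq_mul, hD.alt y,
        hD.alt a, hya, hay, mul_zero, add_zero]
      have := hD.two
      simp only [c]
      match_scalars <;> field_simp <;> ring
    rwa [e] at hCS

/-- Anything beyond the normaliser generates the whole group. -/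
theorem eq_top {g : isomGroup B} (hg : g ∈ M) (hgn : ¬ Nrm J g) : M = ⊤ := by
  obtain ⟨a, ha0, ha⟩ := exists_root hD hM hg hgn
  rw [eq_top_iff, ← tvGroup_eq_top hD.alt hD.nondeg]
  refine (Subgroup.closure_le _).2 ?_
  rintro _ ⟨v, c, rfl⟩
  exact root_all hD hM ha0 ha v c

omit hM in
theorem exists_not_nrm : ∃ g : isomGroup B, ¬ Nrm J g := by
  obtain ⟨v, hv⟩ : ∃ v, B v (J v) ≠ 0 := by
    by_contra hall
    push Not at hall
    obtain ⟨v, hv⟩ : ∃ v : V, v ≠ 0 := by
      by_contra hc
      push Not at hc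
      have : finrank F (⊤ : Submodule F V) ≤ 0 := by
        rw [show (⊤ : Submodule F V) = ⊥ from eq_bot_iff.2 fun x _ => (Submodule.mem_bot F).2 (hc x), finrank_bot]
      rw [finrank_top] at this
      have := hD.dim
      omega
    obtain ⟨z, -, h1, h2⟩ := exists_two hD (S := ⊥) (by simp) (v := v) (by simpa using hv) 0 1
    have h3 := hall (v + z)
    simp only [map_add, LinearMap.add_apply, hall v, hall z, zero_add, add_zero] at h3
    have h4 : B z (J v) = B v (J z) := by rw [alt_swap hD.alt, hD.skew, neg_neg]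
    have h5 : B v (J z) = -1 := by
      have := hD.skew v z
      rw [h2] at this
      linear_combination this
    rw [h4, h5] at h3
    exact hD.two (by linear_combination -h3)
  refine ⟨tv hD.alt v 1, fun h => ?_⟩
  have hv0 : v ≠ 0 := fun e => hv (by rw [e]; simp)
  have hli := fun (a b : F) (e : a • v + b • J v = 0) => coeff_zero hD (S := ⊥) (by simp) (v := v)
    (by simpa using hv0) (a := a) (b := b) (by rw [Submodule.mem_bot]; exact e)
  have hJv : B (J v) v = -B v (J v) := hD.skew v v
  rcases h with h | h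
  · have e := h v
    simp only [tv_apply, hD.alt v, mul_zero, zero_smul, add_zero, one_mul] at e
    exact hv (neg_eq_zero.1 (hJv ▸ (hli (B (J v) v) 0 (by linear_combination (norm := module) e)).1))
  · have e := h v
    simp only [tv_apply, hD.alt v, mul_zero, zero_smul, add_zero, one_mul] at e
    exact hD.two (hli (B (J v) v) 2 (by linear_combination (norm := module) e)).2

end CfsgLib.Classical.UnitarySubSymp
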